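import Groth.Agent.AlgStLib.Descend
import Groth.Agent.S10526
import Mathlib

/-!
Diagonals of algebraic stacks are locally of finite type.
-/

set_option autoImplicit false
set_option backward.isDefEq.respectTransparency false
set_option backward.isDefEq.respectTransparency.types false

universe u

open CategoryTheory CategoryTheory.Limits CategoryTheory.Functor AlgebraicGeometry Opposite AlgSp

namespace Groth.Agent.AlgStLib

open Groth.Agent Groth.Agent.FibBasics Groth.Agent.AlgSpLib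

variable {S : Scheme.{u}} {𝒳 𝒴 𝒲 : AlgSt.Cat S}

theorem lft_cancel ⦃A B C : Scheme.{u}⦄ (k : A ⟶ B) (m : B ⟶ C) (h : LocallyOfFiniteType (k ≫ m)) :
    LocallyOfFiniteType k :=
  @locallyOfFiniteType_of_comp _ _ _ k m h

/-- Two products of one map. -/
noncomputable def pairToSqIso (p : 𝒲 ⥤ᵇ 𝒳) :
    BasedFunctor.comp (prodMapR 𝒲 p) (prodMapL p 𝒳) ≅ pairToSq p p :=
  BasedNatIso.mkNatIso (NatIso.ofComponents
    (fun a => ObjectProperty.isoMk _ (CategoricalPullback.mkIso (Iso.refl (p.obj a.obj.fst)) (Iso.refl (p.obj a.obj.snd))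
      (@toSelf_sq _ _ 𝒳 𝒳 ((BasedFunctor.comp (prodMapR 𝒲 p) (prodMapL p 𝒳)).obj a) ((pairToSq p p).obj a) _ _
        (𝟙 (𝒲.p.obj a.obj.fst)) (𝟙 _) (𝟙 _) (IsHomLift.id (p.w_obj _))
        (IsHomLift.id ((p.w_obj _).trans (fp_snd_proj a))))))
    (fun {a b} φ => fp_hom_ext ((Category.comp_id (p.map φ.hom.fst)).trans (Category.id_comp (p.map φ.hom.fst)).symm)
      ((Category.comp_id (p.map φ.hom.snd)).trans (Category.id_comp (p.map φ.hom.snd)).symm)))
    (fun a => fp_lift_of_fst _ _ (IsHomLift.id (p.w_obj _)))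

theorem repWith_fpFst_pairToSq {P : MorphismProperty (Sp S)} {f : 𝒲 ⥤ᵇ 𝒳} {g : 𝒴 ⥤ᵇ 𝒳}
    (h : AlgSt.RepByAlgSpWith P (fpToProd f g)) :
    AlgSt.RepByAlgSpWith P (FibCat.fpFst (pairToSq f g) (FibCat.diag (FibCat.toSelf 𝒳))) := fun U T => by
  obtain ⟨F, e, he, hF⟩ := h U T
  obtain ⟨e', he', hm⟩ := exists_rep_transfer (fpPaste (FibCat.diag (FibCat.toSelf 𝒳)) (pairToSq f g) T)
    (fpPaste_isEquivOver _ _ T)
    (FibCat.fpFst T (FibCat.fpFst (pairToSq f g) (FibCat.diag (FibCat.toSelf 𝒳)))) (FibCat.fpFst _ _) rfl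
    (isEquivOver_comp he (toDiagPull_isEquivOver f g T))
  exact ⟨F, e', he', hm ▸ hF⟩

/-- The diagonal of an algebraic stack is locally of finite type. -/
theorem repWith_lft_diag_toSelf (h𝒳 : AlgSt.IsAlgStack Scheme.fppfPrecoverage 𝒳) :
    AlgSt.RepByAlgSpWith (LocP @LocallyOfFiniteType) (FibCat.diag (FibCat.toSelf 𝒳)) := by
  obtain ⟨W, p, hp, hps⟩ := h𝒳.atlas
  let S₀ := FibCat.selfOver (Over S)
  have hW := isFibGrpd_overForget W
  have hX := h𝒳.isStack.1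
  have g2 := fp_isFibGrpd (F := FibCat.toSelf (FibCat.overCat W)) (G := FibCat.toSelf (FibCat.overCat W)) hW hW isFibGrpd_selfOver
  have g1 := fp_isFibGrpd (F := FibCat.toSelf (FibCat.overCat W)) (G := FibCat.toSelf 𝒳) hW hX isFibGrpd_selfOver
  have g0 := fp_isFibGrpd (F := FibCat.toSelf 𝒳) (G := FibCat.toSelf 𝒳) hX hX isFibGrpd_selfOver
  have hsm : AlgSt.RepByAlgSpWith (LocP @Smooth) (pairToSq p p) :=
    repWith_of_iso (pairToSqIso p) (repWith_smooth_comp g2 g1 (repWith_prodMapR hp) (repWith_prodMapL hp))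
  have hsu : AlgSt.RepByAlgSpWith IsSurjectiveMor (pairToSq p p) :=
    repWith_of_iso (pairToSqIso p) (repWith_surjective_comp g2 g1 (repWith_prodMapR hps) (repWith_prodMapL hps))
  have hz : FppfMor (pairToSq p p) :=
    ⟨repWith_mono_prop (fun _ _ _ _ _ ha => locP_mono (fun _ _ k hk => by
        have : Smooth k := hk; infer_instance) ha) hsm,
      repWith_mono_prop (fun _ _ _ _ _ ha => locP_mono (fun _ _ k hk => by
        have : Smooth k := hk; infer_instance) ha) hsm, hsu⟩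
  let g : FibCat.fp (FibCat.toSelf (FibCat.overCat W)) (FibCat.toSelf (FibCat.overCat W)) ⥤ᵇ FibCat.overCat W :=
    FibCat.fpFst _ _
  have hcomp : AlgSt.RepByAlgSpWith (LocP @LocallyOfFiniteType) (BasedFunctor.comp (fpToProd p p) g) :=
    repWith_mono_prop (fun _ _ _ _ _ ha => locP_mono (fun _ _ k hk => by
      have : Smooth k := hk; infer_instance) ha) (repWith_fpFst p hp)
  have hrel : AlgSt.RepByAlgSpWith (LocP @LocallyOfFiniteType) (fpToProd p p) :=
    repWith_cancel (fun _ _ _ hA hB hC _ _ ha hb => locP_comp hA hB hC ha hb)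
      (isLocalOnBase_fppf (Groth.Agent.S10526.result S)) (fp_isFibGrpd hW hW hX) g2 hW hcomp
      (repWith_diag_locP lft_cancel
        (repByAlgSp1_of_repByAlgSp (repByAlgSp_slice_prod W W) (repByAlgSp_overCat W) g))
  exact repWith_of_fppf_baseChange (isLocalOnBase_fppf (Groth.Agent.S10526.result S)) hX g0 g2 h𝒳.diag hz
    (repWith_fpFst_pairToSq hrel)

/-- The diagonal into the product, through the diagonal of a morphism. -/
noncomputable def diagFpToProdIso (f : 𝒳 ⥤ᵇ 𝒴) :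
    FibCat.diag (FibCat.toSelf 𝒳) ≅ BasedFunctor.comp (FibCat.diag f) (fpToProd f f) :=
  BasedNatIso.mkNatIso (NatIso.ofComponents
    (fun x => ObjectProperty.isoMk _ (CategoricalPullback.mkIso (Iso.refl x) (Iso.refl x)
      (@toSelf_sq _ _ 𝒳 𝒳 ((FibCat.diag (FibCat.toSelf 𝒳)).obj x) ((fpToProd f f).obj ((FibCat.diag f).obj x)) _ _
        (𝟙 (𝒳.p.obj x)) (𝟙 x) (𝟙 x) (IsHomLift.id rfl) (IsHomLift.id rfl))))
    (fun {x y} φ => fp_hom_ext ((Category.comp_id φ).trans (Category.id_comp φ).symm)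
      ((Category.comp_id φ).trans (Category.id_comp φ).symm)))
    (fun x => fp_lift_of_fst _ _ (IsHomLift.id rfl))

/-- The diagonal of a morphism of algebraic stacks is locally of finite type. -/
theorem repWith_lft_diag (h𝒳 : AlgSt.IsAlgStack Scheme.fppfPrecoverage 𝒳)
    (h𝒴 : AlgSt.IsAlgStack Scheme.fppfPrecoverage 𝒴) (f : 𝒳 ⥤ᵇ 𝒴) :
    AlgSt.RepByAlgSpWith (LocP @LocallyOfFiniteType) (FibCat.diag f) :=
  have hX := h𝒳.isStack.1
  repWith_cancel (fun _ _ _ hA hB hC _ _ ha hb => locP_comp hA hB hC ha hb)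
    (isLocalOnBase_fppf (Groth.Agent.S10526.result S)) hX (fp_isFibGrpd hX hX h𝒴.isStack.1)
    (fp_isFibGrpd hX hX isFibGrpd_selfOver)
    (repWith_of_iso (diagFpToProdIso f) (repWith_lft_diag_toSelf h𝒳))
    (repWith_diag_locP lft_cancel (rep1_fpToProd h𝒴.diag f f))

theorem repWith_lft_section {𝒯 : AlgSt.Cat S} (h𝒳 : AlgSt.IsAlgStack Scheme.fppfPrecoverage 𝒳)
    (h𝒯 : AlgSt.IsAlgStack Scheme.fppfPrecoverage 𝒯) {f : 𝒳 ⥤ᵇ 𝒯} {s : 𝒯 ⥤ᵇ 𝒳}
    (e : BasedFunctor.comp s f ≅ BasedFunctor.id 𝒯) : AlgSt.RepByAlgSpWith (LocP @LocallyOfFiniteType) s :=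
  repWith_cancel (fun _ _ _ hA hB hC _ _ ha hb => locP_comp hA hB hC ha hb)
    (isLocalOnBase_fppf (Groth.Agent.S10526.result S)) h𝒯.isStack.1 h𝒳.isStack.1 h𝒯.isStack.1
    (repWith_of_iso e.symm (repWith_id (fun _ _ _ _ _ hi => by have := hi; exact locP_of_isIso) h𝒯.isStack.1))
    (repWith_lft_diag h𝒳 h𝒯 f)

theorem isQuasiDMMor_of_isDMMor {f : 𝒳 ⥤ᵇ 𝒴} (h : AlgSt.IsDMMor f) : AlgSt.IsQuasiDMMor f :=
  repWith_mono_prop (fun _ _ _ _ _ ha => locP_mono (fun _ _ k hk => by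
    have : LocallyOfFiniteType k := hk.1
    have : FormallyUnramified k := hk.2
    exact ⟨locallyQuasiFinite_of_formallyUnramified k, hk.1⟩) ha) h

end Groth.Agent.AlgStLib
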