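import Groth.Agent.AlgStLib.RepCalc
import Groth.Agent.AlgSpLib.EtaleMono
import Groth.Agent.AlgSpLib.RepGlue
import Groth.Agent.AlgSpLib.ImmersionDescent
import Groth.Agent.AlgSpLib.FpqcLocalLocP
import Groth.Agent.AlgSpLib.FpqcLocalRep
import Groth.Agent.AlgSpLib.LocPCover
import Mathlib

/-!
Properties local on the base for fppf coverings.
-/

set_option autoImplicit false
set_option backward.isDefEq.respectTransparency.types false

universe u

open CategoryTheory CategoryTheory.Limits AlgebraicGeometry Opposite AlgSp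

namespace Groth.Agent.AlgStLib

open Groth.Agent Groth.Agent.AlgSpLib

variable {S : Scheme.{u}}

theorem isLocalOnBase_fppf {P : MorphismProperty (Sp S)} (h : IsLocalOnBase (IsFpqcCover (S := S)) P) :
    IsLocalOnBase (IsFppfCover (S := S)) P := fun _ _ Yi g hY hYi hg =>
  h Yi g hY hYi (isFpqcCover_of_isFppfCover S hY hYi hg)

theorem isLocalOnBase_fppf_locP {P : MorphismProperty Scheme.{u}} [EtLocal P] [IsZariskiLocalAtTarget P]
    [P.DescendsAlong (@Surjective ⊓ @Flat ⊓ @QuasiCompact)] :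
    IsLocalOnBase (IsFppfCover (S := S)) (LocP P) :=
  isLocalOnBase_fppf isLocalOnBase_locP

theorem isLocalOnBase_fppf_openImm : IsLocalOnBase (IsFppfCover (S := S)) (RepWith @IsOpenImmersion) :=
  isLocalOnBase_fppf (isLocalOnBase_isOpenImmersion S)

theorem isLocalOnBase_fppf_closedImm : IsLocalOnBase (IsFppfCover (S := S)) (RepWith @IsClosedImmersion) :=
  isLocalOnBase_fppf isLocalOnBase_isClosedImmersion

theorem isLocalOnBase_fppf_mono : IsLocalOnBase (IsFppfCover (S := S)) (MorphismProperty.monomorphisms (Sp S)) :=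
  isLocalOnBase_fppf isLocalOnBase_monomorphisms

theorem isLocalOnBase_fppf_surjective : IsLocalOnBase (IsFppfCover (S := S)) (IsSurjectiveMor (S := S)) := by
  intro ι Y Yi g hY hYi hg X f hX Xi p q hXi sq
  refine ⟨fun h i => surjective_snd (sq i) h, fun h x => ?_⟩
  obtain ⟨i, y, rfl⟩ := hg.2 x
  obtain ⟨z, rfl⟩ := h i y
  exact ⟨Points.map (q i) z, by rw [← Points.map_comp, ← Points.map_comp, (sq i).w]⟩

theorem isSurjectiveMor_comp {X Y Z : Sp S} {a : X ⟶ Y} {b : Y ⟶ Z} (ha : IsSurjectiveMor a)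
    (hb : IsSurjectiveMor b) : IsSurjectiveMor (a ≫ b) := fun z => by
  obtain ⟨y, rfl⟩ := hb z
  obtain ⟨x, rfl⟩ := ha y
  exact ⟨x, by rw [Points.map_comp]⟩

variable {𝒳 𝒴 𝒵 : AlgSt.Cat S} {f : 𝒳 ⥤ᵇ 𝒴} {g : 𝒴 ⥤ᵇ 𝒵} (h𝒳 : FibCat.IsFibGrpd 𝒳.p)
  (h𝒴 : FibCat.IsFibGrpd 𝒴.p)

include h𝒳 h𝒴

theorem isMono_comp (hf : AlgSt.IsMono f) (hg : AlgSt.IsMono g) : AlgSt.IsMono (BasedFunctor.comp f g) :=
  repWith_comp_stk (fun _ _ _ _ _ _ a b ha hb => MorphismProperty.comp_mem _ a b ha hb)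
    isLocalOnBase_fppf_mono h𝒳 h𝒴 hf hg

theorem isOpenImm_comp (hf : AlgSt.IsOpenImm f) (hg : AlgSt.IsOpenImm g) :
    AlgSt.IsOpenImm (BasedFunctor.comp f g) :=
  repWith_comp_stk (fun _ _ _ _ _ _ _ _ ha hb => repWith_comp ha hb) isLocalOnBase_fppf_openImm h𝒳 h𝒴 hf hg

theorem isClosedImm_comp (hf : AlgSt.IsClosedImm f) (hg : AlgSt.IsClosedImm g) :
    AlgSt.IsClosedImm (BasedFunctor.comp f g) :=
  repWith_comp_stk (fun _ _ _ _ _ _ _ _ ha hb => repWith_comp ha hb) isLocalOnBase_fppf_closedImm h𝒳 h𝒴 hf hg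

theorem isImm_comp (hf : AlgSt.IsImm f) (hg : AlgSt.IsImm g) : AlgSt.IsImm (BasedFunctor.comp f g) :=
  repWith_comp_stk (fun _ _ _ _ _ _ _ _ ha hb => repWith_comp ha hb) (isLocalOnBase_fppf_isImmersion S) h𝒳 h𝒴 hf hg

theorem repWith_smooth_comp (hf : AlgSt.RepByAlgSpWith (LocP @Smooth) f)
    (hg : AlgSt.RepByAlgSpWith (LocP @Smooth) g) : AlgSt.RepByAlgSpWith (LocP @Smooth) (BasedFunctor.comp f g) :=
  repWith_comp_stk (fun _ _ _ hX hY hZ _ _ ha hb => locP_comp hX hY hZ ha hb) isLocalOnBase_fppf_locP h𝒳 h𝒴 hf hg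

theorem repWith_surjective_comp (hf : AlgSt.RepByAlgSpWith IsSurjectiveMor f)
    (hg : AlgSt.RepByAlgSpWith IsSurjectiveMor g) : AlgSt.RepByAlgSpWith IsSurjectiveMor (BasedFunctor.comp f g) :=
  repWith_comp_stk (fun _ _ _ _ _ _ _ _ ha hb => isSurjectiveMor_comp ha hb) isLocalOnBase_fppf_surjective h𝒳 h𝒴 hf hg

omit h𝒳 h𝒴 in
theorem isMono_of_isImm (hf : AlgSt.IsImm f) : AlgSt.IsMono f :=
  repWith_mono_prop (fun _ _ _ _ _ ha => mono_of_repWith_isImmersion ha) hf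

end Groth.Agent.AlgStLib
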