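import Groth.Agent.AlgSpLib.FpqcLocalUniv
import Groth.Agent.AlgSpLib.FpqcLocalLocP
import Groth.Agent.AlgSpLib.AffineRep
import Groth.Agent.AlgStLib.LocalProps
import Mathlib

/-!
Composition and locality of properties of morphisms of algebraic spaces used for diagonals of stacks.
-/

set_option autoImplicit false
set_option backward.isDefEq.respectTransparency.types false

universe u

open CategoryTheory CategoryTheory.Limits AlgebraicGeometry Opposite AlgSp

namespace Groth.Agent.AlgStLib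

open Groth.Agent.AlgSpLib

variable {S : Scheme.{u}} {F G H : Sp S} {f : F ⟶ G} {g : G ⟶ H}

theorem repWith_diagonal_comp {P : MorphismProperty Scheme.{u}} [P.IsStableUnderBaseChange]
    [P.IsStableUnderComposition] [P.ContainsIdentities] (hf : RepWith P (pullback.diagonal f))
    (hg : RepWith P (pullback.diagonal g)) : RepWith P (pullback.diagonal (f ≫ g)) := by
  rw [pullback.diagonal_comp]
  exact repWith_comp hf (repWith_comp (repWith_iso _)
    (repWith_baseChange (IsPullback.of_hasPullback (pullback.diagonal g) _) hg))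

theorem isSeparatedMor_comp (hf : IsSeparatedMor f) (hg : IsSeparatedMor g) : IsSeparatedMor (f ≫ g) :=
  repWith_diagonal_comp hf hg

theorem isQuasiSeparatedMor_comp (hf : IsQuasiSeparatedMor f) (hg : IsQuasiSeparatedMor g) :
    IsQuasiSeparatedMor (f ≫ g) :=
  repWith_diagonal_comp hf hg

theorem isQuasiCompactMor_comp (hG : IsAlgSpace G) (hH : IsAlgSpace H) (hf : IsQuasiCompactMor f)
    (hg : IsQuasiCompactMor g) : IsQuasiCompactMor (f ≫ g) := by
  intro Z Z' hZ hq k a b sq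
  have s₂ := IsPullback.of_hasPullback g k
  have hW : IsAlgSpace (pullback g k) := isAlgSpace_of_isPullback s₂ hG hZ hH
  refine hf hW (hg hZ hq k _ _ s₂) (pullback.fst g k) a
    (s₂.lift (a ≫ f) b (by rw [Category.assoc]; exact sq.w)) ?_
  exact IsPullback.of_bot (by rw [s₂.lift_snd]; exact sq) (s₂.lift_fst _ _ _).symm s₂

theorem univSp_comp {Q : MorphismProperty (Sp S)} (hQ : ∀ ⦃X Y Z : Sp S⦄ (a : X ⟶ Y) (b : Y ⟶ Z), Q a → Q b → Q (a ≫ b))
    (hG : IsAlgSpace G) (hH : IsAlgSpace H) (hf : UnivSp Q f) (hg : UnivSp Q g) : UnivSp Q (f ≫ g) := by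
  intro Z Z' hZ k a b sq
  have s₂ := IsPullback.of_hasPullback g k
  have hW : IsAlgSpace (pullback g k) := isAlgSpace_of_isPullback s₂ hG hZ hH
  have s₁ : IsPullback a (s₂.lift (a ≫ f) b (by rw [Category.assoc]; exact sq.w)) f (pullback.fst g k) :=
    IsPullback.of_bot (by rw [s₂.lift_snd]; exact sq) (s₂.lift_fst _ _ _).symm s₂
  rw [← s₂.lift_snd (a ≫ f) b (by rw [Category.assoc]; exact sq.w)]
  exact hQ _ _ (hf hW _ _ _ s₁) (hg hZ k _ _ s₂)

theorem isClosedMor_comp {X Y Z : Sp S} (a : X ⟶ Y) (b : Y ⟶ Z) (ha : IsClosedMor a) (hb : IsClosedMor b) :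
    IsClosedMor (a ≫ b) := by
  intro C hC
  have : Points.map (a ≫ b) '' C = Points.map b '' (Points.map a '' C) := by
    rw [Set.image_image]
    exact Set.image_congr fun x _ => Points.map_comp _ _ _
  rw [this]
  exact hb _ (ha _ hC)

theorem isProperMor_comp (hF : IsAlgSpace F) (hG : IsAlgSpace G) (hH : IsAlgSpace H) (hf : IsProperMor f)
    (hg : IsProperMor g) : IsProperMor (f ≫ g) :=
  ⟨isSeparatedMor_comp hf.1 hg.1,
    ⟨locP_comp hF hG hH hf.2.1.1 hg.2.1.1, isQuasiCompactMor_comp hG hH hf.2.1.2 hg.2.1.2⟩,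
    univSp_comp (fun _ _ _ a b => isClosedMor_comp a b) hG hH hf.2.2 hg.2.2⟩

theorem affRep_comp {P : MorphismProperty Scheme.{u}} [P.IsStableUnderComposition] (hf : AffRep P f)
    (hg : AffRep P g) : AffRep P (f ≫ g) := by
  intro Z hZ k
  obtain ⟨W, i, a, sa, hW, hPi⟩ := hg hZ k
  obtain ⟨V, j, b, sb, hV, hPj⟩ := hf hW a
  refine ⟨V, j ≫ i, b, ?_, hV, ?_⟩
  · rw [Functor.map_comp]
    exact sb.paste_vert sa
  · rw [Over.comp_left]
    exact P.comp_mem _ _ hPj hPi

theorem affRep_top_iff {f : F ⟶ G} : IsAffineMor f ↔ AffRep ⊤ f :=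
  ⟨fun h _ hZ g => (h hZ g).imp fun _ ⟨i, a, s, hW⟩ => ⟨i, a, s, hW, trivial⟩,
    fun h _ hZ g => (h hZ g).imp fun _ ⟨i, a, s, hW, _⟩ => ⟨i, a, s, hW⟩⟩

theorem isLocalOnBase_fppf_affRep {P : MorphismProperty Scheme.{u}} [IsZariskiLocalAtTarget P]
    [P.DescendsAlong (@Surjective ⊓ @Flat ⊓ @QuasiCompact)] :
    IsLocalOnBase (IsFppfCover (S := S)) (AffRep P) := fun _ _ Yi g hY hYi hg =>
  isLocalOnBase_affRep Yi g hY hYi (isFpqcCover_of_isFppfCover S hY hYi hg)

end Groth.Agent.AlgStLib
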