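import Groth.Agent.AlgStLib.RepDiag
import Groth.Agent.AlgStLib.SpMorCalc
import Groth.Agent.AlgStLib.DiagLft
import Groth.Agent.S10526
import Mathlib

/-!
Separation axioms of representable morphisms, read on the diagonal.
-/

set_option autoImplicit false
set_option backward.isDefEq.respectTransparency false
set_option backward.isDefEq.respectTransparency.types false

universe u

open CategoryTheory CategoryTheory.Limits CategoryTheory.Functor AlgebraicGeometry Opposite AlgSp

namespace Groth.Agent.AlgStLib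

open Groth.Agent Groth.Agent.FibBasics Groth.Agent.AlgSpLib

variable {S : Scheme.{u}} {𝒳 𝒴 : AlgSt.Cat S} {P Q : MorphismProperty (Sp S)}

/-- A morphism of schemes that is universally closed as a morphism of spaces is universally closed. -/
theorem universallyClosed_of_isUnivClosedMor {W V : Over S} (k : W ⟶ V) (h : IsUnivClosedMor ((yon S).map k)) :
    UniversallyClosed k.left := by
  rw [universallyClosed_iff]
  intro X' Y' i₁ i₂ f' sq
  let T : Over S := Over.mk (i₂ ≫ V.hom)
  let W' : Over S := Over.mk (i₁ ≫ W.hom)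
  let g : T ⟶ V := Over.homMk i₂
  let p : W' ⟶ W := Over.homMk i₁
  let q : W' ⟶ T := Over.homMk f' (by
    change f' ≫ i₂ ≫ V.hom = i₁ ≫ W.hom
    rw [← Category.assoc, sq.w, Category.assoc, Over.w])
  have sq' : IsPullback p q k g :=
    IsPullback.of_map (Over.forget S) ((Over.forget S).map_injective sq.w.symm) sq.flip
  have hc := h (IsAlgSpace.yon_obj T) _ _ _ (yon_isPullback sq')
  intro C hC
  have hc' := hc _ ((Points.schemeHomeo W').isClosed_image.2 hC)
  rw [← (Points.schemeHomeo T).isClosed_image]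
  convert hc' using 1
  rw [Set.image_image, Set.image_image]
  exact Set.image_congr fun t _ => (Points.map_yon_map_apply q t).symm

/-- A morphism of schemes that is quasi-compact as a morphism of spaces is quasi-compact. -/
theorem quasiCompact_of_isQuasiCompactMor {W V : Over S} (k : W ⟶ V) (h : IsQuasiCompactMor ((yon S).map k)) :
    QuasiCompact k.left := by
  rw [quasiCompact_iff_forall_isAffineOpen]
  intro U hU
  let T : Over S := Over.mk (U.ι ≫ V.hom)
  let W' : Over S := Over.mk ((k.left ⁻¹ᵁ U).ι ≫ W.hom)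
  let g : T ⟶ V := Over.homMk U.ι
  let p : W' ⟶ W := Over.homMk (k.left ⁻¹ᵁ U).ι
  have hw : (k.left ∣_ U) ≫ U.ι = (k.left ⁻¹ᵁ U).ι ≫ k.left := morphismRestrict_ι _ _
  let q : W' ⟶ T := Over.homMk (k.left ∣_ U) (by
    change (k.left ∣_ U) ≫ U.ι ≫ V.hom = (k.left ⁻¹ᵁ U).ι ≫ W.hom
    rw [← Category.assoc, hw, Category.assoc, Over.w])
  have sq' : IsPullback p q k g :=
    IsPullback.of_map (Over.forget S) ((Over.forget S).map_injective hw.symm)
      (isPullback_morphismRestrict k.left U).flip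
  have : IsAffine T.left := hU
  have hT : IsQuasiCompactSp ((yon S).obj T) :=
    (isQuasiCompactSp_iff_affine (IsAlgSpace.yon_obj T)).2
      ⟨T, 𝟙 _, inferInstance, AlgSp.repWith_id _ T, AlgSp.repWith_id _ T⟩
  have := (isQuasiCompactSp_iff_compactSpace (IsAlgSpace.yon_obj W')).1
    (h (IsAlgSpace.yon_obj T) hT _ _ _ (yon_isPullback sq'))
  have : CompactSpace W'.left := (Points.schemeHomeo W').symm.compactSpace
  exact isCompact_iff_compactSpace.2 this

/-- Two properties of one representable morphism. -/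
theorem repWith_inf_prop (hQ : IsLocalOnBase IsFppfCover Q) {f : 𝒳 ⥤ᵇ 𝒴} (h1 : AlgSt.RepByAlgSpWith P f)
    (h2 : AlgSt.RepByAlgSpWith Q f) : AlgSt.RepByAlgSpWith (P ⊓ Q) f := fun U y => by
  obtain ⟨F, e, he, hF⟩ := h1 U y
  obtain ⟨F', e', he', hF'⟩ := h2 U y
  exact ⟨F, e, he, hF, prop_of_rep_over hQ he' he _ hF'⟩

/-- Properties of a representable morphism of algebraic spaces from the morphism of stacks. -/
theorem prop_pullback_of_repWith_ofSpMap (hP : IsLocalOnBase IsFppfCover P) {A B : AlgSp.Space S}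
    {r : A.obj ⟶ B.obj} (h : AlgSt.RepByAlgSpWith P (AlgSt.ofSpMap r)) {V : Over S}
    (c : (yon S).obj V ⟶ B.obj) : P (pullback.fst c r) := by
  let W : AlgSp.Space S := ⟨_, IsAlgSpace.yon_obj V⟩
  obtain ⟨F, a, e, he, ⟨i⟩, ha⟩ := exists_space_rep (𝒳 := AlgSt.ofSp A.obj) (𝒴 := AlgSt.ofSp B.obj) hP
    (Stk.isFibGrpd_ofPsh _) (Stk.isFibGrpd_ofPsh _) h W (AlgSt.ofSpMap c)
  let R : AlgSp.Space S := ⟨pullback c r, isAlgSpace_pullback c r W.property A.property B.property⟩
  have sq : IsPullback (pullback.fst c r).hom (pullback.snd c r).hom c.hom r.hom :=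
    (IsPullback.of_hasPullback c r).map (sheafToPresheaf (J S) (Type (u + 1)))
  have e1 : spMapOf (BasedFunctor.comp e (FibCat.fpFst (AlgSt.ofSpMap c) (AlgSt.ofSpMap r))) = a.hom :=
    (spMapOf_congr i).trans (ObjectProperty.hom_ext _ (pshMapOf_ofPshMap _))
  rw [← e1] at ha
  have := prop_of_rep (F' := R) (B := W) hP he (sqFun_isEquivOver sq) _ ha
  convert this using 1
  exact ObjectProperty.hom_ext _ (pshMapOf_ofPshMap _).symm

/-- A property of the diagonal of a morphism of algebraic spaces, from the morphism of stacks. -/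
theorem prop_diag_pullback_of_repWith (hP : IsLocalOnBase IsFppfCover P) {A B : AlgSp.Space S}
    {r : A.obj ⟶ B.obj} (h : AlgSt.RepByAlgSpWith P (FibCat.diag (AlgSt.ofSpMap r))) {V : Over S}
    (c : (yon S).obj V ⟶ pullback r r) : P (pullback.fst c (pullback.diagonal r)) := by
  let R : AlgSp.Space S := ⟨pullback r r, isAlgSpace_pullback r r A.property A.property B.property⟩
  have sq : IsPullback (pullback.fst r r).hom (pullback.snd r r).hom r.hom r.hom :=
    (IsPullback.of_hasPullback r r).map (sheafToPresheaf (J S) (Type (u + 1)))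
  refine prop_pullback_of_repWith_ofSpMap (A := A) (B := R) hP ?_ c
  exact (repWith_equiv_comp (sqFun_isEquivOver sq)).1 (repWith_of_iso (diagOfSpIso r).symm h)

/-- Every base change to a scheme of a representable morphism inherits the property of the diagonal. -/
theorem exists_rep_diag_of_repWith_diag (hP : IsLocalOnBase IsFppfCover P) {f : 𝒳 ⥤ᵇ 𝒴}
    (hf : AlgSt.RepByAlgSp1 f) (h : AlgSt.RepByAlgSpWith P (FibCat.diag f)) (U : Over S)
    (y : FibCat.overCat U ⥤ᵇ 𝒴) :
    ∃ (F : AlgSp.Space S) (e : AlgSt.ofSp F.obj ⥤ᵇ FibCat.fp y f), FibCat.IsEquivOver e ∧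
      ∀ {V : Over S} (c : (yon S).obj V ⟶ pullback (AlgSt.spMapOfOver (BasedFunctor.comp e (FibCat.fpFst y f)))
          (AlgSt.spMapOfOver (BasedFunctor.comp e (FibCat.fpFst y f)))),
        P (pullback.fst c (pullback.diagonal _)) := by
  obtain ⟨F, e, he⟩ := hf U y
  refine ⟨F, e, he, fun {V} c => ?_⟩
  let b₀ := BasedFunctor.comp e (FibCat.fpFst y f)
  have h1 : AlgSt.RepByAlgSpWith P (FibCat.diag (BasedFunctor.comp b₀ (AlgSt.ofOverCat U))) :=
    (repWith_diag_postcomp (ofOverCat_isEquivOver U)).2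
      ((repWith_diag_precomp he).2 (repWith_diag_fpFst y h))
  refine prop_diag_pullback_of_repWith (A := F) (B := ⟨_, IsAlgSpace.yon_obj U⟩) hP ?_ c
  exact repWith_diag_of_iso (ofPshMapIso _ ≪≫ eqToIso (by congr 1)) h1

theorem repWith_qs_of_diag_qc {f : 𝒳 ⥤ᵇ 𝒴} (hf : AlgSt.RepByAlgSp1 f)
    (h : AlgSt.RepByAlgSpWith IsQuasiCompactMor (FibCat.diag f)) :
    AlgSt.RepByAlgSpWith IsQuasiSeparatedMor f := fun U y => by
  obtain ⟨F, e, he, hF⟩ :=
    exists_rep_diag_of_repWith_diag (isLocalOnBase_fppf isLocalOnBase_isQuasiCompactMor) hf h U y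
  let r := AlgSt.spMapOfOver (BasedFunctor.comp e (FibCat.fpFst y f))
  refine ⟨F, e, he, repWith_of_exists fun V c => ?_⟩
  obtain ⟨W, k, fst, sq⟩ := representable_diagonal F.property r c
  refine ⟨W, fst, k, sq, quasiCompact_of_isQuasiCompactMor k ?_⟩
  intro Z Z' hZ hq g a b sP
  exact hF c hZ hq g (a ≫ (sq.flip.isoPullback).hom) b
    (sP.paste_horiz (IsPullback.of_horiz_isIso ⟨sq.flip.isoPullback_hom_fst.trans (Category.comp_id _).symm⟩))

theorem repWith_sep_of_diag_univClosed {f : 𝒳 ⥤ᵇ 𝒴} (hf : AlgSt.RepByAlgSp1 f)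
    (h : AlgSt.RepByAlgSpWith IsUnivClosedMor (FibCat.diag f)) :
    AlgSt.RepByAlgSpWith IsSeparatedMor f := fun U y => by
  obtain ⟨F, e, he, hF⟩ := exists_rep_diag_of_repWith_diag
    (isLocalOnBase_fppf (isLocalOnBase_univSp descendsOnPoints_isClosedMor)) hf h U y
  let r := AlgSt.spMapOfOver (BasedFunctor.comp e (FibCat.fpFst y f))
  refine ⟨F, e, he, repWith_of_exists fun V c => ?_⟩
  obtain ⟨W, k, fst, sq⟩ := representable_diagonal F.property r c
  refine ⟨W, fst, k, sq, ?_⟩
  have : UniversallyClosed k.left := universallyClosed_of_isUnivClosedMor k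
    (univSp_baseChange (hF c) (IsPullback.of_horiz_isIso (fst := (sq.flip.isoPullback).hom) (g := 𝟙 _) ⟨sq.flip.isoPullback_hom_fst.trans (Category.comp_id _).symm⟩))
  have hR := isAlgSpace_pullback r r F.property F.property (IsAlgSpace.yon_obj U)
  have hk : LocP @LocallyOfFiniteType ((yon S).map k) :=
    locP_baseChange F.property hR (IsAlgSpace.yon_obj V) sq (locP_diagonal lft_cancel F.property (IsAlgSpace.yon_obj U))
  have : LocallyOfFiniteType k.left :=
    hk (𝟙 _) (𝟙 _) k (AlgSp.repWith_id _ W) (AlgSp.repWith_id _ V) (by simp)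
  have : Mono ((yon S).map k) := MorphismProperty.of_isPullback (P := MorphismProperty.monomorphisms _) sq
    (inferInstanceAs (Mono (pullback.diagonal r)))
  have : Mono k := (yon S).mono_of_mono_map this
  have : Mono k.left := inferInstanceAs (Mono ((Over.forget S).map k))
  have : IsProper k.left := ⟨⟩
  exact (IsClosedImmersion.iff_isProper_and_mono k.left).2 ⟨inferInstance, inferInstance⟩

theorem repWith_closedImm_diag_of_sep {f : 𝒳 ⥤ᵇ 𝒴} (hf : AlgSt.RepByAlgSpWith IsSeparatedMor f) :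
    AlgSt.IsClosedImm (FibCat.diag f) :=
  repWith_diag_of_rep hf fun _ _ _ _ hr _ c =>
    repWith_baseChange (IsPullback.of_hasPullback c _).flip hr

theorem repWith_qc_diag_of_qs {f : 𝒳 ⥤ᵇ 𝒴} (hf : AlgSt.RepByAlgSpWith IsQuasiSeparatedMor f) :
    AlgSt.RepByAlgSpWith IsQuasiCompactMor (FibCat.diag f) :=
  repWith_diag_of_rep hf fun _ U r hA hr _ c =>
    isQuasiCompactMor_of_repWith
      (isAlgSpace_pullback c _ (IsAlgSpace.yon_obj _) hA (isAlgSpace_pullback r r hA hA (IsAlgSpace.yon_obj U)))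
      (IsAlgSpace.yon_obj _) (repWith_baseChange (IsPullback.of_hasPullback c _).flip hr)

theorem sep_tfae {f : 𝒳 ⥤ᵇ 𝒴} (hf : AlgSt.RepByAlgSp1 f) :
    [AlgSt.RepByAlgSpWith IsSeparatedMor f, AlgSt.IsClosedImm (FibCat.diag f),
      AlgSt.IsSeparatedMor f, AlgSt.RepByAlgSpWith IsUnivClosedMor (FibCat.diag f)].TFAE := by
  tfae_have 1 → 2 := repWith_closedImm_diag_of_sep
  tfae_have 2 → 3 := fun h => repWith_mono_prop (fun _ _ _ hF hG ha => isProperMor_of_closedImm hF hG ha) h
  tfae_have 3 → 4 := fun h => repWith_mono_prop (fun _ _ _ _ _ ha => ha.2.2) h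
  tfae_have 4 → 1 := repWith_sep_of_diag_univClosed hf
  tfae_finish

theorem qs_tfae {f : 𝒳 ⥤ᵇ 𝒴} (hf : AlgSt.RepByAlgSp1 f) :
    [AlgSt.RepByAlgSpWith IsQuasiSeparatedMor f, AlgSt.RepByAlgSpWith IsQuasiCompactMor (FibCat.diag f),
      AlgSt.RepByAlgSpWith IsFiniteTypeMor (FibCat.diag f)].TFAE := by
  tfae_have 1 → 2 := repWith_qc_diag_of_qs
  tfae_have 2 → 3 := fun h => repWith_mono_prop (fun _ _ _ _ _ ha => ha)
    (repWith_inf_prop (isLocalOnBase_fppf isLocalOnBase_isQuasiCompactMor) (repWith_diag_locP lft_cancel hf) h)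
  tfae_have 3 → 1 := fun h => repWith_qs_of_diag_qc hf (repWith_mono_prop (fun _ _ _ _ _ ha => ha.2) h)
  tfae_finish

theorem qsMor_iff {f : 𝒳 ⥤ᵇ 𝒴} (hf : AlgSt.RepByAlgSp1 f) :
    AlgSt.IsQuasiSeparatedMor f ↔ AlgSt.RepByAlgSpWith IsQuasiSeparatedMor f :=
  ⟨fun h => repWith_qs_of_diag_qc hf (repWith_mono_prop (fun _ _ _ _ _ ha => ha.1) h),
    fun h => repWith_diag_of_rep h fun _ U r hA hr _ c =>
      ⟨isQuasiCompactMor_of_repWith
        (isAlgSpace_pullback c _ (IsAlgSpace.yon_obj _) hA (isAlgSpace_pullback r r hA hA (IsAlgSpace.yon_obj U)))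
        (IsAlgSpace.yon_obj _) (repWith_baseChange (IsPullback.of_hasPullback c _).flip hr),
       isQuasiSeparatedMor_of_mono _⟩⟩

end Groth.Agent.AlgStLib
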