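import Groth.Agent.AlgStLib.SpMorCalc
import Groth.Agent.AlgSpLib.DiagMor
import Groth.Agent.AlgSpLib.LocP
import Groth.Agent.AlgSpLib.Compact
import Groth.Agent.AlgSpLib.FpqcLocalRep
import Mathlib

/-!
Properties of diagonals of morphisms of algebraic spaces, closed immersions, isomorphisms.
-/

set_option autoImplicit false
set_option backward.isDefEq.respectTransparency.types false

universe u

open CategoryTheory CategoryTheory.Limits AlgebraicGeometry Opposite AlgSp

namespace Groth.Agent.AlgStLib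

open Groth.Agent.AlgSpLib

variable {S : Scheme.{u}} {F G Z Z' : Sp S} {f : Z' ⟶ Z}

theorem isQuasiCompactMor_of_repWith {f : F ⟶ G} (hF : IsAlgSpace F) (hG : IsAlgSpace G)
    (hf : RepWith @QuasiCompact f) : IsQuasiCompactMor f := by
  intro Z Z' hZ hq k a b sq
  obtain ⟨W, p, hW, -, hps⟩ := (isQuasiCompactSp_iff_affine hZ).1 hq
  have hb := repWith_baseChange sq hf
  obtain ⟨W', snd, fst, sW⟩ := hb.1 p
  have : QuasiCompact snd.left := hb.2 p fst snd sW
  have : CompactSpace W.left := inferInstance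
  have : CompactSpace W'.left := QuasiCompact.compactSpace_of_compactSpace snd.left
  rw [isQuasiCompactSp_iff_compactSpace (isAlgSpace_of_isPullback sq hF hZ hG)]
  exact (surjective_ofPt (repWith_baseChange sW.flip hps)).compactSpace (Points.continuous_ofPt fst)

theorem isClosedMor_of_repWith (hZ : IsAlgSpace Z) (hf : RepWith @UniversallyClosed f) : IsClosedMor f := by
  intro C hC
  obtain ⟨W, p, hp, hps⟩ := hZ.atlas
  obtain ⟨W', snd, fst, sW⟩ := hf.1 p
  have : UniversallyClosed snd.left := hf.2 p fst snd sW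
  rw [← (isQuotientMap_ofPt hp hps).isClosed_preimage]
  have e : Points.ofPt p ⁻¹' (Points.map f '' C) = snd.left '' (Points.ofPt fst ⁻¹' C) := by
    ext w
    constructor
    · rintro ⟨x, hx, hxw⟩
      obtain ⟨z, hz, hz'⟩ := exists_point_of_isPullback sW x (Points.ofPt (𝟙 _) w)
        (by rw [hxw, Points.map_ofPt, Category.id_comp])
      obtain ⟨v, rfl⟩ := exists_ofScheme z
      rw [Points.map_ofPt, Category.id_comp] at hz hz'
      refine ⟨v, show Points.ofPt fst v ∈ C from hz ▸ hx, (Points.schemeEquiv W).injective ?_⟩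
      refine Eq.trans ?_ hz'
      change Points.ofPt (𝟙 _) (snd.left v) = _
      rw [← ofPt_comp, Category.comp_id]
    · rintro ⟨v, hv, rfl⟩
      exact ⟨_, hv, by rw [Points.map_ofPt, sW.w, ofPt_comp]⟩
  rw [e]
  exact snd.left.isClosedMap _ (hC.preimage (Points.continuous_ofPt fst))

theorem isUnivClosedMor_of_repWith {f : F ⟶ G} (hf : RepWith @UniversallyClosed f) : IsUnivClosedMor f :=
  fun _ _ hZ _ _ _ sq => isClosedMor_of_repWith hZ (repWith_baseChange sq hf)

theorem isSeparatedMor_of_mono (f : F ⟶ G) [Mono f] : IsSeparatedMor f := repWith_diagonal_of_mono f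

theorem isQuasiSeparatedMor_of_mono (f : F ⟶ G) [Mono f] : IsQuasiSeparatedMor f := repWith_diagonal_of_mono f

theorem isProperMor_of_closedImm {f : F ⟶ G} (hF : IsAlgSpace F) (hG : IsAlgSpace G)
    (hf : RepWith @IsClosedImmersion f) : IsProperMor f := by
  have : Mono f := mono_of_repWith hf fun _ _ k hk => by
    have : IsClosedImmersion k := hk
    infer_instance
  refine ⟨isSeparatedMor_of_mono f, ⟨?_, isQuasiCompactMor_of_repWith hF hG ?_⟩, isUnivClosedMor_of_repWith ?_⟩
  · exact locP_of_repWith (repWith_mono (fun _ _ k hk => by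
      have : IsClosedImmersion k := hk
      infer_instance) hf) fun _ _ _ k m hk hm => EtLocal.comp_etale k m hk hm
  · exact repWith_mono (fun _ _ k hk => by have : IsClosedImmersion k := hk; infer_instance) hf
  · exact repWith_mono (fun _ _ k hk => by have : IsClosedImmersion k := hk; infer_instance) hf

theorem isProperMor_of_isIso {f : F ⟶ G} (hF : IsAlgSpace F) (hG : IsAlgSpace G) [IsIso f] : IsProperMor f :=
  isProperMor_of_closedImm hF hG (repWith_iso _)

theorem locP_of_isIso {P : MorphismProperty Scheme.{u}} [EtLocal P] {f : F ⟶ G} [IsIso f] : LocP P f := by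
  have : P.ContainsIdentities := ⟨fun X => EtLocal.of_etale (𝟙 X) inferInstance⟩
  exact locP_of_repWith (repWith_iso _) fun _ _ _ k m hk hm => EtLocal.comp_etale k m hk hm

theorem qcqs_of_isIso {f : F ⟶ G} (hF : IsAlgSpace F) (hG : IsAlgSpace G) [IsIso f] :
    (IsQuasiCompactMor ⊓ IsQuasiSeparatedMor : MorphismProperty (Sp S)) f :=
  ⟨isQuasiCompactMor_of_repWith hF hG (repWith_iso _), isQuasiSeparatedMor_of_mono f⟩

/-- The diagonal of a morphism of algebraic spaces, locally on charts. -/
theorem locP_diagonal {P : MorphismProperty Scheme.{u}} [EtLocal P]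
    (hcancel : ∀ ⦃A B C : Scheme.{u}⦄ (k : A ⟶ B) (m : B ⟶ C), P (k ≫ m) → P k)
    {f : F ⟶ G} (hF : IsAlgSpace F) (hG : IsAlgSpace G) : LocP P (pullback.diagonal f) :=
  locP_of_comp (Q := P) (R := ⊤) (g := pullback.fst f f) hF (isAlgSpace_pullback f f hF hF hG) hF
    (by rw [pullback.diagonal_fst]; exact locP_of_isIso) (locP_top _) fun _ _ _ k m h _ => hcancel k m h

theorem unramified_cancel {A B C : Scheme.{u}} (k : A ⟶ B) (m : B ⟶ C)
    (h : ((@LocallyOfFiniteType ⊓ @FormallyUnramified : MorphismProperty Scheme.{u})) (k ≫ m)) :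
    (@LocallyOfFiniteType ⊓ @FormallyUnramified : MorphismProperty Scheme.{u}) k :=
  ⟨@locallyOfFiniteType_of_comp _ _ _ k m h.1, @FormallyUnramified.of_comp _ _ _ k m h.2⟩

theorem lqf_cancel {A B C : Scheme.{u}} (k : A ⟶ B) (m : B ⟶ C)
    (h : ((@LocallyQuasiFinite : MorphismProperty Scheme.{u}) ⊓ @LocallyOfFiniteType) (k ≫ m)) :
    ((@LocallyQuasiFinite : MorphismProperty Scheme.{u}) ⊓ @LocallyOfFiniteType) k :=
  ⟨@LocallyQuasiFinite.of_comp _ _ _ k m h.1, @locallyOfFiniteType_of_comp _ _ _ k m h.2⟩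

end Groth.Agent.AlgStLib
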