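import Groth.Agent.AlgStLib.QcRules
import Groth.Agent.AlgStLib.LocalProps
import Groth.Agent.SourceDescent.Basic
import Mathlib

/-!
Locally Noetherian algebraic stacks.
-/

set_option autoImplicit false
set_option backward.isDefEq.respectTransparency false
set_option backward.isDefEq.respectTransparency.types false

universe u

open CategoryTheory CategoryTheory.Limits CategoryTheory.Functor AlgebraicGeometry Opposite AlgSp

namespace Groth.Agent.AlgStLib

open Groth.Agent Groth.Agent.FibBasics Groth.Agent.AlgSpLib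

theorem isNoetherianRing_of_fppf {A B : CommRingCat.{u}} (ψ : A ⟶ B) (h : ψ.hom.FaithfullyFlat)
    [IsNoetherianRing B] : IsNoetherianRing A := by
  algebraize [ψ.hom]
  rw [isNoetherianRing_iff, isNoetherian_iff']
  refine ⟨(StrictMono.wellFoundedGT (f := fun I : Ideal A => I.map (algebraMap A B)) ?_).wf⟩
  intro I J hIJ
  refine lt_of_le_of_ne (Ideal.map_mono hIJ.le) fun e => hIJ.ne ?_
  have := congrArg (Ideal.comap (algebraMap A B)) e
  simpa [Ideal.comap_map_eq_self_of_faithfullyFlat] using this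

/-- Local Noetherianity descends along fppf morphisms. -/
theorem isLocallyNoetherian_of_fppf {X Y : Scheme.{u}} (f : X ⟶ Y) [Flat f] [LocallyOfFinitePresentation f]
    [Surjective f] [IsLocallyNoetherian X] : IsLocallyNoetherian Y := by
  refine ⟨fun A => ?_⟩
  have hA : IsAffine A.1.toScheme := A.2
  let g := f ∣_ A.1
  have : Flat g := IsZariskiLocalAtTarget.restrict (P := @Flat) ‹_› _
  have : LocallyOfFinitePresentation g := IsZariskiLocalAtTarget.restrict (P := @LocallyOfFinitePresentation) ‹_› _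
  have : Surjective g := IsZariskiLocalAtTarget.restrict (P := @Surjective) ‹_› _
  let X' := (f ⁻¹ᵁ A.1).toScheme
  have : IsLocallyNoetherian X' := isLocallyNoetherian_of_isOpenImmersion (f ⁻¹ᵁ A.1).ι
  obtain ⟨s, hs⟩ := isCompact_univ.elim_finite_subcover
    (fun B : X'.affineOpens => g '' (B.1 : Set X'))
    (fun B => g.isOpenMap _ B.1.isOpen)
    (fun p _ => by
      obtain ⟨x, rfl⟩ := g.surjective p
      obtain ⟨_, ⟨B, hB, rfl⟩, hxB, -⟩ := X'.isBasis_affineOpens.exists_subset_of_mem_open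
        (Set.mem_univ x) isOpen_univ
      exact Set.mem_iUnion.2 ⟨⟨B, hB⟩, x, hxB, rfl⟩)
  let W : ({B // B ∈ s}) → Scheme.{u} := fun B => (B.1.1 : X'.Opens)
  let p : ∐ W ⟶ X' := Sigma.desc fun B => B.1.1.ι
  have : ∀ B, IsAffine (W B) := fun B => B.1.2
  have : ∀ B, IsLocallyNoetherian (W B) := fun B => isLocallyNoetherian_of_isOpenImmersion B.1.1.ι
  have hp : ∀ B, Sigma.ι W B ≫ p = B.1.1.ι := fun B => Sigma.ι_desc _ _
  have : IsLocallyNoetherian (∐ W) := (isLocallyNoetherian_iff_openCover (sigmaOpenCover W)).2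
    (fun B => inferInstanceAs (IsLocallyNoetherian (W B)))
  have : Flat p := (IsZariskiLocalAtSource.iff_of_openCover (P := @Flat) (sigmaOpenCover W)).2 fun B => by
    show Flat (Sigma.ι W B ≫ p)
    rw [hp]
    infer_instance
  let q := p ≫ g
  have : Surjective q := ⟨fun a => by
    obtain ⟨B, hB, x, hx, rfl⟩ := Set.mem_iUnion₂.1 (hs (Set.mem_univ a))
    refine ⟨Sigma.ι W ⟨B, hB⟩ ⟨x, hx⟩, ?_⟩
    rw [← Scheme.Hom.comp_apply, ← Category.assoc, hp]
    rfl⟩
  have : Flat q := inferInstance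
  have : IsAffine (∐ W) := inferInstance
  have : IsNoetherianRing Γ(∐ W, ⊤) :=
    IsLocallyNoetherian.component_noetherian ⟨⊤, isAffineOpen_top _⟩
  have : IsAffine (A.1 : Scheme) := A.2
  have hff := HasRingHomProperty.appTop (P := @Flat) q ‹_›
  let e₁ := (∐ W).isoSpec
  have key : Spec.map q.appTop = (∐ W).isoSpec.inv ≫ q ≫ A.1.toScheme.isoSpec.hom := by
    rw [Iso.eq_inv_comp]
    exact (Scheme.isoSpec_hom_naturality q)
  have : Flat (Spec.map q.appTop) := by rw [key]; infer_instance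
  have : Surjective (Spec.map q.appTop) := by rw [key]; infer_instance
  have := isNoetherianRing_of_fppf _ (SourceDescent.faithfullyFlat_of_spec q.appTop)
  exact isNoetherianRing_of_ringEquiv _ A.1.topIso.commRingCatIsoToRingEquiv

variable {S : Scheme.{u}} {𝒳 𝒴 : AlgSt.Cat S}

theorem smoothLocally_noetherian_of_chart (h𝒳 : AlgSt.IsAlgStack Scheme.fppfPrecoverage 𝒳) {U : Over S}
    {x : FibCat.overCat U ⥤ᵇ 𝒳} (hx : AlgSt.RepByAlgSpWith (LocP @Smooth) x)
    (hxs : AlgSt.RepByAlgSpWith IsSurjectiveMor x) [IsLocallyNoetherian U.left] :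
    AlgSt.SmoothLocally (fun T ↦ IsLocallyNoetherian T) 𝒳 := fun V v hv => by
  obtain ⟨W, c, j, q, hc, hj, h1, -, hq⟩ := exists_scheme_fp (P := @Smooth) hx v
  have : Smooth j.left := hj
  have : Smooth q.left := hq @Smooth isLocalOnBase_fppf_locP hv
  have : Surjective j.left := ⟨surjective_of_scheme_fp h𝒳.isStack.1 (isSurjective_of_repWith h𝒳.isStack.1 hxs) hc h1⟩
  have : IsLocallyNoetherian W.left := LocallyOfFiniteType.isLocallyNoetherian q.left
  exact isLocallyNoetherian_of_fppf j.left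

theorem smoothLocally_noetherian_of_lft (h𝒳 : AlgSt.IsAlgStack Scheme.fppfPrecoverage 𝒳) {f : 𝒳 ⥤ᵇ 𝒴}
    (hf : AlgSt.LocQ (LocP @LocallyOfFiniteType) f) (hN : AlgSt.SmoothLocally (fun T ↦ IsLocallyNoetherian T) 𝒴) :
    AlgSt.SmoothLocally (fun T ↦ IsLocallyNoetherian T) 𝒳 := by
  obtain ⟨U, V, x, y, h, -, hx, hxs, hy, hh⟩ := hf
  have : IsLocallyNoetherian V.left := hN V y hy
  have : LocallyOfFiniteType h.left :=
    hh (𝟙 _) (𝟙 _) h (AlgSp.repWith_id _ U) (AlgSp.repWith_id _ V) (by simp)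
  have : IsLocallyNoetherian U.left := LocallyOfFiniteType.isLocallyNoetherian h.left
  exact smoothLocally_noetherian_of_chart h𝒳 hx hxs

/-- Immersions into locally Noetherian stacks are quasi-compact. -/
theorem isQuasiCompactMor_of_isImm (h𝒳 : AlgSt.IsAlgStack Scheme.fppfPrecoverage 𝒳)
    (h𝒴 : AlgSt.IsAlgStack Scheme.fppfPrecoverage 𝒴) {j : 𝒳 ⥤ᵇ 𝒴} (hj : AlgSt.IsImm j)
    (hN : AlgSt.SmoothLocally (fun T ↦ IsLocallyNoetherian T) 𝒴) :
    AlgSt.IsQuasiCompactMor Scheme.fppfPrecoverage j := by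
  obtain ⟨V, v, hv, hvs⟩ := h𝒴.atlas
  have : IsLocallyNoetherian V.left := hN V v hv
  obtain ⟨F, e, he, hr⟩ := hj V v
  let r : F.obj ⟶ (yon S).obj V := AlgSt.spMapOfOver (BasedFunctor.comp e (FibCat.fpFst v j))
  obtain ⟨W, k, fst, sq⟩ := hr.1 (𝟙 _)
  have hk : IsImmersion k.left := hr.2 _ fst k sq
  have hkq : QuasiCompact k.left := by
    rw [← Scheme.Hom.liftCoborder_ι k.left]
    infer_instance
  have : IsIso fst := sq.isIso_fst_of_isIso
  have hq : RepWith @QuasiCompact r := by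
    have e1 : r = inv fst ≫ (yon S).map k := by
      rw [IsIso.eq_inv_comp]; simpa using sq.w
    rw [e1]
    exact repWith_comp (repWith_iso _) ((repWith_yon_map_iff @QuasiCompact k).2 hkq)
  have h1 : AlgSt.RepByAlgSpWith AlgSp.IsQuasiCompactMor (AlgSt.ofSpMap r) :=
    repWith_ofSpMap (A := F) (B := ⟨_, IsAlgSpace.yon_obj V⟩) r fun c =>
      isQuasiCompactMor_of_repWith (isAlgSpace_pullback c r (IsAlgSpace.yon_obj _) F.property (IsAlgSpace.yon_obj V))
        (IsAlgSpace.yon_obj _) (repWith_baseChange (IsPullback.of_hasPullback c r).flip hq)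
  let b₀ := BasedFunctor.comp (BasedFunctor.comp e (FibCat.fpFst v j)) (AlgSt.ofOverCat V)
  have h2 : AlgSt.RepByAlgSpWith AlgSp.IsQuasiCompactMor b₀ :=
    repWith_of_iso (ofPshMapIso b₀ ≪≫ eqToIso (by congr 1)).symm h1
  have h3 : AlgSt.RepByAlgSpWith AlgSp.IsQuasiCompactMor (FibCat.fpFst v j) :=
    (repWith_comp_equiv he).1 ((repWith_equiv_comp (ofOverCat_isEquivOver V)).1 h2)
  have hfl : FppfMor v := ⟨repWith_mono_prop (fun _ _ _ _ _ ha => locP_mono (fun _ _ k hk => by
      have : Smooth k := hk; infer_instance) ha) hv,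
    repWith_mono_prop (fun _ _ _ _ _ ha => locP_mono (fun _ _ k hk => by
      have : Smooth k := hk; infer_instance) ha) hv, hvs⟩
  exact (isQuasiCompactMor_iff h𝒳.isStack.1 h𝒴 (rep1_of_with hj)).1
    (repWith_of_fppf_baseChange (isLocalOnBase_fppf isLocalOnBase_isQuasiCompactMor) h𝒳.isStack.1 h𝒴.isStack.1
      (isFibGrpd_overForget V) (rep1_of_with hj) hfl h3)

theorem noetherianSpace_image {A : Type*} [TopologicalSpace A] [TopologicalSpace.NoetherianSpace A] {B : Type*}
    [TopologicalSpace B] {f : A → B} (hf : Continuous f) : TopologicalSpace.NoetherianSpace (Set.range f) :=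
  TopologicalSpace.NoetherianSpace.range f hf

theorem exists_noetherian_nhd (h𝒳 : AlgSt.IsAlgStack Scheme.fppfPrecoverage 𝒳)
    (hN : AlgSt.SmoothLocally (fun T ↦ IsLocallyNoetherian T) 𝒳) (p : AlgSt.Points 𝒳) :
    ∃ (A : Scheme.{u}) (_ : TopologicalSpace.NoetherianSpace A) (φ : A → AlgSt.Points 𝒳),
      Continuous φ ∧ IsOpen (Set.range φ) ∧ p ∈ Set.range φ := by
  obtain ⟨U, u, hu, hus⟩ := h𝒳.atlas
  have : IsLocallyNoetherian U.left := hN U u hu
  obtain ⟨t, rfl⟩ := ofChart_surjective (isSurjective_of_repWith h𝒳.isStack.1 hus) p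
  obtain ⟨_, ⟨A₀, hA, rfl⟩, htA, -⟩ := U.left.isBasis_affineOpens.exists_subset_of_mem_open
    (Set.mem_univ t) isOpen_univ
  let A : U.left.Opens := A₀
  have : IsNoetherianRing Γ(U.left, A) := IsLocallyNoetherian.component_noetherian ⟨A, hA⟩
  have : TopologicalSpace.NoetherianSpace A := noetherianSpace_of_isAffineOpen A hA
  refine ⟨A.toScheme, this, fun a => AlgSt.Points.ofChart u (A.ι a),
    (continuous_ofChart h𝒳 u).comp A.ι.continuous, ?_, ⟨⟨t, htA⟩, rfl⟩⟩
  have e : Set.range (fun a => AlgSt.Points.ofChart u (A.ι a)) = AlgSt.Points.ofChart u '' (A : Set U.left) := by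
    rw [← Scheme.Opens.range_ι, ← Set.range_comp]
    rfl
  rw [e]
  exact isOpenMap_ofChart h𝒳.isStack.1 (repWith_flat_lfp_of_smooth hu) _ A.isOpen

theorem noetherianSpace_points (h𝒳 : AlgSt.IsAlgStack Scheme.fppfPrecoverage 𝒳) (hq : AlgSt.IsQuasiCompact 𝒳)
    (hN : AlgSt.SmoothLocally (fun T ↦ IsLocallyNoetherian T) 𝒳) :
    TopologicalSpace.NoetherianSpace (AlgSt.Points 𝒳) := by
  obtain ⟨U, u, hU, hu, hus⟩ := hq
  have : IsLocallyNoetherian U.left := hN U u hu
  have : IsNoetherianRing Γ(U.left, ⊤) := IsLocallyNoetherian.component_noetherian ⟨⊤, isAffineOpen_top _⟩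
  have : TopologicalSpace.NoetherianSpace U.left := noetherianSpace_of_isAffine
  exact TopologicalSpace.noetherianSpace_of_surjective _ (continuous_ofChart h𝒳 u)
    (ofChart_surjective (isSurjective_of_repWith h𝒳.isStack.1 hus))

/-- A space locally covered by continuous images of Noetherian sober spaces is quasi-sober. -/
theorem exists_isGenericPoint {A : Type*} [TopologicalSpace A] [TopologicalSpace.NoetherianSpace A] [QuasiSober A]
    {B : Type*} [TopologicalSpace B] {φ : A → B} (hφ : Continuous φ) (ho : IsOpen (Set.range φ))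
    {Z : Set B} (hZ : IsIrreducible Z) (hZc : IsClosed Z) (hne : (Z ∩ Set.range φ).Nonempty) :
    ∃ b, IsGenericPoint b Z := by
  classical
  let T := φ ⁻¹' Z
  have hT : IsClosed T := hZc.preimage hφ
  obtain ⟨s, hs, hsc, hsi, hcov⟩ := TopologicalSpace.NoetherianSpace.exists_finite_set_isClosed_irreducible hT
  let C : Set (Set B) := (fun t => closure (φ '' t)) '' s
  have hZcl : closure (Z ∩ Set.range φ) = Z :=
    subset_antisymm (closure_minimal Set.inter_subset_left hZc)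
      (subset_closure_inter_of_isPreirreducible_of_isOpen hZ.2 ho hne)
  have hCc : ∀ c ∈ C, IsClosed c := by
    rintro _ ⟨t, -, rfl⟩
    exact isClosed_closure
  have hsub : Z ⊆ ⋃₀ C := by
    rw [← hZcl]
    refine closure_minimal ?_ (by rw [Set.sUnion_eq_biUnion]; exact (hs.image _).isClosed_biUnion hCc)
    rintro _ ⟨hz, a, rfl⟩
    have : a ∈ ⋃₀ s := hcov ▸ hz
    obtain ⟨t, ht, hat⟩ := this
    exact ⟨_, ⟨t, ht, rfl⟩, subset_closure ⟨a, hat, rfl⟩⟩
  obtain ⟨c, hc, hZt⟩ := isIrreducible_iff_sUnion_isClosed.1 hZ (hs.image (fun t => closure (φ '' t))).toFinset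
    (fun c hc => hCc c ((Set.Finite.mem_toFinset _).1 hc)) (by rw [Set.Finite.coe_toFinset]; exact hsub)
  obtain ⟨t, ht, rfl⟩ := (Set.Finite.mem_toFinset _).1 hc
  obtain ⟨a, ha⟩ := QuasiSober.sober (hsi t ht) (hsc t ht)
  refine ⟨φ a, ?_⟩
  have hsubT : φ '' t ⊆ Z := by
    rintro _ ⟨x, hx, rfl⟩
    exact (hcov.symm ▸ ⟨t, ht, hx⟩ : x ∈ T)
  have := ha.image hφ
  rwa [isGenericPoint_def, (subset_antisymm (closure_minimal hsubT hZc) hZt : closure (φ '' t) = Z),
    ← isGenericPoint_def] at this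

theorem quasiSober_points (h𝒳 : AlgSt.IsAlgStack Scheme.fppfPrecoverage 𝒳)
    (hN : AlgSt.SmoothLocally (fun T ↦ IsLocallyNoetherian T) 𝒳) : QuasiSober (AlgSt.Points 𝒳) := ⟨fun {Z} hZ hZc => by
  obtain ⟨p, hp⟩ := hZ.nonempty
  obtain ⟨A, hA, φ, hφ, ho, hpA⟩ := exists_noetherian_nhd h𝒳 hN p
  exact exists_isGenericPoint hφ ho hZ hZc ⟨p, hp, hpA⟩⟩

end Groth.Agent.AlgStLib
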