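import Groth.Agent.AlgSpLib.FibreProduct
import Groth.Agent.AlgSpLib.DiagMor
import Groth.Agent.AlgSpLib.Points
import Mathlib

/-!
A presheaf over an algebraic space whose fibres over schemes are algebraic spaces is an algebraic space.
-/

set_option autoImplicit false
set_option backward.isDefEq.respectTransparency false
set_option backward.isDefEq.respectTransparency.types false

universe u

open CategoryTheory CategoryTheory.Limits AlgebraicGeometry Opposite AlgSp

namespace Groth.Agent.AlgStLib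

open Groth.Agent Groth.Agent.AlgSpLib

variable {S : Scheme.{u}} {P : (Over S)ᵒᵖ ⥤ Type (u + 1)} {F : Sp S} (a : P ⟶ F.obj)

/-- A sheaf representing the fibre of `a` over a section. -/
structure Fibre {T : Over S} (s : F.obj.obj (op T)) where
  G : Sp S
  π : G ⟶ (yon S).obj T
  c : G.obj ⟶ P
  comm : ∀ (R : Over S) (g : G.obj.obj (op R)),
    a.app (op R) (c.app (op R) g) = F.obj.map (π.hom.app (op R) g).down.op s
  inj : ∀ (R : Over S) (g g' : G.obj.obj (op R)), π.hom.app (op R) g = π.hom.app (op R) g' →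
    c.app (op R) g = c.app (op R) g' → g = g'
  surj : ∀ (R : Over S) (h : R ⟶ T) (p : P.obj (op R)), a.app (op R) p = F.obj.map h.op s →
    ∃ g, π.hom.app (op R) g = ⟨h⟩ ∧ c.app (op R) g = p

theorem isSheaf_of_fibres (h : ∀ (T : Over S) (s : F.obj.obj (op T)), Nonempty (Fibre a s)) :
    Presheaf.IsSheaf (J S) P := by
  rw [isSheaf_iff_isSheaf_of_type]
  intro T R hR x hx
  have hF : Presieve.IsSheafFor F.obj R.arrows := (isSheaf_iff_isSheaf_of_type _ _).1 F.property R hR
  let y : Presieve.FamilyOfElements F.obj R.arrows := fun W g hg => a.app (op W) (x g hg)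
  have hy : y.Compatible := fun W₁ W₂ W g₁ g₂ f₁ f₂ h₁ h₂ e => by
    show F.obj.map g₁.op (a.app (op W₁) (x f₁ h₁)) = F.obj.map g₂.op (a.app (op W₂) (x f₂ h₂))
    rw [← NatTrans.naturality_apply, ← NatTrans.naturality_apply, hx g₁ g₂ h₁ h₂ e]
  obtain ⟨s, hs, hsu⟩ := hF y hy
  obtain ⟨D⟩ := h T s
  have hG : Presieve.IsSheafFor D.G.obj R.arrows := (isSheaf_iff_isSheaf_of_type _ _).1 D.G.property R hR
  choose g hgπ hgc using fun (W : Over S) (f : W ⟶ T) (hf : R f) => D.surj W f (x f hf) (hs f hf).symm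
  let z : Presieve.FamilyOfElements D.G.obj R.arrows := g
  have hz : z.Compatible := fun W₁ W₂ W g₁ g₂ f₁ f₂ h₁ h₂ e => by
    apply D.inj
    · rw [NatTrans.naturality_apply, NatTrans.naturality_apply, hgπ, hgπ]
      exact congrArg ULift.up e
    · rw [NatTrans.naturality_apply, NatTrans.naturality_apply, hgc, hgc, hx g₁ g₂ h₁ h₂ e]
  obtain ⟨q, hq, hqu⟩ := hG z hz
  refine ⟨D.c.app (op T) q, fun W f hf => ?_, fun p hp => ?_⟩
  · show P.map f.op (D.c.app (op T) q) = x f hf
    rw [← NatTrans.naturality_apply, hq f hf, hgc]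
  · have hap : a.app (op T) p = s := hsu _ fun W f hf => by
      show F.obj.map f.op (a.app (op T) p) = y f hf
      rw [← NatTrans.naturality_apply, hp f hf]
    obtain ⟨q', hq'π, hq'c⟩ := D.surj T (𝟙 T) p (hap.trans (by simp))
    have : q' = q := hqu _ fun W f hf => by
      show D.G.obj.map f.op q' = g W f hf
      apply D.inj
      · rw [NatTrans.naturality_apply, hq'π, hgπ]
        exact congrArg ULift.up (Category.comp_id f)
      · rw [NatTrans.naturality_apply, hq'c, hgc, hp f hf]
    rw [← hq'c, this]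

variable {G : Sp S} {a' : G ⟶ F}

omit a in
theorem sec_symm_app {X : Sp S} {T R : Over S} (s : X.obj.obj (op T)) (h : R ⟶ T) :
    ((J S).uliftYonedaEquiv.{u + 1}.symm s).hom.app (op R) ⟨h⟩ = X.obj.map h.op s := rfl

/-- The square of a fibre is a pullback. -/
theorem Fibre.isPullback {T : Over S} {s : F.obj.obj (op T)} (D : Fibre a'.hom s) :
    IsPullback (ObjectProperty.homMk D.c : D.G ⟶ G) D.π a' ((J S).uliftYonedaEquiv.{u + 1}.symm s) := by
  have w : (ObjectProperty.homMk D.c : D.G ⟶ G) ≫ a' = D.π ≫ (J S).uliftYonedaEquiv.{u + 1}.symm s := by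
    ext R g
    exact (D.comm R.unop g).trans (sec_symm_app s _).symm
  have key : ∀ (c : PullbackCone a' ((J S).uliftYonedaEquiv.{u + 1}.symm s)) (R : Over S) (z : c.pt.obj.obj (op R)),
      ∃ g, D.π.hom.app (op R) g = c.snd.hom.app (op R) z ∧ D.c.app (op R) g = c.fst.hom.app (op R) z := by
    intro c R z
    refine D.surj R (c.snd.hom.app (op R) z).down _ ?_
    exact (congrArg (fun m : c.pt ⟶ F => m.hom.app (op R) z) c.condition).trans
      (sec_symm_app s _)
  choose l hl₁ hl₂ using key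
  refine IsPullback.of_isLimit' ⟨w⟩ (PullbackCone.IsLimit.mk w
    (fun c => ObjectProperty.homMk
      { app := fun R => ↾(l c R.unop)
        naturality := fun R R' g => by
          ext z
          apply D.inj
          · exact (hl₁ c _ _).trans ((NatTrans.naturality_apply c.snd.hom g z).trans
              ((congrArg _ (hl₁ c _ z)).symm.trans (NatTrans.naturality_apply D.π.hom g _).symm))
          · exact (hl₂ c _ _).trans ((NatTrans.naturality_apply c.fst.hom g z).trans
              ((congrArg _ (hl₂ c _ z)).symm.trans (NatTrans.naturality_apply D.c g _).symm)) })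
    (fun c => ?_) (fun c => ?_) (fun c m hm₁ hm₂ => ?_))
  · ext R z; exact hl₂ c _ z
  · ext R z; exact hl₁ c _ z
  · ext R z
    apply D.inj
    · exact (congrArg (fun k : c.pt ⟶ (yon S).obj T => k.hom.app R z) hm₂).trans (hl₁ c _ z).symm
    · exact (congrArg (fun k : c.pt ⟶ G => k.hom.app R z) hm₁).trans (hl₂ c _ z).symm

/-- A sheaf over an algebraic space with algebraic fibres over schemes is an algebraic space. -/
theorem isAlgSpace_of_fibres (hF : IsAlgSpace F) (a' : G ⟶ F)
    (h : ∀ (T : Over S) (s : (yon S).obj T ⟶ F), ∃ (H : Sp S) (c : H ⟶ G) (π : H ⟶ (yon S).obj T),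
      IsAlgSpace H ∧ IsPullback c π a' s) : IsAlgSpace G := by
  have hd : RepWith (⊤ : MorphismProperty Scheme.{u}) (Limits.diag G) := by
    refine repWith_diag_of_pairwise G ⊤ (fun U V a b => ?_) (fun _ _ _ _ _ _ _ _ => trivial)
    obtain ⟨E, p, q, sE⟩ := exists_isPullback (hF.representable_from_yon (a ≫ a')) (b ≫ a')
    obtain ⟨H, c, π, hH, sq⟩ := h E ((yon S).map p ≫ a ≫ a')
    let σ₁ := sq.lift ((yon S).map p ≫ a) (𝟙 _) (by simp)
    let σ₂ := sq.lift ((yon S).map q ≫ b) (𝟙 _) (by simp [sE.w])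
    obtain ⟨W, w₁, w₂, sW⟩ := exists_isPullback (hH.representable_from_yon σ₁) σ₂
    have e₁ : (yon S).map w₁ = (yon S).map w₂ := by
      have := congrArg (· ≫ π) sW.w
      simpa [σ₁, σ₂] using this
    have wW : (yon S).map w₁ ≫ (yon S).map p ≫ a = (yon S).map w₂ ≫ (yon S).map q ≫ b := by
      have := congrArg (· ≫ c) sW.w
      simpa [σ₁, σ₂] using this
    refine ⟨W, w₁ ≫ p, w₂ ≫ q, ?_⟩
    have w : (yon S).map (w₁ ≫ p) ≫ a = (yon S).map (w₂ ≫ q) ≫ b := by
      simpa [Functor.map_comp] using wW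
    have key : ∀ k : PullbackCone a b, ∃ l : k.pt ⟶ (yon S).obj W, l ≫ (yon S).map (w₁ ≫ p) = k.fst ∧
        l ≫ (yon S).map (w₂ ≫ q) = k.snd ∧ ∀ l' : k.pt ⟶ (yon S).obj W,
          l' ≫ (yon S).map (w₁ ≫ p) = k.fst → l' ≫ (yon S).map (w₂ ≫ q) = k.snd → l' = l := by
      intro k
      let e := sE.lift k.fst k.snd (by rw [reassoc_of% k.condition])
      have hσ : e ≫ σ₁ = e ≫ σ₂ := by
        apply sq.hom_ext
        · simp only [Category.assoc, σ₁, σ₂, IsPullback.lift_fst]
          rw [← Category.assoc, sE.lift_fst, ← Category.assoc, sE.lift_snd, k.condition]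
        · simp [σ₁, σ₂]
      refine ⟨sW.lift e e hσ, ?_, ?_, fun l' h₁ h₂ => ?_⟩
      · rw [Functor.map_comp, ← Category.assoc, sW.lift_fst, sE.lift_fst]
      · rw [Functor.map_comp, ← Category.assoc, sW.lift_snd, sE.lift_snd]
      · have he : l' ≫ (yon S).map w₁ = e := by
          apply sE.hom_ext
          · rw [Category.assoc, ← Functor.map_comp, h₁, sE.lift_fst]
          · rw [e₁, Category.assoc, ← Functor.map_comp, h₂, sE.lift_snd]
        apply sW.hom_ext
        · rw [sW.lift_fst, he]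
        · rw [sW.lift_snd, ← e₁, he]
    choose l hl₁ hl₂ hl₃ using key
    exact IsPullback.of_isLimit' ⟨w⟩ (PullbackCone.IsLimit.mk w l hl₁ hl₂ hl₃)
  obtain ⟨U, r, hr, hrs⟩ := hF.atlas
  obtain ⟨H, c, π, hH, sq⟩ := h U r
  obtain ⟨W, d, hd', hds⟩ := hH.atlas
  exact ⟨hd.rep, W, d ≫ c, repWith_comp hd' (repWith_baseChange sq.flip hr),
    repWith_comp hds (repWith_baseChange sq.flip hrs)⟩

end Groth.Agent.AlgStLib
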