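import Groth.Agent.FibBasics.Yoneda
import Groth.Agent.AlgSpLib.Points
import Groth.Agent.AlgSpLib.FibreProduct
import Groth.Agent.AlgSpLib.LocP
import Groth.Prelude.Def_AlgSt3
import Groth.Prelude.Def_W4c2isonaturalstkIso
import Mathlib

/-!
Functors from slices representable by algebraic spaces: field-valued surjectivity, change of chart.
-/

set_option autoImplicit false
set_option backward.isDefEq.respectTransparency.types false

universe u

open CategoryTheory CategoryTheory.Limits CategoryTheory.Functor AlgebraicGeometry Opposite AlgSp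

namespace Groth.Agent.AlgStLib

open Groth.Agent Groth.Agent.FibBasics Groth.Agent.AlgSpLib

variable {S : Scheme.{u}}


/-- Morphisms of slices. -/
theorem slice_map_lift {U : Over S} {𝒴 : AlgSt.Cat S} (y : FibCat.overCat U ⥤ᵇ 𝒴) {T T' : Over S}
    (g : T' ⟶ T) (b : T ⟶ U) (b' : T' ⟶ U) (w : g ≫ b = b') :
    𝒴.p.IsHomLift g (y.map (Over.homMk g w : Over.mk b' ⟶ Over.mk b)) :=
  based_lift y (Over.homMk g w : (Over.mk b' : (FibCat.overCat U).obj) ⟶ Over.mk b)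

/-- An object of the slice over `T` is `T` with its structure morphism. -/
theorem exists_mk_hom {U : Over S} {𝒴 : AlgSt.Cat S} (y : FibCat.overCat U ⥤ᵇ 𝒴) (a : (FibCat.overCat U).obj)
    {T : Over S} (h : (FibCat.overCat U).p.obj a = T) :
    ∃ (φ : y.obj (Over.mk (eqToHom h.symm ≫ a.hom)) ⟶ y.obj a) (ψ : y.obj a ⟶ y.obj (Over.mk (eqToHom h.symm ≫ a.hom))),
      𝒴.p.IsHomLift (𝟙 T) φ ∧ 𝒴.p.IsHomLift (𝟙 T) ψ := by
  subst h
  let b : (FibCat.overCat U).obj := Over.mk (eqToHom (rfl : (FibCat.overCat U).p.obj a = _).symm ≫ a.hom)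
  let h₁ : b ⟶ a := (Over.homMk (𝟙 a.left) (show 𝟙 a.left ≫ a.hom = 𝟙 a.left ≫ a.hom from rfl))
  let h₂ : a ⟶ b := (Over.homMk (𝟙 a.left) (show 𝟙 a.left ≫ 𝟙 a.left ≫ a.hom = a.hom by simp))
  exact ⟨y.map h₁, y.map h₂, based_lift y h₁, based_lift y h₂⟩

/-- Two morphisms over the same morphism with a common target, in a category fibred in groupoids. -/
theorem exists_compare {𝒴 : AlgSt.Cat S} (h𝒴 : FibCat.IsFibGrpd 𝒴.p) {R T : Over S} (g : R ⟶ T)
    {a b c : 𝒴.obj} (φ : a ⟶ c) (ψ : b ⟶ c) (hφ : 𝒴.p.IsHomLift g φ) (hψ : 𝒴.p.IsHomLift g ψ) :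
    ∃ χ : a ≅ b, 𝒴.p.IsHomLift (𝟙 R) χ.hom := by
  have := stronglyCartesian_of_isFibGrpd 𝒴.p h𝒴 g φ
  have := stronglyCartesian_of_isFibGrpd 𝒴.p h𝒴 g ψ
  exact ⟨IsCartesian.domainUniqueUpToIso 𝒴.p g ψ φ, inferInstance⟩

theorem hom_of_cls_eq {𝒴 : AlgSt.Cat S} {T : Over S} {a b : 𝒴.p.Fiber T} (h : IsoNat.cls a = IsoNat.cls b) :
    ∃ φ : a.1 ⟶ b.1, 𝒴.p.IsHomLift (𝟙 T) φ :=
  (Quotient.exact h).elim fun e => ⟨e.hom.1, e.hom.2⟩

theorem conj_comp {C : Type*} [Category C] {A A' B B' Z : C} (hA : A = A') (hB : B = B') (f : A' ⟶ B')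
    (g : B' ⟶ Z) : (eqToHom hA ≫ f ≫ eqToHom hB.symm) ≫ eqToHom hB ≫ g = eqToHom hA ≫ f ≫ g := by
  subst hA hB; simp

/-- Lifts of composites. -/
theorem lift₃ {𝒳 : AlgSt.Cat S} {R T : Over S} {g : R ⟶ T} {a b c d : 𝒳.obj} {φ : a ⟶ b} {ψ : b ⟶ c}
    {χ : c ⟶ d} (h₁ : 𝒳.p.IsHomLift (𝟙 R) φ) (h₂ : 𝒳.p.IsHomLift g ψ) (h₃ : 𝒳.p.IsHomLift (𝟙 T) χ) :
    𝒳.p.IsHomLift g ((φ ≫ ψ) ≫ χ) := by
  infer_instance

/-- Points of fibre products. -/
theorem exists_point_pullback {A B C D : Scheme.{u}} {fst : A ⟶ B} {snd : A ⟶ C} {f : B ⟶ D} {g : C ⟶ D}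
    (sq : IsPullback fst snd f g) {x₁ : B} {x₂ : C} (h : f x₁ = g x₂) : ∃ p : A, fst p = x₁ ∧ snd p = x₂ := by
  obtain ⟨z, h₁, h₂⟩ := Scheme.Pullback.exists_preimage_pullback x₁ x₂ h
  exact ⟨sq.isoPullback.inv z, by rw [← Scheme.Hom.comp_apply, sq.isoPullback_inv_fst, h₁],
    by rw [← Scheme.Hom.comp_apply, sq.isoPullback_inv_snd, h₂]⟩

/-- Lifts of composites. -/
theorem lift₅ {𝒳 : AlgSt.Cat S} {R T T' : Over S} {g : R ⟶ T} {g' : T ⟶ T'} {a b c d e f : 𝒳.obj} {φ : a ⟶ b}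
    {ψ : b ⟶ c} {χ : c ⟶ d} {μ : d ⟶ e} {ν : e ⟶ f} (h₁ : 𝒳.p.IsHomLift (𝟙 R) φ) (h₂ : 𝒳.p.IsHomLift (𝟙 R) ψ)
    (h₃ : 𝒳.p.IsHomLift (𝟙 R) χ) (h₄ : 𝒳.p.IsHomLift g μ) (h₅ : 𝒳.p.IsHomLift g' ν) :
    𝒳.p.IsHomLift (g ≫ g') ((((φ ≫ ψ) ≫ χ) ≫ μ) ≫ ν) := by
  infer_instance

section Fp

variable {U V : Over S} {𝒴 : AlgSt.Cat S} {y : FibCat.overCat U ⥤ᵇ 𝒴}

/-- The defining morphism of a section of a representing space, general source. -/
theorem exists_hom_of_sec {𝒳 : AlgSt.Cat S} {f : 𝒳 ⥤ᵇ 𝒴} {F : Sp S} (e : AlgSt.ofSp F ⥤ᵇ FibCat.fp y f)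
    {T : Over S} (s : F.obj.obj (op T)) :
    ∃ (φ : f.obj ((FibCat.fpSnd y f).obj (e.obj ⟨T, s⟩)) ⟶
      y.obj (Over.mk (AlgSt.secHom (BasedFunctor.comp e (FibCat.fpFst y f)) ⟨T, s⟩))),
      𝒴.p.IsHomLift (𝟙 T) φ := by
  let ξ := e.obj (⟨T, s⟩ : (AlgSt.ofSp F).obj)
  obtain ⟨-, ψ, -, hψ⟩ := exists_mk_hom y ξ.obj.fst (T := T) (e.w_obj ⟨T, s⟩)
  have hi : 𝒴.p.IsHomLift (𝟙 T) ξ.obj.iso.hom := by
    have h := ξ.property
    rwa [FibCat.fpProp, show (FibCat.overCat U).p.obj ξ.obj.fst = T from e.w_obj ⟨T, s⟩] at h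
  have := hi
  have := hψ
  have hinv : 𝒴.p.IsHomLift (𝟙 T) ξ.obj.iso.inv := IsHomLift.lift_id_inv 𝒴.p T ξ.obj.iso
  exact ⟨ξ.obj.iso.inv ≫ ψ, IsHomLift.comp_of_lift_id 𝒴.p T ξ.obj.iso.inv ψ⟩

/-- Field-valued surjectivity of the base change of `f` along `y`. -/
def FieldSurj {𝒳 : AlgSt.Cat S} (y : FibCat.overCat U ⥤ᵇ 𝒴) (f : 𝒳 ⥤ᵇ 𝒴) : Prop :=
  ∀ (K : Type u) [Field K] (str : Spec (CommRingCat.of K) ⟶ S) (t : Over.mk str ⟶ U),
    ∃ (K' : Type u) (_ : Field K') (str' : Spec (CommRingCat.of K') ⟶ S) (g : Over.mk str' ⟶ Over.mk str)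
      (a : 𝒳.obj) (φ : f.obj a ⟶ y.obj (Over.mk t)), 𝒴.p.IsHomLift g φ

theorem surjective_of_fieldSurj {𝒳 : AlgSt.Cat S} {f : 𝒳 ⥤ᵇ 𝒴} (h𝒴 : FibCat.IsFibGrpd 𝒴.p) {F : Sp S}
    {e : AlgSt.ofSp F ⥤ᵇ FibCat.fp y f} (he : FibCat.IsEquivOver e) (h : FieldSurj y f) :
    IsSurjectiveMor (AlgSt.spMapOfOver (BasedFunctor.comp e (FibCat.fpFst y f))) := by
  intro x
  obtain ⟨p, hp⟩ := exists_ofPt x
  obtain ⟨t, ht⟩ := (yon S).map_surjective p.toHom
  obtain ⟨K', _, str', g, a, φ, hφ⟩ := h p.K p.str t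
  have hm : 𝒴.p.IsHomLift g (y.map (Over.homMk g rfl : Over.mk (g ≫ t) ⟶ Over.mk t)) := slice_map_lift y _ _ _ rfl
  obtain ⟨χ, hχ⟩ := exists_compare h𝒴 g _ φ hm hφ
  let η : (FibCat.fp y f).obj :=
    ⟨{ fst := Over.mk (g ≫ t), snd := a, iso := χ }, hχ⟩
  obtain ⟨⟨T, s⟩, ε, hε⟩ := essSurjOver_of_isEquivOver he η
  have hbase : T = Over.mk str' := (e.w_obj ⟨T, s⟩).symm.trans
    (@IsHomLift.domain_eq _ _ _ _ (FibCat.fp y f).p _ _ _ _ _ ε.hom hε)
  subst hbase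
  have h1 : (FibCat.overCat U).p.IsHomLift (𝟙 (Over.mk str')) ε.hom.hom.fst :=
    have : (FibCat.fp y f).p.IsHomLift (𝟙 (Over.mk str')) ε.hom := hε; fp_lift_fst _ ε.hom
  have hsec : AlgSt.secHom (BasedFunctor.comp e (FibCat.fpFst y f)) ⟨Over.mk str', s⟩ = g ≫ t := by
    have hw : ε.hom.hom.fst.left ≫ (g ≫ t) = (e.obj ⟨Over.mk str', s⟩).obj.fst.hom := Over.w ε.hom.hom.fst
    have hl : ε.hom.hom.fst.left = eqToHom _ ≫ 𝟙 (Over.mk str') ≫ eqToHom _ :=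
      IsHomLift.fac' (FibCat.overCat U).p (𝟙 (Over.mk str')) ε.hom.hom.fst
    rw [AlgSt.secHom]
    refine (congrArg (eqToHom _ ≫ ·) hw.symm).trans ?_
    rw [hl]
    simp
  let σ : (yon S).obj (Over.mk str') ⟶ F := (J S).uliftYonedaEquiv.symm s
  have hσ : σ ≫ AlgSt.spMapOfOver (BasedFunctor.comp e (FibCat.fpFst y f)) = (yon S).map (g ≫ t) := by
    apply (J S).uliftYonedaEquiv.injective
    rw [GrothendieckTopology.uliftYonedaEquiv_comp, Equiv.apply_symm_apply, AlgSt.spMapOfOver_app, hsec]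
    rfl
  let w₀ : ↥(Over.mk str').left := (IsLocalRing.closedPoint K' : PrimeSpectrum K')
  refine ⟨Points.ofPt σ w₀, ?_⟩
  rw [Points.map_ofPt, hσ, Functor.map_comp, ofPt_comp, ht]
  exact hp _

theorem fieldSurj_of_surjective {𝒳 : AlgSt.Cat S} {f : 𝒳 ⥤ᵇ 𝒴} {F : Sp S}
    {e : AlgSt.ofSp F ⥤ᵇ FibCat.fp y f}
    (h : IsSurjectiveMor (AlgSt.spMapOfOver (BasedFunctor.comp e (FibCat.fpFst y f)))) : FieldSurj y f := by
  intro K _ str t
  let t₀ : ↥(Over.mk str).left := (IsLocalRing.closedPoint K : PrimeSpectrum K)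
  obtain ⟨z, hz⟩ := h (Points.ofPt ((yon S).map t) t₀)
  obtain ⟨p, hp⟩ := exists_ofPt z
  let s₀ : ↥p.pt.left := (IsLocalRing.closedPoint p.K : PrimeSpectrum p.K)
  obtain ⟨q, hq⟩ := (yon S).map_surjective (p.toHom ≫ AlgSt.spMapOfOver (BasedFunctor.comp e (FibCat.fpFst y f)))
  have hpt : Points.ofPt ((yon S).map q) s₀ = Points.ofPt ((yon S).map t) t₀ := by
    rw [hq, ← Points.map_ofPt, hp, hz]
  obtain ⟨P, p₁, p₂, sP⟩ : ∃ (P : Over S) (p₁ : P ⟶ p.pt) (p₂ : P ⟶ Over.mk str), IsPullback p₁ p₂ q t :=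
    ⟨_, _, _, IsPullback.of_hasPullback q t⟩
  obtain ⟨w, -, -⟩ := (ofPt_eq_iff (yon_isPullback sP) s₀ t₀).1 hpt
  let str' : Spec (CommRingCat.of ↥(P.left.residueField w)) ⟶ S := P.left.fromSpecResidueField w ≫ P.hom
  let j : Over.mk str' ⟶ P := Over.homMk (P.left.fromSpecResidueField w) rfl
  let σ : (yon S).obj (Over.mk str') ⟶ F := (yon S).map (j ≫ p₁) ≫ p.toHom
  let s := (J S).uliftYonedaEquiv σ
  have hsec : AlgSt.secHom (BasedFunctor.comp e (FibCat.fpFst y f)) ⟨Over.mk str', s⟩ = (j ≫ p₂) ≫ t := by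
    have h1 := AlgSt.spMapOfOver_app (BasedFunctor.comp e (FibCat.fpFst y f)) _ s
    rw [← GrothendieckTopology.uliftYonedaEquiv_comp] at h1
    have h2 : σ ≫ AlgSt.spMapOfOver (BasedFunctor.comp e (FibCat.fpFst y f)) = (yon S).map ((j ≫ p₂) ≫ t) := by
      simp only [σ]
      rw [Category.assoc, ← hq, ← Functor.map_comp, Category.assoc, sP.w, Category.assoc]
    rw [h2] at h1
    exact (congrArg ULift.down h1).symm
  obtain ⟨φ, hφ⟩ := exists_hom_of_sec e s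
  have hm := slice_map_lift y (j ≫ p₂) t _ hsec.symm
  refine ⟨_, inferInstance, str', j ≫ p₂, _, φ ≫ y.map (Over.homMk (j ≫ p₂) hsec.symm :
    Over.mk (AlgSt.secHom (BasedFunctor.comp e (FibCat.fpFst y f)) ⟨Over.mk str', s⟩) ⟶ Over.mk t), ?_⟩
  have := hφ
  have := hm
  infer_instance

end Fp

section Chart

variable {U V V₀ : Over S} {𝒴 : AlgSt.Cat S} (y : FibCat.overCat U ⥤ᵇ 𝒴) (z : FibCat.overCat V ⥤ᵇ 𝒴)
  (k : V₀ ⟶ V)

/-- Base change of a representing space along a morphism of charts. -/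
theorem exists_rep_overMap {F : AlgSp.Space S} {e : AlgSt.ofSp F.obj ⥤ᵇ FibCat.fp y z}
    (he : FibCat.IsEquivOver e) :
    ∃ (P : AlgSp.Space S) (q : P.obj ⟶ F.obj) (q' : P.obj ⟶ (yon S).obj V₀)
      (e' : AlgSt.ofSp P.obj ⥤ᵇ FibCat.fp y (BasedFunctor.comp (AlgSt.overMap k) z)),
      IsPullback q q' (AlgSt.spMapOfOver (BasedFunctor.comp e (FibCat.fpSnd y z))) ((yon S).map k) ∧
      FibCat.IsEquivOver e' ∧
      AlgSt.spMapOfOver (BasedFunctor.comp e' (FibCat.fpFst y (BasedFunctor.comp (AlgSt.overMap k) z))) =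
        q ≫ AlgSt.spMapOfOver (BasedFunctor.comp e (FibCat.fpFst y z)) := by
  obtain ⟨⟨_, _⟩, hes⟩ := (isEquivOver_iff e).1 he
  let Φ := BasedFunctor.comp e (FibCat.fpSnd y z)
  let π₂ := AlgSt.spMapOfOver Φ
  have sq := IsPullback.of_hasPullback π₂ ((yon S).map k)
  let P : AlgSp.Space S := ⟨pullback π₂ ((yon S).map k),
    isAlgSpace_of_isPullback sq F.property (IsAlgSpace.yon_obj _) (IsAlgSpace.yon_obj _)⟩
  let q : P.obj ⟶ F.obj := pullback.fst π₂ ((yon S).map k)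
  let q' : P.obj ⟶ (yon S).obj V₀ := pullback.snd π₂ ((yon S).map k)
  let A : (AlgSt.ofSp P.obj).obj ⥤ (AlgSt.ofSp F.obj).obj := (AlgSt.ofSpMap q).toFunctor
  have hA₀ : ∀ {a b : (AlgSt.ofSp P.obj).obj} (f : a ⟶ b), (A.map f).hom = f.hom := fun _ => rfl
  let G : (a : (AlgSt.ofSp P.obj).obj) → ((AlgSt.ofSp F.obj).p.obj (A.obj a) ⟶ V₀) := fun a => (q'.hom.app (op a.base) a.sec).down
  have hG : ∀ a, G a ≫ k = AlgSt.secHom Φ (A.obj a) := fun a => by
    have h := congrArg (fun m : P.obj ⟶ (yon S).obj V => m.hom.app (op a.base) a.sec) sq.w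
    exact (congrArg ULift.down h).symm
  have hG' : ∀ {a b : (AlgSt.ofSp P.obj).obj} (f : a ⟶ b), (AlgSt.ofSp F.obj).p.map (A.map f) ≫ G b = G a := fun {a b} f => by
    have h := congrArg ULift.down (NatTrans.naturality_apply q'.hom f.hom.op b.sec)
    rw [f.map_sec] at h
    exact h.symm
  let c : (a : (AlgSt.ofSp P.obj).obj) → (FibCat.overCat V₀).obj := fun a =>
    Over.mk (eqToHom (Φ.w_obj (A.obj a)) ≫ G a)
  have hc : ∀ a, (c a).hom ≫ k = (Φ.obj (A.obj a)).hom := fun a => by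
    show (eqToHom (Φ.w_obj (A.obj a)) ≫ G a) ≫ k = _
    rw [Category.assoc, hG, AlgSt.secHom]
    simp
  let ι : (a : (AlgSt.ofSp P.obj).obj) → ((Φ.obj (A.obj a)) ≅ (AlgSt.overMap k).obj (c a)) := fun a =>
    Over.isoMk (Iso.refl _) ((Category.id_comp _).trans (hc a))
  let e'₀ : (AlgSt.ofSp P.obj).obj ⥤ (FibCat.fp y (BasedFunctor.comp (AlgSt.overMap k) z)).obj :=
    { obj := fun a => ⟨{ fst := (e.obj (A.obj a)).obj.fst
                         snd := c a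
                         iso := (e.obj (A.obj a)).obj.iso ≪≫ z.toFunctor.mapIso (ι a) },
        by
          have h1 : 𝒴.p.IsHomLift (𝟙 ((FibCat.overCat U).p.obj (e.obj (A.obj a)).obj.fst))
            (e.obj (A.obj a)).obj.iso.hom := (e.obj (A.obj a)).property
          have h2 : (FibCat.overCat V).p.IsHomLift (𝟙 ((FibCat.overCat U).p.obj (e.obj (A.obj a)).obj.fst))
              (ι a).hom := by
            rw [← fp_snd_proj (e.obj (A.obj a))]
            exact IsHomLift.map (FibCat.overCat V).p (ι a).hom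
          have := h1
          have := h2
          show 𝒴.p.IsHomLift (𝟙 ((FibCat.overCat U).p.obj (e.obj (A.obj a)).obj.fst))
            ((e.obj (A.obj a)).obj.iso.hom ≫ z.map (ι a).hom)
          have h3 : 𝒴.p.IsHomLift (𝟙 ((FibCat.overCat U).p.obj (e.obj (A.obj a)).obj.fst)) (z.map (ι a).hom) :=
            (BasedFunctor.isHomLift_iff z _ _).2 h2
          exact @IsHomLift.comp_of_lift_id _ _ _ _ 𝒴.p _ _ _ _ (e.obj (A.obj a)).obj.iso.hom (z.map (ι a).hom) h1 h3⟩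
      map := fun {a b} f => fpHom (e.map (A.map f)).hom.fst
        (Over.homMk (Φ.map (A.map f)).left (by
          show (Φ.map (A.map f)).left ≫ eqToHom (Φ.w_obj (A.obj b)) ≫ G b = eqToHom (Φ.w_obj (A.obj a)) ≫ G a
          have h : (Φ.map (A.map f)).left = eqToHom (Φ.w_obj (A.obj a)) ≫ (AlgSt.ofSp F.obj).p.map (A.map f) ≫ eqToHom (Φ.w_obj (A.obj b)).symm :=
            IsHomLift.fac' (FibCat.overCat V).p ((AlgSt.ofSp F.obj).p.map (A.map f)) (Φ.map (A.map f))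
          refine (congrArg (· ≫ eqToHom (Φ.w_obj (A.obj b)) ≫ G b) h).trans ?_
          exact (conj_comp (Φ.w_obj (A.obj a)) (Φ.w_obj (A.obj b)) _ (G b)).trans
            (congrArg (eqToHom (Φ.w_obj (A.obj a)) ≫ ·) (hG' f))) : c a ⟶ c b)
        (by
          show y.map (e.map (A.map f)).hom.fst ≫ (e.obj (A.obj b)).obj.iso.hom ≫ z.map (ι b).hom =
            ((e.obj (A.obj a)).obj.iso.hom ≫ z.map (ι a).hom) ≫ z.map _
          rw [← Category.assoc, (e.map (A.map f)).hom.w, Category.assoc, Category.assoc, ← z.toFunctor.map_comp,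
            ← z.toFunctor.map_comp]
          congr 2)
      map_id := fun a => fp_hom_ext
        (by simp [fpHom] <;> rfl) (Over.OverMorphism.ext (by simp [fpHom] <;> rfl))
      map_comp := fun f g => fp_hom_ext (by simp [fpHom]) (Over.OverMorphism.ext (by simp [fpHom]; rfl)) }
  let e' : AlgSt.ofSp P.obj ⥤ᵇ FibCat.fp y (BasedFunctor.comp (AlgSt.overMap k) z) :=
    { toFunctor := e'₀
      w := CategoryTheory.Functor.ext (fun a => e.w_obj (A.obj a)) (fun a b f => by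
        exact Functor.congr_hom e.w (A.map f)) }
  refine ⟨P, q, q', e', sq, ?_, ?_⟩
  · have : e'.toFunctor.Faithful := ⟨fun {a b f g} h => by
      have h1 : e.map (A.map f) = e.map (A.map g) := fp_hom_ext (congrArg (fun m => m.hom.fst) h)
        (Over.OverMorphism.ext (congrArg (fun m => m.hom.snd.left) h))
      exact Stk.EltObj.hom_ext ((hA₀ f).symm.trans ((congrArg Stk.EltObj.Hom.hom (e.toFunctor.map_injective h1)).trans (hA₀ g)))⟩
    have : e'.toFunctor.Full := ⟨fun {a b} m => by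
      let n : e.obj (A.obj a) ⟶ e.obj (A.obj b) := fpHom m.hom.fst
        ((ι a).hom ≫ (AlgSt.overMap k).map m.hom.snd ≫ (ι b).inv)
        (by
          have hw : y.map m.hom.fst ≫ (e.obj (A.obj b)).obj.iso.hom ≫ z.map (ι b).hom =
              ((e.obj (A.obj a)).obj.iso.hom ≫ z.map (ι a).hom) ≫ z.map ((AlgSt.overMap k).map m.hom.snd) :=
            m.hom.w
          rw [z.toFunctor.map_comp, z.toFunctor.map_comp, ← reassoc_of% hw, ← z.toFunctor.map_comp]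
          simp)
      obtain ⟨ψ, hψ⟩ := e.toFunctor.map_surjective n
      have h1 : (Φ.map ψ).left = m.hom.snd.left := by
        show (e.map ψ).hom.snd.left = _
        rw [hψ]
        simp [n, fpHom, ι]
        rfl
      have h2 : (Φ.map ψ).left = eqToHom (Φ.w_obj (A.obj a)) ≫ ψ.hom ≫ eqToHom (Φ.w_obj (A.obj b)).symm :=
        IsHomLift.fac' (FibCat.overCat V).p ((AlgSt.ofSp F.obj).p.map ψ) (Φ.map ψ)
      have h3 : ψ.hom ≫ G b = G a := by
        have h : m.hom.snd.left ≫ eqToHom (Φ.w_obj (A.obj b)) ≫ G b = eqToHom (Φ.w_obj (A.obj a)) ≫ G a :=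
          Over.w m.hom.snd
        rw [← h1, h2] at h
        simpa using (cancel_epi (eqToHom (Φ.w_obj (A.obj a)))).1 (by simpa using h)
      let g' : a.base ⟶ b.base := ψ.hom
      have h4 : P.obj.obj.map g'.op b.sec = a.sec := by
        let eqv : ((yon S).obj a.base ⟶ P.obj) ≃ P.obj.obj.obj (op a.base) := (J S).uliftYonedaEquiv
        apply eqv.symm.injective
        simp only [eqv]
        rw [← GrothendieckTopology.uliftYonedaEquiv_symm_naturality_left]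
        apply sq.hom_ext <;>
          rw [Category.assoc, GrothendieckTopology.uliftYonedaEquiv_symm_naturality_right,
            GrothendieckTopology.uliftYonedaEquiv_symm_naturality_right,
            GrothendieckTopology.uliftYonedaEquiv_symm_naturality_left] <;> congr 1
        · exact ψ.map_sec
        · exact ULift.ext _ _ h3
      refine ⟨⟨g', h4⟩, fp_hom_ext ?_ (Over.OverMorphism.ext ?_)⟩
      · show (e.map ψ).hom.fst = _
        rw [hψ]; rfl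
      · exact h1⟩
    refine isEquivOver_of_essSurjOver e' fun η => ?_
    let η₀ : (FibCat.fp y z).obj := ⟨{ fst := η.obj.fst, snd := (AlgSt.overMap k).obj η.obj.snd, iso := η.obj.iso }, η.property⟩
    obtain ⟨ξ, ε, hε⟩ := hes η₀
    have hbase : (FibCat.overCat U).p.obj η.obj.fst = ξ.base :=
      (@IsHomLift.domain_eq _ _ _ _ (FibCat.fp y z).p _ _ _ _ _ ε.hom hε).symm.trans (e.w_obj ξ)
    have hVb : η.obj.snd.left = ξ.base := (fp_snd_proj η).trans hbase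
    let g₀ : ξ.base ⟶ V₀ := eqToHom hVb.symm ≫ η.obj.snd.hom
    have hε2 : (FibCat.overCat V).p.IsHomLift (𝟙 ((FibCat.fp y z).p.obj η₀)) ε.hom.hom.snd :=
      have := hε; fp_lift_snd _ ε.hom
    have hε2' : ε.hom.hom.snd.left = eqToHom _ ≫ 𝟙 _ ≫ eqToHom _ :=
      IsHomLift.fac' (FibCat.overCat V).p (𝟙 ((FibCat.fp y z).p.obj η₀)) ε.hom.hom.snd
    have hg₀ : AlgSt.secHom Φ ξ = g₀ ≫ k := by
      have hw : ε.hom.hom.snd.left ≫ η.obj.snd.hom ≫ k = (Φ.obj ξ).hom := Over.w ε.hom.hom.snd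
      rw [AlgSt.secHom, ← hw, hε2']
      simp [g₀]
      exact eqToHom_trans_assoc _ _ _
    let σ : (yon S).obj ξ.base ⟶ P.obj := sq.lift ((J S).uliftYonedaEquiv.symm ξ.sec) ((yon S).map g₀) (by
      apply (J S).uliftYonedaEquiv.injective
      rw [GrothendieckTopology.uliftYonedaEquiv_comp, Equiv.apply_symm_apply, AlgSt.spMapOfOver_app, hg₀,
        ← Functor.map_comp]
      rfl)
    let ξ' : (AlgSt.ofSp P.obj).obj := ⟨ξ.base, (J S).uliftYonedaEquiv σ⟩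
    have hA : A.obj ξ' = ξ := by
      show (⟨ξ.base, q.hom.app (op ξ.base) ((J S).uliftYonedaEquiv σ)⟩ : (AlgSt.ofSp F.obj).obj) = ξ
      rw [← GrothendieckTopology.uliftYonedaEquiv_comp, sq.lift_fst, Equiv.apply_symm_apply]
    have hGξ : G ξ' = g₀ := by
      show (q'.hom.app (op ξ.base) ((J S).uliftYonedaEquiv σ)).down = g₀
      rw [← GrothendieckTopology.uliftYonedaEquiv_comp, sq.lift_snd]
      rfl
    let ε' : e.obj (A.obj ξ') ≅ η₀ := eqToIso (congrArg e.obj hA) ≪≫ ε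
    have hε' : (FibCat.fp y z).p.IsHomLift (𝟙 ((FibCat.fp y z).p.obj η₀)) ε'.hom := by
      have := hε
      exact (inferInstance : (FibCat.fp y z).p.IsHomLift (𝟙 ((FibCat.fp y z).p.obj η₀)) (eqToHom (congrArg e.obj hA) ≫ ε.hom))
    have hfst : (FibCat.overCat U).p.IsHomLift (𝟙 ((FibCat.fp y z).p.obj η₀)) ε'.hom.hom.fst :=
      have := hε'; fp_lift_fst _ ε'.hom
    have hsnd : (FibCat.overCat V).p.IsHomLift (𝟙 ((FibCat.fp y z).p.obj η₀)) ε'.hom.hom.snd :=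
      have := hε'; fp_lift_snd _ ε'.hom
    have hsnd' : ε'.hom.hom.snd.left = eqToHom _ ≫ 𝟙 _ ≫ eqToHom _ :=
      IsHomLift.fac' (FibCat.overCat V).p (𝟙 ((FibCat.fp y z).p.obj η₀)) ε'.hom.hom.snd
    let i₂ : c ξ' ≅ η.obj.snd := Over.isoMk (eqToIso ((Φ.w_obj (A.obj ξ')).trans hVb.symm)) (by
      refine Eq.trans ?_ (congrArg (eqToHom (Φ.w_obj (A.obj ξ')) ≫ ·) hGξ.symm)
      exact (eqToHom_trans_assoc _ _ _).symm)
    let i₁ : (e.obj (A.obj ξ')).obj.fst ≅ η.obj.fst :=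
      ((FibCat.fpProp y z).ι ⋙ CategoricalPullback.π₁ y.toFunctor z.toFunctor).mapIso ε'
    refine ⟨ξ', ObjectProperty.isoMk _ (CategoricalPullback.mkIso i₁ i₂ ?_), ?_⟩
    · show y.map ε'.hom.hom.fst ≫ η.obj.iso.hom =
        ((e.obj (A.obj ξ')).obj.iso.hom ≫ z.map (ι ξ').hom) ≫ z.map ((AlgSt.overMap k).map i₂.hom)
      refine ε'.hom.hom.w.trans ?_
      rw [Category.assoc, ← z.toFunctor.map_comp]
      congr 2
      refine Over.OverMorphism.ext ?_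
      rw [hsnd']
      simp [ι, i₂]
      rfl
    · exact fp_lift_of_fst _ _ hfst
  · apply Sheaf.hom_ext
    ext T a
    rfl

end Chart

end Groth.Agent.AlgStLib
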