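import Groth.Agent.AlgStLib.Isom
import Groth.Agent.AlgSpLib.Glue
import Groth.Prelude.Def_W4c2isonaturalstkIso
import Mathlib

/-!
Separatedness of the presheaf of isomorphism classes forces trivial automorphisms.
-/

set_option autoImplicit false
set_option backward.isDefEq.respectTransparency.types false

universe u

open CategoryTheory CategoryTheory.Limits CategoryTheory.Functor AlgebraicGeometry Opposite

namespace Groth.Agent.AlgStLib

open Groth.Agent Groth.Agent.FibBasics Groth.Agent.AlgSpLib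

variable {S : Scheme.{u}} {𝒳 : AlgSt.Cat S}

/-- Sieves of open coverings are fppf covering. -/
theorem ofArrows_mem_of_openCover {Z : Over S} {ι : Type*} {W : ι → Over S} (c : ∀ i, W i ⟶ Z)
    (hc : ∀ i, IsOpenImmersion (c i).left) (hs : ∀ z : ↥Z.left, ∃ i, z ∈ Set.range (c i).left) :
    Sieve.ofArrows W c ∈ (QuotSh.J Scheme.fppfPrecoverage S) Z := by
  rw [GrothendieckTopology.mem_over_iff]
  have : Sieve.generate (Presieve.ofArrows (fun j => (W j).left) fun j => (c j).left) ∈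
      Scheme.fppfTopology Z.left := by
    refine Precoverage.generate_mem_toGrothendieck ((Scheme.ofArrows_mem_precoverage_iff _).2 ⟨hs, fun j => ?_⟩)
    have := hc j
    exact ⟨inferInstanceAs (Flat (c j).left), inferInstanceAs (LocallyOfFinitePresentation (c j).left)⟩
  change Sieve.overEquiv _ (Sieve.ofArrows W c) ∈ _
  rwa [Sieve.overEquiv_ofArrows]

theorem conj_congr {z' z : 𝒳.obj} {φ φ' : z' ⟶ z} {b : Gerb.AutO z'} {a : Gerb.AutO z} (e : φ = φ')
    (h : Conj φ b a) : Conj φ' b a := e ▸ h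

theorem conj_id_eq (hp : FibCat.IsFibGrpd 𝒳.p) {z : 𝒳.obj} {m : z ⟶ z} (e : m = 𝟙 z) {b a : Gerb.AutO z}
    (h : Conj m b a) : b = a := by
  subst e
  exact conj_unique hp (𝟙 z) h ((Category.comp_id _).trans (Category.id_comp _).symm)

theorem aut_lift {z : 𝒳.obj} {T : Over S} (h : 𝒳.p.obj z = T) (a : Gerb.AutO z) :
    𝒳.p.IsHomLift (𝟙 T) a.hom.1 := by
  subst h; exact a.hom.2

theorem exists_autO (hp : FibCat.IsFibGrpd 𝒳.p) {z : 𝒳.obj} {T : Over S} (h : 𝒳.p.obj z = T) (m : z ⟶ z)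
    (hm : 𝒳.p.IsHomLift (𝟙 T) m) : ∃ a : Gerb.AutO z, a.hom.1 = m := by
  subst h
  have := isGroupoid_fiber 𝒳.p hp (𝒳.p.obj z)
  let m' : Gerb.fib z ⟶ Gerb.fib z := ⟨m, hm⟩
  have : IsIso m' := IsGroupoid.all_isIso m'
  exact ⟨asIso m', rfl⟩

theorem subsingleton_autO_of_isEmpty (hst : Stk.IsStack (QuotSh.J Scheme.fppfPrecoverage S) 𝒳) (z : 𝒳.obj)
    (hz : IsEmpty (𝒳.p.obj z).left) : Subsingleton (Gerb.AutO z) := by
  obtain ⟨a, -, hu⟩ := existsUnique_aut_glue _ hst z ⊥ (bot_mem_of_isEmpty hz) (fun _ h => False.elim h)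
    (fun _ _ h _ => False.elim h)
  exact ⟨fun b b' => (hu b (fun _ h => False.elim h)).trans (hu b' (fun _ h => False.elim h)).symm⟩

/-- Automorphisms trivial on an open covering are trivial. -/
theorem aut_eq_one_of_cover (hst : Stk.IsStack (QuotSh.J Scheme.fppfPrecoverage S) 𝒳) (x : 𝒳.obj)
    {ι : Type*} {W : ι → Over S} (c : ∀ i, W i ⟶ 𝒳.p.obj x)
    (hc : ∀ i, IsOpenImmersion (c i).left) (hs : ∀ z : ↥(𝒳.p.obj x).left, ∃ i, z ∈ Set.range (c i).left)
    (h : ∀ (i : ι) (z : 𝒳.obj) (φ : z ⟶ x), 𝒳.p.IsHomLift (c i) φ → ∀ b : Gerb.AutO z, b = 1)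
    (a : Gerb.AutO x) : a = 1 := by
  obtain ⟨a₀, -, hu⟩ := existsUnique_aut_glue _ hst x _ (ofArrows_mem_of_openCover c hc hs) (fun _ _ => 1)
    (fun ψ _ _ _ => Conj.one ψ)
  refine (hu a fun {z'} φ hφ => ?_).trans (hu 1 fun φ _ => Conj.one φ).symm
  obtain ⟨i, t, ht⟩ := (Sieve.mem_ofArrows_iff _ _ _).1 hφ
  have := isFibered_of_isFibGrpd 𝒳.p hst.1
  obtain ⟨z, ψ, hψ⟩ := exists_stronglyCartesian 𝒳.p (a := x) rfl (c i)
  have hl : 𝒳.p.IsHomLift (t ≫ c i) φ := ht ▸ IsHomLift.map 𝒳.p φ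
  have := hψ
  obtain ⟨χ, hχ⟩ : ∃ χ : z' ⟶ z, χ ≫ ψ = φ :=
    ⟨IsStronglyCartesian.map 𝒳.p (c i) ψ (rfl : t ≫ c i = t ≫ c i) φ,
      IsStronglyCartesian.fac 𝒳.p (c i) ψ (rfl : t ≫ c i = t ≫ c i) φ⟩
  obtain ⟨b, hb⟩ := exists_conj hst.1 ψ a
  rw [h i z ψ hψ.toIsHomLift b] at hb
  have := (Conj.one χ).trans hb
  rwa [hχ] at this

/-- Two objects whose pullbacks along fppf coverings are isomorphic are isomorphic. -/
def SepClasses (𝒳 : AlgSt.Cat S) : Prop :=
  ∀ (T T' : Over S) (π : T' ⟶ T) [Flat π.left] [Surjective π.left] [LocallyOfFinitePresentation π.left]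
    (x₁ x₂ : 𝒳.p.Fiber T) (x₁' x₂' : 𝒳.p.Fiber T') (a₁ : x₁'.1 ⟶ x₁.1) (a₂ : x₂'.1 ⟶ x₂.1),
    𝒳.p.IsHomLift π a₁ → 𝒳.p.IsHomLift π a₂ → Nonempty (x₁' ≅ x₂') → Nonempty (x₁ ≅ x₂)

/-- A morphism of the slice over `P` factors through a chart. -/
def Valid {P : Over S} {I : Type u} {Q : I → Over S} (c : ∀ i, Q i ⟶ P) (i : I)
    (g : (FibCat.overCat P).obj) : Prop :=
  ∃ t : (FibCat.overCat P).p.obj g ⟶ Q i, t ≫ c i = hm g

theorem Valid.of_hom {P : Over S} {I : Type u} {Q : I → Over S} {c : ∀ i, Q i ⟶ P} {i : I}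
    {g g' : (FibCat.overCat P).obj} (h : g ⟶ g') (hv : Valid c i g') : Valid c i g := by
  obtain ⟨t, ht⟩ := hv
  exact ⟨(FibCat.overCat P).p.map h ≫ t, by rw [Category.assoc, ht]; exact hm_w h⟩

/-- Twisting by a cocycle on an open covering: the cocycle is a coboundary. -/
theorem exists_trivialisation (hst : Stk.IsStack (QuotSh.J Scheme.fppfPrecoverage S) 𝒳) (hsep : SepClasses 𝒳)
    {P : Over S} {I : Type u} {Q : I → Over S} (c : ∀ i, Q i ⟶ P) (hc : ∀ i, IsOpenImmersion (c i).left)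
    (hcov : ∀ z : ↥P.left, ∃ i, z ∈ Set.range (c i).left) (G : FibCat.overCat P ⥤ᵇ 𝒳)
    (K : ∀ g : (FibCat.overCat P).obj, I → I → Gerb.AutO (G.obj g))
    (hK1 : ∀ g i, K g i i = 1) (hK2 : ∀ g i j k, K g j k * K g i j = K g i k)
    (hKn : ∀ {g g' : (FibCat.overCat P).obj} (h : g ⟶ g') (i j : I), Valid c i g' → Valid c j g' →
      Conj (G.map h) (K g i j) (K g' i j)) :
    ∃ φ : ∀ g : (FibCat.overCat P).obj, I → Gerb.AutO (G.obj g),
      (∀ {g g' : (FibCat.overCat P).obj} (h : g ⟶ g') (i : I), Valid c i g' →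
        Conj (G.map h) (φ g i) (φ g' i)) ∧
      ∀ g i j, φ g i = φ g j * K g i j := by
  have hp := hst.1
  let R := Sieve.ofArrows Q c
  have hR : R ∈ (QuotSh.J Scheme.fppfPrecoverage S) P := ofArrows_mem_of_openCover c hc hcov
  have hRV : ∀ {g : (FibCat.overCat P).obj} {i : I}, Valid c i g → R g.hom := fun {g i} hv => by
    obtain ⟨t, ht⟩ := hv
    exact (Sieve.mem_ofArrows_iff _ _ _).2 ⟨i, t, ht.symm⟩
  have hRb : ∀ g : (Stk.sieveCat R).obj, ∃ i, Valid c i g.1 := fun g => by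
    obtain ⟨i, t, ht⟩ := (Sieve.mem_ofArrows_iff _ _ _).1 g.2
    exact ⟨i, t, ht.symm⟩
  choose b hb using hRb
  let mor : ∀ {g g' : (Stk.sieveCat R).obj}, (g ⟶ g') → (G.obj g.1 ⟶ G.obj g'.1) := fun {g g'} k =>
    (K g.1 (b g) (b g')).hom.1 ≫ G.map k.hom
  have hmor : ∀ {g g' : (Stk.sieveCat R).obj} (k : g ⟶ g'),
      𝒳.p.IsHomLift ((Stk.sieveCat R).p.map k) (mor k) := fun {g g'} k => by
    have := aut_lift (G.w_obj g.1) (K g.1 (b g) (b g'))
    have := based_lift G k.hom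
    have h := (inferInstance : 𝒳.p.IsHomLift (𝟙 ((FibCat.overCat P).p.obj g.1) ≫ (FibCat.overCat P).p.map k.hom)
      ((K g.1 (b g) (b g')).hom.1 ≫ G.map k.hom))
    rw [Category.id_comp] at h
    exact h
  let F₀ : (Stk.sieveCat R).obj ⥤ 𝒳.obj :=
        { obj := fun g => G.obj g.1
          map := fun k => mor k
          map_id := fun g => by
            show (K g.1 (b g) (b g)).hom.1 ≫ G.map (𝟙 g.1) = 𝟙 _
            rw [hK1]
            exact (congrArg (_ ≫ ·) (G.toFunctor.map_id g.1)).trans (Category.comp_id _)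
          map_comp := fun {g g' g''} k k' => by
            show (K g.1 (b g) (b g'')).hom.1 ≫ G.map (k.hom ≫ k'.hom) =
              ((K g.1 (b g) (b g')).hom.1 ≫ G.map k.hom) ≫ (K g'.1 (b g') (b g'')).hom.1 ≫ G.map k'.hom
            have hc' : Conj (G.map k.hom) (K g.1 (b g') (b g'')) (K g'.1 (b g') (b g'')) :=
              hKn k.hom _ _ (hb g') ((hb g'').of_hom k'.hom)
            have h2 : (K g.1 (b g) (b g')).hom.1 ≫ (K g.1 (b g') (b g'')).hom.1 = (K g.1 (b g) (b g'')).hom.1 :=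
              congrArg (fun a : Gerb.AutO (G.obj g.1) => a.hom.1) (hK2 g.1 (b g) (b g') (b g''))
            rw [G.toFunctor.map_comp, ← h2]
            simp only [Category.assoc]
            refine congrArg ((K g.1 (b g) (b g')).hom.1 ≫ ·) ?_
            exact ((Category.assoc _ _ _).symm.trans (congrArg (· ≫ G.map k'.hom) hc')).trans (Category.assoc _ _ _) }
  let F : Stk.sieveCat R ⥤ᵇ 𝒳 :=
    { toFunctor := F₀
      w := CategoryTheory.Functor.ext (fun g => G.w_obj g.1) fun g g' k =>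
        @IsHomLift.fac' _ _ _ _ 𝒳.p _ _ _ _ ((Stk.sieveCat R).p.map k) (mor k) (hmor k) }
  have : (Stk.resSieve R 𝒳).IsEquivalence := hst.2 R hR
  obtain ⟨H, ⟨e⟩⟩ := Functor.EssSurj.mem_essImage (F := Stk.resSieve R 𝒳) F
  let eh : ∀ g : (Stk.sieveCat R).obj, H.obj g.1 ⟶ G.obj g.1 := fun g => e.hom.toNatTrans.app g
  let ei : ∀ g : (Stk.sieveCat R).obj, G.obj g.1 ⟶ H.obj g.1 := fun g => e.inv.toNatTrans.app g
  have hehl : ∀ g : (Stk.sieveCat R).obj, 𝒳.p.IsHomLift (𝟙 ((Stk.sieveCat R).p.obj g)) (eh g) :=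
    fun g => e.hom.isHomLift' g
  have heil : ∀ g : (Stk.sieveCat R).obj, 𝒳.p.IsHomLift (𝟙 ((Stk.sieveCat R).p.obj g)) (ei g) :=
    fun g => e.inv.isHomLift' g
  have hehn : ∀ {g g' : (Stk.sieveCat R).obj} (k : g ⟶ g'),
      H.map k.hom ≫ eh g' = eh g ≫ (K g.1 (b g) (b g')).hom.1 ≫ G.map k.hom :=
    fun k => e.hom.toNatTrans.naturality k
  have hein : ∀ {g g' : (Stk.sieveCat R).obj} (k : g ⟶ g'),
      ((K g.1 (b g) (b g')).hom.1 ≫ G.map k.hom) ≫ ei g' = ei g ≫ H.map k.hom :=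
    fun k => e.inv.toNatTrans.naturality k
  -- the twisted object is isomorphic to the original one on the disjoint union of the charts
  let T' : Over S := Over.mk (Sigma.desc (f := fun i => (Q i).left) fun i => (Q i).hom)
  let σ : ∀ i, Q i ⟶ T' := fun i => Over.homMk (Sigma.ι (fun i => (Q i).left) i) (Sigma.ι_desc _ _)
  let π : T' ⟶ P := Over.homMk (Sigma.desc fun i => (c i).left) (Sigma.hom_ext _ _ fun i => by simp [T'])
  have hσπ : ∀ i, σ i ≫ π = c i := fun i => Over.OverMorphism.ext (Sigma.ι_desc _ _)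
  have hσo : ∀ i, IsOpenImmersion (σ i).left := fun i =>
    inferInstanceAs (IsOpenImmersion (Sigma.ι (fun i => (Q i).left) i))
  have hσcov : ∀ z : ↥T'.left, ∃ i, z ∈ Set.range (σ i).left := fun z =>
    (sigmaOpenCover fun i => (Q i).left).exists_eq z
  let R' := Sieve.ofArrows Q σ
  have hR' : R' ∈ (QuotSh.J Scheme.fppfPrecoverage S) T' := ofArrows_mem_of_openCover σ hσo hσcov
  have hm' : ∀ g : (Stk.sieveCat R').obj, ∃ (i : I) (t : (FibCat.overCat T').p.obj g.1 ⟶ Q i), t ≫ σ i = hm g.1 :=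
    fun g => by
      obtain ⟨i, t, ht⟩ := (Sieve.mem_ofArrows_iff _ _ _).1 g.2
      exact ⟨i, t, ht.symm⟩
  choose m tm htm using hm'
  let push : (FibCat.overCat T').obj → (FibCat.overCat P).obj := fun g => (Over.map π).obj g
  have hmv : ∀ g : (Stk.sieveCat R').obj, Valid c (m g) (push g.1) := fun g => by
    refine ⟨tm g, ?_⟩
    show tm g ≫ c (m g) = hm g.1 ≫ π
    rw [← htm g, Category.assoc, hσπ]
  let ι' : (Stk.sieveCat R').obj → (Stk.sieveCat R).obj := fun g => ⟨push g.1, hRV (hmv g)⟩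
  let H' := BasedFunctor.comp (AlgSt.overMap π) H
  let G' := BasedFunctor.comp (AlgSt.overMap π) G
  let γ : (Stk.resSieve R' 𝒳).obj H' ⟶ (Stk.resSieve R' 𝒳).obj G' :=
    { toNatTrans :=
        { app := fun g => eh (ι' g) ≫ (K (push g.1) (b (ι' g)) (m g)).hom.1
          naturality := fun g g' k => by
            let k' : ι' g ⟶ ι' g' := ObjectProperty.homMk ((Over.map π).map k.hom)
            show H.map k'.hom ≫ eh (ι' g') ≫ (K (push g'.1) (b (ι' g')) (m g')).hom.1 =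
              (eh (ι' g) ≫ (K (push g.1) (b (ι' g)) (m g)).hom.1) ≫ G.map k'.hom
            have hc' : Conj (G.map k'.hom) (K (push g.1) (b (ι' g')) (m g')) (K (push g'.1) (b (ι' g')) (m g')) :=
              hKn k'.hom _ _ (hb (ι' g')) (hmv g')
            have h2 : (K (push g.1) (b (ι' g)) (b (ι' g'))).hom.1 ≫ (K (push g.1) (b (ι' g')) (m g')).hom.1 =
                (K (push g.1) (b (ι' g)) (m g')).hom.1 :=
              congrArg (fun a : Gerb.AutO (G.obj (push g.1)) => a.hom.1) (hK2 _ _ _ _)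
            have h3 : K (push g.1) (b (ι' g)) (m g') = K (push g.1) (b (ι' g)) (m g) := by
              by_cases he : m g = m g'
              · rw [he]
              · have hem : IsEmpty ((FibCat.overCat T').p.obj g.1).left :=
                  isEmpty_of_commSq_sigmaι_of_ne (g := fun i => (Q i).left)
                    (a := (tm g).left) (b := ((FibCat.overCat T').p.map k.hom ≫ tm g').left)
                    ⟨congrArg CommaMorphism.left ((htm g).trans (((Category.assoc _ _ _).trans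
                      ((congrArg ((FibCat.overCat T').p.map k.hom ≫ ·) (htm g')).trans (hm_w k.hom))).symm))⟩ he
                have : Subsingleton (Gerb.AutO (G.obj (push g.1))) :=
                  subsingleton_autO_of_isEmpty hst _ (by rw [G.w_obj]; exact hem)
                exact Subsingleton.elim _ _
            calc H.map k'.hom ≫ eh (ι' g') ≫ (K (push g'.1) (b (ι' g')) (m g')).hom.1
                = (eh (ι' g) ≫ (K (push g.1) (b (ι' g)) (b (ι' g'))).hom.1 ≫ G.map k'.hom) ≫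
                    (K (push g'.1) (b (ι' g')) (m g')).hom.1 :=
                  (Category.assoc _ _ _).symm.trans (congrArg (· ≫ _) (hehn k'))
              _ = eh (ι' g) ≫ (K (push g.1) (b (ι' g)) (b (ι' g'))).hom.1 ≫
                    (K (push g.1) (b (ι' g')) (m g')).hom.1 ≫ G.map k'.hom := by
                  erw [Category.assoc, Category.assoc, ← hc']
              _ = (eh (ι' g) ≫ (K (push g.1) (b (ι' g)) (m g)).hom.1) ≫ G.map k'.hom := by
                  erw [Category.assoc, ← Category.assoc _ _ (G.map k'.hom), h2, h3] }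
      isHomLift' := fun g => by
        have : 𝒳.p.IsHomLift (𝟙 ((FibCat.overCat P).p.obj (push g.1))) (eh (ι' g)) := hehl (ι' g)
        have := aut_lift (G.w_obj (push g.1)) (K (push g.1) (b (ι' g)) (m g))
        exact IsHomLift.comp_of_lift_id 𝒳.p ((FibCat.overCat P).p.obj (push g.1)) (eh (ι' g))
          (K (push g.1) (b (ι' g)) (m g)).hom.1 }
  have : (Stk.resSieve R' 𝒳).IsEquivalence := hst.2 R' hR'
  let α' := (Stk.resSieve R' 𝒳).preimage γ
  have hgr := isGroupoid_fiber 𝒳.p hp T'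
  let x₁' : 𝒳.p.Fiber T' := ⟨H'.obj (one T'), H'.w_obj _⟩
  let x₂' : 𝒳.p.Fiber T' := ⟨G'.obj (one T'), G'.w_obj _⟩
  let m₀ : x₁' ⟶ x₂' := ⟨α'.toNatTrans.app (one T'), α'.isHomLift' (one T')⟩
  have : IsIso m₀ := IsGroupoid.all_isIso m₀
  have hπfl : Flat π.left := IsZariskiLocalAtSource.sigmaDesc fun i => have := hc i; inferInstance
  have hπfp : LocallyOfFinitePresentation π.left :=
    IsZariskiLocalAtSource.sigmaDesc fun i => have := hc i; inferInstance
  have hπs : Surjective π.left := ⟨fun z => by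
    obtain ⟨i, y, hy⟩ := hcov z
    exact ⟨(σ i).left y, by rw [← Scheme.Hom.comp_apply, ← Over.comp_left, hσπ]; exact hy⟩⟩
  have hπl : hm (push (one T')) = π := Category.id_comp π
  obtain ⟨Ψ⟩ := hsep P T' π ⟨H.obj (one P), H.w_obj _⟩ ⟨G.obj (one P), G.w_obj _⟩ x₁' x₂'
    (H.map (toOne (push (one T')))) (G.map (toOne (push (one T'))))
    (by have h := based_lift_one H (push (one T')); rw [hπl] at h; exact h)
    (by have h := based_lift_one G (push (one T')); rw [hπl] at h; exact h) ⟨asIso m₀⟩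
  obtain ⟨α, -⟩ := evalAtId_surjective (cartOne_of_isFibGrpd G hp) (G := H) Ψ.hom
  have hθ : ∀ g : (Stk.sieveCat R).obj, ∃ a : Gerb.AutO (G.obj g.1), a.hom.1 = ei g ≫ α.toNatTrans.app g.1 :=
    fun g => by
      have := heil g
      have : 𝒳.p.IsHomLift (𝟙 ((Stk.sieveCat R).p.obj g)) (α.toNatTrans.app g.1) := α.isHomLift' g.1
      exact exists_autO hp (G.w_obj g.1) _
        (IsHomLift.comp_of_lift_id 𝒳.p ((Stk.sieveCat R).p.obj g) (ei g) (α.toNatTrans.app g.1))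
  choose θ hθ' using hθ
  have hθn : ∀ {g g' : (Stk.sieveCat R).obj} (k : g ⟶ g'),
      (K g.1 (b g) (b g')).hom.1 ≫ G.map k.hom ≫ (θ g').hom.1 = (θ g).hom.1 ≫ G.map k.hom := fun {g g'} k => by
    rw [hθ', hθ', Category.assoc, ← α.toNatTrans.naturality]
    calc (K g.1 (b g) (b g')).hom.1 ≫ G.map k.hom ≫ ei g' ≫ α.toNatTrans.app g'.1
        = (((K g.1 (b g) (b g')).hom.1 ≫ G.map k.hom) ≫ ei g') ≫ α.toNatTrans.app g'.1 := by
          simp only [Category.assoc]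
      _ = _ := by rw [hein k, Category.assoc]
  have hφ : ∀ g : (FibCat.overCat P).obj, ∃ φg : I → Gerb.AutO (G.obj g),
      (∀ (h : R g.hom) (i : I), φg i = θ ⟨g, h⟩ * K g i (b ⟨g, h⟩)) ∧ ∀ i j, φg i = φg j * K g i j := fun g => by
    by_cases hg : R g.hom
    · refine ⟨fun i => θ ⟨g, hg⟩ * K g i (b ⟨g, hg⟩), fun _ _ => rfl, fun i j => ?_⟩
      show _ = θ ⟨g, hg⟩ * K g j (b ⟨g, hg⟩) * K g i j
      rw [mul_assoc, hK2]
    · exact ⟨fun i => K g i (@Classical.ofNonempty I ⟨i⟩), fun h => absurd h hg, fun i j => (hK2 g i j _).symm⟩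
  choose φ hφ₁ hφ₂ using hφ
  refine ⟨φ, fun {g g'} h i hv => ?_, hφ₂⟩
  have hg' : R g'.hom := hRV hv
  have hg : R g.hom := hRV (hv.of_hom h)
  rw [hφ₁ g hg i, hφ₁ g' hg' i]
  let k : (⟨g, hg⟩ : (Stk.sieveCat R).obj) ⟶ ⟨g', hg'⟩ := ObjectProperty.homMk h
  let bg := b ⟨g, hg⟩
  let bg' := b ⟨g', hg'⟩
  have hc' : Conj (G.map h) (K g i bg') (K g' i bg') := hKn h _ _ hv (hb ⟨g', hg'⟩)
  have h2 : (K g i bg).hom.1 ≫ (K g bg bg').hom.1 = (K g i bg').hom.1 :=
    congrArg (fun a : Gerb.AutO (G.obj g) => a.hom.1) (hK2 g i bg bg')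
  show ((K g i bg).hom.1 ≫ (θ ⟨g, hg⟩).hom.1) ≫ G.map h =
    G.map h ≫ (K g' i bg').hom.1 ≫ (θ ⟨g', hg'⟩).hom.1
  calc ((K g i bg).hom.1 ≫ (θ ⟨g, hg⟩).hom.1) ≫ G.map h
      = (K g i bg).hom.1 ≫ (K g bg bg').hom.1 ≫ G.map h ≫ (θ ⟨g', hg'⟩).hom.1 := by
        rw [Category.assoc]; exact congrArg ((K g i bg).hom.1 ≫ ·) (hθn k).symm
    _ = ((K g i bg').hom.1 ≫ G.map h) ≫ (θ ⟨g', hg'⟩).hom.1 := by rw [← h2]; simp only [Category.assoc]
    _ = _ := by erw [hc', Category.assoc]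

/-- Two affine lines over an affine scheme glued at the origin. -/
theorem exists_node (T : Over S) [IsAffine T.left] :
    ∃ (Q L Ω : Over S) (pQ : Q ⟶ T) (pL : L ⟶ T) (l₁ l₂ : L ⟶ Q) (j : Ω ⟶ L) (z : T ⟶ L)
      (U₁ U₂ : Q.left.Opens), Disjoint U₁ U₂ ∧ l₁ ≫ pQ = pL ∧ l₂ ≫ pQ = pL ∧ z ≫ pL = 𝟙 T ∧ z ≫ l₁ = z ≫ l₂ ∧
        Set.range (j ≫ l₁).left ⊆ U₁ ∧ Set.range (j ≫ l₂).left ⊆ U₂ ∧
        ∀ (Z : Scheme.{u}) (i : Z ⟶ L.left), IsClosedImmersion i → (∃ k : Ω.left ⟶ Z, k ≫ i = j.left) → IsIso i := by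
  let R := Γ(T.left, ⊤)
  let B : Subring (Polynomial R × Polynomial R) :=
    { carrier := { p | p.1.eval 0 = p.2.eval 0 }
      mul_mem' := fun {a b} ha hb => by simp only [Set.mem_ofPred_eq, Prod.fst_mul, Prod.snd_mul, Polynomial.eval_mul] at *; rw [ha, hb]
      one_mem' := by simp
      add_mem' := fun {a b} ha hb => by simp only [Set.mem_ofPred_eq, Prod.fst_add, Prod.snd_add, Polynomial.eval_add] at *; rw [ha, hb]
      zero_mem' := by simp
      neg_mem' := fun {a} ha => by simp only [Set.mem_ofPred_eq, Prod.fst_neg, Prod.snd_neg, Polynomial.eval_neg] at *; rw [ha] }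
  let cB : (R : Type u) →+* B := (RingHom.prod Polynomial.C Polynomial.C).codRestrict B fun r => by
    show (Polynomial.C r).eval 0 = (Polynomial.C r).eval 0
    rfl
  let p₁ : B →+* Polynomial R := (RingHom.fst (Polynomial R) (Polynomial R)).comp B.subtype
  let p₂ : B →+* Polynomial R := (RingHom.snd (Polynomial R) (Polynomial R)).comp B.subtype
  let x : B := ⟨(Polynomial.X, 0), by show Polynomial.eval (0 : R) Polynomial.X = Polynomial.eval 0 0; simp⟩
  let y : B := ⟨(0, Polynomial.X), by show Polynomial.eval (0 : R) 0 = Polynomial.eval 0 Polynomial.X; simp⟩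
  let d := T.left.isoSpec.inv
  let qL := Spec.map (CommRingCat.ofHom (Polynomial.C : R →+* Polynomial R)) ≫ d
  let qB := Spec.map (CommRingCat.ofHom cB) ≫ d
  let L : Over S := Over.mk (qL ≫ T.hom)
  let Q : Over S := Over.mk (qB ≫ T.hom)
  let A := Localization.Away (Polynomial.X : Polynomial R)
  let jr := Spec.map (CommRingCat.ofHom (algebraMap (Polynomial R) A))
  let Ω : Over S := Over.mk (jr ≫ qL ≫ T.hom)
  have hc₁ : Spec.map (CommRingCat.ofHom p₁) ≫ qB = qL := by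
    show _ ≫ _ ≫ d = _ ≫ d
    rw [← Category.assoc, ← Spec.map_comp]; rfl
  have hc₂ : Spec.map (CommRingCat.ofHom p₂) ≫ qB = qL := by
    show _ ≫ _ ≫ d = _ ≫ d
    rw [← Category.assoc, ← Spec.map_comp]; rfl
  let l₁ : L ⟶ Q := Over.homMk (Spec.map (CommRingCat.ofHom p₁))
    ((Category.assoc _ _ _).symm.trans (congrArg (· ≫ T.hom) hc₁))
  let l₂ : L ⟶ Q := Over.homMk (Spec.map (CommRingCat.ofHom p₂))
    ((Category.assoc _ _ _).symm.trans (congrArg (· ≫ T.hom) hc₂))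
  let zr := T.left.isoSpec.hom ≫ Spec.map (CommRingCat.ofHom (Polynomial.evalRingHom (0 : R)))
  have hz : zr ≫ qL = 𝟙 T.left := by
    have h : Spec.map (CommRingCat.ofHom (Polynomial.evalRingHom (0 : R))) ≫
        Spec.map (CommRingCat.ofHom (Polynomial.C : R →+* Polynomial R)) = 𝟙 _ := by
      rw [← Spec.map_comp, ← Spec.map_id]
      congr 1
      ext r
      simp
    simp only [zr, qL, d, Category.assoc, reassoc_of% h, Iso.hom_inv_id]
  let U₁ : Q.left.Opens := PrimeSpectrum.basicOpen x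
  let U₂ : Q.left.Opens := PrimeSpectrum.basicOpen y
  refine ⟨Q, L, Ω, Over.homMk qB rfl, Over.homMk qL rfl, l₁, l₂, Over.homMk jr rfl,
    Over.homMk zr (by show zr ≫ qL ≫ T.hom = T.hom; rw [reassoc_of% hz]), U₁, U₂, ?_, ?_, ?_, ?_, ?_, ?_, ?_, ?_⟩
  · have hxy : x * y = 0 := Subtype.ext (Prod.ext (mul_zero _) (zero_mul _))
    rw [disjoint_iff]
    show (PrimeSpectrum.basicOpen x ⊓ PrimeSpectrum.basicOpen y : TopologicalSpace.Opens (PrimeSpectrum B)) = ⊥
    rw [← PrimeSpectrum.basicOpen_mul, hxy, PrimeSpectrum.basicOpen_zero]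
  · exact Over.OverMorphism.ext hc₁
  · exact Over.OverMorphism.ext hc₂
  · exact Over.OverMorphism.ext hz
  · refine Over.OverMorphism.ext ?_
    show zr ≫ Spec.map _ = zr ≫ Spec.map _
    simp only [zr, Category.assoc, ← Spec.map_comp]
    congr 2
    ext b
    exact b.2
  · rintro _ ⟨w, rfl⟩
    have hw : PrimeSpectrum.comap (algebraMap (Polynomial R) A) w ∈
        (PrimeSpectrum.basicOpen (Polynomial.X : Polynomial R) : Set (PrimeSpectrum (Polynomial R))) := by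
      rw [← PrimeSpectrum.localization_away_comap_range A (Polynomial.X : Polynomial R)]
      exact ⟨w, rfl⟩
    exact hw
  · rintro _ ⟨w, rfl⟩
    have hw : PrimeSpectrum.comap (algebraMap (Polynomial R) A) w ∈
        (PrimeSpectrum.basicOpen (Polynomial.X : Polynomial R) : Set (PrimeSpectrum (Polynomial R))) := by
      rw [← PrimeSpectrum.localization_away_comap_range A (Polynomial.X : Polynomial R)]
      exact ⟨w, rfl⟩
    exact hw
  · rintro Z i hi ⟨k, hk⟩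
    have : IsAffine L.left := inferInstanceAs (IsAffine (Spec (CommRingCat.of (Polynomial R))))
    have : IsAffine Z := isAffine_of_isAffineHom i
    have hinj : Function.Injective jr.appTop := by
      have h := Scheme.ΓSpecIso_naturality (CommRingCat.ofHom (algebraMap (Polynomial R) A))
      intro a b hab
      apply (Scheme.ΓSpecIso (CommRingCat.of (Polynomial R))).commRingCatIsoToRingEquiv.injective
      apply IsLocalization.injective (M := Submonoid.powers (Polynomial.X : Polynomial R)) A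
        (Submonoid.powers_le.mpr Polynomial.monic_X.mem_nonZeroDivisors)
      have ha := ConcreteCategory.congr_hom h a
      have hb := ConcreteCategory.congr_hom h b
      simp only [ConcreteCategory.comp_apply] at ha hb
      exact ha.symm.trans ((congrArg _ hab).trans hb)
    have hb : Function.Bijective i.appTop := by
      refine ⟨fun a b hab => hinj ?_, i.app_surjective ⊤ (isAffineOpen_top _)⟩
      have e : jr.appTop = i.appTop ≫ k.appTop := by rw [← Scheme.Hom.comp_appTop]; exact congrArg _ hk.symm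
      rw [e, ConcreteCategory.comp_apply, ConcreteCategory.comp_apply, hab]
    have : IsIso i.appTop := (ConcreteCategory.isIso_iff_bijective _).mpr hb
    exact (HasAffineProperty.iff_of_isAffine (P := MorphismProperty.isomorphisms Scheme.{u})).mpr ⟨‹IsAffine Z›, this⟩

/-- An automorphism over an affine scheme is trivial if objects with isomorphic pullbacks are isomorphic. -/
theorem aut_eq_one_of_sepClasses_affine (hst : Stk.IsStack (QuotSh.J Scheme.fppfPrecoverage S) 𝒳)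
    (hd : AlgSt.RepByAlgSpWith AlgSp.IsSeparatedMor (FibCat.diag (FibCat.toSelf 𝒳))) (hsep : SepClasses 𝒳)
    {T : Over S} [IsAffine T.left] (G : FibCat.overCat T ⥤ᵇ 𝒳) (a : Gerb.AutO (G.obj (one T))) : a = 1 := by
  classical
  have hp := hst.1
  obtain ⟨Q, L, Ω, pQ, pL, l₁, l₂, j, z, U₁, U₂, hU, hl₁, hl₂, hzL, hzQ, hr₁, hr₂, hdense⟩ := exists_node T
  -- the overlap and its automorphism
  let O : Over S := openOver Q (U₁ ⊔ U₂)
  let jO : O ⟶ Q := openOverι Q (U₁ ⊔ U₂)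
  let W : ULift.{u} Bool → Over S := fun i => openOver Q (bif i.down then U₂ else U₁)
  have hle : ∀ i : ULift.{u} Bool, (bif i.down then U₂ else U₁) ≤ U₁ ⊔ U₂ := by rintro ⟨_ | _⟩ <;> simp
  let o : ∀ i, W i ⟶ O := fun i => Over.homMk (Q.left.homOfLE (hle i)) (by simp [O, W])
  have ho : ∀ i, IsOpenImmersion (o i).left := fun i => inferInstanceAs (IsOpenImmersion (Q.left.homOfLE (hle i)))
  have hoι : ∀ i, o i ≫ jO = openOverι Q _ := fun i => Over.OverMorphism.ext (Scheme.homOfLE_ι _ (hle i))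
  have hocov : ∀ w : ↥O.left, ∃ i, w ∈ Set.range (o i).left := fun w => by
    have hw : (U₁ ⊔ U₂).ι w ∈ U₁ ⊔ U₂ := w.2
    rcases hw with h | h
    · exact ⟨⟨false⟩, ⟨_, h⟩, (U₁ ⊔ U₂).ι.isOpenEmbedding.injective
        ((Scheme.Hom.comp_apply _ _ _).symm.trans
          (congrArg (fun m : W ⟨false⟩ ⟶ Q => m.left ⟨_, h⟩) (hoι ⟨false⟩)))⟩
    · exact ⟨⟨true⟩, ⟨_, h⟩, (U₁ ⊔ U₂).ι.isOpenEmbedding.injective
        ((Scheme.Hom.comp_apply _ _ _).symm.trans
          (congrArg (fun m : W ⟨true⟩ ⟶ Q => m.left ⟨_, h⟩) (hoι ⟨true⟩)))⟩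
  let gO : (FibCat.overCat T).obj := Over.mk (jO ≫ pQ)
  let z₀ := G.obj gO
  have hz₀ : 𝒳.p.obj z₀ = O := G.w_obj gO
  let R : Sieve (𝒳.p.obj z₀) := (Sieve.ofArrows W o).pullback (eqToHom hz₀)
  have hR : R ∈ (QuotSh.J Scheme.fppfPrecoverage S) (𝒳.p.obj z₀) :=
    GrothendieckTopology.pullback_stable _ _ (ofArrows_mem_of_openCover o ho hocov)
  let V : ∀ {z' : 𝒳.obj}, (z' ⟶ z₀) → ULift.{u} Bool → Prop := fun {z'} φ i =>
    ∃ t : 𝒳.p.obj z' ⟶ W i, t ≫ o i = 𝒳.p.map φ ≫ eqToHom hz₀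
  have hVR : ∀ {z' : 𝒳.obj} (φ : z' ⟶ z₀), R (𝒳.p.map φ) → ∃ i, V φ i := fun φ h => by
    obtain ⟨i, t, ht⟩ := (Sieve.mem_ofArrows_iff _ _ _).1 h
    exact ⟨i, t, ht.symm⟩
  have hempty : ∀ {z' : 𝒳.obj} (φ : z' ⟶ z₀), V φ ⟨false⟩ → V φ ⟨true⟩ → Subsingleton (Gerb.AutO z') := by
    rintro z' φ ⟨t₁, ht₁⟩ ⟨t₂, ht₂⟩
    refine subsingleton_autO_of_isEmpty hst z' ⟨fun w => ?_⟩
    have he : U₁.ι (t₁.left w) = U₂.ι (t₂.left w) := by
      have h := congrArg (fun f => f ≫ jO) (ht₁.trans ht₂.symm)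
      simp only [Category.assoc, hoι] at h
      exact congrArg (fun f : 𝒳.p.obj z' ⟶ Q => f.left w) h
    exact (disjoint_iff.mp hU).le ⟨(t₁.left w).2, by rw [show ((t₁.left w).1 : Q.left) = _ from he]; exact (t₂.left w).2⟩
  let pa : ∀ {z' : 𝒳.obj}, (z' ⟶ z₀) → Gerb.AutO z' := fun φ =>
    (exists_conj hp (φ ≫ G.map (toOne gO)) a).choose
  have hpa : ∀ {z' : 𝒳.obj} (φ : z' ⟶ z₀), Conj (φ ≫ G.map (toOne gO)) (pa φ) a := fun φ =>
    (exists_conj hp (φ ≫ G.map (toOne gO)) a).choose_spec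
  obtain ⟨α, hα, -⟩ := existsUnique_aut_glue _ hst z₀ R hR
    (fun {z'} φ _ => if V φ ⟨true⟩ then pa φ else 1) (fun {z'' z'} ψ φ h h' => by
      have hVψ : ∀ i, V φ i → V (ψ ≫ φ) i := fun i ⟨t, ht⟩ =>
        ⟨𝒳.p.map ψ ≫ t, by rw [𝒳.p.map_comp, Category.assoc, ht, Category.assoc]⟩
      by_cases h2 : V φ ⟨true⟩
      · rw [if_pos h2, if_pos (hVψ _ h2)]
        exact conj_cancel hp (hpa φ) (Category.assoc ψ φ (G.map (toOne gO)) ▸ hpa (ψ ≫ φ))
      · rw [if_neg h2]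
        have h1 : V φ ⟨false⟩ := by
          obtain ⟨⟨_ | _⟩, hi⟩ := hVR φ h
          · exact hi
          · exact absurd hi h2
        by_cases h3 : V (ψ ≫ φ) ⟨true⟩
        · rw [if_pos h3, @Subsingleton.elim _ (hempty _ (hVψ _ h1) h3) (pa (ψ ≫ φ)) 1]
          exact Conj.one ψ
        · rw [if_neg h3]
          exact Conj.one ψ)
  -- the glued scheme
  let f := jO.left
  have hfo : IsOpenImmersion f := inferInstanceAs (IsOpenImmersion (U₁ ⊔ U₂).ι)
  let P : Over S := Over.mk (pushout.desc Q.hom Q.hom (rfl : f ≫ Q.hom = f ≫ Q.hom))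
  let c₀ : Q ⟶ P := Over.homMk (pushout.inl f f) (pushout.inl_desc _ _ _)
  let c₁ : Q ⟶ P := Over.homMk (pushout.inr f f) (pushout.inr_desc _ _ _)
  let pP : P ⟶ T := Over.homMk (pushout.desc pQ.left pQ.left (rfl : f ≫ pQ.left = f ≫ pQ.left))
    (pushout.hom_ext
      (by show _ ≫ _ ≫ T.hom = _ ≫ pushout.desc _ _ _; rw [pushout.inl_desc_assoc, pushout.inl_desc]; exact Over.w pQ)
      (by show _ ≫ _ ≫ T.hom = _ ≫ pushout.desc _ _ _; rw [pushout.inr_desc_assoc, pushout.inr_desc]; exact Over.w pQ))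
  let c : ULift.{u} Bool → (Q ⟶ P) := fun i => bif i.down then c₁ else c₀
  have hcp : ∀ i, c i ≫ pP = pQ := by
    rintro ⟨_ | _⟩
    · exact Over.OverMorphism.ext (pushout.inl_desc _ _ _)
    · exact Over.OverMorphism.ext (pushout.inr_desc _ _ _)
  have hjc : ∀ i, jO ≫ c i = jO ≫ c₀ := by
    rintro ⟨_ | _⟩
    · rfl
    · exact Over.OverMorphism.ext pushout.condition.symm
  have hco : ∀ i, IsOpenImmersion (c i).left := by
    rintro ⟨_ | _⟩
    · exact inferInstanceAs (IsOpenImmersion (colimit.ι (span f f) WalkingSpan.left))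
    · exact inferInstanceAs (IsOpenImmersion (colimit.ι (span f f) WalkingSpan.right))
  have hccov : ∀ w : ↥P.left, ∃ i, w ∈ Set.range (c i).left := fun w => by
    obtain ⟨k, y, hy⟩ := Scheme.IsLocallyDirected.ι_jointly_surjective (span f f) w
    rcases k with _ | _ | _
    · refine ⟨⟨false⟩, f y, ?_⟩
      rw [← hy, ← colimit.w (span f f) WalkingSpan.Hom.fst]
      rfl
    · exact ⟨⟨false⟩, y, hy⟩
    · exact ⟨⟨true⟩, y, hy⟩
  have hmono : Mono c₁ := have := hco ⟨true⟩; Over.mono_of_mono_left c₁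
  have hjmono : Mono jO := Over.mono_of_mono_left jO
  let GP := BasedFunctor.comp (AlgSt.overMap pP) G
  let Both : (FibCat.overCat P).obj → Prop := fun g =>
    ∃ t : (FibCat.overCat P).p.obj g ⟶ O, t ≫ jO ≫ c₀ = hm g
  have hboth : ∀ {g : (FibCat.overCat P).obj} (i i' : ULift.{u} Bool), i ≠ i' →
      Valid (Q := fun _ => Q) c i g → Valid (Q := fun _ => Q) c i' g → Both g := by
    have key : ∀ {g : (FibCat.overCat P).obj}, Valid (Q := fun _ => Q) c ⟨false⟩ g →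
        Valid (Q := fun _ => Q) c ⟨true⟩ g → Both g := by
      rintro g ⟨t₀, ht₀⟩ ⟨t₁, ht₁⟩
      have hsub : Set.range t₀.left ⊆ Set.range f := by
        rintro _ ⟨w, rfl⟩
        have h : pushout.inl f f (t₀.left w) = pushout.inr f f (t₁.left w) :=
          congrArg (fun m : (FibCat.overCat P).p.obj g ⟶ P => m.left w) (ht₀.trans ht₁.symm)
        obtain ⟨k, fi, fj, w', h₁, h₂⟩ := (Scheme.IsLocallyDirected.ι_eq_ι_iff (span f f)).1 h
        rcases k with _ | _ | _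
        · rw [Subsingleton.elim fi WalkingSpan.Hom.fst] at h₁
          exact ⟨w', h₁⟩
        · exact nomatch fj
        · exact nomatch fi
      exact ⟨Over.homMk (IsOpenImmersion.lift f t₀.left hsub)
        (by rw [show O.hom = f ≫ Q.hom from rfl, IsOpenImmersion.lift_fac_assoc]; exact Over.w t₀),
        by rw [← Category.assoc, ← ht₀]; exact congrArg (· ≫ c₀)
            (Over.OverMorphism.ext (IsOpenImmersion.lift_fac _ _ _))⟩
    rintro g ⟨_ | _⟩ ⟨_ | _⟩ hne h h'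
    · exact absurd rfl hne
    · exact key h h'
    · exact key h' h
    · exact absurd rfl hne
  let toO : ∀ {g : (FibCat.overCat P).obj} (h : Both g), (Over.map pP).obj g ⟶ gO := fun {g} h =>
    Over.homMk h.choose (by
      show h.choose ≫ jO ≫ pQ = hm g ≫ pP
      refine Eq.trans ?_ (congrArg (· ≫ pP) h.choose_spec)
      simp only [Category.assoc, show c₀ ≫ pP = pQ from hcp ⟨false⟩])
  let κ : ∀ g : (FibCat.overCat P).obj, Gerb.AutO (GP.obj g) := fun g =>
    if h : Both g then (exists_conj hp (G.map (toO h)) α).choose else 1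
  have hκ : ∀ {g : (FibCat.overCat P).obj} (h : Both g), Conj (G.map (toO h)) (κ g) α := fun {g} h => by
    have e : κ g = (exists_conj hp (G.map (toO h)) α).choose := dif_pos h
    rw [e]
    exact (exists_conj hp (G.map (toO h)) α).choose_spec
  let e : ∀ g : (FibCat.overCat P).obj, ULift.{u} Bool → Gerb.AutO (GP.obj g) := fun g i =>
    bif i.down then κ g else 1
  obtain ⟨φ, hφn, hφc⟩ := exists_trivialisation hst hsep (Q := fun _ => Q) c hco hccov GP
    (fun g i i' => e g i' * (e g i)⁻¹) (fun g i => mul_inv_cancel _)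
    (fun g i j k => by show e g k * (e g j)⁻¹ * (e g j * (e g i)⁻¹) = _; rw [mul_assoc, inv_mul_cancel_left])
    (fun {g g'} h i i' hi hi' => by
      by_cases hne : i = i'
      · subst hne
        simp only [mul_inv_cancel]
        exact Conj.one _
      · have hb' : Both g' := hboth i i' hne hi hi'
        have hb : Both g := hboth i i' hne (hi.of_hom h) (hi'.of_hom h)
        have hκn : Conj (GP.map h) (κ g) (κ g') := by
          refine conj_cancel hp (hκ hb') ?_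
          have et : (Over.map pP).map h ≫ toO hb' = toO hb := by
            refine Over.OverMorphism.ext ?_
            rw [← cancel_mono jO, ← cancel_mono c₀]
            show ((FibCat.overCat P).p.map h ≫ hb'.choose) ≫ jO ≫ c₀ = hb.choose ≫ jO ≫ c₀
            rw [Category.assoc, hb'.choose_spec, hb.choose_spec]
            exact hm_w h
          exact conj_congr ((congrArg G.map et).symm.trans (G.toFunctor.map_comp _ _)) (hκ hb)
        have he : ∀ i, Conj (GP.map h) (e g i) (e g' i) := by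
          rintro ⟨_ | _⟩
          · exact Conj.one _
          · exact hκn
        exact (he i').mul (he i).inv)
  -- compare on the overlap
  let gQ : (FibCat.overCat T).obj := Over.mk pQ
  let v : gO ⟶ gQ := Over.homMk jO rfl
  let gc : ULift.{u} Bool → (FibCat.overCat P).obj := fun i => Over.mk (c i)
  let uc : ∀ i, gQ ⟶ (Over.map pP).obj (gc i) := fun i =>
    Over.homMk (𝟙 Q) (show 𝟙 Q ≫ c i ≫ pP = pQ by rw [Category.id_comp, hcp])
  choose β hβ using fun i => exists_conj hp (G.map (uc i)) (φ (gc i) i)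
  let gOP : (FibCat.overCat P).obj := Over.mk (jO ≫ c₀)
  let u : gO ⟶ (Over.map pP).obj gOP :=
    Over.homMk (𝟙 O) (show 𝟙 O ≫ (jO ≫ c₀) ≫ pP = jO ≫ pQ by
      rw [Category.id_comp, Category.assoc, show c₀ ≫ pP = pQ from hcp ⟨false⟩])
  let kc : ∀ i, gOP ⟶ gc i := fun i => Over.homMk jO (hjc i)
  choose φO hφO using fun i => exists_conj hp (G.map u) (φ gOP i)
  have hvβ : ∀ i, Conj (G.map v) (φO i) (β i) := fun i => by
    refine conj_cancel hp (hβ i) ?_
    have hval : Valid (Q := fun _ => Q) c i (gc i) := ⟨𝟙 Q, Category.id_comp _⟩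
    have h := (hφO i).trans (hφn (kc i) i hval)
    have et : u ≫ (Over.map pP).map (kc i) = v ≫ uc i :=
      Over.OverMorphism.ext ((Category.id_comp _).trans (Category.comp_id _).symm)
    rw [show G.map v ≫ G.map (uc i) = G.map u ≫ GP.map (kc i) from
      (G.toFunctor.map_comp v (uc i)).symm.trans ((congrArg G.map et.symm).trans (G.toFunctor.map_comp _ _))]
    exact h
  have hB : Both gOP := ⟨𝟙 O, Category.id_comp _⟩
  have hαφ : α = (φO ⟨true⟩)⁻¹ * φO ⟨false⟩ := by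
    have e1 : φ gOP ⟨false⟩ = φ gOP ⟨true⟩ * κ gOP := by
      rw [hφc gOP ⟨false⟩ ⟨true⟩]
      show _ * (κ gOP * (1 : Gerb.AutO (GP.obj gOP))⁻¹) = _
      rw [inv_one, mul_one]
    have e2 : κ gOP = (φ gOP ⟨true⟩)⁻¹ * φ gOP ⟨false⟩ := by rw [e1, inv_mul_cancel_left]
    have h : Conj (G.map u) ((φO ⟨true⟩)⁻¹ * φO ⟨false⟩) (κ gOP) :=
      Eq.mpr (congrArg (Conj (G.map u) _) e2) ((hφO ⟨true⟩).inv.mul (hφO ⟨false⟩))
    have h' := h.trans (hκ hB)
    have et : u ≫ toO hB = 𝟙 gO := by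
      refine Over.OverMorphism.ext ?_
      rw [← cancel_mono jO, ← cancel_mono c₀]
      show (𝟙 O ≫ hB.choose) ≫ jO ≫ c₀ = 𝟙 O ≫ jO ≫ c₀
      rw [Category.id_comp, Category.id_comp]
      exact hB.choose_spec
    exact (conj_id_eq hp ((G.toFunctor.map_comp _ _).symm.trans ((congrArg G.map et).trans
      (G.toFunctor.map_id gO))) h').symm
  let D := (β ⟨true⟩)⁻¹ * β ⟨false⟩
  have hD : Conj (G.map v) α D := by rw [hαφ]; exact (hvβ ⟨true⟩).inv.mul (hvβ ⟨false⟩)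
  -- the two lines
  let gL : (FibCat.overCat T).obj := Over.mk pL
  let gΩ : (FibCat.overCat T).obj := Over.mk (j ≫ pL)
  let jT : gΩ ⟶ gL := Over.homMk j rfl
  let GLin := BasedFunctor.comp (AlgSt.overMap pL) G
  let uL : (Over.map pL).obj (one L) ⟶ gL := Over.homMk (𝟙 L) (show 𝟙 L ≫ pL = 𝟙 L ≫ pL from rfl)
  have line : ∀ (l : L ⟶ Q) (hl : l ≫ pQ = pL) (i : ULift.{u} Bool) (ω : Ω ⟶ W i)
      (hω : ω ≫ o i ≫ jO = j ≫ l), ∃ ψ : gΩ ⟶ gO, ψ ≫ v = jT ≫ (Over.homMk l hl : gL ⟶ gQ) ∧ V (G.map ψ) i := by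
    intro l hl i ω hω
    refine ⟨Over.homMk (ω ≫ o i) (show (ω ≫ o i) ≫ jO ≫ pQ = j ≫ pL by
      rw [← hl, ← Category.assoc, Category.assoc ω, hω, Category.assoc]),
      Over.OverMorphism.ext ((Category.assoc ω (o i) jO).trans hω), ?_⟩
    exact ⟨eqToHom (G.w_obj gΩ) ≫ ω, by rw [map_base]; simp; rfl⟩
  have hlift : ∀ (l : L ⟶ Q) (U : Q.left.Opens), Set.range (j ≫ l).left ⊆ U →
      ∃ ω : Ω ⟶ openOver Q U, ω ≫ openOverι Q U = j ≫ l := fun l U hU' =>
    ⟨Over.homMk (IsOpenImmersion.lift U.ι (j ≫ l).left (by rwa [Scheme.Opens.range_ι]))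
      (by show _ ≫ U.ι ≫ Q.hom = _; rw [IsOpenImmersion.lift_fac_assoc]; exact Over.w (j ≫ l)),
      Over.OverMorphism.ext (IsOpenImmersion.lift_fac _ _ _)⟩
  obtain ⟨ω₁, hω₁⟩ := hlift l₁ U₁ hr₁
  obtain ⟨ω₂, hω₂⟩ := hlift l₂ U₂ hr₂
  obtain ⟨ψ₁, hψ₁, hV₁⟩ := line l₁ hl₁ ⟨false⟩ ω₁ (by rw [hoι]; exact hω₁)
  obtain ⟨ψ₂, hψ₂, hV₂⟩ := line l₂ hl₂ ⟨true⟩ ω₂ (by rw [hoι]; exact hω₂)
  have hRV' : ∀ (ψ : gΩ ⟶ gO) i, V (G.map ψ) i → R (𝒳.p.map (G.map ψ)) := fun ψ i ⟨t, ht⟩ =>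
    (Sieve.mem_ofArrows_iff _ _ _).2 ⟨i, t, ht.symm⟩
  have hα₁ : Conj (G.map ψ₁) 1 α := by
    have h := hα (G.map ψ₁) (hRV' _ _ hV₁)
    by_cases h2 : V (G.map ψ₁) ⟨true⟩
    · rw [if_pos h2, @Subsingleton.elim _ (hempty _ hV₁ h2) (pa (G.map ψ₁)) 1] at h; exact h
    · rw [if_neg h2] at h; exact h
  have hα₂ : Conj (G.map ψ₂) (pa (G.map ψ₂)) α := by
    have h := hα (G.map ψ₂) (hRV' _ _ hV₂)
    rw [if_pos hV₂] at h; exact h
  let lT₁ : gL ⟶ gQ := Over.homMk l₁ hl₁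
  let lT₂ : gL ⟶ gQ := Over.homMk l₂ hl₂
  obtain ⟨D₁, hD₁⟩ := exists_conj hp (G.map lT₁) D
  obtain ⟨D₂, hD₂⟩ := exists_conj hp (G.map lT₂) D
  obtain ⟨aL, haL⟩ := exists_conj hp (G.map (toOne gL)) a
  have hG : ∀ {g g' g'' : (FibCat.overCat T).obj} (k : g ⟶ g') (k' : g' ⟶ g''),
      G.map k ≫ G.map k' = G.map (k ≫ k') := fun k k' => (G.toFunctor.map_comp k k').symm
  have hjD₁ : Conj (G.map jT) 1 D₁ := by
    refine conj_cancel hp hD₁ ?_
    have h := hα₁.trans hD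
    exact conj_congr ((hG _ _).trans ((congrArg G.map hψ₁).trans (hG _ _).symm)) h
  have hjD₂ : Conj (G.map jT) (pa (G.map ψ₂)) D₂ := by
    refine conj_cancel hp hD₂ ?_
    have h := hα₂.trans hD
    exact conj_congr ((hG _ _).trans ((congrArg G.map hψ₂).trans (hG _ _).symm)) h
  have hja : Conj (G.map jT) (pa (G.map ψ₂)) aL := by
    refine conj_cancel hp haL ?_
    have h := hpa (G.map ψ₂)
    exact conj_congr ((hG _ _).trans ((congrArg G.map
      ((toOne_unique (ψ₂ ≫ toOne gO)).trans (toOne_unique (jT ≫ toOne gL)).symm)).trans (hG _ _).symm)) h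
  have main : ∀ b : Gerb.AutO (G.obj gL), Conj (G.map jT) 1 b → b = 1 := by
    intro b hb
    obtain ⟨b', hb'⟩ := exists_conj hp (G.map uL) b
    have h1 : b' = 1 := by
      refine aut_eq_one_of_dense hd GLin j hdense b' ?_
      obtain ⟨q, hq⟩ := exists_conj hp (GLin.map (toOne (Over.mk j : (FibCat.overCat L).obj))) b'
      let uΩ : (Over.map pL).obj (Over.mk j : (FibCat.overCat L).obj) ⟶ gΩ :=
        Over.homMk (𝟙 Ω) (show 𝟙 Ω ≫ j ≫ pL = j ≫ pL from Category.id_comp _)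
      have et : (Over.map pL).map (toOne (Over.mk j : (FibCat.overCat L).obj)) ≫ uL = uΩ ≫ jT :=
        Over.OverMorphism.ext ((Category.comp_id _).trans (Category.id_comp _).symm)
      have hq1 : q = 1 := by
        have h := conj_congr ((hG _ _).trans ((congrArg G.map et).trans (hG _ _).symm)) (hq.trans hb')
        exact conj_unique hp _ h ((Conj.one (G.map uΩ)).trans hb)
      rw [hq1] at hq
      exact hq.symm.trans (Category.id_comp _)
    subst h1
    let uL' : gL ⟶ (Over.map pL).obj (one L) :=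
      Over.homMk (𝟙 L) (show 𝟙 L ≫ 𝟙 L ≫ pL = pL by simp)
    have hu : uL' ≫ uL = 𝟙 gL := Over.OverMorphism.ext (Category.id_comp _)
    have h := (Conj.one (G.map uL')).trans hb'
    exact (conj_id_eq hp ((hG _ _).trans ((congrArg G.map hu).trans (G.toFunctor.map_id gL))) h).symm
  have hD₁1 : D₁ = 1 := main D₁ hjD₁
  have hD₂a : D₂ = aL := mul_inv_eq_one.mp (main (D₂ * aL⁻¹) (by
    have h := hjD₂.mul hja.inv
    rwa [mul_inv_cancel] at h))
  let s : one T ⟶ gL := Over.homMk z (show z ≫ pL = 𝟙 T from hzL)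
  have hs : s ≫ lT₁ = s ≫ lT₂ := Over.OverMorphism.ext hzQ
  have h₁ : Conj (G.map (s ≫ lT₁)) 1 D := by
    rw [hD₁1] at hD₁
    exact conj_congr (hG _ _) ((Conj.one (G.map s)).trans hD₁)
  obtain ⟨c', hc'⟩ := exists_conj hp (G.map s) aL
  have h₂ : Conj (G.map (s ≫ lT₁)) c' D := by
    rw [hD₂a] at hD₂; exact conj_congr ((hG _ _).trans (congrArg G.map hs.symm)) (hc'.trans hD₂)
  have hc1 : c' = 1 := conj_unique hp _ h₂ h₁
  have h₃ := hc'.trans haL
  rw [hc1] at h₃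
  exact (conj_id_eq hp ((hG _ _).trans ((congrArg G.map ((toOne_unique (s ≫ toOne gL)).trans toOne_one)).trans
    (G.toFunctor.map_id (one T)))) h₃).symm

/-- If objects with isomorphic pullbacks are isomorphic, there are no nontrivial automorphisms. -/
theorem aut_eq_one_of_sepClasses (hst : Stk.IsStack (QuotSh.J Scheme.fppfPrecoverage S) 𝒳)
    (hd : AlgSt.RepByAlgSpWith AlgSp.IsSeparatedMor (FibCat.diag (FibCat.toSelf 𝒳))) (hsep : SepClasses 𝒳)
    (x : 𝒳.obj) (a : Gerb.AutO x) : a = 1 := by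
  have hp := hst.1
  have := isFibered_of_isFibGrpd 𝒳.p hp
  let 𝒰 := (𝒳.p.obj x).left.affineCover
  refine aut_eq_one_of_cover hst x (W := fun i => Over.mk (𝒰.f i ≫ (𝒳.p.obj x).hom))
    (fun i => Over.homMk (𝒰.f i) rfl) (fun i => inferInstanceAs (IsOpenImmersion (𝒰.f i)))
    (fun w => 𝒰.exists_eq w) (fun i z φ hφ b => ?_) a
  let T : Over S := Over.mk (𝒰.f i ≫ (𝒳.p.obj x).hom)
  have hzT : 𝒳.p.obj z = T := @IsHomLift.domain_eq _ _ _ _ 𝒳.p _ _ _ _ _ φ hφ
  have : IsAffine T.left := inferInstanceAs (IsAffine (𝒰.X i))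
  obtain ⟨G, -, ⟨e⟩⟩ := exists_evalAtId_iso (𝒳 := 𝒳) (U := T) ⟨z, hzT⟩
  let eh : G.obj (one T) ⟶ z := e.hom.1
  obtain ⟨b', hb'⟩ := exists_conj hp eh b
  rw [aut_eq_one_of_sepClasses_affine hst hd hsep G b'] at hb'
  have h : eh ≫ b.hom.1 = eh := hb'.symm.trans (Category.id_comp _)
  refine autO_ext ?_
  show b.hom.1 = 𝟙 z
  calc b.hom.1 = (e.inv.1 ≫ eh) ≫ b.hom.1 := by rw [show e.inv.1 ≫ eh = 𝟙 z from congrArg Subtype.val e.inv_hom_id]; simp
    _ = 𝟙 z := (Category.assoc _ _ _).trans ((congrArg (e.inv.1 ≫ ·) h).trans (congrArg Subtype.val e.inv_hom_id))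

/-- Clean stacks have a separated presheaf of isomorphism classes. -/
theorem sepClasses_of_clean (hst : Stk.IsStack (QuotSh.J Scheme.fppfPrecoverage S) 𝒳)
    (hcl : ∀ η : 𝒳.obj, IsoNat.IsClean η) : SepClasses 𝒳 := by
  intro T T' π _ _ _ x₁ x₂ x₁' x₂' a₁ a₂ ha₁ ha₂ ⟨e⟩
  have hp := hst.1
  have := isFibered_of_isFibGrpd 𝒳.p hp
  obtain ⟨G₁, -, ⟨e₁⟩⟩ := exists_evalAtId_iso (𝒳 := 𝒳) (U := T) x₁
  obtain ⟨G₂, -, ⟨e₂⟩⟩ := exists_evalAtId_iso (𝒳 := 𝒳) (U := T) x₂
  let R := Sieve.ofArrows (fun _ : PUnit.{u + 1} => T') (fun _ => π)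
  have hR : R ∈ (QuotSh.J Scheme.fppfPrecoverage S) T := by
    rw [GrothendieckTopology.mem_over_iff]
    have : Sieve.generate (Presieve.ofArrows (fun _ : PUnit.{u + 1} => T'.left) fun _ => π.left) ∈
        Scheme.fppfTopology T.left :=
      Precoverage.generate_mem_toGrothendieck ((Scheme.ofArrows_mem_precoverage_iff _).2
        ⟨fun w => ⟨⟨⟩, π.left.surjective w⟩, fun _ => ⟨‹Flat π.left›, ‹LocallyOfFinitePresentation π.left›⟩⟩)
    change Sieve.overEquiv _ (Sieve.ofArrows (fun _ : PUnit.{u + 1} => T') fun _ => π) ∈ _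
    rwa [Sieve.overEquiv_ofArrows]
  have hl : ∀ (G : FibCat.overCat T ⥤ᵇ 𝒳) (x : 𝒳.p.Fiber T) (m : (FibCat.evalAtId 𝒳 T).obj G ⟶ x)
      (g : (FibCat.overCat T).obj), 𝒳.p.IsHomLift (hm g) (G.map (toOne g) ≫ m.1) := fun G x m g => by
    have := based_lift_one G g
    let m' : G.obj (one T) ⟶ x.1 := m.1
    have : 𝒳.p.IsHomLift (𝟙 T) m' := m.2
    have h := (inferInstance : 𝒳.p.IsHomLift (hm g ≫ 𝟙 T) (G.map (toOne g) ≫ m'))
    rwa [Category.comp_id] at h
  have hex : ∀ g : (Stk.sieveCat R).obj, ∃ f : G₁.obj g.1 ⟶ G₂.obj g.1,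
      𝒳.p.IsHomLift (𝟙 ((Stk.sieveCat R).p.obj g)) f := fun g => by
    obtain ⟨-, t, ht⟩ := (Sieve.mem_ofArrows_iff _ _ _).1 g.2
    obtain ⟨z, ζ, hζ⟩ := exists_stronglyCartesian 𝒳.p x₁'.2 t
    have := hζ.toIsHomLift
    have : 𝒳.p.IsHomLift π a₁ := ha₁
    have : 𝒳.p.IsHomLift π a₂ := ha₂
    have : 𝒳.p.IsHomLift (𝟙 T') e.hom.1 := e.hom.2
    have h₁ : 𝒳.p.IsHomLift (t ≫ π) (ζ ≫ a₁) := inferInstance
    have h₂ : 𝒳.p.IsHomLift ((t ≫ 𝟙 T') ≫ π) ((ζ ≫ e.hom.1) ≫ a₂) := inferInstance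
    rw [Category.comp_id] at h₂
    rw [← ht] at h₁ h₂
    obtain ⟨χ₁, hχ₁⟩ := exists_compare hp _ _ _ (hl G₁ x₁ e₁.hom g.1) h₁
    obtain ⟨χ₂, hχ₂⟩ := exists_compare hp _ _ _ h₂ (hl G₂ x₂ e₂.hom g.1)
    exact ⟨χ₁.hom ≫ χ₂.hom, @IsHomLift.comp_of_lift_id _ _ _ _ 𝒳.p ((Stk.sieveCat R).p.obj g) _ _ _ χ₁.hom χ₂.hom hχ₁ hχ₂⟩
  have huniq : ∀ {a b : 𝒳.obj} {U : Over S} (f f' : a ⟶ b), 𝒳.p.IsHomLift (𝟙 U) f → 𝒳.p.IsHomLift (𝟙 U) f' →
      f = f' := fun {a b U} f f' hf hf' => by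
    have := stronglyCartesian_of_isFibGrpd 𝒳.p hp (𝟙 U) f
    let s : a ⟶ a := IsCartesian.map 𝒳.p (𝟙 U) f f'
    have hs : 𝒳.p.map s = 𝟙 (𝒳.p.obj a) := by
      obtain rfl : 𝒳.p.obj a = U := IsHomLift.domain_eq 𝒳.p (𝟙 U) f
      exact (IsHomLift.eq_of_isHomLift 𝒳.p (𝟙 (𝒳.p.obj a)) s).symm
    have h : s ≫ f = f' := IsCartesian.fac 𝒳.p (𝟙 U) f f'
    rw [← h, hcl a a (𝟙 a) s hs, Category.id_comp]
  choose f hf using hex
  let γ : (Stk.resSieve R 𝒳).obj G₁ ⟶ (Stk.resSieve R 𝒳).obj G₂ :=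
    { toNatTrans :=
        { app := f
          naturality := fun g g' k => by
            show G₁.map k.hom ≫ f g' = f g ≫ G₂.map k.hom
            have := based_lift G₁ k.hom
            have := based_lift G₂ k.hom
            have := stronglyCartesian_of_isFibGrpd 𝒳.p hp ((FibCat.overCat T).p.map k.hom) (G₂.map k.hom)
            have : 𝒳.p.IsHomLift (𝟙 ((FibCat.overCat T).p.obj g'.1)) (f g') := hf g'
            have h := (inferInstance : 𝒳.p.IsHomLift ((FibCat.overCat T).p.map k.hom ≫ 𝟙 _) (G₁.map k.hom ≫ f g'))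
            rw [Category.comp_id] at h
            have := h
            let m := IsCartesian.map 𝒳.p ((FibCat.overCat T).p.map k.hom) (G₂.map k.hom) (G₁.map k.hom ≫ f g')
            rw [show f g = m from huniq (U := (FibCat.overCat T).p.obj g.1) _ _ (hf g) inferInstance]
            exact (IsCartesian.fac 𝒳.p ((FibCat.overCat T).p.map k.hom) (G₂.map k.hom) _).symm }
      isHomLift' := fun g => hf g }
  have : (Stk.resSieve R 𝒳).IsEquivalence := hst.2 R hR
  have := isGroupoid_fiber 𝒳.p hp T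
  let m : x₁ ⟶ x₂ := e₁.inv ≫ (FibCat.evalAtId 𝒳 T).map ((Stk.resSieve R 𝒳).preimage γ) ≫ e₂.hom
  have : IsIso m := IsGroupoid.all_isIso m
  exact ⟨asIso m⟩

/-- A stack is clean if and only if its presheaf of isomorphism classes is separated. -/
theorem clean_iff_sepClasses (hst : Stk.IsStack (QuotSh.J Scheme.fppfPrecoverage S) 𝒳)
    (hd : AlgSt.RepByAlgSpWith AlgSp.IsSeparatedMor (FibCat.diag (FibCat.toSelf 𝒳))) :
    (∀ η : 𝒳.obj, IsoNat.IsClean η) ↔ SepClasses 𝒳 := by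
  refine ⟨sepClasses_of_clean hst, fun hsep η x _ s hs => ?_⟩
  have hl : 𝒳.p.IsHomLift (𝟙 (𝒳.p.obj x)) s := by rw [← hs]; exact IsHomLift.map 𝒳.p s
  obtain ⟨a, ha⟩ := exists_autO hst.1 rfl s hl
  rw [← ha, aut_eq_one_of_sepClasses hst hd hsep x a]
  rfl

end Groth.Agent.AlgStLib
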