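import Groth.Agent.AlgStLib.RepDiag
import Groth.Agent.S10527
import Mathlib

/-!
Uniqueness of representing spaces, descent of properties of representable morphisms.
-/

set_option autoImplicit false
set_option backward.isDefEq.respectTransparency false
set_option backward.isDefEq.respectTransparency.types false

universe u

open CategoryTheory CategoryTheory.Limits CategoryTheory.Functor AlgebraicGeometry Opposite AlgSp

namespace Groth.Agent.AlgStLib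

open Groth.Agent Groth.Agent.FibBasics Groth.Agent.AlgSpLib

variable {S : Scheme.{u}} {P : MorphismProperty (Sp S)}

theorem spMapOf_congr {F G : Sp S} {Φ Ψ : AlgSt.ofSp F ⥤ᵇ AlgSt.ofSp G} (α : Φ ≅ Ψ) : spMapOf Φ = spMapOf Ψ :=
  ObjectProperty.hom_ext _ (pshMapOf_congr fun a => ⟨α.hom.toNatTrans.app a, α.hom.isHomLift' a⟩)

theorem spMapOf_comp {F G H : Sp S} (Φ : AlgSt.ofSp F ⥤ᵇ AlgSt.ofSp G) (Ψ : AlgSt.ofSp G ⥤ᵇ AlgSt.ofSp H) :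
    spMapOf (BasedFunctor.comp Φ Ψ) = spMapOf Φ ≫ spMapOf Ψ :=
  ObjectProperty.hom_ext _ (pshMapOf_comp Φ Ψ)

theorem spMapOf_id (F : Sp S) : spMapOf (BasedFunctor.id (AlgSt.ofSp F)) = 𝟙 F := by
  refine ObjectProperty.hom_ext _ ?_
  ext T x
  show F.obj.map (𝟙 T.unop).op x = x
  simp

theorem spMapOf_ofOverCat {F : Sp S} {U : Over S} (Φ : AlgSt.ofSp F ⥤ᵇ FibCat.overCat U) :
    spMapOf (BasedFunctor.comp Φ (AlgSt.ofOverCat U)) = AlgSt.spMapOfOver Φ := by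
  refine ObjectProperty.hom_ext _ ?_
  rfl

theorem isFppfCover_of_isIso {F G : Sp S} (g : F ⟶ G) [IsIso g] :
    IsFppfCover (fun _ : PUnit.{u + 1} => F) (fun _ => g) :=
  ⟨fun _ => ⟨locP_of_isIso, locP_of_isIso⟩, fun y =>
    ⟨⟨⟩, surjective_map_of_repWith (repWith_iso g) y⟩⟩

theorem prop_of_iso (hP : IsLocalOnBase IsFppfCover P) {F F' G : Sp S} (hF : IsAlgSpace F) (hF' : IsAlgSpace F')
    (hG : IsAlgSpace G) (i : F' ≅ F) {f : F ⟶ G} (h : P f) : P (i.hom ≫ f) :=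
  (hP (fun _ : PUnit.{u + 1} => G) (fun _ => 𝟙 G) hG (fun _ => hG) (isFppfCover_of_isIso _) f hF
    (fun _ => F') (fun _ => i.hom ≫ f) (fun _ => i.hom) (fun _ => hF')
    (fun _ => IsPullback.of_horiz_isIso ⟨(Category.comp_id _).symm⟩)).1 h ⟨⟩

/-- Any representing space will do. -/
theorem prop_of_rep (hP : IsLocalOnBase IsFppfCover P) {𝒱 : AlgSt.Cat S} {F F' B : AlgSp.Space S}
    {e : AlgSt.ofSp F.obj ⥤ᵇ 𝒱} {e' : AlgSt.ofSp F'.obj ⥤ᵇ 𝒱} (he : FibCat.IsEquivOver e)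
    (he' : FibCat.IsEquivOver e') (p : 𝒱 ⥤ᵇ AlgSt.ofSp B.obj) (h : P (spMapOf (BasedFunctor.comp e p))) :
    P (spMapOf (BasedFunctor.comp e' p)) := by
  obtain ⟨L, hL, ⟨η⟩, ⟨ε⟩⟩ := isEquivOver_symm he
  obtain ⟨L', hL', ⟨η'⟩, ⟨ε'⟩⟩ := isEquivOver_symm he'
  let i : F'.obj ≅ F.obj :=
    { hom := spMapOf (BasedFunctor.comp e' L)
      inv := spMapOf (BasedFunctor.comp e L')
      hom_inv_id := (spMapOf_comp _ _).symm.trans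
        ((spMapOf_congr (bWhiskerR (bWhiskerL e' ε) L' ≪≫ η')).trans (spMapOf_id _))
      inv_hom_id := (spMapOf_comp _ _).symm.trans
        ((spMapOf_congr (bWhiskerR (bWhiskerL e ε') L ≪≫ η)).trans (spMapOf_id _)) }
  have := prop_of_iso hP F.property F'.property B.property i h
  rw [← spMapOf_comp] at this
  exact (spMapOf_congr (bWhiskerR (bWhiskerL e' ε) p) :
    spMapOf (BasedFunctor.comp (BasedFunctor.comp e' L) (BasedFunctor.comp e p)) = spMapOf (BasedFunctor.comp e' p)) ▸ this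

theorem prop_of_rep_over (hP : IsLocalOnBase IsFppfCover P) {𝒱 : AlgSt.Cat S} {F F' : AlgSp.Space S} {U : Over S}
    {e : AlgSt.ofSp F.obj ⥤ᵇ 𝒱} {e' : AlgSt.ofSp F'.obj ⥤ᵇ 𝒱} (he : FibCat.IsEquivOver e)
    (he' : FibCat.IsEquivOver e') (p : 𝒱 ⥤ᵇ FibCat.overCat U)
    (h : P (AlgSt.spMapOfOver (BasedFunctor.comp e p))) : P (AlgSt.spMapOfOver (BasedFunctor.comp e' p)) := by
  rw [← spMapOf_ofOverCat] at h ⊢
  exact prop_of_rep hP (B := ⟨_, IsAlgSpace.yon_obj U⟩) he he' (BasedFunctor.comp p (AlgSt.ofOverCat U)) h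

variable {𝒳 𝒴 𝒵 : AlgSt.Cat S}

/-- Flat, locally finitely presented and surjective. -/
def FppfMor (z : 𝒵 ⥤ᵇ 𝒴) : Prop :=
  AlgSt.RepByAlgSpWith (LocP @Flat) z ∧ AlgSt.RepByAlgSpWith (LocP @LocallyOfFinitePresentation) z ∧
    AlgSt.RepByAlgSpWith IsSurjectiveMor z

/-- Properties descend along fppf morphisms of stacks. -/
theorem repWith_of_fppf_baseChange (hP : IsLocalOnBase IsFppfCover P) (h𝒳 : FibCat.IsFibGrpd 𝒳.p)
    (h𝒴 : FibCat.IsFibGrpd 𝒴.p) (h𝒵 : FibCat.IsFibGrpd 𝒵.p) {f : 𝒳 ⥤ᵇ 𝒴} (hf : AlgSt.RepByAlgSp1 f)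
    {z : 𝒵 ⥤ᵇ 𝒴} (hz : FppfMor z) (h : AlgSt.RepByAlgSpWith P (FibCat.fpFst z f)) :
    AlgSt.RepByAlgSpWith P f := by
  intro U y
  obtain ⟨F, e, he⟩ := hf U y
  refine ⟨F, e, he, ?_⟩
  let b₀ := BasedFunctor.comp e (FibCat.fpFst y f)
  let r : F.obj ⟶ (yon S).obj U := AlgSt.spMapOfOver b₀
  obtain ⟨G, eG, heG, hg1⟩ := hz.1 U y
  have hg2 : LocP @LocallyOfFinitePresentation (AlgSt.spMapOfOver (BasedFunctor.comp eG (FibCat.fpFst y z))) := by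
    obtain ⟨G', e', he', h'⟩ := hz.2.1 U y
    exact prop_of_rep_over (Groth.Agent.AlgStLib.isLocalOnBase_fppf (Groth.Agent.S10527.result S)) he' heG _ h'
  have hg3 : IsSurjectiveMor (AlgSt.spMapOfOver (BasedFunctor.comp eG (FibCat.fpFst y z))) := by
    obtain ⟨G', e', he', h'⟩ := hz.2.2 U y
    exact prop_of_rep_over isLocalOnBase_fppf_surjective he' heG _ h'
  let g₀ := BasedFunctor.comp eG (FibCat.fpFst y z)
  let g : G.obj ⟶ (yon S).obj U := AlgSt.spMapOfOver g₀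
  let zG : AlgSt.ofSp G.obj ⥤ᵇ 𝒵 := BasedFunctor.comp eG (FibCat.fpSnd y z)
  let Q : AlgSp.Space S := ⟨pullback g r, isAlgSpace_pullback g r G.property F.property (IsAlgSpace.yon_obj U)⟩
  have sq := IsPullback.of_hasPullback g r
  have sq' : IsPullback (pullback.fst g r).hom (pullback.snd g r).hom g.hom r.hom :=
    sq.map (sheafToPresheaf (J S) (Type (u + 1)))
  let ig : AlgSt.ofSpMap g ≅ BasedFunctor.comp g₀ (AlgSt.ofOverCat U) :=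
    (ofPshMapIso _ ≪≫ eqToIso (by congr 1)).symm
  let ir : AlgSt.ofSpMap r ≅ BasedFunctor.comp b₀ (AlgSt.ofOverCat U) :=
    (ofPshMapIso _ ≪≫ eqToIso (by congr 1)).symm
  obtain ⟨M, hM, -, ⟨εM⟩⟩ := isEquivOver_symm (fpPost_isEquivOver g₀ b₀ (ofOverCat_isEquivOver U))
  obtain ⟨N, hN, -, ⟨εN⟩⟩ := isEquivOver_symm (fpPaste_isEquivOver f z zG)
  let ν : BasedFunctor.comp g₀ y ≅ BasedFunctor.comp zG z := bWhiskerL eG (FibCat.fpIso y z)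
  let E := BasedFunctor.comp (sqFun sq'.w) (BasedFunctor.comp (fpIsoFst ig _) (BasedFunctor.comp (fpIsoSnd _ ir)
    (BasedFunctor.comp M (BasedFunctor.comp (fpMapSnd g₀ e (FibCat.fpFst y f))
      (BasedFunctor.comp (fpPaste f y g₀) (BasedFunctor.comp (fpIsoFst ν f) N))))))
  have hE : FibCat.IsEquivOver E :=
    isEquivOver_comp (sqFun_isEquivOver sq') (isEquivOver_comp (fpIsoFst_isEquivOver ig _)
      (isEquivOver_comp (fpIsoSnd_isEquivOver _ ir) (isEquivOver_comp hM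
        (isEquivOver_comp (fpMapSnd_isEquivOver _ he _) (isEquivOver_comp (fpPaste_isEquivOver f y g₀)
          (isEquivOver_comp (fpIsoFst_isEquivOver ν f) hN))))))
  obtain ⟨H, eH, heH, hH⟩ := exists_rep_along_local hP (fp_isFibGrpd h𝒵 h𝒳 h𝒴) h𝒵 h G zG
  have hQ := prop_of_rep hP (F' := Q) (B := G) heH hE (FibCat.fpFst zG (FibCat.fpFst z f)) hH
  let E₁ := BasedFunctor.comp (sqFun sq'.w) (BasedFunctor.comp (fpIsoFst ig _) (fpIsoSnd _ ir))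
  let E₂ := BasedFunctor.comp E₁ (BasedFunctor.comp M (BasedFunctor.comp (fpMapSnd g₀ e (FibCat.fpFst y f))
    (BasedFunctor.comp (fpPaste f y g₀) (fpIsoFst ν f))))
  let α₁ : BasedFunctor.comp E (FibCat.fpFst zG (FibCat.fpFst z f)) ≅
      BasedFunctor.comp (BasedFunctor.comp E₁ M) (FibCat.fpFst g₀ b₀) :=
    bWhiskerR (bWhiskerL E₂ εN) (FibCat.fpFst (BasedFunctor.comp zG z) f)
  let α₂ : BasedFunctor.comp (BasedFunctor.comp E₁ M) (FibCat.fpFst g₀ b₀) ≅ AlgSt.ofSpMap (pullback.fst g r) :=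
    bWhiskerR (bWhiskerL E₁ εM)
      (FibCat.fpFst (BasedFunctor.comp g₀ (AlgSt.ofOverCat U)) (BasedFunctor.comp b₀ (AlgSt.ofOverCat U)))
  have key : spMapOf (BasedFunctor.comp E (FibCat.fpFst zG (FibCat.fpFst z f))) = pullback.fst g r :=
    (spMapOf_congr (α₁ ≪≫ α₂)).trans (ObjectProperty.hom_ext _ (pshMapOf_ofPshMap _))
  rw [key] at hQ
  exact (hP (fun _ : PUnit.{u + 1} => G.obj) (fun _ => g) (IsAlgSpace.yon_obj U) (fun _ => G.property)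
    ⟨fun _ => ⟨hg1, hg2⟩, fun x => ⟨⟨⟩, hg3 x⟩⟩ r F.property (fun _ => Q.obj) (fun _ => pullback.fst g r)
    (fun _ => pullback.snd g r) (fun _ => Q.property) (fun _ => sq.flip)).2 fun _ => hQ

end Groth.Agent.AlgStLib

namespace Groth.Agent.AlgStLib

open Groth.Agent Groth.Agent.FibBasics Groth.Agent.AlgSpLib

variable {S : Scheme.{u}} {P : MorphismProperty (Sp S)} {𝒳 𝒴 𝒵 : AlgSt.Cat S}

section BcPair

variable (f : 𝒳 ⥤ᵇ 𝒴) (g : 𝒵 ⥤ᵇ 𝒴)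

/-- The target of the diagonal of a base change, as a base change. -/
noncomputable def bcTarget : FibCat.fp (FibCat.fpFst g f) (FibCat.fpFst g f) ⥤ᵇ
    FibCat.fp (BasedFunctor.comp (FibCat.fpFst f f) f) g :=
  FibCat.fpLift (bcPair f g) (BasedFunctor.comp (FibCat.fpFst _ _) (FibCat.fpFst g f))
    (bWhiskerL (FibCat.fpFst (FibCat.fpFst g f) (FibCat.fpFst g f)) (FibCat.fpIso g f).symm)

theorem bcTarget_isEquivOver : FibCat.IsEquivOver (bcTarget f g) := by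
  have key : ∀ {a b : (FibCat.fp (FibCat.fpFst g f) (FibCat.fpFst g f)).obj} (φ : a ⟶ b),
      φ.hom.snd.hom.fst = a.obj.iso.inv ≫ φ.hom.fst.hom.fst ≫ b.obj.iso.hom := fun φ =>
    ((Iso.eq_inv_comp _).2 φ.hom.w.symm :)
  have : (bcTarget f g).toFunctor.Faithful := ⟨fun {a b} φ ψ h => by
    have h1 : φ.hom.fst = ψ.hom.fst :=
      fp_hom_ext (congrArg (fun m => m.hom.snd) h :) (congrArg (fun m => m.hom.fst.hom.fst) h :)
    refine fp_hom_ext h1 (fp_hom_ext ?_ (congrArg (fun m => m.hom.fst.hom.snd) h :))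
    rw [key φ, key ψ, h1]⟩
  have : (bcTarget f g).toFunctor.Full := ⟨fun {a b} m => by
    let A := a.obj.fst
    let A' := a.obj.snd
    let B := b.obj.fst
    let B' := b.obj.snd
    let κ : A.obj.fst ⟶ A'.obj.fst := a.obj.iso.hom
    let μ : B.obj.fst ⟶ B'.obj.fst := b.obj.iso.hom
    let s : A.obj.fst ⟶ B.obj.fst := m.hom.snd
    let p : A.obj.snd ⟶ B.obj.snd := m.hom.fst.hom.fst
    let q : A'.obj.snd ⟶ B'.obj.snd := m.hom.fst.hom.snd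
    let s' : A'.obj.fst ⟶ B'.obj.fst := a.obj.iso.inv ≫ s ≫ μ
    have w1 : f.map p ≫ B.obj.iso.inv = A.obj.iso.inv ≫ g.map s := m.hom.w
    have w2 : f.map p ≫ B.obj.iso.inv ≫ g.map μ ≫ B'.obj.iso.hom =
        (A.obj.iso.inv ≫ g.map κ ≫ A'.obj.iso.hom) ≫ f.map q := m.hom.fst.hom.w
    have hA : g.map s ≫ B.obj.iso.hom = A.obj.iso.hom ≫ f.map p := by
      rw [Iso.comp_inv_eq] at w1
      rw [w1, Category.assoc, Iso.hom_inv_id_assoc]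
    have hs' : κ ≫ s' = s ≫ μ := Iso.hom_inv_id_assoc _ _
    have hA' : g.map s' ≫ B'.obj.iso.hom = A'.obj.iso.hom ≫ f.map q := by
      rw [reassoc_of% w1, ← g.toFunctor.map_comp_assoc, ← hs', g.toFunctor.map_comp] at w2
      simp only [Category.assoc] at w2
      exact (cancel_epi (g.map κ)).1 ((cancel_epi A.obj.iso.inv).1 w2)
    exact ⟨fpHom (fpHom s p hA) (fpHom s' q hA') hs'.symm, fp_hom_ext (fp_hom_ext rfl rfl) rfl⟩⟩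
  refine isEquivOver_of_essSurjOver _ fun z => ?_
  obtain ⟨⟨⟨⟨x, x', ψ⟩, hψ⟩, t, μ⟩, hμ⟩ := z
  have ht : 𝒵.p.obj t = 𝒳.p.obj x := fp_snd_proj (⟨⟨⟨⟨x, x', ψ⟩, hψ⟩, t, μ⟩, hμ⟩ :
    (FibCat.fp (BasedFunctor.comp (FibCat.fpFst f f) f) g).obj)
  have hμ' : 𝒴.p.IsHomLift (𝟙 (𝒳.p.obj x)) μ.hom := hμ
  have hi : 𝒴.p.IsHomLift (𝟙 (𝒳.p.obj x)) μ.inv := @IsHomLift.lift_id_inv _ _ _ _ 𝒴.p _ _ _ _ hμ'
  have hψ' : 𝒴.p.IsHomLift (𝟙 (𝒳.p.obj x)) ψ.hom := hψ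
  let A : (FibCat.fp g f).obj := ⟨⟨t, x, μ.symm⟩, show 𝒴.p.IsHomLift (𝟙 (𝒵.p.obj t)) μ.inv by rw [ht]; exact hi⟩
  let A' : (FibCat.fp g f).obj := ⟨⟨t, x', μ.symm ≪≫ ψ⟩,
    show 𝒴.p.IsHomLift (𝟙 (𝒵.p.obj t)) (μ.inv ≫ ψ.hom) by
      rw [ht]; exact @IsHomLift.comp_of_lift_id _ _ _ _ _ _ _ _ _ _ _ hi hψ'⟩
  let a : (FibCat.fp (FibCat.fpFst g f) (FibCat.fpFst g f)).obj :=
    ⟨⟨A, A', Iso.refl t⟩, IsHomLift.id rfl⟩
  refine ⟨a, ObjectProperty.isoMk _ (CategoricalPullback.mkIso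
    (ObjectProperty.isoMk _ (CategoricalPullback.mkIso (Iso.refl x) (Iso.refl x') ?_)) (Iso.refl t) ?_),
    fp_lift_of_fst _ _ (fp_lift_of_fst _ _ (IsHomLift.id rfl))⟩
  · show f.map (𝟙 x) ≫ ψ.hom = (μ.hom ≫ g.map (𝟙 t) ≫ μ.inv ≫ ψ.hom) ≫ f.map (𝟙 x')
    rw [f.toFunctor.map_id, g.toFunctor.map_id, f.toFunctor.map_id]
    simp
  · show f.map (𝟙 x) ≫ μ.hom = μ.hom ≫ g.map (𝟙 t)
    rw [f.toFunctor.map_id, g.toFunctor.map_id]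
    simp

theorem fppfMor_bcPair {g : 𝒵 ⥤ᵇ 𝒴} (hg : FppfMor g) : FppfMor (bcPair f g) :=
  have h : ∀ Q : MorphismProperty (Sp S), AlgSt.RepByAlgSpWith Q g → AlgSt.RepByAlgSpWith Q (bcPair f g) :=
    fun Q hQ => (repWith_comp_equiv (f := FibCat.fpFst (BasedFunctor.comp (FibCat.fpFst f f) f) g)
      (bcTarget_isEquivOver f g)).2 (repWith_fpFst _ hQ)
  ⟨h _ hg.1, h _ hg.2.1, h _ hg.2.2⟩

theorem repWith_fpFst_bcPair (h : AlgSt.RepByAlgSpWith P (FibCat.diag (FibCat.fpFst g f))) :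
    AlgSt.RepByAlgSpWith P (FibCat.fpFst (bcPair f g) (FibCat.diag f)) := fun U T => by
  obtain ⟨F, e, he, hF⟩ := h U T
  obtain ⟨e', he', hm⟩ := exists_rep_transfer (fpPaste (FibCat.diag f) (bcPair f g) T) (fpPaste_isEquivOver _ _ T)
    (FibCat.fpFst T (FibCat.fpFst (bcPair f g) (FibCat.diag f))) (FibCat.fpFst _ _) rfl
    (isEquivOver_comp he (bcDiag_isEquivOver f g T))
  exact ⟨F, e', he', hm ▸ hF⟩

end BcPair

/-- Properties of diagonals descend along fppf morphisms. -/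
theorem repWith_diag_descend (hP : IsLocalOnBase IsFppfCover P) (h𝒳 : AlgSt.IsAlgStack Scheme.fppfPrecoverage 𝒳)
    (h𝒴 : AlgSt.IsAlgStack Scheme.fppfPrecoverage 𝒴) (h𝒵 : FibCat.IsFibGrpd 𝒵.p) {f : 𝒳 ⥤ᵇ 𝒴} {g : 𝒵 ⥤ᵇ 𝒴}
    (hg : FppfMor g) (h : AlgSt.RepByAlgSpWith P (FibCat.diag (FibCat.fpFst g f))) :
    AlgSt.RepByAlgSpWith P (FibCat.diag f) := by
  have hb := fp_isFibGrpd (F := g) (G := f) h𝒵 h𝒳.isStack.1 h𝒴.isStack.1
  exact repWith_of_fppf_baseChange hP h𝒳.isStack.1 (fp_isFibGrpd h𝒳.isStack.1 h𝒳.isStack.1 h𝒴.isStack.1)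
    (fp_isFibGrpd hb hb h𝒵) (repByAlgSp1_diag h𝒳.isStack.1 h𝒴.isStack.1 h𝒳.diag h𝒴.diag f)
    (fppfMor_bcPair f hg) (repWith_fpFst_bcPair f g h)

end Groth.Agent.AlgStLib

namespace Groth.Agent.AlgStLib

open Groth.Agent Groth.Agent.FibBasics Groth.Agent.AlgSpLib

variable {S : Scheme.{u}} {P : MorphismProperty (Sp S)} {𝒳 𝒴 : AlgSt.Cat S}

theorem exists_space_rep (hP : IsLocalOnBase IsFppfCover P) (h𝒳 : FibCat.IsFibGrpd 𝒳.p)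
    (h𝒴 : FibCat.IsFibGrpd 𝒴.p) {f : 𝒳 ⥤ᵇ 𝒴} (hf : AlgSt.RepByAlgSpWith P f) (W : AlgSp.Space S)
    (w : AlgSt.ofSp W.obj ⥤ᵇ 𝒴) :
    ∃ (V : AlgSp.Space S) (a : V ⟶ W) (e : AlgSt.ofSp V.obj ⥤ᵇ FibCat.fp w f),
      FibCat.IsEquivOver e ∧ Nonempty (BasedFunctor.comp e (FibCat.fpFst w f) ≅ AlgSt.ofSpMap a.hom) ∧ P a.hom := by
  obtain ⟨V, e, he, ha⟩ := exists_rep_along_local hP h𝒳 h𝒴 hf W w
  exact ⟨V, ObjectProperty.homMk (spMapOf (BasedFunctor.comp e (FibCat.fpFst w f))), e, he, ⟨ofPshMapIso _⟩, ha⟩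

theorem repWith_fpFst_of_space_rep
    (hPb : ∀ ⦃X₁ Y₁ X₂ Y₂ : Sp S⦄, IsAlgSpace X₁ → IsAlgSpace Y₁ → IsAlgSpace X₂ →
      IsAlgSpace Y₂ → ∀ (a : X₁ ⟶ Y₁) (b : Y₂ ⟶ Y₁) (a' : X₂ ⟶ Y₂) (b' : X₂ ⟶ X₁),
      IsPullback b' a' a b → P a → P a')
    {f : 𝒳 ⥤ᵇ 𝒴} {V W : AlgSp.Space S} {w : AlgSt.ofSp W.obj ⥤ᵇ 𝒴} (a : V ⟶ W)
    {e : AlgSt.ofSp V.obj ⥤ᵇ FibCat.fp w f} (he : FibCat.IsEquivOver e)
    (i : BasedFunctor.comp e (FibCat.fpFst w f) ≅ AlgSt.ofSpMap a.hom) (ha : P a.hom) :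
    AlgSt.RepByAlgSpWith P (FibCat.fpFst w f) :=
  (repWith_comp_equiv he).1 (repWith_of_iso i.symm (repWith_ofSpMap a.hom fun c =>
    hPb V.property W.property (isAlgSpace_pullback c _ (IsAlgSpace.yon_obj _) V.property W.property)
      (IsAlgSpace.yon_obj _) a.hom c (pullback.fst c a.hom) (pullback.snd c a.hom)
      (IsPullback.of_hasPullback c a.hom).flip ha))

theorem repWith_iff_space_rep
    (hPb : ∀ ⦃X₁ Y₁ X₂ Y₂ : Sp S⦄, IsAlgSpace X₁ → IsAlgSpace Y₁ → IsAlgSpace X₂ →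
      IsAlgSpace Y₂ → ∀ (a : X₁ ⟶ Y₁) (b : Y₂ ⟶ Y₁) (a' : X₂ ⟶ Y₂) (b' : X₂ ⟶ X₁),
      IsPullback b' a' a b → P a → P a')
    (hP : IsLocalOnBase IsFppfCover P) (h𝒳 : FibCat.IsFibGrpd 𝒳.p)
    (h𝒴 : FibCat.IsFibGrpd 𝒴.p) {f : 𝒳 ⥤ᵇ 𝒴} (hf : AlgSt.RepByAlgSp1 f) {W : AlgSp.Space S}
    {w : AlgSt.ofSp W.obj ⥤ᵇ 𝒴} (hw : FppfMor w) :
    AlgSt.RepByAlgSpWith P f ↔ ∃ (V : AlgSp.Space S) (a : V ⟶ W) (e : AlgSt.ofSp V.obj ⥤ᵇ FibCat.fp w f),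
      FibCat.IsEquivOver e ∧ Nonempty (BasedFunctor.comp e (FibCat.fpFst w f) ≅ AlgSt.ofSpMap a.hom) ∧ P a.hom :=
  ⟨fun h => exists_space_rep hP h𝒳 h𝒴 h W w, fun ⟨_, a, _, he, ⟨i⟩, ha⟩ =>
    repWith_of_fppf_baseChange hP h𝒳 h𝒴 (Stk.isFibGrpd_ofPsh _) hf hw (repWith_fpFst_of_space_rep hPb a he i ha)⟩

theorem repWith_iff_all_space_rep (hP : IsLocalOnBase IsFppfCover P) (h𝒳 : FibCat.IsFibGrpd 𝒳.p)
    (h𝒴 : FibCat.IsFibGrpd 𝒴.p) {f : 𝒳 ⥤ᵇ 𝒴} :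
    AlgSt.RepByAlgSpWith P f ↔ ∀ (Z : AlgSp.Space S) (z : AlgSt.ofSp Z.obj ⥤ᵇ 𝒴),
      ∃ (V : AlgSp.Space S) (a : V ⟶ Z) (e : AlgSt.ofSp V.obj ⥤ᵇ FibCat.fp z f),
        FibCat.IsEquivOver e ∧ Nonempty (BasedFunctor.comp e (FibCat.fpFst z f) ≅ AlgSt.ofSpMap a.hom) ∧ P a.hom := by
  refine ⟨fun h Z z => exists_space_rep hP h𝒳 h𝒴 h Z z, fun h U y => ?_⟩
  obtain ⟨V, a, e, he, ⟨i⟩, ha⟩ := h ⟨_, IsAlgSpace.yon_obj U⟩ (BasedFunctor.comp (AlgSt.toOverCat U) y)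
  refine ⟨V, BasedFunctor.comp e (fpMapFst (AlgSt.toOverCat U) y f),
    isEquivOver_comp he (fpMapFst_isEquivOver _ _ _ (toOverCat_isEquivOver U)), ?_⟩
  have e1 : spMapOf (BasedFunctor.comp e (FibCat.fpFst (BasedFunctor.comp (AlgSt.toOverCat U) y) f)) = a.hom :=
    (spMapOf_congr i).trans (ObjectProperty.hom_ext _ (pshMapOf_ofPshMap _))
  rw [← spMapOf_ofOverCat]
  rw [← e1] at ha
  exact ha

end Groth.Agent.AlgStLib
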