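import Groth.Agent.AlgStLib.Descend
import Mathlib

/-!
Properties descend along locally essentially surjective morphisms.
-/

set_option autoImplicit false
set_option backward.isDefEq.respectTransparency false
set_option backward.isDefEq.respectTransparency.types false

universe u

open CategoryTheory CategoryTheory.Limits CategoryTheory.Functor AlgebraicGeometry Opposite AlgSp

namespace Groth.Agent.AlgStLib

open Groth.Agent Groth.Agent.FibBasics Groth.Agent.AlgSpLib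

variable {S : Scheme.{u}} {P : MorphismProperty (Sp S)} {𝒳 𝒴 𝒵 : AlgSt.Cat S}

/-- The base change of a representing space along a test object lifting to `𝒵`. -/
theorem prop_fst_of_lift (hP : IsLocalOnBase IsFppfCover P) (h𝒳 : FibCat.IsFibGrpd 𝒳.p)
    (h𝒴 : FibCat.IsFibGrpd 𝒴.p) (h𝒵 : FibCat.IsFibGrpd 𝒵.p) {f : 𝒳 ⥤ᵇ 𝒴} {z : 𝒵 ⥤ᵇ 𝒴}
    (h : AlgSt.RepByAlgSpWith P (FibCat.fpFst z f)) {U : Over S} {y : FibCat.overCat U ⥤ᵇ 𝒴}
    {F : AlgSp.Space S} {e : AlgSt.ofSp F.obj ⥤ᵇ FibCat.fp y f} (he : FibCat.IsEquivOver e)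
    {G : AlgSp.Space S} (g₀ : AlgSt.ofSp G.obj ⥤ᵇ FibCat.overCat U) (zG : AlgSt.ofSp G.obj ⥤ᵇ 𝒵)
    (ν : BasedFunctor.comp g₀ y ≅ BasedFunctor.comp zG z) {g : G.obj ⟶ (yon S).obj U}
    (hg : AlgSt.spMapOfOver g₀ = g) :
    P (pullback.fst g (AlgSt.spMapOfOver (BasedFunctor.comp e (FibCat.fpFst y f)))) := by
  subst hg
  let b₀ := BasedFunctor.comp e (FibCat.fpFst y f)
  let r : F.obj ⟶ (yon S).obj U := AlgSt.spMapOfOver b₀
  let g : G.obj ⟶ (yon S).obj U := AlgSt.spMapOfOver g₀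
  let Q : AlgSp.Space S := ⟨pullback g r, isAlgSpace_pullback g r G.property F.property (IsAlgSpace.yon_obj U)⟩
  have sq := IsPullback.of_hasPullback g r
  have sq' : IsPullback (pullback.fst g r).hom (pullback.snd g r).hom g.hom r.hom :=
    sq.map (sheafToPresheaf (J S) (Type (u + 1)))
  let ig : AlgSt.ofSpMap g ≅ BasedFunctor.comp g₀ (AlgSt.ofOverCat U) :=
    (ofPshMapIso _ ≪≫ eqToIso (by congr 1)).symm
  let ir : AlgSt.ofSpMap r ≅ BasedFunctor.comp b₀ (AlgSt.ofOverCat U) :=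
    (ofPshMapIso _ ≪≫ eqToIso (by congr 1)).symm
  obtain ⟨M, hM, -, ⟨εM⟩⟩ := isEquivOver_symm (fpPost_isEquivOver g₀ b₀ (ofOverCat_isEquivOver U))
  obtain ⟨N, hN, -, ⟨εN⟩⟩ := isEquivOver_symm (fpPaste_isEquivOver f z zG)
  let E := BasedFunctor.comp (sqFun sq'.w) (BasedFunctor.comp (fpIsoFst ig _) (BasedFunctor.comp (fpIsoSnd _ ir)
    (BasedFunctor.comp M (BasedFunctor.comp (fpMapSnd g₀ e (FibCat.fpFst y f))
      (BasedFunctor.comp (fpPaste f y g₀) (BasedFunctor.comp (fpIsoFst ν f) N))))))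
  have hE : FibCat.IsEquivOver E :=
    isEquivOver_comp (sqFun_isEquivOver sq') (isEquivOver_comp (fpIsoFst_isEquivOver ig _)
      (isEquivOver_comp (fpIsoSnd_isEquivOver _ ir) (isEquivOver_comp hM
        (isEquivOver_comp (fpMapSnd_isEquivOver _ he _) (isEquivOver_comp (fpPaste_isEquivOver f y g₀)
          (isEquivOver_comp (fpIsoFst_isEquivOver ν f) hN))))))
  obtain ⟨H, eH, heH, hH⟩ := exists_rep_along_local hP (fp_isFibGrpd h𝒵 h𝒳 h𝒴) h𝒵 h G zG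
  have hQ := prop_of_rep hP (F' := Q) (B := G) heH hE (FibCat.fpFst zG (FibCat.fpFst z f)) hH
  let E₁ := BasedFunctor.comp (sqFun sq'.w) (BasedFunctor.comp (fpIsoFst ig _) (fpIsoSnd _ ir))
  let E₂ := BasedFunctor.comp E₁ (BasedFunctor.comp M (BasedFunctor.comp (fpMapSnd g₀ e (FibCat.fpFst y f))
    (BasedFunctor.comp (fpPaste f y g₀) (fpIsoFst ν f))))
  let α₁ : BasedFunctor.comp E (FibCat.fpFst zG (FibCat.fpFst z f)) ≅
      BasedFunctor.comp (BasedFunctor.comp E₁ M) (FibCat.fpFst g₀ b₀) :=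
    bWhiskerR (bWhiskerL E₂ εN) (FibCat.fpFst (BasedFunctor.comp zG z) f)
  let α₂ : BasedFunctor.comp (BasedFunctor.comp E₁ M) (FibCat.fpFst g₀ b₀) ≅ AlgSt.ofSpMap (pullback.fst g r) :=
    bWhiskerR (bWhiskerL E₁ εM)
      (FibCat.fpFst (BasedFunctor.comp g₀ (AlgSt.ofOverCat U)) (BasedFunctor.comp b₀ (AlgSt.ofOverCat U)))
  have key : spMapOf (BasedFunctor.comp E (FibCat.fpFst zG (FibCat.fpFst z f))) = pullback.fst g r :=
    (spMapOf_congr (α₁ ≪≫ α₂)).trans (ObjectProperty.hom_ext _ (pshMapOf_ofPshMap _))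
  exact key ▸ hQ

theorem spMapOfOver_toOverCat_overMap {U V : Over S} (h : V ⟶ U) :
    AlgSt.spMapOfOver (BasedFunctor.comp (AlgSt.toOverCat V) (AlgSt.overMap h)) = (yon S).map h :=
  (spMapOf_ofOverCat _).symm.trans ((spMapOf_congr (eqToIso (based_ext rfl) :
    BasedFunctor.comp (BasedFunctor.comp (AlgSt.toOverCat V) (AlgSt.overMap h)) (AlgSt.ofOverCat U) ≅
      AlgSt.ofSpMap ((yon S).map h))).trans (ObjectProperty.hom_ext _ (pshMapOf_ofPshMap _)))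

/-- An fppf cover of a scheme refining a covering sieve. -/
theorem exists_isFppfCover_refine {U : Over S} {R : Sieve U} (hR : R ∈ J S U) :
    ∃ (ι : Type u) (V : ι → Over S) (h : ∀ i, V i ⟶ U), (∀ i, R.arrows (h i)) ∧
      IsFppfCover (fun i => (yon S).obj (V i)) fun i => (yon S).map (h i) := by
  have : Scheme.fppfPrecoverage.{u}.HasIsos :=
    ⟨fun {S T} f _ => (Scheme.singleton_mem_precoverage_iff (P := @Flat ⊓ @LocallyOfFinitePresentation) f).2 ⟨f.surjective, ⟨inferInstance, inferInstance⟩⟩⟩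
  have hR' : Sieve.overEquiv U R ∈ Scheme.fppfPrecoverage.toGrothendieck U.left := hR
  obtain ⟨P₀, hP₀, hle⟩ := Precoverage.mem_toGrothendieck_iff_of_isStableUnderComposition.1 hR'
  obtain ⟨ι₀, X, a, rfl⟩ := P₀.exists_eq_ofArrows
  obtain ⟨hs, ha⟩ := (Scheme.ofArrows_mem_precoverage_iff _).1 hP₀
  choose c hc using hs
  let h₀ : ∀ x : U.left, Over.mk (a (c x) ≫ U.hom) ⟶ U := fun x => Over.homMk (a (c x))
  have hh : ∀ x, R.arrows (h₀ x) := fun x => (Sieve.overEquiv_iff R (a (c x))).1 (hle _ _ ⟨c x⟩)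
  refine ⟨↥U.left, _, h₀, hh, fun x => ⟨?_, ?_⟩, fun p => ?_⟩
  · exact (locP_yon_map_iff (P := @Flat) (h₀ x)).2 (ha (c x)).1
  · exact (locP_yon_map_iff (P := @LocallyOfFinitePresentation) (h₀ x)).2 (ha (c x)).2
  · obtain ⟨x, rfl⟩ := (Points.schemeEquiv U).surjective p
    obtain ⟨t, ht⟩ := hc x
    refine ⟨x, Points.ofPt (𝟙 _) t, ?_⟩
    show Points.map ((yon S).map (h₀ x)) _ = _
    rw [Points.map_ofPt, Category.id_comp, ← Category.comp_id ((yon S).map (h₀ x)), ofPt_comp]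
    show Points.ofPt _ ((a (c x)) t) = _
    rw [ht]
    rfl

/-- A property descends along a locally essentially surjective morphism. -/
theorem repWith_of_locally_lift (hP : IsLocalOnBase IsFppfCover P) (h𝒳 : FibCat.IsFibGrpd 𝒳.p)
    (h𝒴 : FibCat.IsFibGrpd 𝒴.p) (h𝒵 : FibCat.IsFibGrpd 𝒵.p) {f : 𝒳 ⥤ᵇ 𝒴} (hf : AlgSt.RepByAlgSp1 f)
    {g : 𝒵 ⥤ᵇ 𝒴}
    (hg : ∀ (U : Over S) (y : FibCat.overCat U ⥤ᵇ 𝒴), ∃ R ∈ J S U,
      ∀ ⦃V : Over S⦄ (h : V ⟶ U), R.arrows h →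
        ∃ z : FibCat.overCat V ⥤ᵇ 𝒵, Nonempty (BasedFunctor.comp z g ≅ BasedFunctor.comp (AlgSt.overMap h) y))
    (h : AlgSt.RepByAlgSpWith P (FibCat.fpFst g f)) : AlgSt.RepByAlgSpWith P f := by
  intro U y
  obtain ⟨F, e, he⟩ := hf U y
  refine ⟨F, e, he, ?_⟩
  obtain ⟨R, hR, hz⟩ := hg U y
  obtain ⟨ι, V, m, hm, hcov⟩ := exists_isFppfCover_refine hR
  let r : F.obj ⟶ (yon S).obj U := AlgSt.spMapOfOver (BasedFunctor.comp e (FibCat.fpFst y f))
  refine (hP _ (fun i => (yon S).map (m i)) (IsAlgSpace.yon_obj U) (fun i => IsAlgSpace.yon_obj (V i)) hcov r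
    F.property (fun i => pullback ((yon S).map (m i)) r) (fun i => pullback.fst _ _) (fun i => pullback.snd _ _)
    (fun i => isAlgSpace_pullback _ _ (IsAlgSpace.yon_obj (V i)) F.property (IsAlgSpace.yon_obj U))
    (fun i => (IsPullback.of_hasPullback _ _).flip)).2 fun i => ?_
  obtain ⟨z, ⟨α⟩⟩ := hz (m i) (hm i)
  exact prop_fst_of_lift hP h𝒳 h𝒴 h𝒵 h he (G := ⟨_, IsAlgSpace.yon_obj (V i)⟩)
    (BasedFunctor.comp (AlgSt.toOverCat (V i)) (AlgSt.overMap (m i))) (BasedFunctor.comp (AlgSt.toOverCat (V i)) z)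
    (bWhiskerL (AlgSt.toOverCat (V i)) α.symm) (spMapOfOver_toOverCat_overMap (m i))

end Groth.Agent.AlgStLib
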