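import Groth.Agent.AlgStLib.StkOps
import Mathlib

/-!
Diagonals of base changes and of composites.
-/

set_option autoImplicit false
set_option backward.isDefEq.respectTransparency false
set_option backward.isDefEq.respectTransparency.types false

universe u

open CategoryTheory CategoryTheory.Limits CategoryTheory.Functor AlgebraicGeometry Opposite AlgSp

namespace Groth.Agent.AlgStLib

open Groth.Agent Groth.Agent.FibBasics Groth.Agent.AlgSpLib

variable {S : Scheme.{u}} {𝒳 𝒴 𝒵 𝒲 : AlgSt.Cat S}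

section BaseChange

variable (f : 𝒳 ⥤ᵇ 𝒴) (g : 𝒵 ⥤ᵇ 𝒴)

/-- The map from the target of the diagonal of a base change to that of the diagonal. -/
noncomputable def bcPair : FibCat.fp (FibCat.fpFst g f) (FibCat.fpFst g f) ⥤ᵇ FibCat.fp f f :=
  FibCat.fpLift (BasedFunctor.comp (FibCat.fpFst _ _) (FibCat.fpSnd g f))
    (BasedFunctor.comp (FibCat.fpSnd _ _) (FibCat.fpSnd g f))
    (bWhiskerL (FibCat.fpFst (FibCat.fpFst g f) (FibCat.fpFst g f)) (FibCat.fpIso g f).symm ≪≫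
      bWhiskerR (FibCat.fpIso (FibCat.fpFst g f) (FibCat.fpFst g f)) g ≪≫
      bWhiskerL (FibCat.fpSnd (FibCat.fpFst g f) (FibCat.fpFst g f)) (FibCat.fpIso g f))

variable {U : Over S} (T : FibCat.overCat U ⥤ᵇ FibCat.fp (FibCat.fpFst g f) (FibCat.fpFst g f))

/-- Lifts to the base change as lifts to the source. -/
noncomputable def bcDiag : FibCat.fp T (FibCat.diag (FibCat.fpFst g f)) ⥤ᵇ
    FibCat.fp (BasedFunctor.comp T (bcPair f g)) (FibCat.diag f) where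
  toFunctor :=
    { obj := fun a => ⟨⟨a.obj.fst, a.obj.snd.obj.snd, ObjectProperty.isoMk _ (CategoricalPullback.mkIso
          ((FibCat.fpSnd g f).toFunctor.mapIso ((FibCat.fpFst _ _).toFunctor.mapIso a.obj.iso))
          ((FibCat.fpSnd g f).toFunctor.mapIso ((FibCat.fpSnd _ _).toFunctor.mapIso a.obj.iso)) (by
            let A := (T.obj a.obj.fst).obj.fst
            let A' := (T.obj a.obj.fst).obj.snd
            let p := a.obj.snd
            let μ₁ : A ⟶ p := a.obj.iso.hom.hom.fst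
            let μ₂ : A' ⟶ p := a.obj.iso.hom.hom.snd
            let κ : A.obj.fst ⟶ A'.obj.fst := (T.obj a.obj.fst).obj.iso.hom
            have w : μ₁.hom.fst ≫ 𝟙 _ = κ ≫ μ₂.hom.fst := a.obj.iso.hom.hom.w
            rw [Category.comp_id] at w
            have w₁ : g.map μ₁.hom.fst ≫ p.obj.iso.hom = A.obj.iso.hom ≫ f.map μ₁.hom.snd := μ₁.hom.w
            have w₂ : g.map μ₂.hom.fst ≫ p.obj.iso.hom = A'.obj.iso.hom ≫ f.map μ₂.hom.snd := μ₂.hom.w
            show f.map μ₁.hom.snd ≫ 𝟙 _ = (A.obj.iso.inv ≫ g.map κ ≫ A'.obj.iso.hom) ≫ f.map μ₂.hom.snd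
            rw [Category.comp_id, Category.assoc, Category.assoc, ← w₂, ← g.toFunctor.map_comp_assoc, ← w, w₁,
              Iso.inv_hom_id_assoc]))⟩,
        fp_lift_of_fst _ _ (@fp_lift_snd _ _ _ _ _ _ _ _ _ _ _ (𝟙 _) a.obj.iso.hom.hom.fst
          (@fp_lift_fst _ _ _ _ _ _ _ _ _ _ _ (𝟙 _) a.obj.iso.hom a.property))⟩
      map := fun {a b} φ => fpHom φ.hom.fst φ.hom.snd.hom.snd
        (fp_hom_ext (congrArg (fun m => m.hom.fst.hom.snd) φ.hom.w :)
          (congrArg (fun m => m.hom.snd.hom.snd) φ.hom.w :))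
      map_id := fun _ => fp_hom_ext rfl rfl
      map_comp := fun _ _ => fp_hom_ext rfl rfl }
  w := rfl

theorem bcDiag_isEquivOver : FibCat.IsEquivOver (bcDiag f g T) := by
  have key : ∀ {a b : (FibCat.fp T (FibCat.diag (FibCat.fpFst g f))).obj} (φ : a ⟶ b),
      φ.hom.snd = a.obj.iso.inv.hom.fst ≫ (T.map φ.hom.fst).hom.fst ≫ b.obj.iso.hom.hom.fst := by
    intro a b φ
    exact (congrArg (fun m => m.hom.fst) ((Iso.eq_inv_comp _).2 φ.hom.w.symm) :)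
  have : (bcDiag f g T).toFunctor.Faithful := ⟨fun {a b} φ ψ h => by
    have h1 : φ.hom.fst = ψ.hom.fst := (congrArg (fun m => m.hom.fst) h :)
    exact fp_hom_ext h1 (by rw [key φ, key ψ, h1])⟩
  have : (bcDiag f g T).toFunctor.Full := ⟨fun {a b} m => by
    let s : a.obj.fst ⟶ b.obj.fst := m.hom.fst
    let r₀ : a.obj.snd.obj.snd ⟶ b.obj.snd.obj.snd := m.hom.snd
    let r : a.obj.snd ⟶ b.obj.snd := a.obj.iso.inv.hom.fst ≫ (T.map s).hom.fst ≫ b.obj.iso.hom.hom.fst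
    have ia : a.obj.iso.hom.hom.fst ≫ a.obj.iso.inv.hom.fst = 𝟙 _ := congrArg (fun k => k.hom.fst) a.obj.iso.hom_inv_id
    have ia' : a.obj.iso.inv.hom.fst.hom.snd ≫ a.obj.iso.hom.hom.fst.hom.snd = 𝟙 _ :=
      congrArg (fun k => k.hom.fst.hom.snd) a.obj.iso.inv_hom_id
    have hr : r.hom.snd = r₀ := by
      have m1 : (T.map s).hom.fst.hom.snd ≫ b.obj.iso.hom.hom.fst.hom.snd = a.obj.iso.hom.hom.fst.hom.snd ≫ r₀ :=
        congrArg (fun k => k.hom.fst) m.hom.w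
      show a.obj.iso.inv.hom.fst.hom.snd ≫ (T.map s).hom.fst.hom.snd ≫ b.obj.iso.hom.hom.fst.hom.snd = r₀
      rw [m1, ← Category.assoc, ia']
      exact Category.id_comp r₀
    have h1 : a.obj.iso.hom.hom.fst ≫ r = (T.map s).hom.fst ≫ b.obj.iso.hom.hom.fst := by
      show a.obj.iso.hom.hom.fst ≫ a.obj.iso.inv.hom.fst ≫ _ = _
      rw [← Category.assoc, ia]
      exact Category.id_comp _
    have h2 : (T.map s).hom.snd ≫ b.obj.iso.hom.hom.snd = a.obj.iso.hom.hom.snd ≫ r := by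
      refine fp_hom_ext ?_ ?_
      · show (T.map s).hom.snd.hom.fst ≫ b.obj.iso.hom.hom.snd.hom.fst = a.obj.iso.hom.hom.snd.hom.fst ≫ r.hom.fst
        have wa : a.obj.iso.hom.hom.fst.hom.fst ≫ 𝟙 _ = (T.obj a.obj.fst).obj.iso.hom ≫ a.obj.iso.hom.hom.snd.hom.fst :=
          a.obj.iso.hom.hom.w
        have wb : b.obj.iso.hom.hom.fst.hom.fst ≫ 𝟙 _ = (T.obj b.obj.fst).obj.iso.hom ≫ b.obj.iso.hom.hom.snd.hom.fst :=
          b.obj.iso.hom.hom.w
        have ws : (T.map s).hom.fst.hom.fst ≫ (T.obj b.obj.fst).obj.iso.hom =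
          (T.obj a.obj.fst).obj.iso.hom ≫ (T.map s).hom.snd.hom.fst := (T.map s).hom.w
        rw [Category.comp_id] at wa wb
        have h1' : a.obj.iso.hom.hom.fst.hom.fst ≫ r.hom.fst =
          (T.map s).hom.fst.hom.fst ≫ b.obj.iso.hom.hom.fst.hom.fst := congrArg (fun k => k.hom.fst) h1
        rw [← cancel_epi (T.obj a.obj.fst).obj.iso.hom, ← Category.assoc, ← ws, Category.assoc, ← wb, ← h1', wa,
          Category.assoc]
      · show (T.map s).hom.snd.hom.snd ≫ b.obj.iso.hom.hom.snd.hom.snd = a.obj.iso.hom.hom.snd.hom.snd ≫ r.hom.snd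
        rw [hr]
        exact congrArg (fun k => k.hom.snd) m.hom.w
    exact ⟨fpHom s r (fp_hom_ext h1.symm h2), fp_hom_ext rfl hr⟩⟩
  refine isEquivOver_of_essSurjOver _ fun z => ?_
  obtain ⟨⟨t, x₀, ν⟩, hν⟩ := z
  let A := (T.obj t).obj.fst
  let A' := (T.obj t).obj.snd
  let κ : A.obj.fst ≅ A'.obj.fst := (T.obj t).obj.iso
  let ν₁ : A.obj.snd ≅ x₀ := (FibCat.fpFst _ _).toFunctor.mapIso ν
  let ν₂ : A'.obj.snd ≅ x₀ := (FibCat.fpSnd _ _).toFunctor.mapIso ν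
  have wν : f.map ν₁.hom ≫ 𝟙 _ = (A.obj.iso.inv ≫ g.map κ.hom ≫ A'.obj.iso.hom) ≫ f.map ν₂.hom := ν.hom.hom.w
  rw [Category.comp_id] at wν
  have hA : 𝒵.p.obj A.obj.fst = t.left := T.w_obj t
  have hκ : 𝒵.p.IsHomLift (𝟙 t.left) κ.hom := fp_iso_lift (T.obj t) hA
  have hw : g.map κ.inv ≫ A.obj.iso.hom = A'.obj.iso.hom ≫ f.map (ν₂.hom ≫ ν₁.inv) := by
    rw [f.toFunctor.map_comp, ← Category.assoc]
    refine (cancel_mono (f.map ν₁.hom)).1 ?_
    rw [Category.assoc (A'.obj.iso.hom ≫ f.map ν₂.hom), ← f.toFunctor.map_comp, Iso.inv_hom_id,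
      f.toFunctor.map_id, Category.comp_id]
    rw [wν]
    simp only [Category.assoc, Iso.hom_inv_id_assoc]
    rw [← g.toFunctor.map_comp_assoc, Iso.inv_hom_id, g.toFunctor.map_id, Category.id_comp]
  let μ₂ : A' ≅ A := ObjectProperty.isoMk _ (CategoricalPullback.mkIso κ.symm (ν₂ ≪≫ ν₁.symm) hw)
  let a : (FibCat.fp T (FibCat.diag (FibCat.fpFst g f))).obj :=
    ⟨⟨t, A, ObjectProperty.isoMk _ (CategoricalPullback.mkIso (Iso.refl A) μ₂
      (show 𝟙 A.obj.fst ≫ 𝟙 A.obj.fst = κ.hom ≫ κ.inv by rw [Iso.hom_inv_id, Category.comp_id]))⟩,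
      fp_lift_of_fst _ _ (IsHomLift.id (T.w_obj t))⟩
  refine ⟨a, ObjectProperty.isoMk _ (CategoricalPullback.mkIso (Iso.refl t) ν₁ ?_), fp_lift_of_fst _ _ (IsHomLift.id rfl)⟩
  apply fp_hom_ext
  · show (T.map (𝟙 t)).hom.fst.hom.snd ≫ ν₁.hom = 𝟙 A.obj.snd ≫ ν₁.hom
    rw [T.toFunctor.map_id]
    rfl
  · show (T.map (𝟙 t)).hom.snd.hom.snd ≫ ν₂.hom = (ν₂.hom ≫ ν₁.inv) ≫ ν₁.hom
    rw [T.toFunctor.map_id, Category.assoc, Iso.inv_hom_id, Category.comp_id]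
    exact Category.id_comp _

end BaseChange

/-- The diagonal of a base change has the properties of the diagonal. -/
theorem repWith_diag_fpFst {P : MorphismProperty (Sp S)} {f : 𝒳 ⥤ᵇ 𝒴} (g : 𝒵 ⥤ᵇ 𝒴)
    (h : AlgSt.RepByAlgSpWith P (FibCat.diag f)) : AlgSt.RepByAlgSpWith P (FibCat.diag (FibCat.fpFst g f)) :=
  repWith_of_equiv (fun _ T => ⟨_, bcDiag f g T, bcDiag_isEquivOver f g T, rfl⟩) h

theorem repWith_fpSnd {P : MorphismProperty (Sp S)} {z : 𝒵 ⥤ᵇ 𝒴} (f : 𝒳 ⥤ᵇ 𝒴)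
    (h : AlgSt.RepByAlgSpWith P z) : AlgSt.RepByAlgSpWith P (FibCat.fpSnd z f) :=
  (repWith_comp_equiv (f := FibCat.fpFst f z) (fpSwap_isEquivOver z f)).2 (repWith_fpFst f h)

end Groth.Agent.AlgStLib
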