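import Groth.Agent.AlgStLib.DiagCalc
import Groth.Agent.AlgStLib.SpMorCalc
import Mathlib

/-!
Diagonals of composites, cancellation.
-/

set_option autoImplicit false
set_option backward.isDefEq.respectTransparency false
set_option backward.isDefEq.respectTransparency.types false

universe u

open CategoryTheory CategoryTheory.Limits CategoryTheory.Functor AlgebraicGeometry Opposite AlgSp

namespace Groth.Agent.AlgStLib

open Groth.Agent Groth.Agent.FibBasics Groth.Agent.AlgSpLib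

variable {S : Scheme.{u}} {𝒳 𝒴 𝒵 : AlgSt.Cat S} {P : MorphismProperty (Sp S)}

/-- `fp f f` inside `fp (f ≫ g) (f ≫ g)`. -/
noncomputable def postPair (f : 𝒳 ⥤ᵇ 𝒴) (g : 𝒴 ⥤ᵇ 𝒵) :
    FibCat.fp f f ⥤ᵇ FibCat.fp (BasedFunctor.comp f g) (BasedFunctor.comp f g) :=
  BasedFunctor.comp (magic f f g) (FibCat.fpFst (pairMap f f g) (FibCat.diag g))

theorem repWith_postPair {f : 𝒳 ⥤ᵇ 𝒴} {g : 𝒴 ⥤ᵇ 𝒵} (hg : AlgSt.RepByAlgSpWith P (FibCat.diag g)) :
    AlgSt.RepByAlgSpWith P (postPair f g) :=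
  (repWith_comp_equiv (magic_isEquivOver f f g)).2 (repWith_fpFst _ hg)

/-- The diagonal of a composite through that of the first map. -/
noncomputable def diagCompIso (f : 𝒳 ⥤ᵇ 𝒴) (g : 𝒴 ⥤ᵇ 𝒵) :
    BasedFunctor.comp (FibCat.diag f) (postPair f g) ≅ FibCat.diag (BasedFunctor.comp f g) :=
  BasedNatIso.mkNatIso (NatIso.ofComponents
    (fun x => ObjectProperty.isoMk _ (CategoricalPullback.mkIso (Iso.refl x) (Iso.refl x) (by
      show g.map (f.map (𝟙 x)) ≫ 𝟙 _ = g.map (𝟙 (f.obj x)) ≫ g.map (f.map (𝟙 x))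
      simp)))
    (fun {a b} φ => fp_hom_ext ((Category.comp_id φ).trans (Category.id_comp φ).symm)
      ((Category.comp_id φ).trans (Category.id_comp φ).symm)))
    (fun x => fp_lift_of_fst _ _ (IsHomLift.id rfl))

/-- The diagonal of a composite has a property which the two diagonals have. -/
theorem repWith_diag_comp
    (hPc : ∀ ⦃X Y Z : Sp S⦄, IsAlgSpace X → IsAlgSpace Y → IsAlgSpace Z →
      ∀ (a : X ⟶ Y) (b : Y ⟶ Z), P a → P b → P (a ≫ b))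
    (hP : IsLocalOnBase IsFppfCover P) (h𝒳 : FibCat.IsFibGrpd 𝒳.p) (h𝒴 : FibCat.IsFibGrpd 𝒴.p)
    {f : 𝒳 ⥤ᵇ 𝒴} {g : 𝒴 ⥤ᵇ 𝒵} (hf : AlgSt.RepByAlgSpWith P (FibCat.diag f))
    (hg : AlgSt.RepByAlgSpWith P (FibCat.diag g)) :
    AlgSt.RepByAlgSpWith P (FibCat.diag (BasedFunctor.comp f g)) :=
  repWith_of_iso (diagCompIso f g)
    (repWith_comp_stk hPc hP h𝒳 (fp_isFibGrpd h𝒳 h𝒳 h𝒴) hf (repWith_postPair hg))

/-- Cancellation through the diagonal. -/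
theorem repWith_cancel {Q R : MorphismProperty (Sp S)}
    (hPc : ∀ ⦃X Y Z : Sp S⦄, IsAlgSpace X → IsAlgSpace Y → IsAlgSpace Z →
      ∀ (a : X ⟶ Y) (b : Y ⟶ Z), R a → P b → Q (a ≫ b))
    (hR : IsLocalOnBase IsFppfCover R) (h𝒳 : FibCat.IsFibGrpd 𝒳.p) (h𝒴 : FibCat.IsFibGrpd 𝒴.p)
    (h𝒵 : FibCat.IsFibGrpd 𝒵.p) {f : 𝒳 ⥤ᵇ 𝒴} {g : 𝒴 ⥤ᵇ 𝒵}
    (hfg : AlgSt.RepByAlgSpWith P (BasedFunctor.comp f g)) (hΔ : AlgSt.RepByAlgSpWith R (FibCat.diag g)) :
    AlgSt.RepByAlgSpWith Q f := by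
  intro U y
  obtain ⟨F, e, he, hF⟩ := hfg U (BasedFunctor.comp y g)
  obtain ⟨G, e', he', hG⟩ := exists_rep_along_local hR h𝒴 (fp_isFibGrpd h𝒴 h𝒴 h𝒵) hΔ F
    (BasedFunctor.comp e (pairMap y f g))
  obtain ⟨L, hL, -, ⟨ε⟩⟩ := isEquivOver_symm (magic_isEquivOver y f g)
  let E := BasedFunctor.comp e' (fpMapFst e (pairMap y f g) (FibCat.diag g))
  have hE : FibCat.IsEquivOver E := isEquivOver_comp he' (fpMapFst_isEquivOver _ _ _ he)
  refine ⟨G, BasedFunctor.comp E L, isEquivOver_comp hE hL, ?_⟩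
  have h := hPc G.property F.property (IsAlgSpace.yon_obj U) _ _ hG hF
  rw [← spMapOfOver_comp] at h
  let p : FibCat.fp (pairMap y f g) (FibCat.diag g) ⥤ᵇ FibCat.overCat U :=
    BasedFunctor.comp (FibCat.fpFst (pairMap y f g) (FibCat.diag g)) (FibCat.fpFst _ _)
  let i := bWhiskerR (bWhiskerL E ε) p
  show Q (AlgSt.spMapOfOver (BasedFunctor.comp (BasedFunctor.comp E (BasedFunctor.comp L (magic y f g))) p))
  rw [spMapOfOver_congr _ (BasedFunctor.comp E p) fun a => ⟨i.hom.toNatTrans.app a, i.hom.isHomLift' a⟩]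
  exact h

end Groth.Agent.AlgStLib
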