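import Groth.Agent.AlgStLib.DiagComp
import Groth.Agent.AlgStLib.SpDiagProps
import Mathlib

/-!
Diagonals of representable morphisms.
-/

set_option autoImplicit false
set_option backward.isDefEq.respectTransparency false
set_option backward.isDefEq.respectTransparency.types false

universe u

open CategoryTheory CategoryTheory.Limits CategoryTheory.Functor AlgebraicGeometry Opposite AlgSp

namespace Groth.Agent.AlgStLib

open Groth.Agent Groth.Agent.FibBasics Groth.Agent.AlgSpLib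

variable {S : Scheme.{u}} {𝒳 𝒳' 𝒴 𝒴' : AlgSt.Cat S} {P : MorphismProperty (Sp S)}

/-- A pair of points through equivalences of the source. -/
noncomputable def sqMap (e : 𝒳' ⥤ᵇ 𝒳) (b : 𝒳 ⥤ᵇ 𝒴) :
    FibCat.fp (BasedFunctor.comp e b) (BasedFunctor.comp e b) ⥤ᵇ FibCat.fp b b :=
  BasedFunctor.comp (fpMapFst e b (BasedFunctor.comp e b)) (fpMapSnd b e b)

theorem repWith_diag_precomp {e : 𝒳' ⥤ᵇ 𝒳} (he : FibCat.IsEquivOver e) {b : 𝒳 ⥤ᵇ 𝒴} :
    AlgSt.RepByAlgSpWith P (FibCat.diag (BasedFunctor.comp e b)) ↔ AlgSt.RepByAlgSpWith P (FibCat.diag b) := by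
  have hM : FibCat.IsEquivOver (sqMap e b) :=
    isEquivOver_comp (fpMapFst_isEquivOver _ _ _ he) (fpMapSnd_isEquivOver _ he _)
  let i : BasedFunctor.comp e (FibCat.diag b) ≅ BasedFunctor.comp (FibCat.diag (BasedFunctor.comp e b)) (sqMap e b) :=
    BasedNatIso.mkNatIso (NatIso.ofComponents
      (fun x => ObjectProperty.isoMk _ (CategoricalPullback.mkIso (Iso.refl (e.obj x)) (Iso.refl (e.obj x)) (by
        show b.map (𝟙 (e.obj x)) ≫ 𝟙 _ = 𝟙 _ ≫ b.map (𝟙 (e.obj x))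
        simp)))
      (fun {x y} φ => fp_hom_ext ((Category.comp_id (e.map φ)).trans (Category.id_comp (e.map φ)).symm)
        ((Category.comp_id (e.map φ)).trans (Category.id_comp (e.map φ)).symm)))
      (fun x => fp_lift_of_fst _ _ (IsHomLift.id (e.w_obj x)))
  exact ⟨fun h => (repWith_comp_equiv he).1 (repWith_of_iso i.symm ((repWith_equiv_comp hM).2 h)),
    fun h => (repWith_equiv_comp hM).1 (repWith_of_iso i ((repWith_comp_equiv he).2 h))⟩

theorem repWith_diag_postcomp {c : 𝒴 ⥤ᵇ 𝒴'} (hc : FibCat.IsEquivOver c) {b : 𝒳 ⥤ᵇ 𝒴} :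
    AlgSt.RepByAlgSpWith P (FibCat.diag (BasedFunctor.comp b c)) ↔ AlgSt.RepByAlgSpWith P (FibCat.diag b) := by
  let i : BasedFunctor.comp (FibCat.diag b) (fpPost b b c) ≅ FibCat.diag (BasedFunctor.comp b c) :=
    BasedNatIso.mkNatIso (NatIso.ofComponents
      (fun x => ObjectProperty.isoMk _ (CategoricalPullback.mkIso (Iso.refl x) (Iso.refl x) (by
        show c.map (b.map (𝟙 x)) ≫ 𝟙 _ = c.map (𝟙 (b.obj x)) ≫ c.map (b.map (𝟙 x))
        simp)))
      (fun {x y} φ => fp_hom_ext ((Category.comp_id φ).trans (Category.id_comp φ).symm)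
        ((Category.comp_id φ).trans (Category.id_comp φ).symm)))
      (fun x => fp_lift_of_fst _ _ (IsHomLift.id rfl))
  exact ⟨fun h => (repWith_equiv_comp (fpPost_isEquivOver b b hc)).1 (repWith_of_iso i.symm h),
    fun h => repWith_of_iso i ((repWith_equiv_comp (fpPost_isEquivOver b b hc)).2 h)⟩

theorem repWith_diag_of_iso {b b' : 𝒳 ⥤ᵇ 𝒴} (α : b ≅ b') (h : AlgSt.RepByAlgSpWith P (FibCat.diag b)) :
    AlgSt.RepByAlgSpWith P (FibCat.diag b') := by
  let K := BasedFunctor.comp (fpIsoFst α b) (fpIsoSnd b' α)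
  let i : BasedFunctor.comp (FibCat.diag b) K ≅ FibCat.diag b' :=
    BasedNatIso.mkNatIso (NatIso.ofComponents
      (fun x => ObjectProperty.isoMk _ (CategoricalPullback.mkIso (Iso.refl x) (Iso.refl x) (by
        show b'.map (𝟙 x) ≫ 𝟙 _ = ((α.inv.toNatTrans.app x ≫ 𝟙 _) ≫ α.hom.toNatTrans.app x) ≫ b'.map (𝟙 x)
        have e : α.inv.toNatTrans.app x ≫ α.hom.toNatTrans.app x = 𝟙 _ :=
          congrArg (fun t => t.toNatTrans.app x) α.inv_hom_id
        rw [Category.comp_id, Category.comp_id, e]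
        exact (Category.id_comp _).symm)))
      (fun {x y} φ => fp_hom_ext ((Category.comp_id φ).trans (Category.id_comp φ).symm)
        ((Category.comp_id φ).trans (Category.id_comp φ).symm)))
      (fun x => fp_lift_of_fst _ _ (IsHomLift.id rfl))
  exact repWith_of_iso i ((repWith_equiv_comp
    (isEquivOver_comp (fpIsoFst_isEquivOver α b) (fpIsoSnd_isEquivOver b' α))).2 h)

/-- The two descriptions of the diagonal of a morphism of sheaves. -/
noncomputable def diagOfSpIso {A B : Sp S} (r : A ⟶ B) :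
    BasedFunctor.comp (AlgSt.ofSpMap (pullback.diagonal r))
      (sqFun ((IsPullback.of_hasPullback r r).map (sheafToPresheaf (J S) (Type (u + 1)))).w) ≅
        FibCat.diag (AlgSt.ofSpMap r) :=
  BasedNatIso.mkNatIso (NatIso.ofComponents
    (fun a => ObjectProperty.isoMk _ (CategoricalPullback.mkIso
      (eltIso (congrArg (fun m : A ⟶ A => m.hom.app _ a.sec) (pullback.diagonal_fst r)))
      (eltIso (congrArg (fun m : A ⟶ A => m.hom.app _ a.sec) (pullback.diagonal_snd r)))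
      (Stk.EltObj.hom_ext rfl)))
    (fun {x y} φ => fp_hom_ext (Stk.EltObj.hom_ext ((Category.comp_id φ.hom).trans (Category.id_comp φ.hom).symm))
      (Stk.EltObj.hom_ext ((Category.comp_id φ.hom).trans (Category.id_comp φ.hom).symm))))
    (fun a => fp_lift_of_fst _ _ (eltIso_lift (congrArg (fun m : A ⟶ A => m.hom.app _ a.sec) (pullback.diagonal_fst r))))

/-- The diagonal of a morphism of algebraic spaces, as stacks. -/
theorem repWith_diag_ofSpMap {A B : AlgSp.Space S} (r : A.obj ⟶ B.obj)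
    (hP : ∀ {V : Over S} (c : (yon S).obj V ⟶ pullback r r), P (pullback.fst c (pullback.diagonal r))) :
    AlgSt.RepByAlgSpWith P (FibCat.diag (AlgSt.ofSpMap r)) := by
  let R : AlgSp.Space S := ⟨pullback r r, isAlgSpace_pullback r r A.property A.property B.property⟩
  have sq : IsPullback (pullback.fst r r).hom (pullback.snd r r).hom r.hom r.hom :=
    (IsPullback.of_hasPullback r r).map (sheafToPresheaf (J S) (Type (u + 1)))
  exact repWith_of_iso (diagOfSpIso r) ((repWith_equiv_comp (sqFun_isEquivOver sq)).2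
    (repWith_ofSpMap (A := A) (B := R) (pullback.diagonal r) hP))

/-- The diagonal of a representable morphism is a base change of diagonals of morphisms of algebraic spaces. -/
theorem repWith_diag_of_rep {Q : MorphismProperty (Sp S)} {f : 𝒳 ⥤ᵇ 𝒴} (hf : AlgSt.RepByAlgSpWith Q f)
    (hP : ∀ ⦃A : Sp S⦄ (U : Over S) (r : A ⟶ (yon S).obj U), IsAlgSpace A → Q r →
      ∀ {V : Over S} (c : (yon S).obj V ⟶ pullback r r), P (pullback.fst c (pullback.diagonal r))) :
    AlgSt.RepByAlgSpWith P (FibCat.diag f) := by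
  intro U K
  let a := BasedFunctor.comp K (FibCat.fpFst f f)
  let b := BasedFunctor.comp K (FibCat.fpSnd f f)
  let g := BasedFunctor.comp a f
  obtain ⟨F, e, he, hr⟩ := hf U g
  let φ : g ≅ BasedFunctor.comp b f := bWhiskerL K (FibCat.fpIso f f)
  let σa : FibCat.overCat U ⥤ᵇ FibCat.fp g f := FibCat.fpLift (BasedFunctor.id _) a (Iso.refl g)
  let σb : FibCat.overCat U ⥤ᵇ FibCat.fp g f := FibCat.fpLift (BasedFunctor.id _) b φ
  let T : FibCat.overCat U ⥤ᵇ FibCat.fp (FibCat.fpFst g f) (FibCat.fpFst g f) :=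
    FibCat.fpLift σa σb (eqToIso (based_ext rfl))
  let τ : BasedFunctor.comp T (bcPair f g) ≅ K :=
    BasedNatIso.mkNatIso (NatIso.ofComponents
      (fun t => ObjectProperty.isoMk _ (CategoricalPullback.mkIso (Iso.refl (K.obj t).obj.fst)
        (Iso.refl (K.obj t).obj.snd) (by
          show f.map (𝟙 _) ≫ (K.obj t).obj.iso.hom =
            (𝟙 (g.obj t) ≫ g.map (𝟙 t) ≫ (K.obj t).obj.iso.hom) ≫ f.map (𝟙 _)
          rw [g.toFunctor.map_id, f.toFunctor.map_id, f.toFunctor.map_id]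
          simp)))
      (fun {x y} ψ => fp_hom_ext ((Category.comp_id (K.map ψ).hom.fst).trans (Category.id_comp (K.map ψ).hom.fst).symm)
        ((Category.comp_id (K.map ψ).hom.snd).trans (Category.id_comp (K.map ψ).hom.snd).symm)))
      (fun t => fp_lift_of_fst _ _ (IsHomLift.id (K.w_obj t)))
  let b₀ := BasedFunctor.comp e (FibCat.fpFst g f)
  let r : F.obj ⟶ (yon S).obj U := AlgSt.spMapOfOver b₀
  have h1 : AlgSt.RepByAlgSpWith P (FibCat.diag (BasedFunctor.comp b₀ (AlgSt.ofOverCat U))) := by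
    refine repWith_diag_of_iso (b := AlgSt.ofSpMap r) (ofPshMapIso _ ≪≫ eqToIso ?_).symm
      (repWith_diag_ofSpMap (A := F) (B := ⟨_, IsAlgSpace.yon_obj U⟩) r (hP U r F.property hr))
    congr 1
  have h2 := (repWith_diag_precomp he).1 ((repWith_diag_postcomp (ofOverCat_isEquivOver U)).1 h1)
  obtain ⟨G, ε, hε, hG⟩ := h2 U T
  exact ⟨G, BasedFunctor.comp ε (BasedFunctor.comp (bcDiag f g T) (fpIsoFst τ (FibCat.diag f))),
    isEquivOver_comp hε (isEquivOver_comp (bcDiag_isEquivOver f g T) (fpIsoFst_isEquivOver _ _)), hG⟩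

theorem repWith_diag_mono {f : 𝒳 ⥤ᵇ 𝒴} (hf : AlgSt.RepByAlgSp1 f) : AlgSt.IsMono (FibCat.diag f) :=
  repWith_diag_of_rep (rep1_iff.1 hf) fun _ _ r _ _ _ c => by
    have : Mono (pullback.diagonal r) := inferInstance
    exact MorphismProperty.monomorphisms.infer_property (pullback.fst c (pullback.diagonal r))

theorem repWith_diag_separated {f : 𝒳 ⥤ᵇ 𝒴} (hf : AlgSt.RepByAlgSp1 f) :
    AlgSt.RepByAlgSpWith IsSeparatedMor (FibCat.diag f) :=
  repWith_diag_of_rep (rep1_iff.1 hf) fun _ _ r _ _ _ c => isSeparatedMor_of_mono (pullback.fst c (pullback.diagonal r))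

theorem repWith_diag_locP {P : MorphismProperty Scheme.{u}} [EtLocal P]
    (hcancel : ∀ ⦃A B C : Scheme.{u}⦄ (k : A ⟶ B) (m : B ⟶ C), P (k ≫ m) → P k)
    {f : 𝒳 ⥤ᵇ 𝒴} (hf : AlgSt.RepByAlgSp1 f) : AlgSt.RepByAlgSpWith (LocP P) (FibCat.diag f) :=
  repWith_diag_of_rep (rep1_iff.1 hf) fun _ U r hA _ _ c =>
    locP_baseChange hA (isAlgSpace_pullback r r hA hA (IsAlgSpace.yon_obj U)) (IsAlgSpace.yon_obj _)
      (IsPullback.of_hasPullback c (pullback.diagonal r)).flip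
      (locP_diagonal hcancel hA (IsAlgSpace.yon_obj U))

theorem repWith_diag_of_mono {Q : MorphismProperty (Sp S)}
    (hQ : ∀ ⦃F G : Sp S⦄ (a : F ⟶ G), IsAlgSpace F → IsAlgSpace G → IsIso a → Q a) {f : 𝒳 ⥤ᵇ 𝒴}
    (hf : AlgSt.IsMono f) : AlgSt.RepByAlgSpWith Q (FibCat.diag f) :=
  repWith_diag_of_rep hf fun _ U r hA hr _ c => by
    have : Mono r := hr
    have : IsIso (pullback.diagonal r) := (pullback.isIso_diagonal_iff r).mpr inferInstance
    exact hQ _ (isAlgSpace_pullback c _ (IsAlgSpace.yon_obj _) hA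
      (isAlgSpace_pullback r r hA hA (IsAlgSpace.yon_obj U))) (IsAlgSpace.yon_obj _) inferInstance

/-- Morphisms of stacks with representable diagonals have representable diagonals. -/
theorem repByAlgSp1_diag (h𝒳 : FibCat.IsFibGrpd 𝒳.p) (h𝒴 : FibCat.IsFibGrpd 𝒴.p)
    (hX : AlgSt.RepByAlgSp1 (FibCat.diag (FibCat.toSelf 𝒳))) (hY : AlgSt.RepByAlgSp1 (FibCat.diag (FibCat.toSelf 𝒴)))
    (f : 𝒳 ⥤ᵇ 𝒴) : AlgSt.RepByAlgSp1 (FibCat.diag f) := fun U K => by
  let j := fpToProd f f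
  let α : FibCat.diag (FibCat.toSelf 𝒳) ≅ BasedFunctor.comp (FibCat.diag f) j :=
    BasedNatIso.mkNatIso (NatIso.ofComponents
      (fun x => ObjectProperty.isoMk _ (CategoricalPullback.mkIso (Iso.refl x) (Iso.refl x)
        (@toSelf_sq _ _ 𝒳 𝒳 ((FibCat.diag (FibCat.toSelf 𝒳)).obj x) (j.obj ((FibCat.diag f).obj x)) _ _
          (𝟙 (𝒳.p.obj x)) (𝟙 x) (𝟙 x) (IsHomLift.id rfl) (IsHomLift.id rfl))))
      (fun {x y} φ => fp_hom_ext ((Category.comp_id φ).trans (Category.id_comp φ).symm)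
        ((Category.comp_id φ).trans (Category.id_comp φ).symm)))
      (fun x => fp_lift_of_fst _ _ (IsHomLift.id rfl))
  have hP := fp_isFibGrpd (F := FibCat.toSelf 𝒳) (G := FibCat.toSelf 𝒳) h𝒳 h𝒳 isFibGrpd_selfOver
  have hA : AlgSt.RepByAlgSp (FibCat.fp (BasedFunctor.comp K j) (BasedFunctor.comp (FibCat.diag f) j)) :=
    rep1_iff.2 (repWith_of_iso α (rep1_iff.1 hX)) U _
  have hB : AlgSt.RepByAlgSp (FibCat.fp (BasedFunctor.comp K j) j) := rep1_fpToProd hY f f U _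
  exact repByAlgSp_of_equiv' (mediate_isEquivOver j K (FibCat.diag f))
    (repByAlgSp_fp (fp_isFibGrpd (isFibGrpd_overForget U) h𝒳 hP)
      (fp_isFibGrpd (isFibGrpd_overForget U) (fp_isFibGrpd h𝒳 h𝒳 h𝒴) hP)
      (repByAlgSp1_of_repByAlgSp hA hB _) (repByAlgSp_overCat U))

/-- The diagonal of `postPair` inherits from diagonals of diagonals. -/
theorem repWith_diag_postPair {f : 𝒳 ⥤ᵇ 𝒴} {𝒵 : AlgSt.Cat S} {g : 𝒴 ⥤ᵇ 𝒵}
    (h : AlgSt.RepByAlgSpWith P (FibCat.diag (FibCat.diag g))) :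
    AlgSt.RepByAlgSpWith P (FibCat.diag (postPair f g)) :=
  (repWith_diag_precomp (magic_isEquivOver f f g)).2 (repWith_diag_fpFst _ h)

/-- Cancellation for diagonals. -/
theorem repWith_diag_cancel {Q R : MorphismProperty (Sp S)}
    (hPc : ∀ ⦃X Y Z : Sp S⦄, IsAlgSpace X → IsAlgSpace Y → IsAlgSpace Z →
      ∀ (a : X ⟶ Y) (b : Y ⟶ Z), R a → P b → Q (a ≫ b))
    (hR : IsLocalOnBase IsFppfCover R) {𝒵 : AlgSt.Cat S} (h𝒳 : FibCat.IsFibGrpd 𝒳.p)
    (h𝒴 : FibCat.IsFibGrpd 𝒴.p) (h𝒵 : FibCat.IsFibGrpd 𝒵.p) {f : 𝒳 ⥤ᵇ 𝒴} {g : 𝒴 ⥤ᵇ 𝒵}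
    (hfg : AlgSt.RepByAlgSpWith P (FibCat.diag (BasedFunctor.comp f g)))
    (hΔ : AlgSt.RepByAlgSpWith R (FibCat.diag (FibCat.diag g))) : AlgSt.RepByAlgSpWith Q (FibCat.diag f) :=
  repWith_cancel hPc hR h𝒳 (fp_isFibGrpd h𝒳 h𝒳 h𝒴) (fp_isFibGrpd h𝒳 h𝒳 h𝒵)
    (repWith_of_iso (diagCompIso f g).symm hfg) (repWith_diag_postPair hΔ)

/-- The identity has every property of isomorphisms. -/
theorem repWith_id {Q : MorphismProperty (Sp S)}
    (hQ : ∀ ⦃F G : Sp S⦄ (a : F ⟶ G), IsAlgSpace F → IsAlgSpace G → IsIso a → Q a) (h𝒳 : FibCat.IsFibGrpd 𝒳.p) :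
    AlgSt.RepByAlgSpWith Q (BasedFunctor.id 𝒳) := by
  intro U y
  let s : FibCat.overCat U ⥤ᵇ FibCat.fp y (BasedFunctor.id 𝒳) :=
    FibCat.fpLift (BasedFunctor.id _) y (Iso.refl y)
  have hs : FibCat.IsEquivOver s := by
    have : s.toFunctor.Faithful := ⟨fun {a b} φ ψ h => (congrArg (fun m => m.hom.fst) h :)⟩
    have : s.toFunctor.Full := ⟨fun {a b} m => by
      refine ⟨m.hom.fst, fp_hom_ext rfl ?_⟩
      have w : y.map m.hom.fst ≫ 𝟙 _ = 𝟙 _ ≫ m.hom.snd := m.hom.w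
      rwa [Category.comp_id, Category.id_comp] at w⟩
    refine isEquivOver_of_essSurjOver _ fun z => ?_
    obtain ⟨⟨t, x, i⟩, hi⟩ := z
    refine ⟨t, ObjectProperty.isoMk _ (CategoricalPullback.mkIso (Iso.refl t) i ?_),
      fp_lift_of_fst _ _ (IsHomLift.id rfl)⟩
    show y.map (𝟙 t) ≫ i.hom = 𝟙 (y.obj t) ≫ i.hom
    rw [y.toFunctor.map_id]
  refine ⟨⟨_, IsAlgSpace.yon_obj U⟩, BasedFunctor.comp (AlgSt.toOverCat U) s,
    isEquivOver_comp (toOverCat_isEquivOver U) hs, ?_⟩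
  have e : AlgSt.spMapOfOver (BasedFunctor.comp (BasedFunctor.comp (AlgSt.toOverCat U) s)
      (FibCat.fpFst y (BasedFunctor.id 𝒳))) = 𝟙 ((yon S).obj U) := by
    ext W x
    apply ULift.ext
    exact Category.id_comp _
  exact hQ _ (IsAlgSpace.yon_obj U) (IsAlgSpace.yon_obj U) (by rw [e]; infer_instance)

end Groth.Agent.AlgStLib
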