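import Groth.Agent.AlgStLib.Descend
import Groth.Agent.AlgStLib.RepDiag
import Groth.Prelude.Def_AlgSt3
import Mathlib

/-!
Properties of morphisms of algebraic stacks read on smooth charts.
-/

set_option autoImplicit false
set_option backward.isDefEq.respectTransparency false
set_option backward.isDefEq.respectTransparency.types false

universe u

open CategoryTheory CategoryTheory.Limits CategoryTheory.Functor AlgebraicGeometry Opposite AlgSp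

namespace Groth.Agent.AlgStLib

open Groth.Agent Groth.Agent.FibBasics Groth.Agent.AlgSpLib

variable {S : Scheme.{u}} {𝒳 𝒴 : AlgSt.Cat S} {P R : MorphismProperty (Sp S)}

/-- Stable under precomposition with smooth morphisms. -/
def SmPre (P : MorphismProperty (Sp S)) : Prop :=
  ∀ ⦃X Y Z : Sp S⦄, IsAlgSpace X → IsAlgSpace Y → IsAlgSpace Z →
    ∀ (f : X ⟶ Y) (g : Y ⟶ Z), LocP @Smooth f → P g → P (f ≫ g)

/-- Stable under base change along morphisms with `R`. -/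
def BcAlong (R P : MorphismProperty (Sp S)) : Prop :=
  ∀ ⦃X Y Y' : Sp S⦄, IsAlgSpace X → IsAlgSpace Y → IsAlgSpace Y' →
    ∀ (f : X ⟶ Y) (g : Y' ⟶ Y), R g → P f → P (pullback.fst g f)

theorem bcAlong_smooth (hP : IsSmoothLocalST P) : BcAlong (LocP @Smooth) P :=
  fun _ _ _ hX hY hY' f g hg hf => hP.baseChange hX hY (isAlgSpace_pullback g f hY' hX hY) hY' f g _ _
    (IsPullback.of_hasPullback g f).flip hg hf

theorem bcAlong_of_stable {R : MorphismProperty (Sp S)}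
    (hPb : ∀ ⦃X₁ Y₁ X₂ Y₂ : Sp S⦄, IsAlgSpace X₁ → IsAlgSpace Y₁ → IsAlgSpace X₂ →
      IsAlgSpace Y₂ → ∀ (a : X₁ ⟶ Y₁) (b : Y₂ ⟶ Y₁) (a' : X₂ ⟶ Y₂) (b' : X₂ ⟶ X₁),
      IsPullback b' a' a b → P a → P a') : BcAlong R P :=
  fun _ _ _ hX hY hY' f g _ hf => hPb hX hY (isAlgSpace_pullback g f hY' hX hY) hY' f g _ _
    (IsPullback.of_hasPullback g f).flip hf

theorem smooth_of_etale {F G : Sp S} {a : F ⟶ G} (ha : RepWith @Etale a) : LocP @Smooth a :=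
  locP_of_repWith ha fun _ _ _ k m hk hm => by
    have : Etale k := hk
    have : Etale m := hm
    infer_instance

/-- A morphism of spaces representing a 2-isomorphism of maps of stacks. -/
noncomputable def ofSpMapCompIso {A B C : Sp S} (a : A ⟶ B) (b : B ⟶ C) :
    BasedFunctor.comp (AlgSt.ofSpMap a) (AlgSt.ofSpMap b) ≅ AlgSt.ofSpMap (a ≫ b) :=
  ofPshMapIso _ ≪≫ eqToIso (congrArg Stk.ofPshMap (by
    rw [pshMapOf_comp]
    exact congrArg₂ (· ≫ ·) (pshMapOf_ofPshMap _) (pshMapOf_ofPshMap _)))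

theorem spMapOf_ofSpMap {A B : Sp S} (a : A ⟶ B) : spMapOf (AlgSt.ofSpMap a) = a :=
  ObjectProperty.hom_ext _ (pshMapOf_ofPshMap _)

theorem repWith_ofSpMap_smooth {A B : AlgSp.Space S} (a : A.obj ⟶ B.obj) (ha : LocP @Smooth a) :
    AlgSt.RepByAlgSpWith (LocP @Smooth) (AlgSt.ofSpMap a) :=
  repWith_ofSpMap a fun c => locP_baseChange A.property B.property (IsAlgSpace.yon_obj _)
    (IsPullback.of_hasPullback c a).flip ha

theorem repWith_ofSpMap_surjective {A B : AlgSp.Space S} (a : A.obj ⟶ B.obj) (ha : RepWith @Surjective a) :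
    AlgSt.RepByAlgSpWith IsSurjectiveMor (AlgSt.ofSpMap a) :=
  repWith_ofSpMap a fun c => surjective_map_of_repWith (repWith_baseChange (IsPullback.of_hasPullback c a).flip ha)

/-- The master lemma: a property read on one chart square holds on every chart square. -/
theorem prop_of_chart (hR : IsLocalOnBase IsFppfCover R) (hpre : SmPre P)
    (hloc : ∀ ⦃X Y : Sp S⦄, IsAlgSpace X → IsAlgSpace Y → ∀ (f : X ⟶ Y),
      (∀ x : Points X, ∃ (U V : Sp S) (a : U ⟶ X) (b : V ⟶ Y) (h : U ⟶ V) (v : Points U),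
        IsAlgSpace U ∧ IsAlgSpace V ∧ LocP @Smooth a ∧ LocP @Smooth b ∧ a ≫ f = h ≫ b ∧
        Points.map a v = x ∧ P h) → P f)
    (hbc : BcAlong R P) (h𝒳 : FibCat.IsFibGrpd 𝒳.p) (h𝒴 : FibCat.IsFibGrpd 𝒴.p) {f : 𝒳 ⥤ᵇ 𝒴}
    {U₀ V₀ : AlgSp.Space S} {x₀ : AlgSt.ofSp U₀.obj ⥤ᵇ 𝒳} {y₀ : AlgSt.ofSp V₀.obj ⥤ᵇ 𝒴} {h₀ : U₀ ⟶ V₀}
    (α₀ : BasedFunctor.comp x₀ f ≅ BasedFunctor.comp (AlgSt.ofSpMap h₀.hom) y₀)
    (hx₀ : AlgSt.RepByAlgSpWith (LocP @Smooth) x₀) (hx₀s : AlgSt.RepByAlgSpWith IsSurjectiveMor x₀)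
    (hy₀ : AlgSt.RepByAlgSpWith (LocP @Smooth) y₀) (hh₀ : P h₀.hom)
    {U V : AlgSp.Space S} {y : AlgSt.ofSp V.obj ⥤ᵇ 𝒴} (hy : AlgSt.RepByAlgSpWith R y)
    (k : AlgSt.ofSp U.obj ⥤ᵇ FibCat.fp y f) (hk : AlgSt.RepByAlgSpWith (LocP @Smooth) k)
    {h : U.obj ⟶ V.obj} (i : BasedFunctor.comp k (FibCat.fpFst y f) ≅ AlgSt.ofSpMap h) : P h := by
  have hV : FibCat.IsFibGrpd (AlgSt.ofSp V.obj).p := Stk.isFibGrpd_ofPsh _
  have hV₀ : FibCat.IsFibGrpd (AlgSt.ofSp V₀.obj).p := Stk.isFibGrpd_ofPsh _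
  have hsm : IsLocalOnBase (IsFppfCover (S := S)) (LocP @Smooth) := isLocalOnBase_fppf_locP
  obtain ⟨W, p, eW, heW, ⟨iW⟩, hp⟩ := exists_space_rep hsm hV₀ h𝒴 hy₀ V y
  let q : W.obj ⟶ V₀.obj := spMapOf (BasedFunctor.comp eW (FibCat.fpSnd y y₀))
  have hq : R q := by
    obtain ⟨W', p', e', he', ⟨i'⟩, hp'⟩ := exists_space_rep hR hV h𝒴 hy V₀ y₀
    have h1 : R (spMapOf (BasedFunctor.comp e' (FibCat.fpFst y₀ y))) :=
      ((spMapOf_congr i').trans (spMapOf_ofSpMap _)).symm ▸ hp'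
    exact prop_of_rep (B := V₀) hR he' (e' := BasedFunctor.comp eW (fpSwap y y₀))
      (isEquivOver_comp heW (fpSwap_isEquivOver _ _)) (FibCat.fpFst y₀ y) h1
  let T : AlgSp.Space S :=
    ⟨pullback q h₀.hom, isAlgSpace_pullback q h₀.hom W.property U₀.property V₀.property⟩
  let g : T.obj ⟶ W.obj := pullback.fst q h₀.hom
  have hg : P g := hbc U₀.property V₀.property W.property h₀.hom q hq hh₀
  have sq : IsPullback (pullback.fst q h₀.hom).hom (pullback.snd q h₀.hom).hom q.hom h₀.hom.hom :=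
    (IsPullback.of_hasPullback q h₀.hom).map (sheafToPresheaf (J S) (Type (u + 1)))
  let iq : AlgSt.ofSpMap q ≅ BasedFunctor.comp eW (FibCat.fpSnd y y₀) := (ofPshMapIso _).symm
  obtain ⟨M, hM, -, ⟨εM⟩⟩ := isEquivOver_symm (fpAssoc_isEquivOver x₀ f y)
  let E₁ : AlgSt.ofSp T.obj ⥤ᵇ FibCat.fp y (BasedFunctor.comp x₀ f) :=
    BasedFunctor.comp (sqFun sq.w) (BasedFunctor.comp (fpIsoFst iq _) (BasedFunctor.comp
      (fpMapFst eW (FibCat.fpSnd y y₀) (AlgSt.ofSpMap h₀.hom))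
      (BasedFunctor.comp (fpAssoc (AlgSt.ofSpMap h₀.hom) y₀ y) (fpIsoSnd y α₀.symm))))
  have hE₁ : FibCat.IsEquivOver E₁ :=
    isEquivOver_comp (sqFun_isEquivOver sq) (isEquivOver_comp (fpIsoFst_isEquivOver iq _)
      (isEquivOver_comp (fpMapFst_isEquivOver _ _ _ heW)
        (isEquivOver_comp (fpAssoc_isEquivOver _ _ _) (fpIsoSnd_isEquivOver y α₀.symm))))
  let E : AlgSt.ofSp T.obj ⥤ᵇ FibCat.fp (FibCat.fpSnd y f) x₀ := BasedFunctor.comp E₁ M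
  have hE : FibCat.IsEquivOver E := isEquivOver_comp hE₁ hM
  let t : AlgSt.ofSp T.obj ⥤ᵇ FibCat.fp y f := BasedFunctor.comp E (FibCat.fpFst (FibCat.fpSnd y f) x₀)
  have ht : AlgSt.RepByAlgSpWith (LocP @Smooth) t := (repWith_comp_equiv hE).2 (repWith_fpFst _ hx₀)
  have hts : AlgSt.RepByAlgSpWith IsSurjectiveMor t := (repWith_comp_equiv hE).2 (repWith_fpFst _ hx₀s)
  let it : BasedFunctor.comp t (FibCat.fpFst y f) ≅ AlgSt.ofSpMap (g ≫ p.hom) :=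
    bWhiskerR (bWhiskerL E₁ εM) (FibCat.fpFst y (BasedFunctor.comp x₀ f)) ≪≫
      bWhiskerL (AlgSt.ofSpMap g) iW ≪≫ ofSpMapCompIso g p.hom
  have hF : FibCat.IsFibGrpd (FibCat.fp y f).p := fp_isFibGrpd hV h𝒳 h𝒴
  have hT : FibCat.IsFibGrpd (AlgSt.ofSp T.obj).p := Stk.isFibGrpd_ofPsh _
  obtain ⟨X, a, eR, heR, ⟨iR⟩, ha⟩ := exists_space_rep hsm hT hF ht U k
  have has : IsSurjectiveMor a.hom := by
    obtain ⟨X', a', e', he', ⟨i'⟩, ha'⟩ := exists_space_rep isLocalOnBase_fppf_surjective hT hF hts U k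
    rw [← spMapOf_ofSpMap a.hom, ← spMapOf_congr iR]
    exact prop_of_rep (B := U) isLocalOnBase_fppf_surjective he' heR _
      (((spMapOf_congr i').trans (spMapOf_ofSpMap _)).symm ▸ ha')
  let c : X.obj ⟶ T.obj := spMapOf (BasedFunctor.comp eR (FibCat.fpSnd k t))
  have hc : LocP @Smooth c := by
    obtain ⟨X', c', e', he', ⟨i'⟩, hc'⟩ := exists_space_rep hsm (Stk.isFibGrpd_ofPsh _) hF hk T t
    exact prop_of_rep (B := T) hsm he' (e' := BasedFunctor.comp eR (fpSwap k t))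
      (isEquivOver_comp heR (fpSwap_isEquivOver _ _)) (FibCat.fpFst t k)
      (((spMapOf_congr i').trans (spMapOf_ofSpMap _)).symm ▸ hc')
  have key : a.hom ≫ h = (c ≫ g) ≫ p.hom := by
    have e1 : spMapOf (BasedFunctor.comp (BasedFunctor.comp eR (FibCat.fpFst k t))
        (BasedFunctor.comp k (FibCat.fpFst y f))) = a.hom ≫ h := by
      rw [spMapOf_comp, spMapOf_congr iR, spMapOf_congr i, spMapOf_ofSpMap, spMapOf_ofSpMap]
    have e2 : spMapOf (BasedFunctor.comp (BasedFunctor.comp eR (FibCat.fpSnd k t))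
        (BasedFunctor.comp t (FibCat.fpFst y f))) = c ≫ g ≫ p.hom := by
      rw [spMapOf_comp, spMapOf_congr it, spMapOf_ofSpMap]
    rw [← e1, Category.assoc, ← e2]
    exact spMapOf_congr (bWhiskerR (bWhiskerL eR (FibCat.fpIso k t)) (FibCat.fpFst y f))
  refine hloc U.property V.property h fun v => ?_
  obtain ⟨z, hz⟩ := has v
  exact ⟨X.obj, W.obj, a.hom, p.hom, c ≫ g, z, X.property, W.property, ha, hp, key, hz,
    hpre X.property T.property W.property c g hc hg⟩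

/-- A chart square from the one in the definition. -/
theorem space_sq_of_locQ {f : 𝒳 ⥤ᵇ 𝒴} (hf : AlgSt.LocQ P f) :
    ∃ (U V : AlgSp.Space S) (x : AlgSt.ofSp U.obj ⥤ᵇ 𝒳) (y : AlgSt.ofSp V.obj ⥤ᵇ 𝒴) (h : U ⟶ V)
      (_ : BasedFunctor.comp x f ≅ BasedFunctor.comp (AlgSt.ofSpMap h.hom) y),
      AlgSt.RepByAlgSpWith (LocP @Smooth) x ∧ AlgSt.RepByAlgSpWith IsSurjectiveMor x ∧
        AlgSt.RepByAlgSpWith (LocP @Smooth) y ∧ P h.hom := by
  obtain ⟨U, V, x, y, h, α, hx, hxs, hy, hh⟩ := hf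
  exact ⟨⟨_, IsAlgSpace.yon_obj U⟩, ⟨_, IsAlgSpace.yon_obj V⟩, BasedFunctor.comp (AlgSt.toOverCat U) x,
    BasedFunctor.comp (AlgSt.toOverCat V) y, ObjectProperty.homMk ((yon S).map h),
    bWhiskerL (AlgSt.toOverCat U) α ≪≫ bWhiskerR (eqToIso (based_ext rfl) :
      BasedFunctor.comp (AlgSt.toOverCat U) (AlgSt.overMap h) ≅
        BasedFunctor.comp (AlgSt.ofSpMap ((yon S).map h)) (AlgSt.toOverCat V)) y,
    (repWith_comp_equiv (toOverCat_isEquivOver U)).2 hx, (repWith_comp_equiv (toOverCat_isEquivOver U)).2 hxs,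
    (repWith_comp_equiv (toOverCat_isEquivOver V)).2 hy, hh⟩

/-- Chart squares of spaces refine to chart squares of schemes. -/
theorem locQ_of_sq (hpre : SmPre P) (hbc : BcAlong (LocP @Smooth) P) {f : 𝒳 ⥤ᵇ 𝒴} {U V : AlgSp.Space S}
    {x : AlgSt.ofSp U.obj ⥤ᵇ 𝒳} {y : AlgSt.ofSp V.obj ⥤ᵇ 𝒴} {h : U.obj ⟶ V.obj}
    (α : BasedFunctor.comp x f ≅ BasedFunctor.comp (AlgSt.ofSpMap h) y)
    (hx : AlgSt.RepByAlgSpWith (LocP @Smooth) x) (hxs : AlgSt.RepByAlgSpWith IsSurjectiveMor x)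
    (hy : AlgSt.RepByAlgSpWith (LocP @Smooth) y) (hh : P h) : AlgSt.LocQ P f := by
  obtain ⟨V₁, b, hb, hbs⟩ := V.property.atlas
  let Y₁ : AlgSp.Space S := ⟨_, IsAlgSpace.yon_obj V₁⟩
  let U' : AlgSp.Space S := ⟨pullback b h, isAlgSpace_pullback b h Y₁.property U.property V.property⟩
  obtain ⟨U₁, c, hc, hcs⟩ := U'.property.atlas
  let X₁ : AlgSp.Space S := ⟨_, IsAlgSpace.yon_obj U₁⟩
  let a : X₁.obj ⟶ U.obj := c ≫ pullback.snd b h
  let k : U₁ ⟶ V₁ := (yon S).preimage (c ≫ pullback.fst b h)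
  have hk : (yon S).map k = c ≫ pullback.fst b h := (yon S).map_preimage _
  have hsnd : RepWith @Etale (pullback.snd b h) := repWith_baseChange (IsPullback.of_hasPullback b h) hb
  have hsnds : RepWith @Surjective (pullback.snd b h) := repWith_baseChange (IsPullback.of_hasPullback b h) hbs
  have ha : LocP @Smooth a := locP_comp X₁.property U'.property U.property (smooth_of_etale hc) (smooth_of_etale hsnd)
  have has : RepWith @Surjective a := repWith_comp hcs hsnds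
  have hgU : FibCat.IsFibGrpd (AlgSt.ofSp U.obj).p := Stk.isFibGrpd_ofPsh _
  have hgV : FibCat.IsFibGrpd (AlgSt.ofSp V.obj).p := Stk.isFibGrpd_ofPsh _
  let ν : AlgSt.ofSpMap (a ≫ h) ≅ AlgSt.ofSpMap ((yon S).map k ≫ b) :=
    eqToIso (congrArg AlgSt.ofSpMap (by
      rw [hk, Category.assoc, Category.assoc, pullback.condition]))
  refine ⟨U₁, V₁, BasedFunctor.comp (BasedFunctor.comp (AlgSt.ofOverCat U₁) (AlgSt.ofSpMap a)) x,
    BasedFunctor.comp (BasedFunctor.comp (AlgSt.ofOverCat V₁) (AlgSt.ofSpMap b)) y, k,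
    bWhiskerL (BasedFunctor.comp (AlgSt.ofOverCat U₁) (AlgSt.ofSpMap a)) α ≪≫
      bWhiskerR (bWhiskerL (AlgSt.ofOverCat U₁) (ofSpMapCompIso a h ≪≫ ν ≪≫ (ofSpMapCompIso ((yon S).map k) b).symm)) y ≪≫
      bWhiskerR (eqToIso (based_ext rfl) :
        BasedFunctor.comp (AlgSt.ofOverCat U₁) (AlgSt.ofSpMap ((yon S).map k)) ≅
          BasedFunctor.comp (AlgSt.overMap k) (AlgSt.ofOverCat V₁)) (BasedFunctor.comp (AlgSt.ofSpMap b) y),
    ?_, ?_, ?_, ?_⟩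
  · exact repWith_smooth_comp (isFibGrpd_overForget U₁) hgU
      ((repWith_comp_equiv (ofOverCat_isEquivOver U₁)).2 (repWith_ofSpMap_smooth (A := X₁) a ha)) hx
  · exact repWith_surjective_comp (isFibGrpd_overForget U₁) hgU
      ((repWith_comp_equiv (ofOverCat_isEquivOver U₁)).2 (repWith_ofSpMap_surjective (A := X₁) a has)) hxs
  · exact repWith_smooth_comp (isFibGrpd_overForget V₁) hgV
      ((repWith_comp_equiv (ofOverCat_isEquivOver V₁)).2 (repWith_ofSpMap_smooth (A := Y₁) b (smooth_of_etale hb))) hy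
  · exact hk ▸ hpre X₁.property U'.property Y₁.property c _ (smooth_of_etale hc)
      (hbc U.property V.property Y₁.property h b (smooth_of_etale hb) hh)

/-- Representable morphisms with a property have it on charts. -/
theorem locQ_of_repWith (hpre : SmPre P) (hbc : BcAlong (LocP @Smooth) P)
    (h𝒴 : AlgSt.IsAlgStack Scheme.fppfPrecoverage 𝒴) {f : 𝒳 ⥤ᵇ 𝒴} (hf : AlgSt.RepByAlgSpWith P f) :
    AlgSt.LocQ P f := by
  obtain ⟨W, w, hw, hws⟩ := h𝒴.atlas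
  obtain ⟨A, e, he, hr⟩ := hf W w
  let b₀ := BasedFunctor.comp e (FibCat.fpFst w f)
  let r : A.obj ⟶ (yon S).obj W := AlgSt.spMapOfOver b₀
  let ir : BasedFunctor.comp b₀ (AlgSt.ofOverCat W) ≅ AlgSt.ofSpMap r := ofPshMapIso _ ≪≫ eqToIso (by congr 1)
  refine locQ_of_sq (U := A) (V := ⟨_, IsAlgSpace.yon_obj W⟩) (x := BasedFunctor.comp e (FibCat.fpSnd w f))
    (y := BasedFunctor.comp (AlgSt.toOverCat W) w) (h := r) hpre hbc ?_ ?_ ?_
    ((repWith_comp_equiv (toOverCat_isEquivOver W)).2 hw) hr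
  · exact bWhiskerL e (FibCat.fpIso w f).symm ≪≫
      bWhiskerR (eqToIso (based_ext rfl) :
        b₀ ≅ BasedFunctor.comp (BasedFunctor.comp b₀ (AlgSt.ofOverCat W)) (AlgSt.toOverCat W)) w ≪≫
      bWhiskerR (bWhiskerR ir (AlgSt.toOverCat W)) w
  · exact (repWith_comp_equiv he).2 ((repWith_comp_equiv (fpSwap_isEquivOver w f)).2 (repWith_fpFst f hw))
  · exact (repWith_comp_equiv he).2 ((repWith_comp_equiv (fpSwap_isEquivOver w f)).2 (repWith_fpFst f hws))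

theorem fppfMor_of_smooth {𝒵 : AlgSt.Cat S} {z : 𝒵 ⥤ᵇ 𝒴} (h : AlgSt.RepByAlgSpWith (LocP @Smooth) z)
    (hs : AlgSt.RepByAlgSpWith IsSurjectiveMor z) : FppfMor z :=
  ⟨repWith_mono_prop (fun _ _ _ _ _ ha => locP_mono (fun _ _ k hk => by have : Smooth k := hk; infer_instance) ha) h,
    repWith_mono_prop (fun _ _ _ _ _ ha => locP_mono (fun _ _ k hk => by have : Smooth k := hk; infer_instance) ha) h,
    hs⟩

/-- For representable morphisms the chart form is the base change form. -/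
theorem repWith_of_locQ (hpre : SmPre P) (hbc : BcAlong (LocP @Smooth) P)
    (hloc : ∀ ⦃X Y : Sp S⦄, IsAlgSpace X → IsAlgSpace Y → ∀ (f : X ⟶ Y),
      (∀ x : Points X, ∃ (U V : Sp S) (a : U ⟶ X) (b : V ⟶ Y) (h : U ⟶ V) (v : Points U),
        IsAlgSpace U ∧ IsAlgSpace V ∧ LocP @Smooth a ∧ LocP @Smooth b ∧ a ≫ f = h ≫ b ∧
        Points.map a v = x ∧ P h) → P f)
    (hPb : ∀ ⦃X₁ Y₁ X₂ Y₂ : Sp S⦄, IsAlgSpace X₁ → IsAlgSpace Y₁ → IsAlgSpace X₂ →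
      IsAlgSpace Y₂ → ∀ (a : X₁ ⟶ Y₁) (b : Y₂ ⟶ Y₁) (a' : X₂ ⟶ Y₂) (b' : X₂ ⟶ X₁),
      IsPullback b' a' a b → P a → P a')
    (hPl : IsLocalOnBase IsFppfCover P) (h𝒳 : FibCat.IsFibGrpd 𝒳.p)
    (h𝒴 : AlgSt.IsAlgStack Scheme.fppfPrecoverage 𝒴) {f : 𝒳 ⥤ᵇ 𝒴} (hf : AlgSt.RepByAlgSp1 f)
    (hq : AlgSt.LocQ P f) : AlgSt.RepByAlgSpWith P f := by
  obtain ⟨U₀, V₀, x₀, y₀, h₀, α₀, hx₀, hx₀s, hy₀, hh₀⟩ := space_sq_of_locQ hq
  obtain ⟨W, w, hw, hws⟩ := h𝒴.atlas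
  let V : AlgSp.Space S := ⟨_, IsAlgSpace.yon_obj W⟩
  let y := BasedFunctor.comp (AlgSt.toOverCat W) w
  have hy : AlgSt.RepByAlgSpWith (LocP @Smooth) y := (repWith_comp_equiv (toOverCat_isEquivOver W)).2 hw
  have hys : AlgSt.RepByAlgSpWith IsSurjectiveMor y := (repWith_comp_equiv (toOverCat_isEquivOver W)).2 hws
  obtain ⟨A, a, e, he, ⟨i⟩, -⟩ := exists_space_rep (P := ⊤)
    (fun _ _ _ _ _ _ _ _ _ _ _ _ _ _ _ => iff_of_true trivial fun _ => trivial) h𝒳 h𝒴.isStack.1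
    (rep1_iff.1 hf) V y
  refine repWith_of_fppf_baseChange hPl h𝒳 h𝒴.isStack.1 (Stk.isFibGrpd_ofPsh _) hf (fppfMor_of_smooth hy hys)
    (repWith_fpFst_of_space_rep hPb a he i ?_)
  exact prop_of_chart isLocalOnBase_fppf_locP hpre hloc hbc h𝒳 h𝒴.isStack.1 α₀ hx₀ hx₀s hy₀ hh₀ hy e
    ((repWith_comp_equiv (f := BasedFunctor.id _) he).2
      (repWith_id (fun _ _ _ _ _ hi => by have := hi; exact locP_of_isIso) (fp_isFibGrpd (Stk.isFibGrpd_ofPsh _) h𝒳 h𝒴.isStack.1))) i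

end Groth.Agent.AlgStLib
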