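import Groth.Agent.AlgStLib.DiagLft
import Groth.Agent.AlgStLib.LocQ
import Mathlib

/-!
Diagonals of stacks with an fppf chart having a property.
-/

set_option autoImplicit false
set_option backward.isDefEq.respectTransparency false
set_option backward.isDefEq.respectTransparency.types false

universe u

open CategoryTheory CategoryTheory.Limits CategoryTheory.Functor AlgebraicGeometry Opposite AlgSp

namespace Groth.Agent.AlgStLib

open Groth.Agent Groth.Agent.FibBasics Groth.Agent.AlgSpLib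

variable {S : Scheme.{u}} {𝒳 : AlgSt.Cat S} {P : MorphismProperty Scheme.{u}} [EtLocal P]

theorem fppfMor_pairToSq {W : Over S} {p : FibCat.overCat W ⥤ᵇ 𝒳} (h𝒳 : FibCat.IsFibGrpd 𝒳.p) (hp : FppfMor p) :
    FppfMor (pairToSq p p) := by
  have hW := isFibGrpd_overForget W
  have g2 := fp_isFibGrpd (F := FibCat.toSelf (FibCat.overCat W)) (G := FibCat.toSelf (FibCat.overCat W)) hW hW
    isFibGrpd_selfOver
  have g1 := fp_isFibGrpd (F := FibCat.toSelf (FibCat.overCat W)) (G := FibCat.toSelf 𝒳) hW h𝒳 isFibGrpd_selfOver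
  refine ⟨repWith_of_iso (pairToSqIso p) ?_, repWith_of_iso (pairToSqIso p) ?_, repWith_of_iso (pairToSqIso p) ?_⟩
  · exact repWith_comp_stk (fun _ _ _ hA hB hC _ _ ha hb => locP_comp hA hB hC ha hb)
      isLocalOnBase_fppf_locP g2 g1 (repWith_prodMapR hp.1) (repWith_prodMapL hp.1)
  · exact repWith_comp_stk (fun _ _ _ hA hB hC _ _ ha hb => locP_comp hA hB hC ha hb)
      (isLocalOnBase_fppf (Groth.Agent.S10527.result S)) g2 g1 (repWith_prodMapR hp.2.1) (repWith_prodMapL hp.2.1)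
  · exact repWith_surjective_comp g2 g1 (repWith_prodMapR hp.2.2) (repWith_prodMapL hp.2.2)

/-- The diagonal of a stack having an fppf chart with a cancellable property. -/
theorem repWith_diag_toSelf_of_chart (hloc : IsLocalOnBase IsFppfCover (LocP P : MorphismProperty (Sp S)))
    (hcancel : ∀ ⦃A B C : Scheme.{u}⦄ (k : A ⟶ B) (m : B ⟶ C), P (k ≫ m) → P k)
    (h𝒳 : AlgSt.IsAlgStack Scheme.fppfPrecoverage 𝒳) {W : Over S} {p : FibCat.overCat W ⥤ᵇ 𝒳}
    (hz : FppfMor p) (hP : AlgSt.RepByAlgSpWith (LocP P) p) :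
    AlgSt.RepByAlgSpWith (LocP P) (FibCat.diag (FibCat.toSelf 𝒳)) := by
  have hW := isFibGrpd_overForget W
  have hX := h𝒳.isStack.1
  have g2 := fp_isFibGrpd (F := FibCat.toSelf (FibCat.overCat W)) (G := FibCat.toSelf (FibCat.overCat W)) hW hW
    isFibGrpd_selfOver
  have g0 := fp_isFibGrpd (F := FibCat.toSelf 𝒳) (G := FibCat.toSelf 𝒳) hX hX isFibGrpd_selfOver
  let g : FibCat.fp (FibCat.toSelf (FibCat.overCat W)) (FibCat.toSelf (FibCat.overCat W)) ⥤ᵇ FibCat.overCat W :=
    FibCat.fpFst _ _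
  have hrel : AlgSt.RepByAlgSpWith (LocP P) (fpToProd p p) :=
    repWith_cancel (P := LocP P) (fun _ _ _ hA hB hC _ _ ha hb => locP_comp hA hB hC ha hb)
      hloc (fp_isFibGrpd hW hW hX) g2 hW (g := g)
      (repWith_fpFst p hP)
      (repWith_diag_locP hcancel
        (repByAlgSp1_of_repByAlgSp (repByAlgSp_slice_prod W W) (repByAlgSp_overCat W) g))
  exact repWith_of_fppf_baseChange hloc hX g0 g2 h𝒳.diag (fppfMor_pairToSq hX hz) (repWith_fpFst_pairToSq hrel)

/-- The same for a chart from an algebraic space. -/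
theorem repWith_diag_toSelf_of_space (hloc : IsLocalOnBase IsFppfCover (LocP P : MorphismProperty (Sp S)))
    (hcancel : ∀ ⦃A B C : Scheme.{u}⦄ (k : A ⟶ B) (m : B ⟶ C), P (k ≫ m) → P k)
    (h𝒳 : AlgSt.IsAlgStack Scheme.fppfPrecoverage 𝒳) (W : AlgSp.Space S) {w : AlgSt.ofSp W.obj ⥤ᵇ 𝒳}
    (hz : FppfMor w) (hP : AlgSt.RepByAlgSpWith (LocP P) w) :
    AlgSt.RepByAlgSpWith (LocP P) (FibCat.diag (FibCat.toSelf 𝒳)) := by
  obtain ⟨U, a, ha, has⟩ := W.property.atlas
  let A₀ := BasedFunctor.comp (AlgSt.ofOverCat U) (AlgSt.ofSpMap a)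
  let p := BasedFunctor.comp A₀ w
  have hA : ∀ (Q : MorphismProperty Scheme.{u}), EtLocal Q → AlgSt.RepByAlgSpWith (LocP Q) A₀ := fun Q hQ => by
    have := hQ
    refine (repWith_comp_equiv (ofOverCat_isEquivOver U)).2 (repWith_ofSpMap (A := ⟨_, IsAlgSpace.yon_obj U⟩) a fun c => ?_)
    exact locP_of_repWith (repWith_baseChange (IsPullback.of_hasPullback c a).flip ha)
      fun _ _ _ k m hk hm => EtLocal.of_etale _ (by
        have : Etale k := hk
        have : Etale m := hm
        infer_instance)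
  have hg : FibCat.IsFibGrpd (AlgSt.ofSp W.obj).p := Stk.isFibGrpd_ofPsh _
  have hU := isFibGrpd_overForget U
  refine repWith_diag_toSelf_of_chart hloc hcancel h𝒳 (p := p) ⟨?_, ?_, ?_⟩ ?_
  · exact repWith_comp_stk (fun _ _ _ hA hB hC _ _ ha hb => locP_comp hA hB hC ha hb) isLocalOnBase_fppf_locP
      hU hg (hA @Flat inferInstance) hz.1
  · exact repWith_comp_stk (fun _ _ _ hA hB hC _ _ ha hb => locP_comp hA hB hC ha hb)
      (isLocalOnBase_fppf (Groth.Agent.S10527.result S)) hU hg (hA @LocallyOfFinitePresentation inferInstance) hz.2.1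
  · exact repWith_surjective_comp hU hg ((repWith_comp_equiv (ofOverCat_isEquivOver U)).2
      (repWith_ofSpMap_surjective (A := ⟨_, IsAlgSpace.yon_obj U⟩) a has)) hz.2.2
  · exact repWith_comp_stk (fun _ _ _ hA hB hC _ _ ha hb => locP_comp hA hB hC ha hb) hloc
      hU hg (hA P inferInstance) hP

end Groth.Agent.AlgStLib
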