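import Groth.Agent.AlgStLib.DiagLft
import Mathlib

/-!
Graphs and comparison maps of 2-fibre products are base changes of diagonals.
-/

set_option autoImplicit false
set_option backward.isDefEq.respectTransparency false
set_option backward.isDefEq.respectTransparency.types false

universe u

open CategoryTheory CategoryTheory.Limits CategoryTheory.Functor AlgebraicGeometry Opposite AlgSp

namespace Groth.Agent.AlgStLib

open Groth.Agent Groth.Agent.FibBasics Groth.Agent.AlgSpLib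

variable {S : Scheme.{u}} {𝒳 𝒴 𝒵 𝒯 : AlgSt.Cat S} {P : MorphismProperty (Sp S)}

/-- `𝒳 ×_𝒵 𝒴 ⟶ 𝒳 ×_𝒯 𝒴`. -/
noncomputable def cmpFp (f : 𝒳 ⥤ᵇ 𝒵) (g : 𝒴 ⥤ᵇ 𝒵) (t : 𝒵 ⥤ᵇ 𝒯) :
    FibCat.fp f g ⥤ᵇ FibCat.fp (BasedFunctor.comp f t) (BasedFunctor.comp g t) :=
  BasedFunctor.comp (magic f g t) (FibCat.fpFst (pairMap f g t) (FibCat.diag t))

theorem repWith_cmpFp {f : 𝒳 ⥤ᵇ 𝒵} {g : 𝒴 ⥤ᵇ 𝒵} {t : 𝒵 ⥤ᵇ 𝒯}
    (h : AlgSt.RepByAlgSpWith P (FibCat.diag t)) : AlgSt.RepByAlgSpWith P (cmpFp f g t) :=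
  (repWith_comp_equiv (magic_isEquivOver f g t)).2 (repWith_fpFst _ h)

theorem repWith_fpLift_cmp {f : 𝒳 ⥤ᵇ 𝒵} {g : 𝒴 ⥤ᵇ 𝒵} {t : 𝒵 ⥤ᵇ 𝒯}
    (e : BasedFunctor.comp (FibCat.fpFst f g) (BasedFunctor.comp f t) ≅
      BasedFunctor.comp (FibCat.fpSnd f g) (BasedFunctor.comp g t))
    (he : ∀ x, e.hom.toNatTrans.app x = t.map x.obj.iso.hom) (h : AlgSt.RepByAlgSpWith P (FibCat.diag t)) :
    AlgSt.RepByAlgSpWith P (FibCat.fpLift (FibCat.fpFst f g) (FibCat.fpSnd f g) e) := by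
  refine repWith_of_iso (f := cmpFp f g t) (BasedNatIso.mkNatIso (NatIso.ofComponents
    (fun x => ObjectProperty.isoMk _ (CategoricalPullback.mkIso (Iso.refl x.obj.fst) (Iso.refl x.obj.snd) (by
      show t.map (f.map (𝟙 x.obj.fst)) ≫ e.hom.toNatTrans.app x = t.map x.obj.iso.hom ≫ t.map (g.map (𝟙 x.obj.snd))
      rw [he]; simp)))
    (fun {a b} φ => fp_hom_ext ((Category.comp_id φ.hom.fst).trans (Category.id_comp φ.hom.fst).symm)
      ((Category.comp_id φ.hom.snd).trans (Category.id_comp φ.hom.snd).symm)))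
    (fun x => fp_lift_of_fst _ _ (IsHomLift.id rfl))) (repWith_cmpFp h)

/-- The graph into the fibre product with the identity. -/
noncomputable def graphId (g : 𝒳 ⥤ᵇ 𝒴) : 𝒳 ⥤ᵇ FibCat.fp g (BasedFunctor.id 𝒴) :=
  FibCat.fpLift (BasedFunctor.id _) g (Iso.refl g)

theorem graphId_isEquivOver (g : 𝒳 ⥤ᵇ 𝒴) : FibCat.IsEquivOver (graphId g) := by
  have : (graphId g).toFunctor.Faithful := ⟨fun {a b} φ ψ h => (congrArg (fun m => m.hom.fst) h :)⟩
  have : (graphId g).toFunctor.Full := ⟨fun {a b} m => by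
    refine ⟨m.hom.fst, fp_hom_ext rfl ?_⟩
    have w : g.map m.hom.fst ≫ 𝟙 _ = 𝟙 _ ≫ m.hom.snd := m.hom.w
    rwa [Category.comp_id, Category.id_comp] at w⟩
  refine isEquivOver_of_essSurjOver _ fun z => ?_
  obtain ⟨⟨t, x, i⟩, hi⟩ := z
  refine ⟨t, ObjectProperty.isoMk _ (CategoricalPullback.mkIso (Iso.refl t) i ?_),
    fp_lift_of_fst _ _ (IsHomLift.id rfl)⟩
  show g.map (𝟙 t) ≫ i.hom = 𝟙 (g.obj t) ≫ i.hom
  rw [g.toFunctor.map_id]

theorem repWith_graph {p : 𝒳 ⥤ᵇ 𝒯} {q : 𝒴 ⥤ᵇ 𝒯} {g : 𝒳 ⥤ᵇ 𝒴}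
    (e : BasedFunctor.comp (BasedFunctor.id 𝒳) p ≅ BasedFunctor.comp g q)
    (h : AlgSt.RepByAlgSpWith P (FibCat.diag q)) :
    AlgSt.RepByAlgSpWith P (FibCat.fpLift (BasedFunctor.id 𝒳) g e) := by
  have h1 := (repWith_equiv_comp (f := BasedFunctor.comp (graphId g) (cmpFp g (BasedFunctor.id 𝒴) q))
    (fpIsoFst_isEquivOver (show BasedFunctor.comp g q ≅ p from e.symm) q)).2
    ((repWith_comp_equiv (graphId_isEquivOver g)).2 (repWith_cmpFp h))
  refine repWith_of_iso (f := BasedFunctor.comp (BasedFunctor.comp (graphId g) (cmpFp g (BasedFunctor.id 𝒴) q))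
      (fpIsoFst (show BasedFunctor.comp g q ≅ p from e.symm) q))
    (BasedNatIso.mkNatIso (NatIso.ofComponents
    (fun x => ObjectProperty.isoMk _ (CategoricalPullback.mkIso (Iso.refl x) (Iso.refl (g.obj x)) (by
      show p.map (𝟙 x) ≫ e.hom.toNatTrans.app x =
        (e.hom.toNatTrans.app x ≫ q.map (𝟙 (g.obj x))) ≫ q.map (𝟙 (g.obj x))
      rw [p.toFunctor.map_id, q.toFunctor.map_id]
      exact (Category.id_comp _).trans ((Category.comp_id _).trans (Category.comp_id _)).symm)))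
    (fun {a b} φ => fp_hom_ext ((Category.comp_id φ).trans (Category.id_comp φ).symm)
      ((Category.comp_id (g.map φ)).trans (Category.id_comp (g.map φ)).symm)))
    (fun x => fp_lift_of_fst _ _ (IsHomLift.id rfl))) h1

end Groth.Agent.AlgStLib
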