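import Groth.Agent.AlgStLib.SepRep
import Groth.Agent.AlgStLib.LocQ
import Groth.Agent.FibBasics.Inertia
import Groth.Agent.AlgSpLib.FpqcLocalRep
import Groth.Agent.AlgSpLib.RepGlue
import Mathlib

/-!
Inertia and diagonal.
-/

set_option autoImplicit false
set_option backward.isDefEq.respectTransparency false
set_option backward.isDefEq.respectTransparency.types false

universe u

open CategoryTheory CategoryTheory.Limits CategoryTheory.Functor AlgebraicGeometry Opposite AlgSp

namespace Groth.Agent.AlgStLib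

open Groth.Agent Groth.Agent.FibBasics Groth.Agent.AlgSpLib

/-- Formal unramifiedness is seen after base change of a morphism along itself. -/
theorem formallyUnramified_of_self_baseChange {X Y : Scheme.{u}} (f : X ⟶ Y) [LocallyOfFiniteType f]
    (h : FormallyUnramified (pullback.fst f f)) : FormallyUnramified f := by
  let g := pullback.fst f f
  have : LocallyOfFiniteType g := inferInstance
  have hg : IsOpenImmersion (pullback.diagonal g) := inferInstance
  let d := pullback.diagonal f
  let σ : pullback f f ⟶ pullback g g := pullback.lift (pullback.fst f f ≫ d) (𝟙 _) (by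
    simp [g, d])
  have w : d ≫ pullback.diagonal g = d ≫ σ := by
    apply pullback.hom_ext
    · simp [σ, d]
    · simp [σ, d]
  have sq : IsPullback d d (pullback.diagonal g) σ := by
    refine IsPullback.of_isLimit (PullbackCone.IsLimit.mk w (fun s => s.snd ≫ pullback.fst f f) ?_ ?_ ?_)
    · intro s
      have h1 : s.fst = s.snd ≫ pullback.fst f f ≫ d := by
        simpa [σ] using congrArg (· ≫ pullback.fst g g) s.condition
      rw [Category.assoc]; exact h1.symm
    · intro s
      have h1 : s.fst = s.snd ≫ pullback.fst f f ≫ d := by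
        simpa [σ] using congrArg (· ≫ pullback.fst g g) s.condition
      have h2 : s.fst = s.snd := by
        simpa [σ] using congrArg (· ≫ pullback.snd g g) s.condition
      rw [Category.assoc, ← h1, h2]
    · intro s m _ hm2
      rw [← hm2, Category.assoc, pullback.diagonal_fst, Category.comp_id]
  have : IsOpenImmersion (pullback.diagonal f) := MorphismProperty.of_isPullback (P := @IsOpenImmersion) sq hg
  infer_instance

/-- Local quasi-finiteness is seen after base change of a morphism along itself. -/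
theorem locallyQuasiFinite_of_self_baseChange {X Y : Scheme.{u}} (f : X ⟶ Y) [LocallyOfFiniteType f]
    (h : LocallyQuasiFinite (pullback.fst f f)) : LocallyQuasiFinite f := by
  refine locallyQuasiFinite_iff_isDiscrete_preimage_singleton.2 fun y => ?_
  rcases (f ⁻¹' {y}).eq_empty_or_nonempty with he | ⟨x, hx⟩
  · rw [he]; exact Set.subsingleton_empty.isDiscrete
  -- the fibre over `y`, after extending its residue field to that of `x`
  let F := f.fiber y
  let s := f.fiberToSpecResidueField y
  let x' : F := (f.fiberHomeo y).symm ⟨x, hx⟩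
  let κ := F.fromSpecResidueField x'
  let p : Spec (F.residueField x') ⟶ Spec (Y.residueField y) := κ ≫ s
  let j : Spec (F.residueField x') ⟶ X := κ ≫ f.fiberι y
  have sF : IsPullback (f.fiberι y) s f (Y.fromSpecResidueField y) := IsPullback.of_hasPullback _ _
  have sP := IsPullback.of_hasPullback s p
  have e : p ≫ Y.fromSpecResidueField y = j ≫ f := by
    simp only [p, j, Category.assoc]; rw [← sF.w]
  have sQ := sP.paste_horiz sF
  rw [e] at sQ
  -- it is a fibre of the base change of `f` along itself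
  let r := sQ.flip
  let φ : pullback s p ⟶ pullback f f := pullback.lift (pullback.snd s p ≫ j) (pullback.fst s p ≫ f.fiberι y)
    ((Category.assoc _ _ _).trans sQ.w.symm)
  have sR : IsPullback φ (pullback.snd s p) (pullback.fst f f) j :=
    IsPullback.of_right (by simpa [φ] using sQ) (pullback.lift_fst _ _ _) (IsPullback.of_hasPullback f f).flip
  have : LocallyQuasiFinite (pullback.snd s p) := MorphismProperty.of_isPullback sR h
  have : DiscreteTopology (Spec (F.residueField x')) := inferInstance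
  have hd : DiscreteTopology ↥(pullback s p) := by
    have := (pullback.snd s p).isDiscrete_preimage (s := Set.univ) (isDiscrete_univ_iff.2 inferInstance)
    rw [Set.preimage_univ, isDiscrete_univ_iff] at this
    exact this
  have : Surjective p := ⟨fun z => ⟨default, Subsingleton.elim _ _⟩⟩
  have : Flat p := inferInstance
  have : UniversallyOpen (pullback.fst s p) := inferInstance
  have hF : DiscreteTopology F := discreteTopology_iff_forall_isOpen.2 fun A => by
    rw [← Set.image_preimage_eq A (pullback.fst s p).surjective]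
    exact (pullback.fst s p).isOpenMap _ (isOpen_discrete _)
  exact isDiscrete_iff_discreteTopology.2 (f.fiberHomeo y).symm.isEmbedding.discreteTopology

variable {S : Scheme.{u}} {𝒳 𝒴 : AlgSt.Cat S} {P : MorphismProperty (Sp S)}

/-- The inertia is the base change of the diagonal along itself. -/
theorem repWith_inertiaToBase_iff (f : 𝒳 ⥤ᵇ 𝒴) :
    AlgSt.RepByAlgSpWith P (FibCat.inertiaToBase f) ↔
      AlgSt.RepByAlgSpWith P (FibCat.fpFst (FibCat.diag f) (FibCat.diag f)) :=
  repWith_comp_equiv (f := FibCat.fpFst (FibCat.diag f) (FibCat.diag f)) (inertiaCompare_isEquivOver f)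

theorem repWith_inertiaToBase {f : 𝒳 ⥤ᵇ 𝒴} (h : AlgSt.RepByAlgSpWith P (FibCat.diag f)) :
    AlgSt.RepByAlgSpWith P (FibCat.inertiaToBase f) :=
  (repWith_inertiaToBase_iff f).2 (repWith_fpFst _ h)

/-- The neutral section is the second diagonal. -/
theorem repWith_inertiaNeutral_iff (f : 𝒳 ⥤ᵇ 𝒴) :
    AlgSt.RepByAlgSpWith P (FibCat.inertiaNeutral f) ↔ AlgSt.RepByAlgSpWith P (FibCat.diag (FibCat.diag f)) := by
  let α : BasedFunctor.comp (FibCat.inertiaNeutral f) (inertiaCompare f) ≅ FibCat.diag (FibCat.diag f) :=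
    BasedNatIso.mkNatIso (NatIso.ofComponents
      (fun x => ObjectProperty.isoMk _ (CategoricalPullback.mkIso (Iso.refl x) (Iso.refl x) (by
        apply fp_hom_ext
        · show 𝟙 x ≫ 𝟙 x = 𝟙 x ≫ 𝟙 x
          rfl
        · show 𝟙 x ≫ 𝟙 x = 𝟙 x ≫ 𝟙 x
          rfl)))
      (fun {x y} φ => fp_hom_ext ((Category.comp_id φ).trans (Category.id_comp φ).symm)
        ((Category.comp_id φ).trans (Category.id_comp φ).symm)))
      (fun x => fp_lift_of_fst _ _ (IsHomLift.id rfl))
  rw [← repWith_equiv_comp (inertiaCompare_isEquivOver f)]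
  exact ⟨repWith_of_iso α, repWith_of_iso α.symm⟩

theorem isClosedImm_neutral_of_sep (h𝒳 : AlgSt.IsAlgStack Scheme.fppfPrecoverage 𝒳) {f : 𝒳 ⥤ᵇ 𝒴}
    (hI : FibCat.IsFibGrpd (FibCat.inertia f).p)
    (h : AlgSt.RepByAlgSpWith IsSeparatedMor (FibCat.inertiaToBase f)) :
    AlgSt.IsClosedImm (FibCat.inertiaNeutral f) := by
  have := FpqcDescent.isClosedImmersion_descendsAlong.{u}
  refine repWith_cancel (P := RepWith @IsClosedImmersion) (R := RepWith @IsClosedImmersion)
    (fun _ _ _ _ _ _ _ _ ha hb => repWith_comp ha hb)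
    (isLocalOnBase_fppf (isLocalOnBase_repWith_of_le_affine fun _ _ k hk => by
      have : IsClosedImmersion k := hk
      infer_instance))
    h𝒳.isStack.1 hI h𝒳.isStack.1 (g := FibCat.inertiaToBase f) ?_ (repWith_closedImm_diag_of_sep h)
  exact repWith_of_iso (f := BasedFunctor.id _) (eqToIso (based_ext rfl))
    (repWith_id (fun _ _ _ _ _ hi => by have := hi; exact repWith_iso _) h𝒳.isStack.1)

theorem qc_neutral_of_qs (h𝒳 : AlgSt.IsAlgStack Scheme.fppfPrecoverage 𝒳) {f : 𝒳 ⥤ᵇ 𝒴}
    (hI : FibCat.IsFibGrpd (FibCat.inertia f).p)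
    (h : AlgSt.RepByAlgSpWith IsQuasiSeparatedMor (FibCat.inertiaToBase f)) :
    AlgSt.RepByAlgSpWith IsQuasiCompactMor (FibCat.inertiaNeutral f) := by
  refine repWith_cancel (P := IsQuasiCompactMor) (R := IsQuasiCompactMor)
    (fun _ _ _ _ hY hZ _ _ ha hb => isQuasiCompactMor_comp hY hZ ha hb)
    (isLocalOnBase_fppf isLocalOnBase_isQuasiCompactMor)
    h𝒳.isStack.1 hI h𝒳.isStack.1 (g := FibCat.inertiaToBase f) ?_ (repWith_qc_diag_of_qs h)
  exact repWith_of_iso (f := BasedFunctor.id _) (eqToIso (based_ext rfl))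
    (repWith_id (fun _ _ _ hF hG hi => by
      have := hi
      exact isQuasiCompactMor_of_repWith hF hG (repWith_iso _)) h𝒳.isStack.1)

/-- A property of a diagonal read after base change along itself. -/
theorem repWith_locP_diag_of_self {P : MorphismProperty Scheme.{u}} [EtLocal P]
    (hloc : IsLocalOnBase IsFppfCover (LocP P : MorphismProperty (Sp S)))
    (hself : ∀ ⦃X Y : Scheme.{u}⦄ (k : X ⟶ Y), LocallyOfFiniteType k → P (pullback.fst k k) → P k)
    {f : 𝒳 ⥤ᵇ 𝒴} (hlft : AlgSt.RepByAlgSpWith (LocP @LocallyOfFiniteType) (FibCat.diag f))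
    (h : AlgSt.RepByAlgSpWith (LocP P) (FibCat.inertiaToBase f)) :
    AlgSt.RepByAlgSpWith (LocP P) (FibCat.diag f) := fun U y => by
  obtain ⟨F, e, he, hr⟩ := hlft U y
  refine ⟨F, e, he, ?_⟩
  let Δ := FibCat.diag f
  let g := FibCat.fpSnd y Δ
  let hh := FibCat.fpFst y Δ
  have h1 : AlgSt.RepByAlgSpWith (LocP P) (FibCat.fpFst (BasedFunctor.comp g Δ) Δ) :=
    (repWith_comp_equiv (fpPaste_isEquivOver Δ Δ g)).1 (repWith_fpFst g ((repWith_inertiaToBase_iff f).1 h))
  have h2 : AlgSt.RepByAlgSpWith (LocP P) (FibCat.fpFst (BasedFunctor.comp hh y) Δ) :=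
    (repWith_comp_equiv (fpIsoFst_isEquivOver (FibCat.fpIso y Δ).symm Δ)).1 h1
  have h3 : AlgSt.RepByAlgSpWith (LocP P) (FibCat.fpFst hh hh) :=
    (repWith_comp_equiv (f := FibCat.fpFst (BasedFunctor.comp hh y) Δ) (fpPaste_isEquivOver Δ y hh)).2 h2
  let b₁ := BasedFunctor.comp e hh
  have h4 : AlgSt.RepByAlgSpWith (LocP P) (FibCat.fpFst b₁ hh) :=
    (repWith_comp_equiv (fpPaste_isEquivOver hh hh e)).1 (repWith_fpFst e h3)
  have h5 : AlgSt.RepByAlgSpWith (LocP P) (FibCat.fpFst b₁ b₁) :=
    (repWith_comp_equiv (f := FibCat.fpFst b₁ hh) (fpMapSnd_isEquivOver b₁ he hh)).2 h4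
  let b₂ := BasedFunctor.comp b₁ (AlgSt.ofOverCat U)
  have h6 : AlgSt.RepByAlgSpWith (LocP P) (FibCat.fpFst b₂ b₂) :=
    (repWith_comp_equiv (f := FibCat.fpFst b₂ b₂) (fpPost_isEquivOver b₁ b₁ (ofOverCat_isEquivOver U))).1 h5
  let r : F.obj ⟶ (yon S).obj U := AlgSt.spMapOfOver b₁
  let i : b₂ ≅ AlgSt.ofSpMap r := ofPshMapIso _ ≪≫ eqToIso (by congr 1)
  have h7 : AlgSt.RepByAlgSpWith (LocP P) (FibCat.fpFst (AlgSt.ofSpMap r) (AlgSt.ofSpMap r)) :=
    (repWith_comp_equiv (fpIsoSnd_isEquivOver (AlgSt.ofSpMap r) i)).1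
      ((repWith_comp_equiv (f := FibCat.fpFst (AlgSt.ofSpMap r) b₂) (fpIsoFst_isEquivOver i b₂)).1 h6)
  let R : AlgSp.Space S := ⟨pullback r r, isAlgSpace_pullback r r F.property F.property (IsAlgSpace.yon_obj U)⟩
  have sq : IsPullback (pullback.fst r r).hom (pullback.snd r r).hom r.hom r.hom :=
    (IsPullback.of_hasPullback r r).map (sheafToPresheaf (J S) (Type (u + 1)))
  have h8 : AlgSt.RepByAlgSpWith (LocP P) (AlgSt.ofSpMap (pullback.fst r r)) :=
    repWith_of_iso (ofPshMapIso (BasedFunctor.comp (sqFun sq.w) (FibCat.fpFst (AlgSt.ofSpMap r) (AlgSt.ofSpMap r))) ≪≫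
        eqToIso (congrArg Stk.ofPshMap (pshMapOf_ofPshMap _)))
      ((repWith_comp_equiv (sqFun_isEquivOver sq)).2 h7)
  -- on a chart
  obtain ⟨W, a, ha, has⟩ := F.property.atlas
  obtain ⟨k, hk⟩ : ∃ k : W ⟶ U, (yon S).map k = a ≫ r := (yon S).map_surjective _
  have hkl : LocallyOfFiniteType k.left :=
    hr a (𝟙 _) k ha (AlgSp.repWith_id _ U) (by rw [Category.comp_id]; exact hk.symm)
  refine locP_of_chart ha has (AlgSp.repWith_id _ U) (h := k) (by rw [Category.comp_id]; exact hk.symm)
    (hself k.left hkl ?_)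
  have hA := prop_pullback_of_repWith_ofSpMap (A := R) (B := F) hloc h8 a
  let p := pullback.fst a (pullback.fst r r)
  let s := pullback.snd a (pullback.fst r r) ≫ pullback.snd r r
  have s1 : IsPullback s p r (a ≫ r) :=
    ((IsPullback.of_hasPullback a (pullback.fst r r)).flip.paste_horiz (IsPullback.of_hasPullback r r).flip)
  let m := pullback.snd a s
  have hm : RepWith @Etale m := repWith_baseChange (IsPullback.of_hasPullback a s) ha
  have s2 : IsPullback (pullback.fst a s) (m ≫ p) (a ≫ r) (a ≫ r) :=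
    ((IsPullback.of_hasPullback a s).flip.paste_horiz s1.flip).flip
  rw [← hk] at s2
  have sK : IsPullback (pullback.fst k k) (pullback.snd k k) k k := IsPullback.of_hasPullback k k
  let e' := (yon_isPullback sK).flip.isoIsPullback _ _ s2
  have he' : e'.hom ≫ m ≫ p = (yon S).map (pullback.fst k k) :=
    IsPullback.isoIsPullback_hom_snd _ _ (yon_isPullback sK).flip s2
  have := hA (e'.hom ≫ m) (𝟙 _) (pullback.fst k k) (repWith_comp (repWith_iso _) hm) (AlgSp.repWith_id _ W)
    (by rw [Category.comp_id, Category.assoc]; exact he')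
  have e3 := (left_isPullback sK).isoPullback
  have hfst := (left_isPullback sK).isoPullback_inv_fst
  rw [← hfst]
  exact P.comp_mem _ _ (EtLocal.of_etale _ inferInstance) this

end Groth.Agent.AlgStLib
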