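import Groth.Agent.AlgStLib.Basic
import Groth.Prelude.Def_AlgSt4
import Mathlib

/-!
Transfer of objects along isomorphisms of presheaves of isomorphism classes.
-/

set_option autoImplicit false
set_option backward.isDefEq.respectTransparency.types false

universe u

open CategoryTheory CategoryTheory.Functor AlgebraicGeometry

namespace Groth.Agent.AlgStLib

variable {S : Scheme.{u}} {𝒳 𝒴 𝒳' 𝒴' : AlgSt.Cat S}

/-- Morphisms transfer along an isomorphism of presheaves of isomorphism classes. -/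
theorem exists_hom_transfer (φ : IsoNat.FIso 𝒳 𝒴) {T' T : Over S} (g : T' ⟶ T) {x' : 𝒳.p.Fiber T'}
    {x : 𝒳.p.Fiber T} (a : x'.1 ⟶ x.1) (ha : 𝒳.p.IsHomLift g a) {y' : 𝒴.p.Fiber T'} {y : 𝒴.p.Fiber T}
    (hy' : φ.toEquiv T' (IsoNat.cls x') = IsoNat.cls y') (hy : φ.toEquiv T (IsoNat.cls x) = IsoNat.cls y) :
    ∃ b : y'.1 ⟶ y.1, 𝒴.p.IsHomLift g b := by
  obtain ⟨z', z, b, hb, h', h⟩ := φ.natural g x' x a ha
  obtain ⟨m₁, hm₁⟩ := hom_of_cls_eq (hy'.symm.trans h')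
  obtain ⟨m₂, hm₂⟩ := hom_of_cls_eq (h.symm.trans hy)
  exact ⟨(m₁ ≫ b) ≫ m₂, lift₃ hm₁ hb hm₂⟩

variable {f : 𝒳 ⥤ᵇ 𝒴} {f' : 𝒳' ⥤ᵇ 𝒴'}

/-- Morphisms from an image transfer along an isomorphism of maps of presheaves of isomorphism classes. -/
theorem exists_image_transfer (φ : IsoNat.FIsoSq f f') {T' T : Over S} (g : T' ⟶ T) {a : 𝒳.p.Fiber T'}
    {θ : 𝒴.p.Fiber T} {θ' : 𝒴'.p.Fiber T} (hθ : φ.tgt.toEquiv T (IsoNat.cls θ) = IsoNat.cls θ')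
    (m : f.obj a.1 ⟶ θ.1) (hm : 𝒴.p.IsHomLift g m) :
    ∃ (a' : 𝒳'.p.Fiber T') (m' : f'.obj a'.1 ⟶ θ'.1), φ.src.toEquiv T' (IsoNat.cls a) = IsoNat.cls a' ∧
      𝒴'.p.IsHomLift g m' := by
  obtain ⟨a', ha'⟩ := Quotient.exists_rep (φ.src.toEquiv T' (IsoNat.cls a))
  have h : φ.tgt.toEquiv T' (IsoNat.cls ((IsoNat.fibFun f T').obj a)) = IsoNat.cls ((IsoNat.fibFun f' T').obj a') := by
    refine (φ.comm T' (IsoNat.cls a)).trans ?_
    rw [← ha']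
    rfl
  obtain ⟨m', hm'⟩ := exists_hom_transfer φ.tgt g (x' := (IsoNat.fibFun f T').obj a) (x := θ) m hm h hθ
  exact ⟨a', m', ha'.symm, hm'⟩

end Groth.Agent.AlgStLib
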