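import Groth.Agent.AlgStLib.Descend
import Groth.Agent.AlgStLib.LocalProps
import Groth.Agent.FibBasics.Yoneda
import Groth.Agent.AlgSpLib.Points
import Groth.Prelude.Def_AlgSt4
import Mathlib

/-!
Field-valued points of categories fibred in groupoids over `(Sch/S)`.
-/

set_option autoImplicit false
set_option backward.isDefEq.respectTransparency false
set_option backward.isDefEq.respectTransparency.types false

universe u

open CategoryTheory CategoryTheory.Limits CategoryTheory.Functor AlgebraicGeometry Opposite AlgSp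

namespace Groth.Agent.AlgStLib

open Groth.Agent Groth.Agent.FibBasics Groth.Agent.AlgSpLib

variable {S : Scheme.{u}} {𝒳 𝒴 𝒵 : AlgSt.Cat S}

/-- The spectrum of the field of a point, over the base. -/
noncomputable abbrev fptBase (p : AlgSt.FPt 𝒳) : Over S := Over.mk p.str

theorem fpt_base_hom {p q : AlgSt.FPt 𝒳} (m : p.obj ⟶ q.obj) :
    ∃ k : fptBase p ⟶ fptBase q, 𝒳.p.IsHomLift k m :=
  ⟨eqToHom p.lies.symm ≫ 𝒳.p.map m ≫ eqToHom q.lies, inferInstance⟩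

/-- Two field extensions embed in a third one. -/
theorem exists_amalgam {K₀ K₁ K₂ : Type u} [Field K₀] [Field K₁] [Field K₂]
    {w₀ : Spec (CommRingCat.of K₀) ⟶ S} {w₁ : Spec (CommRingCat.of K₁) ⟶ S}
    {w₂ : Spec (CommRingCat.of K₂) ⟶ S} (a : Over.mk w₁ ⟶ Over.mk w₀) (b : Over.mk w₂ ⟶ Over.mk w₀) :
    ∃ (Ω : Type u) (_ : Field Ω) (w : Spec (CommRingCat.of Ω) ⟶ S)
      (a' : Over.mk w ⟶ Over.mk w₁) (b' : Over.mk w ⟶ Over.mk w₂), a' ≫ a = b' ≫ b := by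
  have key : ∀ {K : Type u} [Field K] {str : Spec (CommRingCat.of K) ⟶ S} (c : Over.mk str ⟶ Over.mk w₀),
      Points.mk (ptOfHom ((yon S).map c)) = Points.mk (ptOfHom (𝟙 ((yon S).obj (Over.mk w₀)))) := fun {K _ str} c => by
    refine Points.sound ((rel_iff_toHom _ _).2 ⟨K, inferInstance, str, 𝟙 _, c, ?_⟩)
    rw [ptOfHom_toHom, ptOfHom_toHom, CategoryTheory.Functor.map_id, Category.id_comp]
    exact (Category.comp_id _).symm
  obtain ⟨Ω, hΩ, w, a', b', h⟩ :=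
    (rel_iff_toHom _ _).1 (Points.mk_eq_mk_iff.1 ((key a).trans (key b).symm))
  rw [ptOfHom_toHom, ptOfHom_toHom] at h
  refine ⟨Ω, hΩ, w, a', b', (yon S).map_injective ?_⟩
  rw [Functor.map_comp, Functor.map_comp]
  exact h

/-- Pullback of a point along a field extension. -/
theorem exists_fpt_pullback (h : FibCat.IsFibGrpd 𝒳.p) (p : AlgSt.FPt 𝒳) {K : Type u} [Field K]
    {str : Spec (CommRingCat.of K) ⟶ S} (a : Over.mk str ⟶ fptBase p) :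
    ∃ (x : 𝒳.obj) (_ : 𝒳.p.obj x = Over.mk str) (m : x ⟶ p.obj), 𝒳.p.IsHomLift a m := by
  have := isFibered_of_isFibGrpd _ h
  obtain ⟨x, m, hm⟩ := exists_stronglyCartesian 𝒳.p p.lies a
  exact ⟨x, IsHomLift.domain_eq 𝒳.p a m, m, inferInstance⟩

theorem fpt_rel_equivalence (h : FibCat.IsFibGrpd 𝒳.p) : _root_.Equivalence (@AlgSt.FPt.Rel S 𝒳) where
  refl p := ⟨p, 𝟙 _, 𝟙 _, trivial⟩
  symm := fun ⟨r, a, b, _⟩ => ⟨r, b, a, trivial⟩
  trans := by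
    rintro p q t ⟨r₁, a₁, b₁, -⟩ ⟨r₂, a₂, b₂, -⟩
    obtain ⟨k₁, hk₁⟩ := fpt_base_hom b₁
    obtain ⟨k₂, hk₂⟩ := fpt_base_hom a₂
    obtain ⟨Ω, hΩ, w, c₁, c₂, e⟩ := exists_amalgam k₁ k₂
    obtain ⟨x₁, hx₁, m₁, hm₁⟩ := exists_fpt_pullback h r₁ c₁
    obtain ⟨x₂, hx₂, m₂, hm₂⟩ := exists_fpt_pullback h r₂ c₂
    obtain ⟨χ, -⟩ := exists_compare h (c₁ ≫ k₁) (m₁ ≫ b₁) (m₂ ≫ a₂) inferInstance
      (e ▸ inferInstance)
    exact ⟨⟨Ω, w, x₁, hx₁⟩, m₁ ≫ a₁, χ.hom ≫ m₂ ≫ b₂, trivial⟩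

theorem stk_mk_eq_mk_iff (h : FibCat.IsFibGrpd 𝒳.p) {p q : AlgSt.FPt 𝒳} :
    AlgSt.Points.mk p = AlgSt.Points.mk q ↔ AlgSt.FPt.Rel p q :=
  Quot.eq.trans (fpt_rel_equivalence h).eqvGen_iff

/-- Compatible pairs of points come from a point of the fibre product. -/
theorem exists_fpt_fp (h𝒵 : FibCat.IsFibGrpd 𝒵.p) (h𝒳 : FibCat.IsFibGrpd 𝒳.p) (h𝒴 : FibCat.IsFibGrpd 𝒴.p)
    {g : 𝒵 ⥤ᵇ 𝒴} {f : 𝒳 ⥤ᵇ 𝒴} (p : AlgSt.FPt 𝒵) (q : AlgSt.FPt 𝒳)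
    (e : AlgSt.Points.mk (p.map g) = AlgSt.Points.mk (q.map f)) :
    ∃ z : AlgSt.FPt (FibCat.fp g f), AlgSt.Points.mk (z.map (FibCat.fpFst g f)) = AlgSt.Points.mk p ∧
      AlgSt.Points.mk (z.map (FibCat.fpSnd g f)) = AlgSt.Points.mk q := by
  obtain ⟨r, a, b, -⟩ := (stk_mk_eq_mk_iff h𝒴).1 e
  obtain ⟨ka, hka⟩ := fpt_base_hom (p := r) (q := p.map g) a
  obtain ⟨kb, hkb⟩ := fpt_base_hom (p := r) (q := q.map f) b
  obtain ⟨x, hx, m, hm⟩ := exists_fpt_pullback h𝒵 p (K := r.K) (str := r.str) ka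
  obtain ⟨y, hy, n, hn⟩ := exists_fpt_pullback h𝒳 q (K := r.K) (str := r.str) kb
  obtain ⟨χ₁, hχ₁⟩ := exists_compare h𝒴 ka (g.map m) a ((BasedFunctor.isHomLift_iff g _ _).2 hm) hka
  obtain ⟨χ₂, hχ₂⟩ := exists_compare h𝒴 kb b (f.map n) hkb ((BasedFunctor.isHomLift_iff f _ _).2 hn)
  let z₀ : (FibCat.fp g f).obj := ⟨{ fst := x, snd := y, iso := χ₁ ≪≫ χ₂ }, by
    show 𝒴.p.IsHomLift (𝟙 (𝒵.p.obj x)) (χ₁.hom ≫ χ₂.hom)
    rw [hx]
    infer_instance⟩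
  refine ⟨⟨r.K, r.str, z₀, hx⟩, AlgSt.Points.sound ?_, AlgSt.Points.sound ?_⟩
  · exact ⟨⟨r.K, r.str, x, hx⟩, 𝟙 x, m, trivial⟩
  · exact ⟨⟨r.K, r.str, y, hy⟩, 𝟙 y, n, trivial⟩

theorem exists_point_fp (h𝒵 : FibCat.IsFibGrpd 𝒵.p) (h𝒳 : FibCat.IsFibGrpd 𝒳.p) (h𝒴 : FibCat.IsFibGrpd 𝒴.p)
    {g : 𝒵 ⥤ᵇ 𝒴} {f : 𝒳 ⥤ᵇ 𝒴} (a : AlgSt.Points 𝒵) (b : AlgSt.Points 𝒳)
    (e : AlgSt.Points.map g a = AlgSt.Points.map f b) :
    ∃ c : AlgSt.Points (FibCat.fp g f), AlgSt.Points.map (FibCat.fpFst g f) c = a ∧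
      AlgSt.Points.map (FibCat.fpSnd g f) c = b := by
  obtain ⟨p, rfl⟩ := AlgSt.Points.mk_surjective a
  obtain ⟨q, rfl⟩ := AlgSt.Points.mk_surjective b
  obtain ⟨z, h1, h2⟩ := exists_fpt_fp h𝒵 h𝒳 h𝒴 p q e
  exact ⟨AlgSt.Points.mk z, h1, h2⟩

theorem stk_map_comp (f : 𝒳 ⥤ᵇ 𝒴) (g : 𝒴 ⥤ᵇ 𝒵) (a : AlgSt.Points 𝒳) :
    AlgSt.Points.map (BasedFunctor.comp f g) a = AlgSt.Points.map g (AlgSt.Points.map f a) := by
  obtain ⟨p, rfl⟩ := AlgSt.Points.mk_surjective a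
  rfl

theorem stk_map_id (a : AlgSt.Points 𝒳) : AlgSt.Points.map (BasedFunctor.id 𝒳) a = a := by
  obtain ⟨p, rfl⟩ := AlgSt.Points.mk_surjective a
  rfl

theorem stk_map_congr {f g : 𝒳 ⥤ᵇ 𝒴} (α : f ≅ g) (a : AlgSt.Points 𝒳) :
    AlgSt.Points.map f a = AlgSt.Points.map g a := by
  obtain ⟨p, rfl⟩ := AlgSt.Points.mk_surjective a
  exact AlgSt.Points.sound ⟨p.map f, 𝟙 _, α.hom.toNatTrans.app p.obj, trivial⟩

/-- Equivalences are bijective on points. -/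
theorem stk_map_bijective {e : 𝒳 ⥤ᵇ 𝒴} (he : FibCat.IsEquivOver e) : Function.Bijective (AlgSt.Points.map e) := by
  obtain ⟨L, hL, ⟨η⟩, ⟨ε⟩⟩ := isEquivOver_symm he
  refine Function.bijective_iff_has_inverse.2 ⟨AlgSt.Points.map L, fun a => ?_, fun b => ?_⟩
  · rw [← stk_map_comp, stk_map_congr η, stk_map_id]
  · rw [← stk_map_comp, stk_map_congr ε, stk_map_id]

theorem isSurjective_fpFst (h𝒵 : FibCat.IsFibGrpd 𝒵.p) (h𝒳 : FibCat.IsFibGrpd 𝒳.p) (h𝒴 : FibCat.IsFibGrpd 𝒴.p)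
    {f : 𝒳 ⥤ᵇ 𝒴} (g : 𝒵 ⥤ᵇ 𝒴) (hf : AlgSt.IsSurjective f) : AlgSt.IsSurjective (FibCat.fpFst g f) := fun a => by
  obtain ⟨b, hb⟩ := hf (AlgSt.Points.map g a)
  obtain ⟨c, hc, -⟩ := exists_point_fp h𝒵 h𝒳 h𝒴 a b hb.symm
  exact ⟨c, hc⟩

theorem isSurjective_comp {f : 𝒳 ⥤ᵇ 𝒴} {g : 𝒴 ⥤ᵇ 𝒵} (hf : AlgSt.IsSurjective f) (hg : AlgSt.IsSurjective g) :
    AlgSt.IsSurjective (BasedFunctor.comp f g) := fun c => by
  obtain ⟨b, rfl⟩ := hg c
  obtain ⟨a, rfl⟩ := hf b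
  exact ⟨a, stk_map_comp f g a⟩

theorem isSurjective_of_comp {f : 𝒳 ⥤ᵇ 𝒴} {g : 𝒴 ⥤ᵇ 𝒵} (h : AlgSt.IsSurjective (BasedFunctor.comp f g)) :
    AlgSt.IsSurjective g := fun c => by
  obtain ⟨a, rfl⟩ := h c
  exact ⟨_, (stk_map_comp f g a).symm⟩

section Spaces

variable {A B : Sp S}

theorem op_conj {B B' T R : Over S} (h : B = T) (h' : B' = R) (φ : B' ⟶ B) :
    (eqToHom h.symm).op ≫ (eqToHom h'.symm ≫ φ ≫ eqToHom h).op = φ.op ≫ (eqToHom h'.symm).op := by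
  subst h h'; simp

/-- A field-valued point of the category of a sheaf, as a field-valued point of the sheaf. -/
noncomputable def toSpPt (p : AlgSt.FPt (AlgSt.ofSp A)) : FieldPt A :=
  ⟨p.K, p.str, A.obj.map (eqToHom p.lies.symm).op (p.obj : Stk.EltObj A.obj).sec⟩

theorem toSpPt_rel {p q : AlgSt.FPt (AlgSt.ofSp A)} (h : AlgSt.FPt.Rel p q) :
    FieldPt.Rel (toSpPt p) (toSpPt q) := by
  obtain ⟨r, a, b, -⟩ := h
  refine ⟨r.K, r.field, r.str, eqToHom r.lies.symm ≫ a.hom ≫ eqToHom p.lies,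
    eqToHom r.lies.symm ≫ b.hom ≫ eqToHom q.lies, ?_⟩
  simp only [toSpPt]
  have e1 : ∀ {p : AlgSt.FPt (AlgSt.ofSp A)} (a : r.obj ⟶ p.obj),
      A.obj.map ((eqToHom p.lies.symm).op ≫ (eqToHom r.lies.symm ≫ a.hom ≫ eqToHom p.lies).op) (p.obj : Stk.EltObj A.obj).sec =
        A.obj.map (eqToHom r.lies.symm).op (r.obj : Stk.EltObj A.obj).sec := fun {p} a => by
    rw [← a.map_sec]
    exact (congrArg (fun q => A.obj.map q (p.obj : Stk.EltObj A.obj).sec)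
      (op_conj p.lies r.lies a.hom)).trans (Functor.map_comp_apply A.obj _ _ _)
  rw [← Functor.map_comp_apply, ← Functor.map_comp_apply]
  exact (e1 a).trans (e1 b).symm

/-- Points of the category of a sheaf, as points of the sheaf. -/
noncomputable def toSpPoints (A : Sp S) : AlgSt.Points (AlgSt.ofSp A) → Points A :=
  Quot.lift (fun p => Points.mk (toSpPt p)) fun _ _ h => Points.sound (toSpPt_rel h)

/-- A field-valued point of a sheaf, as one of its category. -/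
noncomputable def ofSpPt (p : FieldPt A) : AlgSt.FPt (AlgSt.ofSp A) :=
  ⟨p.K, p.str, ⟨Over.mk p.str, p.val⟩, rfl⟩

theorem toSpPt_ofSpPt (p : FieldPt A) : toSpPt (ofSpPt p) = p := by
  refine congrArg (fun v => (⟨p.K, p.str, v⟩ : FieldPt A)) ?_
  exact Functor.map_id_apply A.obj _ _

theorem toSpPoints_bijective (A : Sp S) : Function.Bijective (toSpPoints A) := by
  refine ⟨fun a b h => ?_, fun x => ?_⟩
  · obtain ⟨p, rfl⟩ := AlgSt.Points.mk_surjective a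
    obtain ⟨q, rfl⟩ := AlgSt.Points.mk_surjective b
    obtain ⟨Ω, hΩ, w, k, l, e⟩ := Points.mk_eq_mk_iff.1 h
    let a' := k ≫ eqToHom p.lies.symm
    let b' := l ≫ eqToHom q.lies.symm
    refine AlgSt.Points.sound ⟨⟨Ω, w, ⟨Over.mk w, A.obj.map a'.op (p.obj : Stk.EltObj A.obj).sec⟩, rfl⟩,
      ⟨a', rfl⟩, ⟨b', ?_⟩, trivial⟩
    change A.obj.map k.op (A.obj.map _ _) = A.obj.map l.op (A.obj.map _ _) at e
    rw [← Functor.map_comp_apply, ← Functor.map_comp_apply] at e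
    show A.obj.map b'.op (q.obj : Stk.EltObj A.obj).sec = A.obj.map a'.op (p.obj : Stk.EltObj A.obj).sec
    refine Eq.trans ?_ (e.symm.trans ?_)
    · rfl
    · rfl
  · obtain ⟨p, rfl⟩ := Points.mk_surjective x
    exact ⟨AlgSt.Points.mk (ofSpPt p), congrArg Points.mk (toSpPt_ofSpPt p)⟩

theorem toSpPoints_map (f : A ⟶ B) (a : AlgSt.Points (AlgSt.ofSp A)) :
    toSpPoints B (AlgSt.Points.map (AlgSt.ofSpMap f) a) = Points.map f (toSpPoints A a) := by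
  obtain ⟨p, rfl⟩ := AlgSt.Points.mk_surjective a
  refine congrArg Points.mk ?_
  exact congrArg (fun v => (⟨p.K, p.str, v⟩ : FieldPt B))
    (NatTrans.naturality_apply f.hom (eqToHom p.lies.symm).op _).symm

theorem isSurjective_ofSpMap_iff (f : A ⟶ B) : AlgSt.IsSurjective (AlgSt.ofSpMap f) ↔ IsSurjectiveMor f := by
  constructor
  · intro h x
    obtain ⟨b, rfl⟩ := (toSpPoints_bijective B).2 x
    obtain ⟨a, rfl⟩ := h b
    exact ⟨toSpPoints A a, (toSpPoints_map f a).symm⟩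
  · intro h b
    obtain ⟨y, hy⟩ := h (toSpPoints B b)
    obtain ⟨a, rfl⟩ := (toSpPoints_bijective A).2 y
    exact ⟨a, (toSpPoints_bijective B).1 ((toSpPoints_map f a).trans hy)⟩

end Spaces

theorem isSurjective_comp_equiv_iff {e : 𝒳 ⥤ᵇ 𝒴} (he : FibCat.IsEquivOver e) {f : 𝒴 ⥤ᵇ 𝒵} :
    AlgSt.IsSurjective (BasedFunctor.comp e f) ↔ AlgSt.IsSurjective f :=
  ⟨isSurjective_of_comp, isSurjective_comp (stk_map_bijective he).2⟩

theorem isSurjective_of_iso {f g : 𝒳 ⥤ᵇ 𝒴} (α : f ≅ g) (h : AlgSt.IsSurjective f) : AlgSt.IsSurjective g :=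
  fun b => by
    obtain ⟨a, rfl⟩ := h b
    exact ⟨a, (stk_map_congr α a).symm⟩

/-- A representable morphism is surjective on points when its base changes are. -/
theorem isSurjective_of_repWith (h𝒴 : FibCat.IsFibGrpd 𝒴.p) {f : 𝒳 ⥤ᵇ 𝒴}
    (hf : AlgSt.RepByAlgSpWith IsSurjectiveMor f) : AlgSt.IsSurjective f := by
  intro b
  obtain ⟨p, rfl⟩ := AlgSt.Points.mk_surjective b
  have := isFibered_of_isFibGrpd _ h𝒴
  obtain ⟨y, -, ⟨i⟩⟩ := exists_evalAtId_iso (⟨p.obj, p.lies⟩ : 𝒴.p.Fiber (fptBase p))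
  obtain ⟨F, e, he, hF⟩ := hf (fptBase p) y
  let b₀ := BasedFunctor.comp (BasedFunctor.comp e (FibCat.fpFst y f)) (AlgSt.ofOverCat (fptBase p))
  have hb : AlgSt.IsSurjective b₀ := isSurjective_of_iso
    (ofPshMapIso b₀ ≪≫ eqToIso (by congr 1)).symm ((isSurjective_ofSpMap_iff _).2 hF)
  obtain ⟨z, hz⟩ := hb (AlgSt.Points.mk ⟨p.K, p.str, ⟨fptBase p, ⟨𝟙 _⟩⟩, rfl⟩)
  refine ⟨AlgSt.Points.map (FibCat.fpSnd y f) (AlgSt.Points.map e z), ?_⟩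
  rw [← stk_map_comp, ← stk_map_congr (FibCat.fpIso y f), stk_map_comp]
  have h2 : AlgSt.Points.map (FibCat.fpFst y f) (AlgSt.Points.map e z) =
      AlgSt.Points.mk ⟨p.K, p.str, one (fptBase p), rfl⟩ := by
    apply (stk_map_bijective (ofOverCat_isEquivOver (fptBase p))).1
    rw [← stk_map_comp, ← stk_map_comp]
    exact hz
  rw [h2]
  exact AlgSt.Points.sound ⟨⟨p.K, p.str, y.obj (one (fptBase p)), y.w_obj _⟩, 𝟙 _, i.hom.1, trivial⟩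

/-- A representable morphism which is surjective on points has surjective base changes. -/
theorem repWith_surjective_of_isSurjective (h𝒳 : FibCat.IsFibGrpd 𝒳.p) (h𝒴 : FibCat.IsFibGrpd 𝒴.p)
    {f : 𝒳 ⥤ᵇ 𝒴} (hf : AlgSt.RepByAlgSp1 f) (hs : AlgSt.IsSurjective f) :
    AlgSt.RepByAlgSpWith IsSurjectiveMor f := fun U y => by
  obtain ⟨F, e, he⟩ := hf U y
  refine ⟨F, e, he, (isSurjective_ofSpMap_iff _).1 ?_⟩
  let b₀ := BasedFunctor.comp (BasedFunctor.comp e (FibCat.fpFst y f)) (AlgSt.ofOverCat U)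
  refine isSurjective_of_iso (ofPshMapIso b₀ ≪≫ eqToIso (by congr 1)) ?_
  exact isSurjective_comp ((isSurjective_comp_equiv_iff he).2 (isSurjective_fpFst (isFibGrpd_overForget U) h𝒳 h𝒴 y hs))
    (stk_map_bijective (ofOverCat_isEquivOver U)).2

theorem isSurjective_iff_repWith (h𝒳 : FibCat.IsFibGrpd 𝒳.p) (h𝒴 : FibCat.IsFibGrpd 𝒴.p)
    {f : 𝒳 ⥤ᵇ 𝒴} (hf : AlgSt.RepByAlgSp1 f) :
    AlgSt.IsSurjective f ↔ AlgSt.RepByAlgSpWith IsSurjectiveMor f :=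
  ⟨repWith_surjective_of_isSurjective h𝒳 h𝒴 hf, isSurjective_of_repWith h𝒴⟩

end Groth.Agent.AlgStLib
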