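import Groth.Agent.AlgStLib.LocQStmts
import Groth.Agent.AlgStLib.StkPoints
import Mathlib

/-!
Descent of properties read on smooth charts.
-/

set_option autoImplicit false
set_option backward.isDefEq.respectTransparency false
set_option backward.isDefEq.respectTransparency.types false

universe u

open CategoryTheory CategoryTheory.Limits CategoryTheory.Functor AlgebraicGeometry Opposite AlgSp

namespace Groth.Agent.AlgStLib

open Groth.Agent Groth.Agent.FibBasics Groth.Agent.AlgSpLib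

variable {S : Scheme.{u}} {𝒳 𝒴 𝒵 : AlgSt.Cat S} {P : MorphismProperty (Sp S)}

/-- A functor into a fibre product, composed with the first factor. -/
noncomputable def fpMapSndIso {𝒜 ℬ : AlgSt.Cat S} (a : 𝒜 ⥤ᵇ 𝒳) (y : ℬ ⥤ᵇ 𝒴) (f : 𝒳 ⥤ᵇ 𝒴) :
    BasedFunctor.comp (fpAssoc a f y) (fpMapSnd y a f) ≅ FibCat.fpFst (FibCat.fpSnd y f) a :=
  BasedNatIso.mkNatIso (NatIso.ofComponents
    (fun x => ObjectProperty.isoMk _ (CategoricalPullback.mkIso (Iso.refl x.obj.fst.obj.fst) x.obj.iso.symm (by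
      show y.map (𝟙 _) ≫ x.obj.fst.obj.iso.hom =
        (x.obj.fst.obj.iso.hom ≫ f.map x.obj.iso.hom) ≫ f.map x.obj.iso.inv
      rw [y.toFunctor.map_id, Category.id_comp, Category.assoc, ← f.toFunctor.map_comp, Iso.hom_inv_id,
        f.toFunctor.map_id, Category.comp_id])))
    (fun {p q} φ => fp_hom_ext ((Category.comp_id φ.hom.fst.hom.fst).trans (Category.id_comp φ.hom.fst.hom.fst).symm)
      (by
        have w : φ.hom.fst.hom.snd ≫ q.obj.iso.hom = p.obj.iso.hom ≫ a.map φ.hom.snd := φ.hom.w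
        show a.map φ.hom.snd ≫ q.obj.iso.inv = p.obj.iso.inv ≫ φ.hom.fst.hom.snd
        rw [Iso.comp_inv_eq, Category.assoc, Iso.eq_inv_comp]
        exact w.symm)))
    (fun x => fp_lift_of_fst _ _ (IsHomLift.id rfl))

theorem repWith_fpMapSnd {𝒜 ℬ : AlgSt.Cat S} {a : 𝒜 ⥤ᵇ 𝒳} (y : ℬ ⥤ᵇ 𝒴) (f : 𝒳 ⥤ᵇ 𝒴)
    (ha : AlgSt.RepByAlgSpWith P a) : AlgSt.RepByAlgSpWith P (fpMapSnd y a f) :=
  (repWith_comp_equiv (fpAssoc_isEquivOver a f y)).1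
    (repWith_of_iso (fpMapSndIso a y f).symm (repWith_fpFst (FibCat.fpSnd y f) ha))

theorem surjective_of_points {A B : AlgSp.Space S} {h : A.obj ⟶ B.obj} {Φ : AlgSt.ofSp A.obj ⥤ᵇ AlgSt.ofSp B.obj}
    (i : Φ ≅ AlgSt.ofSpMap h) (hs : AlgSt.IsSurjective Φ) : IsSurjectiveMor h :=
  (isSurjective_ofSpMap_iff h).1 (isSurjective_of_iso i hs)

/-- The chart square pulled back along a cover of the target chart. -/
theorem exists_descend_square (hP : StLocal P) (h𝒳 : AlgSt.IsAlgStack Scheme.fppfPrecoverage 𝒳)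
    (h𝒴 : AlgSt.IsAlgStack Scheme.fppfPrecoverage 𝒴) (h𝒵 : AlgSt.IsAlgStack Scheme.fppfPrecoverage 𝒵)
    {f : 𝒳 ⥤ᵇ 𝒴} {z : 𝒵 ⥤ᵇ 𝒴} (hzs : AlgSt.IsSurjective z) (hf : AlgSt.LocQ P (FibCat.fpFst z f))
    {U V : AlgSp.Space S} (y : AlgSt.ofSp V.obj ⥤ᵇ 𝒴) (hy : AlgSt.RepByAlgSpWith (LocP @Smooth) y)
    (k : AlgSt.ofSp U.obj ⥤ᵇ FibCat.fp y f) (hk : AlgSt.RepByAlgSpWith (LocP @Smooth) k)
    (h : U.obj ⟶ V.obj) (i : BasedFunctor.comp k (FibCat.fpFst y f) ≅ AlgSt.ofSpMap h) :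
    ∃ (W : AlgSp.Space S) (a : W.obj ⟶ V.obj), IsSurjectiveMor a ∧
      (∀ {Q : MorphismProperty (Sp S)}, StLocal Q → BcAlong ⊤ Q → AlgSt.LocQ Q z → Q a) ∧
      P (pullback.fst a h) := by
  have hV : FibCat.IsFibGrpd (AlgSt.ofSp V.obj).p := Stk.isFibGrpd_ofPsh _
  have hU : FibCat.IsFibGrpd (AlgSt.ofSp U.obj).p := Stk.isFibGrpd_ofPsh _
  obtain ⟨W, c, hc, hcs⟩ := exists_space_atlas_fp h𝒵 h𝒴 z y
  let Φ := BasedFunctor.comp c (FibCat.fpFst y z)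
  let a : W.obj ⟶ V.obj := spMapOf Φ
  have hF : FibCat.IsFibGrpd (FibCat.fp y z).p := fp_isFibGrpd hV h𝒵.isStack.1 h𝒴.isStack.1
  let b := BasedFunctor.comp c (FibCat.fpSnd y z)
  have hb : AlgSt.RepByAlgSpWith (LocP @Smooth) b :=
    repWith_smooth_comp (Stk.isFibGrpd_ofPsh _) hF hc (repWith_fpSnd' z hy)
  refine ⟨W, a, surjective_of_points (ofPshMapIso Φ)
    (isSurjective_comp (isSurjective_of_repWith hF hcs) (isSurjective_fpFst hV h𝒵.isStack.1 h𝒴.isStack.1 y hzs)),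
    fun hQ hbc hzQ => every_top_of_locQ hQ hbc h𝒵.isStack.1 h𝒴.isStack.1 hzQ y
      (rep1_iff.1 (rep1_of_space h𝒴 y)) c hc a ⟨ofPshMapIso Φ⟩, ?_⟩
  let ν : BasedFunctor.comp (AlgSt.ofSpMap a) y ≅ BasedFunctor.comp b z :=
    bWhiskerR (ofPshMapIso Φ).symm y ≪≫ bWhiskerL c (FibCat.fpIso y z)
  let T : AlgSp.Space S := ⟨pullback a h, isAlgSpace_pullback a h W.property U.property V.property⟩
  have sq : IsPullback (pullback.fst a h).hom (pullback.snd a h).hom a.hom h.hom :=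
    (IsPullback.of_hasPullback a h).map (sheafToPresheaf (J S) (Type (u + 1)))
  obtain ⟨N, hN, -, ⟨εN⟩⟩ := isEquivOver_symm (fpPaste_isEquivOver f z b)
  let E₁ := BasedFunctor.comp (sqFun sq.w) (fpIsoSnd (AlgSt.ofSpMap a) i.symm)
  let E₂ := BasedFunctor.comp (fpPaste f y (AlgSt.ofSpMap a)) (fpIsoFst ν f)
  let k' := BasedFunctor.comp (BasedFunctor.comp E₁ (fpMapSnd (AlgSt.ofSpMap a) k (FibCat.fpFst y f)))
    (BasedFunctor.comp E₂ N)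
  have hk' : AlgSt.RepByAlgSpWith (LocP @Smooth) k' := by
    refine (repWith_equiv_comp (isEquivOver_comp (isEquivOver_comp (fpPaste_isEquivOver _ _ _)
      (fpIsoFst_isEquivOver ν f)) hN)).2 ((repWith_comp_equiv
      (isEquivOver_comp (sqFun_isEquivOver sq) (fpIsoSnd_isEquivOver _ i.symm))).2 ?_)
    exact repWith_fpMapSnd _ _ hk
  have hZX : FibCat.IsFibGrpd (FibCat.fp z f).p := fp_isFibGrpd h𝒵.isStack.1 h𝒳.isStack.1 h𝒴.isStack.1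
  exact every_of_locQ hP hZX h𝒵.isStack.1 hf (U := T) b hb k' hk' _
    ⟨bWhiskerR (bWhiskerL (BasedFunctor.comp (BasedFunctor.comp E₁ (fpMapSnd (AlgSt.ofSpMap a) k (FibCat.fpFst y f))) E₂)
      εN) (FibCat.fpFst (BasedFunctor.comp b z) f) ≪≫ eqToIso (based_ext rfl)⟩

/-- Descent along flat, locally finitely presented surjections. -/
theorem locQ_descend (hP : StLocal P) (hPl : IsLocalOnBase IsFppfCover P)
    (h𝒳 : AlgSt.IsAlgStack Scheme.fppfPrecoverage 𝒳) (h𝒴 : AlgSt.IsAlgStack Scheme.fppfPrecoverage 𝒴)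
    (h𝒵 : AlgSt.IsAlgStack Scheme.fppfPrecoverage 𝒵) {f : 𝒳 ⥤ᵇ 𝒴} {z : 𝒵 ⥤ᵇ 𝒴}
    (hz₁ : AlgSt.LocQ (LocP @Flat) z) (hz₂ : AlgSt.LocQ (LocP @LocallyOfFinitePresentation) z)
    (hz₃ : AlgSt.IsSurjective z) (hf : AlgSt.LocQ P (FibCat.fpFst z f)) : AlgSt.LocQ P f := by
  refine locQ_of_every hP.pre hP.bc h𝒳 h𝒴 fun U V y hy k hk h ⟨i⟩ => ?_
  obtain ⟨W, a, has, ha, hh⟩ := exists_descend_square hP h𝒳 h𝒴 h𝒵 hz₃ hf y hy k hk h i
  exact (hPl (fun _ : PUnit.{u + 1} => W.obj) (fun _ => a) V.property (fun _ => W.property)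
    ⟨fun _ => ⟨ha stLocal_flat bcAlong_locP hz₁, ha stLocal_lfp bcAlong_locP hz₂⟩, fun x => ⟨⟨⟩, has x⟩⟩
    h U.property (fun _ => pullback a h) (fun _ => pullback.fst a h) (fun _ => pullback.snd a h)
    (fun _ => isAlgSpace_pullback a h W.property U.property V.property)
    (fun _ => (IsPullback.of_hasPullback a h).flip)).2 fun _ => hh

theorem locQ_flat_descend (h𝒳 : AlgSt.IsAlgStack Scheme.fppfPrecoverage 𝒳)
    (h𝒴 : AlgSt.IsAlgStack Scheme.fppfPrecoverage 𝒴) (h𝒵 : AlgSt.IsAlgStack Scheme.fppfPrecoverage 𝒵)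
    {f : 𝒳 ⥤ᵇ 𝒴} {z : 𝒵 ⥤ᵇ 𝒴} (hz₁ : AlgSt.LocQ (LocP @Flat) z) (hz₂ : AlgSt.IsSurjective z)
    (hf : AlgSt.LocQ (LocP @Flat) (FibCat.fpFst z f)) : AlgSt.LocQ (LocP @Flat) f := by
  refine locQ_of_every stLocal_flat.pre stLocal_flat.bc h𝒳 h𝒴 fun U V y hy k hk h ⟨i⟩ => ?_
  obtain ⟨W, a, has, ha, hh⟩ := exists_descend_square stLocal_flat h𝒳 h𝒴 h𝒵 hz₂ hf y hy k hk h i
  have hT := isAlgSpace_pullback a h W.property U.property V.property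
  refine locP_of_comp_surjective (Q := @Flat) hT U.property V.property (f := pullback.snd a h)
    (surjective_snd (IsPullback.of_hasPullback a h) has)
    (locP_baseChange W.property V.property U.property (IsPullback.of_hasPullback a h) (ha stLocal_flat bcAlong_locP hz₁))
    ?_ fun _ _ _ j m hj hs hjm => ?_
  · rw [← pullback.condition]
    exact locP_comp hT W.property V.property hh (ha stLocal_flat bcAlong_locP hz₁)
  · have : Flat j := hj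
    exact @SourceDescent.flat_of_comp _ _ _ j m inferInstance hs hjm

/-- Flatness descends along flat surjections of the source. -/
theorem locQ_flat_of_comp (h𝒳 : AlgSt.IsAlgStack Scheme.fppfPrecoverage 𝒳)
    (h𝒴 : AlgSt.IsAlgStack Scheme.fppfPrecoverage 𝒴) (h𝒵 : AlgSt.IsAlgStack Scheme.fppfPrecoverage 𝒵)
    {f : 𝒳 ⥤ᵇ 𝒴} {g : 𝒴 ⥤ᵇ 𝒵} (hf₁ : AlgSt.LocQ (LocP @Flat) f) (hf₂ : AlgSt.IsSurjective f)
    (hfg : AlgSt.LocQ (LocP @Flat) (BasedFunctor.comp f g)) : AlgSt.LocQ (LocP @Flat) g := by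
  obtain ⟨W, z, hz, hzs⟩ := exists_space_atlas h𝒵
  obtain ⟨V, k₂, hk₂, hk₂s⟩ := exists_space_atlas_fp h𝒴 h𝒵 g z
  have hF : FibCat.IsFibGrpd (FibCat.fp z g).p := fp_isFibGrpd (Stk.isFibGrpd_ofPsh _) h𝒴.isStack.1 h𝒵.isStack.1
  let y := BasedFunctor.comp k₂ (FibCat.fpSnd z g)
  have hy : AlgSt.RepByAlgSpWith (LocP @Smooth) y :=
    repWith_smooth_comp (Stk.isFibGrpd_ofPsh _) hF hk₂ (repWith_fpSnd' g hz)
  obtain ⟨U, k₁, hk₁, hk₁s⟩ := exists_space_atlas_fp h𝒳 h𝒴 f y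
  have hF₁ : FibCat.IsFibGrpd (FibCat.fp y f).p := fp_isFibGrpd (Stk.isFibGrpd_ofPsh _) h𝒳.isStack.1 h𝒴.isStack.1
  let h₁ : U.obj ⟶ V.obj := spMapOf (BasedFunctor.comp k₁ (FibCat.fpFst y f))
  let h₂ : V.obj ⟶ W.obj := spMapOf (BasedFunctor.comp k₂ (FibCat.fpFst z g))
  let c := BasedFunctor.comp (fpMapFst k₂ (FibCat.fpSnd z g) f) (fpAssoc f g z)
  have hc : AlgSt.RepByAlgSpWith (LocP @Smooth) c :=
    (repWith_equiv_comp (fpAssoc_isEquivOver f g z)).2 (repWith_fpMapFst f (FibCat.fpSnd z g) hk₂)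
  have e₁ : LocP @Flat (h₁ ≫ h₂) := every_of_locQ stLocal_flat h𝒳.isStack.1 h𝒵.isStack.1 hfg z hz
    (BasedFunctor.comp k₁ c) (repWith_smooth_comp (Stk.isFibGrpd_ofPsh _) hF₁ hk₁ hc) _
    ⟨bWhiskerR (ofPshMapIso (BasedFunctor.comp k₁ (FibCat.fpFst y f))) (BasedFunctor.comp k₂ (FibCat.fpFst z g)) ≪≫
      bWhiskerL (AlgSt.ofSpMap h₁) (ofPshMapIso _) ≪≫ ofSpMapCompIso h₁ h₂⟩
  refine locQ_of_chart stLocal_flat.pre stLocal_flat.bc h𝒴.isStack.1 h𝒵.isStack.1 hz hzs hk₂ hk₂s (ofPshMapIso _)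
    (locP_of_comp_surjective (Q := @Flat) U.property V.property W.property (f := h₁) ?_
      (every_of_locQ stLocal_flat h𝒳.isStack.1 h𝒴.isStack.1 hf₁ y hy k₁ hk₁ _ ⟨ofPshMapIso _⟩) e₁
      fun _ _ _ j m hj hs hjm => ?_)
  · exact surjective_of_points (ofPshMapIso _) (isSurjective_comp (isSurjective_of_repWith hF₁ hk₁s)
      (isSurjective_fpFst (Stk.isFibGrpd_ofPsh _) h𝒳.isStack.1 h𝒴.isStack.1 y hf₂))
  · have : Flat j := hj
    exact @SourceDescent.flat_of_comp _ _ _ j m inferInstance hs hjm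

theorem exists_fppf_space (h𝒴 : AlgSt.IsAlgStack Scheme.fppfPrecoverage 𝒴)
    (h𝒵 : AlgSt.IsAlgStack Scheme.fppfPrecoverage 𝒵) {z : 𝒵 ⥤ᵇ 𝒴}
    (hz₁ : AlgSt.LocQ (LocP @Flat) z) (hz₂ : AlgSt.LocQ (LocP @LocallyOfFinitePresentation) z)
    (hz₃ : AlgSt.IsSurjective z) :
    ∃ (W : AlgSp.Space S) (w : AlgSt.ofSp W.obj ⥤ᵇ 𝒵), FppfMor (BasedFunctor.comp w z) := by
  obtain ⟨W, w, hw, hws⟩ := exists_space_atlas h𝒵
  have hW := isAlgStack_ofSch W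
  have hr : AlgSt.RepByAlgSp1 (BasedFunctor.comp w z) := rep1_of_space h𝒴 _
  refine ⟨W, w, repWith_of_locQ stLocal_flat.pre stLocal_flat.bc stLocal_flat.loc ?_ isLocalOnBase_fppf_locP
      hW.isStack.1 h𝒴 hr (locQ_comp stLocal_flat ?_ hW h𝒵 h𝒴 (locQ_of_repWith stLocal_flat.pre stLocal_flat.bc h𝒵 ?_) hz₁),
    repWith_of_locQ stLocal_lfp.pre stLocal_lfp.bc stLocal_lfp.loc ?_
      (isLocalOnBase_fppf (Groth.Agent.S10527.result S))
      hW.isStack.1 h𝒴 hr (locQ_comp stLocal_lfp ?_ hW h𝒵 h𝒴 (locQ_of_repWith stLocal_lfp.pre stLocal_lfp.bc h𝒵 ?_) hz₂),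
    repWith_surjective_of_isSurjective hW.isStack.1 h𝒴.isStack.1 hr
      (isSurjective_comp (isSurjective_of_repWith h𝒵.isStack.1 hws) hz₃)⟩
  · exact fun _ _ _ _ hA hB _ hD _ _ _ _ sq ha => locP_baseChange hA hB hD sq ha
  · exact fun _ _ _ hA hB hC _ _ ha hb => locP_comp hA hB hC ha hb
  · exact repWith_mono_prop (fun _ _ _ _ _ ha => locP_mono (fun _ _ k hk => by have : Smooth k := hk; infer_instance) ha) hw
  · exact fun _ _ _ _ hA hB _ hD _ _ _ _ sq ha => locP_baseChange hA hB hD sq ha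
  · exact fun _ _ _ hA hB hC _ _ ha hb => locP_comp hA hB hC ha hb
  · exact repWith_mono_prop (fun _ _ _ _ _ ha => locP_mono (fun _ _ k hk => by have : Smooth k := hk; infer_instance) ha) hw

theorem repWith_iff_fpFst (hPl : IsLocalOnBase IsFppfCover P) (h𝒳 : AlgSt.IsAlgStack Scheme.fppfPrecoverage 𝒳)
    (h𝒴 : AlgSt.IsAlgStack Scheme.fppfPrecoverage 𝒴) (h𝒵 : AlgSt.IsAlgStack Scheme.fppfPrecoverage 𝒵)
    {f : 𝒳 ⥤ᵇ 𝒴} (hf : AlgSt.RepByAlgSp1 f) {z : 𝒵 ⥤ᵇ 𝒴}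
    (hz₁ : AlgSt.LocQ (LocP @Flat) z) (hz₂ : AlgSt.LocQ (LocP @LocallyOfFinitePresentation) z)
    (hz₃ : AlgSt.IsSurjective z) :
    AlgSt.RepByAlgSpWith P f ↔ AlgSt.RepByAlgSpWith P (FibCat.fpFst z f) := by
  refine ⟨repWith_fpFst z, fun h => ?_⟩
  obtain ⟨W, w, hw⟩ := exists_fppf_space h𝒴 h𝒵 hz₁ hz₂ hz₃
  exact repWith_of_fppf_baseChange hPl h𝒳.isStack.1 h𝒴.isStack.1 (Stk.isFibGrpd_ofPsh _) hf hw
    ((repWith_comp_equiv (fpPaste_isEquivOver f z w)).1 (repWith_fpFst w h))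

end Groth.Agent.AlgStLib
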