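import Groth.Agent.AlgStLib.RepDiag
import Groth.Prelude.Def_AlgSt4
import Mathlib

/-!
Quasi-compact morphisms of algebraic stacks.
-/

set_option autoImplicit false
set_option backward.isDefEq.respectTransparency false
set_option backward.isDefEq.respectTransparency.types false

universe u

open CategoryTheory CategoryTheory.Limits CategoryTheory.Functor AlgebraicGeometry Opposite AlgSp

namespace Groth.Agent.AlgStLib

open Groth.Agent Groth.Agent.FibBasics Groth.Agent.AlgSpLib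

variable {S : Scheme.{u}} {𝒳 𝒳' 𝒴 𝒵 : AlgSt.Cat S}

theorem isQuasiCompact_of_equiv {e : 𝒳 ⥤ᵇ 𝒳'} (he : FibCat.IsEquivOver e) (h : AlgSt.IsQuasiCompact 𝒳) :
    AlgSt.IsQuasiCompact 𝒳' := by
  obtain ⟨U, x, hU, h1, h2⟩ := h
  exact ⟨U, BasedFunctor.comp x e, hU, (repWith_equiv_comp he).2 h1, (repWith_equiv_comp he).2 h2⟩

theorem isQuasiCompactMor_fpFst {f : 𝒳 ⥤ᵇ 𝒴} (g : 𝒵 ⥤ᵇ 𝒴)
    (hf : AlgSt.IsQuasiCompactMor Scheme.fppfPrecoverage f) :
    AlgSt.IsQuasiCompactMor Scheme.fppfPrecoverage (FibCat.fpFst g f) := fun 𝒲 hW hq k => by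
  obtain ⟨L, hL, -⟩ := isEquivOver_symm (fpPaste_isEquivOver f g k)
  exact isQuasiCompact_of_equiv hL (hf 𝒲 hW hq _)

theorem isQuasiCompactMor_comp' {f : 𝒳 ⥤ᵇ 𝒴} {g : 𝒴 ⥤ᵇ 𝒵}
    (h𝒴 : AlgSt.IsAlgStack Scheme.fppfPrecoverage 𝒴) (h𝒵 : AlgSt.IsAlgStack Scheme.fppfPrecoverage 𝒵)
    (hf : AlgSt.IsQuasiCompactMor Scheme.fppfPrecoverage f)
    (hg : AlgSt.IsQuasiCompactMor Scheme.fppfPrecoverage g) :
    AlgSt.IsQuasiCompactMor Scheme.fppfPrecoverage (BasedFunctor.comp f g) := fun 𝒲 hW hq k =>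
  isQuasiCompact_of_equiv (fpAssoc_isEquivOver f g k)
    (hf _ (isAlgStack_fp h𝒵.isStack.1 h𝒵.diag hW h𝒴 k g) (hg 𝒲 hW hq k) (FibCat.fpSnd k g))

theorem repWith_ofOverCat {Q : MorphismProperty (Sp S)}
    (hQ : ∀ ⦃F G : Sp S⦄ (a : F ⟶ G), IsAlgSpace F → IsAlgSpace G → IsIso a → Q a) (U : Over S) :
    AlgSt.RepByAlgSpWith Q (AlgSt.ofOverCat U) :=
  (repWith_comp_equiv (f := BasedFunctor.id _) (ofOverCat_isEquivOver U)).2
    (repWith_id hQ (Stk.isFibGrpd_ofPsh _))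

theorem surjective_of_isIso {F G : Sp S} (a : F ⟶ G) [IsIso a] : IsSurjectiveMor a :=
  surjective_map_of_repWith (repWith_iso a)

theorem isQuasiCompact_ofSch (W : Over S) [IsAffine W.left] :
    AlgSt.IsQuasiCompact (AlgSt.ofSp ((yon S).obj W)) :=
  ⟨W, AlgSt.ofOverCat W, inferInstance,
    repWith_ofOverCat (fun _ _ _ _ _ h => by have := h; exact locP_of_isIso) W,
    repWith_ofOverCat (fun _ _ a _ _ h => by have := h; exact surjective_of_isIso a) W⟩

/-- Smooth surjective charts of the category of an algebraic space cover it. -/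
theorem isQuasiCompactSp_of_isQuasiCompact {A : AlgSp.Space S} (h : AlgSt.IsQuasiCompact (AlgSt.ofSp A.obj)) :
    IsQuasiCompactSp A.obj := by
  obtain ⟨W, x, hW, -, hs⟩ := h
  let x' : AlgSt.ofSp ((yon S).obj W) ⥤ᵇ AlgSt.ofSp A.obj := BasedFunctor.comp (AlgSt.toOverCat W) x
  let c : (yon S).obj W ⟶ A.obj := spMapOf x'
  refine isQuasiCompactSp_of_surjective A.property c (fun q => ?_)
    ((isQuasiCompactSp_iff_affine (IsAlgSpace.yon_obj W)).2 ⟨W, 𝟙 _, hW, AlgSp.repWith_id _ W, AlgSp.repWith_id _ W⟩)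
  obtain ⟨p, hp⟩ := exists_ofPt q
  let y' : FibCat.overCat p.pt ⥤ᵇ AlgSt.ofSp A.obj := BasedFunctor.comp (AlgSt.ofOverCat p.pt) (AlgSt.ofSpMap p.toHom)
  obtain ⟨F, e, he, hsur⟩ := hs p.pt y'
  obtain ⟨z, hz⟩ := hsur (Points.ofPt (𝟙 _) (IsLocalRing.closedPoint p.K))
  obtain ⟨r, hr⟩ := exists_ofPt z
  let T : Over S := r.pt
  let ζ : (AlgSt.ofSp F.obj).obj := ⟨T, (J S).uliftYonedaEquiv r.toHom⟩
  let ξ := e.obj ζ
  let t : (FibCat.overCat p.pt).obj := ξ.obj.fst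
  let g : (FibCat.overCat W).obj := ξ.obj.snd
  have ht : t.left = T := e.w_obj ζ
  have hg : g.left = t.left := fp_snd_proj ξ
  let m : t.left ⟶ W := eqToHom hg.symm ≫ g.hom
  have key : (yon S).map t.hom ≫ p.toHom = (yon S).map m ≫ c := by
    apply (J S).uliftYonedaEquiv.injective
    rw [GrothendieckTopology.uliftYonedaEquiv_comp, GrothendieckTopology.uliftYonedaEquiv_comp]
    have hh : ξ.obj.iso.hom.hom = eqToHom rfl ≫ 𝟙 t.left ≫ eqToHom ((x.w_obj g).trans hg).symm :=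
      @IsHomLift.fac' _ _ _ _ (Stk.ofPsh A.obj.obj).p _ _ _ _ (𝟙 t.left) ξ.obj.iso.hom ξ.property
    have hs1 : A.obj.obj.map ξ.obj.iso.hom.hom.op (x.obj g).sec = (y'.obj t).sec := ξ.obj.iso.hom.map_sec
    let φ : (⟨t.left, ⟨m⟩⟩ : (AlgSt.ofSp ((yon S).obj W)).obj) ⟶ ⟨g.left, ⟨g.hom⟩⟩ :=
      ⟨eqToHom hg.symm, rfl⟩
    have hs2 := funSec_natural x' φ
    refine Eq.trans hs1.symm (Eq.trans ?_ hs2)
    refine Eq.trans ?_ (Functor.map_comp_apply A.obj.obj _ _ _)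
    rw [hh]
    refine congrArg (fun q => A.obj.obj.map q (x.obj g).sec) ?_
    show _ = (eqToHom (x.w_obj g).symm).op ≫ (eqToHom hg.symm).op
    rw [← op_comp]
    simp
  refine ⟨Points.map ((yon S).map m) (Points.ofPt (𝟙 _) ((eqToHom ht.symm).left (IsLocalRing.closedPoint r.K))), ?_⟩
  rw [Points.map_ofPt, Category.id_comp, Points.map_ofPt, ← key, ← hp (IsLocalRing.closedPoint p.K)]
  have hu : Points.map (AlgSt.spMapOfOver (BasedFunctor.comp e (FibCat.fpFst y' x))) (Points.ofPt r.toHom (IsLocalRing.closedPoint r.K)) =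
      Points.ofPt (𝟙 _) (IsLocalRing.closedPoint p.K) := by rw [hr]; exact hz
  have e2 : r.toHom ≫ AlgSt.spMapOfOver (BasedFunctor.comp e (FibCat.fpFst y' x)) =
      (yon S).map (eqToHom ht.symm ≫ t.hom) := by
    apply (J S).uliftYonedaEquiv.injective
    rw [GrothendieckTopology.uliftYonedaEquiv_comp]
    apply ULift.ext
    rfl
  rw [Points.map_ofPt, e2] at hu
  have h3 := congrArg (Points.map p.toHom) hu
  rw [Points.map_ofPt, Points.map_ofPt, Category.id_comp, Functor.map_comp, Category.assoc, ofPt_comp] at h3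
  exact h3

/-- Representable morphisms, quasi-compact in the two senses. -/
theorem isQuasiCompactMor_iff (h𝒳 : FibCat.IsFibGrpd 𝒳.p) (h𝒴 : AlgSt.IsAlgStack Scheme.fppfPrecoverage 𝒴)
    {f : 𝒳 ⥤ᵇ 𝒴} (hf : AlgSt.RepByAlgSp1 f) :
    AlgSt.RepByAlgSpWith IsQuasiCompactMor f ↔ AlgSt.IsQuasiCompactMor Scheme.fppfPrecoverage f := by
  constructor
  · intro h 𝒲 hW hq k
    obtain ⟨U, x, hU, hx, hxs⟩ := hq
    have hk := repWith_fpFst k h
    obtain ⟨F, e, he, hr⟩ := hk U x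
    have hUq : IsQuasiCompactSp ((yon S).obj U) :=
      (isQuasiCompactSp_iff_affine (IsAlgSpace.yon_obj U)).2 ⟨U, 𝟙 _, hU, AlgSp.repWith_id _ U, AlgSp.repWith_id _ U⟩
    have hF : IsQuasiCompactSp F.obj :=
      hr (IsAlgSpace.yon_obj U) hUq (𝟙 _) (𝟙 _) _ (IsPullback.of_horiz_isIso ⟨(Category.id_comp _).trans (Category.comp_id _).symm⟩)
    obtain ⟨V, p, hV, hp, hps⟩ := (isQuasiCompactSp_iff_affine F.property).1 hF
    let π : AlgSt.ofSp F.obj ⥤ᵇ FibCat.fp k f := BasedFunctor.comp e (FibCat.fpSnd x (FibCat.fpFst k f))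
    have hπ : ∀ P : MorphismProperty (Sp S), AlgSt.RepByAlgSpWith P x → AlgSt.RepByAlgSpWith P π := fun P h =>
      (repWith_comp_equiv he).2 (repWith_fpSnd _ h)
    have hg : FibCat.IsFibGrpd (AlgSt.ofSp F.obj).p := Stk.isFibGrpd_ofPsh _
    refine ⟨V, BasedFunctor.comp (BasedFunctor.comp (AlgSt.ofOverCat V) (AlgSt.ofSpMap p)) π, hV,
      repWith_smooth_comp (isFibGrpd_overForget V) hg
        ((repWith_comp_equiv (ofOverCat_isEquivOver V)).2 (repWith_ofSpMap (A := ⟨_, IsAlgSpace.yon_obj V⟩) p fun c => ?_))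
        (hπ _ hx),
      repWith_surjective_comp (isFibGrpd_overForget V) hg
        ((repWith_comp_equiv (ofOverCat_isEquivOver V)).2 (repWith_ofSpMap (A := ⟨_, IsAlgSpace.yon_obj V⟩) p fun c => ?_))
        (hπ _ hxs)⟩
    · refine locP_of_repWith (repWith_baseChange (IsPullback.of_hasPullback c p).flip hp) (fun _ _ _ k m hk hm => ?_)
      have : Etale k := hk
      have : Etale m := hm
      infer_instance
    · exact surjective_map_of_repWith (repWith_baseChange (IsPullback.of_hasPullback c p).flip hps)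
  · intro h U y
    obtain ⟨F, e, he⟩ := hf U y
    refine ⟨F, e, he, fun Z Z' hZ hq k a b sq => ?_⟩
    let b₀ := BasedFunctor.comp e (FibCat.fpFst y f)
    let r : F.obj ⟶ (yon S).obj U := AlgSt.spMapOfOver b₀
    obtain ⟨W, p, hW, -, hps⟩ := (isQuasiCompactSp_iff_affine hZ).1 hq
    obtain ⟨c₀, hc₀⟩ := (yon S).map_surjective (p ≫ k)
    let j : AlgSt.ofSp ((yon S).obj W) ⥤ᵇ FibCat.overCat U :=
      BasedFunctor.comp (AlgSt.ofSpMap ((yon S).map c₀)) (AlgSt.toOverCat U)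
    have hZ' : IsAlgSpace Z' := isAlgSpace_of_isPullback sq F.property hZ (IsAlgSpace.yon_obj U)
    let W' : AlgSp.Space S := ⟨pullback b p, isAlgSpace_pullback b p hZ' (IsAlgSpace.yon_obj W) hZ⟩
    have sW : IsPullback (pullback.snd b p) (pullback.fst b p ≫ a) ((yon S).map c₀) r := by
      rw [hc₀]
      exact ((IsPullback.of_hasPullback b p).paste_horiz sq).flip
    have sW' : IsPullback (pullback.snd b p).hom (pullback.fst b p ≫ a).hom ((yon S).map c₀).hom r.hom :=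
      sW.map (sheafToPresheaf (J S) (Type (u + 1)))
    let i : AlgSt.ofSpMap r ≅ BasedFunctor.comp b₀ (AlgSt.ofOverCat U) := (ofPshMapIso _ ≪≫ eqToIso (by
      congr 1)).symm
    obtain ⟨M, hM, -⟩ := isEquivOver_symm (fpPost_isEquivOver j b₀ (ofOverCat_isEquivOver U))
    have hE : FibCat.IsEquivOver (BasedFunctor.comp (sqFun sW'.w) (BasedFunctor.comp (fpIsoSnd _ i)
        (BasedFunctor.comp M (BasedFunctor.comp (fpMapSnd j e (FibCat.fpFst y f)) (fpPaste f y j))))) :=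
      isEquivOver_comp (sqFun_isEquivOver sW') (isEquivOver_comp (fpIsoSnd_isEquivOver _ i)
        (isEquivOver_comp hM (isEquivOver_comp (fpMapSnd_isEquivOver _ he _) (fpPaste_isEquivOver f y j))))
    obtain ⟨L, hL, -⟩ := isEquivOver_symm hE
    have : IsAffine W.left := hW
    have hq' : IsQuasiCompactSp W'.obj := isQuasiCompactSp_of_isQuasiCompact (isQuasiCompact_of_equiv hL
      (h _ (isDM_ofSp ⟨_, IsAlgSpace.yon_obj W⟩).1 (isQuasiCompact_ofSch W) _))
    exact isQuasiCompactSp_of_surjective hZ' (pullback.fst b p)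
      (surjective_snd (IsPullback.of_hasPullback b p).flip (surjective_map_of_repWith hps)) hq'

theorem isQuasiCompactMor_of_closedImm (h𝒳 : FibCat.IsFibGrpd 𝒳.p) (h𝒴 : AlgSt.IsAlgStack Scheme.fppfPrecoverage 𝒴)
    {f : 𝒳 ⥤ᵇ 𝒴} (hf : AlgSt.IsClosedImm f) : AlgSt.IsQuasiCompactMor Scheme.fppfPrecoverage f :=
  (isQuasiCompactMor_iff h𝒳 h𝒴 (rep1_of_with hf)).1 (repWith_mono_prop (fun _ _ _ hF hG ha =>
    isQuasiCompactMor_of_repWith hF hG (repWith_mono (fun _ _ k hk => by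
      have : IsClosedImmersion k := hk
      infer_instance) ha)) hf)

end Groth.Agent.AlgStLib
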