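import Groth.Agent.AlgStLib.StkProps
import Groth.Agent.AlgStLib.QCMor
import Groth.Agent.AlgStLib.LocQDescend
import Groth.Agent.AlgStLib.GraphMor
import Groth.Agent.AlgStLib.DiagCalc
import Groth.Agent.AlgStLib.DiagComp
import Groth.Agent.AlgStLib.RepDiag
import Groth.Agent.AlgSpLib.FpqcLocalRep
import Mathlib

/-!
Quasi-compact morphisms of algebraic stacks: cancellation, descent, stacks over a quasi-separated base.
-/

set_option autoImplicit false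
set_option backward.isDefEq.respectTransparency false
set_option backward.isDefEq.respectTransparency.types false

universe u

open CategoryTheory CategoryTheory.Limits CategoryTheory.Functor AlgebraicGeometry Opposite AlgSp

namespace Groth.Agent.AlgStLib

open Groth.Agent Groth.Agent.FibBasics Groth.Agent.AlgSpLib

variable {S : Scheme.{u}} {𝒳 𝒴 𝒵 : AlgSt.Cat S}

theorem isSurjective_fpMapSnd {𝒜 ℬ : AlgSt.Cat S} (h𝒜 : FibCat.IsFibGrpd 𝒜.p) (hℬ : FibCat.IsFibGrpd ℬ.p)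
    (h𝒳 : FibCat.IsFibGrpd 𝒳.p) (h𝒴 : FibCat.IsFibGrpd 𝒴.p)
    {a : 𝒜 ⥤ᵇ 𝒳} (y : ℬ ⥤ᵇ 𝒴) (f : 𝒳 ⥤ᵇ 𝒴) (ha : AlgSt.IsSurjective a) :
    AlgSt.IsSurjective (fpMapSnd y a f) :=
  (isSurjective_comp_equiv_iff (fpAssoc_isEquivOver a f y)).1 (isSurjective_of_iso (fpMapSndIso a y f).symm
    (isSurjective_fpFst (fp_isFibGrpd hℬ h𝒳 h𝒴) h𝒜 h𝒳 (FibCat.fpSnd y f) ha))

theorem isSurjective_fpSnd {g : 𝒵 ⥤ᵇ 𝒴} (h𝒵 : FibCat.IsFibGrpd 𝒵.p) (h𝒳 : FibCat.IsFibGrpd 𝒳.p)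
    (h𝒴 : FibCat.IsFibGrpd 𝒴.p) (f : 𝒳 ⥤ᵇ 𝒴) (hg : AlgSt.IsSurjective g) :
    AlgSt.IsSurjective (FibCat.fpSnd g f) :=
  isSurjective_of_iso (eqToIso (based_ext rfl) : BasedFunctor.comp (fpSwap g f) (FibCat.fpFst f g) ≅ FibCat.fpSnd g f)
    ((isSurjective_comp_equiv_iff (fpSwap_isEquivOver g f)).2 (isSurjective_fpFst h𝒳 h𝒵 h𝒴 f hg))

theorem isSurjective_fpMapFst {𝒜 ℬ : AlgSt.Cat S} (h𝒜 : FibCat.IsFibGrpd 𝒜.p) (hℬ : FibCat.IsFibGrpd ℬ.p)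
    (h𝒳 : FibCat.IsFibGrpd 𝒳.p) (h𝒴 : FibCat.IsFibGrpd 𝒴.p)
    {a : 𝒜 ⥤ᵇ ℬ} (y : ℬ ⥤ᵇ 𝒴) (f : 𝒳 ⥤ᵇ 𝒴) (ha : AlgSt.IsSurjective a) :
    AlgSt.IsSurjective (fpMapFst a y f) :=
  (isSurjective_comp_equiv_iff (fpPaste_isEquivOver f y a)).1 (isSurjective_of_iso (fpMapFstIso a y f).symm
    (isSurjective_fpSnd h𝒜 (fp_isFibGrpd hℬ h𝒳 h𝒴) hℬ (FibCat.fpFst y f) ha))

/-- A quasi-compact composite with surjective first map. -/
theorem isQuasiCompactMor_of_surjective (h𝒳 : AlgSt.IsAlgStack Scheme.fppfPrecoverage 𝒳)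
    (h𝒴 : AlgSt.IsAlgStack Scheme.fppfPrecoverage 𝒴) (h𝒵 : AlgSt.IsAlgStack Scheme.fppfPrecoverage 𝒵)
    {f : 𝒳 ⥤ᵇ 𝒴} {p : 𝒳 ⥤ᵇ 𝒵} {q : 𝒴 ⥤ᵇ 𝒵} (e : BasedFunctor.comp f q ≅ p) (hf : AlgSt.IsSurjective f)
    (hp : AlgSt.IsQuasiCompactMor Scheme.fppfPrecoverage p) :
    AlgSt.IsQuasiCompactMor Scheme.fppfPrecoverage q := fun _ hW hq k =>
  isQuasiCompact_of_surjective (isAlgStack_fp h𝒵.isStack.1 h𝒵.diag hW h𝒳 k p)
    (isAlgStack_fp h𝒵.isStack.1 h𝒵.diag hW h𝒴 k q) (BasedFunctor.comp (fpIsoSnd k e.symm) (fpMapSnd k f q))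
    (isSurjective_comp (stk_map_bijective (fpIsoSnd_isEquivOver k e.symm)).2
      (isSurjective_fpMapSnd h𝒳.isStack.1 hW.isStack.1 h𝒴.isStack.1 h𝒵.isStack.1 k q hf))
    (hp _ hW hq k)

theorem repWith_overMap_smooth {U V : Over S} (j : U ⟶ V) [Smooth j.left] :
    AlgSt.RepByAlgSpWith (LocP @Smooth) (AlgSt.overMap j) := by
  refine repWith_of_iso (eqToIso (based_ext rfl) : BasedFunctor.comp (BasedFunctor.comp (AlgSt.ofOverCat U)
    (AlgSt.ofSpMap ((yon S).map j))) (AlgSt.toOverCat V) ≅ AlgSt.overMap j) ?_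
  refine (repWith_equiv_comp (toOverCat_isEquivOver V)).2 ((repWith_comp_equiv (ofOverCat_isEquivOver U)).2
    (repWith_ofSpMap_smooth (A := ⟨_, IsAlgSpace.yon_obj U⟩) (B := ⟨_, IsAlgSpace.yon_obj V⟩) _ ?_))
  exact locP_of_repWith ((repWith_yon_map_iff @Smooth j).2 ‹_›) fun _ _ _ k m hk hm => by
    have : Etale k := hk
    have : Smooth m := hm
    infer_instance

theorem isQuasiCompact_ofSch_compact (V : Over S) [CompactSpace ↥V.left] :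
    AlgSt.IsQuasiCompact (AlgSt.ofSp ((yon S).obj V)) :=
  (isQuasiCompact_iff_compactScheme (isAlgStack_ofSch ⟨_, IsAlgSpace.yon_obj V⟩)).2
    ⟨V, AlgSt.ofOverCat V, ‹_›,
      repWith_ofOverCat (fun _ _ _ _ _ h => by have := h; exact locP_of_isIso) V,
      repWith_ofOverCat (fun _ _ a _ _ h => by have := h; exact surjective_of_isIso a) V⟩

/-- A quasi-compact test scheme through which a quasi-compact stack is covered. -/
theorem exists_compact_surjective {𝒲 ℱ : AlgSt.Cat S} (hW : AlgSt.IsAlgStack Scheme.fppfPrecoverage 𝒲)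
    (hq : AlgSt.IsQuasiCompact 𝒲) (hF : AlgSt.IsAlgStack Scheme.fppfPrecoverage ℱ) (w : ℱ ⥤ᵇ 𝒲)
    (hs : AlgSt.IsSurjective w) (ho : AlgSt.IsOpenMor w) :
    ∃ (V : Over S) (_ : CompactSpace ↥V.left) (m : AlgSt.ofSp ((yon S).obj V) ⥤ᵇ ℱ),
      AlgSt.IsSurjective (BasedFunctor.comp m w) := by
  have := (isQuasiCompact_iff_compactSpace hW).1 hq
  obtain ⟨U, u, hu, hus⟩ := hF.atlas
  have hsu := ofChart_surjective (isSurjective_of_repWith hF.isStack.1 hus)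
  let O : U.left.affineOpens → Set (AlgSt.Points 𝒲) := fun A =>
    AlgSt.Points.map w '' (AlgSt.Points.ofChart u '' (A : U.left.Opens))
  obtain ⟨s, hcov⟩ := isCompact_univ.elim_finite_subcover O
    (fun A => ho _ (isOpenMap_ofChart hF.isStack.1 (repWith_flat_lfp_of_smooth hu) _ A.1.isOpen))
    (fun p _ => by
      obtain ⟨a, rfl⟩ := hs p
      obtain ⟨t, rfl⟩ := hsu a
      obtain ⟨_, ⟨A, hA, rfl⟩, htA, -⟩ := U.left.isBasis_affineOpens.exists_subset_of_mem_open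
        (Set.mem_univ t) isOpen_univ
      exact Set.mem_iUnion.2 ⟨⟨A, hA⟩, _, ⟨t, htA, rfl⟩, rfl⟩)
  let O' : U.left.Opens := ⨆ A : {A // A ∈ s}, A.1.1
  have hc : IsCompact (O' : Set U.left) := by
    rw [TopologicalSpace.Opens.coe_iSup]
    exact isCompact_iUnion fun A => A.1.2.isCompact
  let V : Over S := Over.mk (O'.ι ≫ U.hom)
  let j : V ⟶ U := Over.homMk O'.ι
  refine ⟨V, isCompact_iff_compactSpace.1 hc,
    BasedFunctor.comp (AlgSt.toOverCat V) (BasedFunctor.comp (AlgSt.overMap j) u), fun p => ?_⟩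
  obtain ⟨A, hA, _, ⟨t, ht, rfl⟩, rfl⟩ : ∃ A ∈ s, p ∈ O A := by simpa using hcov (Set.mem_univ p)
  obtain ⟨a, ha⟩ := (stk_map_bijective (toOverCat_isEquivOver V)).2 (AlgSt.Points.ofChart (BasedFunctor.id _)
    (⟨t, TopologicalSpace.Opens.mem_iSup.2 ⟨⟨A, hA⟩, ht⟩⟩ : O'))
  refine ⟨a, ?_⟩
  rw [stk_map_comp, stk_map_comp, ha, ← ofChart_eq_map, ofChart_overMap]
  rfl

/-- Quasi-compactness descends along fppf covers of the target. -/
theorem isQuasiCompactMor_descend (h𝒳 : AlgSt.IsAlgStack Scheme.fppfPrecoverage 𝒳)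
    (h𝒴 : AlgSt.IsAlgStack Scheme.fppfPrecoverage 𝒴) (h𝒵 : AlgSt.IsAlgStack Scheme.fppfPrecoverage 𝒵)
    {f : 𝒳 ⥤ᵇ 𝒴} {z : 𝒵 ⥤ᵇ 𝒴} (hz₁ : AlgSt.LocQ (LocP @Flat) z)
    (hz₂ : AlgSt.LocQ (LocP @LocallyOfFinitePresentation) z) (hz₃ : AlgSt.IsSurjective z)
    (h : AlgSt.IsQuasiCompactMor Scheme.fppfPrecoverage (FibCat.fpFst z f)) :
    AlgSt.IsQuasiCompactMor Scheme.fppfPrecoverage f := fun 𝒲 hW hq k => by
  have hF := isAlgStack_fp h𝒴.isStack.1 h𝒴.diag hW h𝒵 k z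
  obtain ⟨V, hV, m, hm⟩ := exists_compact_surjective hW hq hF (FibCat.fpFst k z)
    (isSurjective_fpFst hW.isStack.1 h𝒵.isStack.1 h𝒴.isStack.1 k hz₃)
    (isOpenMor_of_flat_lfp hF hW (locQ_fpFst stLocal_flat bcAlong_locP h𝒵 h𝒴 hW k hz₁)
      (locQ_fpFst stLocal_lfp bcAlong_locP h𝒵 h𝒴 hW k hz₂))
  have hA := isAlgStack_ofSch ⟨_, IsAlgSpace.yon_obj V⟩
  let w := BasedFunctor.comp m (FibCat.fpFst k z)
  let k' := BasedFunctor.comp m (FibCat.fpSnd k z)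
  have h1 := isQuasiCompact_of_equiv (fpPaste_isEquivOver f z k') (h _ hA (isQuasiCompact_ofSch_compact V) k')
  have α : BasedFunctor.comp k' z ≅ BasedFunctor.comp w k := bWhiskerL m (FibCat.fpIso k z).symm
  have h2 := isQuasiCompact_of_equiv (fpIsoFst_isEquivOver α f) h1
  exact isQuasiCompact_of_surjective (isAlgStack_fp h𝒴.isStack.1 h𝒴.diag hA h𝒳 (BasedFunctor.comp w k) f)
    (isAlgStack_fp h𝒴.isStack.1 h𝒴.diag hW h𝒳 k f) (fpMapFst w k f)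
    (isSurjective_fpMapFst hA.isStack.1 hW.isStack.1 h𝒳.isStack.1 h𝒴.isStack.1 k f hm) h2

theorem isQuasiCompactMor_of_equiv_comp {e : 𝒳 ⥤ᵇ 𝒴} (he : FibCat.IsEquivOver e) {f : 𝒴 ⥤ᵇ 𝒵}
    (h : AlgSt.IsQuasiCompactMor Scheme.fppfPrecoverage f) :
    AlgSt.IsQuasiCompactMor Scheme.fppfPrecoverage (BasedFunctor.comp e f) := fun _ hW hq k => by
  obtain ⟨L, hL, -⟩ := isEquivOver_symm (fpMapSnd_isEquivOver k he f)
  exact isQuasiCompact_of_equiv hL (h _ hW hq k)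

theorem isQuasiCompactMor_of_iso {f f' : 𝒳 ⥤ᵇ 𝒴} (α : f ≅ f')
    (h : AlgSt.IsQuasiCompactMor Scheme.fppfPrecoverage f) :
    AlgSt.IsQuasiCompactMor Scheme.fppfPrecoverage f' := fun _ hW hq k =>
  isQuasiCompact_of_equiv (fpIsoSnd_isEquivOver k α) (h _ hW hq k)

/-- Cancellation with quasi-separated second map. -/
theorem isQuasiCompactMor_cancel (h𝒳 : AlgSt.IsAlgStack Scheme.fppfPrecoverage 𝒳)
    (h𝒴 : AlgSt.IsAlgStack Scheme.fppfPrecoverage 𝒴) (h𝒵 : AlgSt.IsAlgStack Scheme.fppfPrecoverage 𝒵)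
    {f : 𝒳 ⥤ᵇ 𝒴} {g : 𝒴 ⥤ᵇ 𝒵}
    (h : AlgSt.IsQuasiCompactMor Scheme.fppfPrecoverage (BasedFunctor.comp f g))
    (hg : AlgSt.IsQuasiSeparatedMor g) : AlgSt.IsQuasiCompactMor Scheme.fppfPrecoverage f := by
  let p := BasedFunctor.comp f g
  have e : BasedFunctor.comp (BasedFunctor.id 𝒳) p ≅ BasedFunctor.comp f g := eqToIso (based_ext rfl)
  let γ := BasedFunctor.comp (FibCat.fpLift (BasedFunctor.id 𝒳) f e) (fpSwap p g)
  have hγ : AlgSt.RepByAlgSpWith AlgSp.IsQuasiCompactMor γ :=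
    (repWith_equiv_comp (fpSwap_isEquivOver p g)).2
      (repWith_mono_prop (fun _ _ _ _ _ ha => ha.1) (repWith_graph e hg))
  have hP := isAlgStack_fp h𝒵.isStack.1 h𝒵.diag h𝒴 h𝒳 g p
  refine isQuasiCompactMor_of_iso (f := BasedFunctor.comp γ (FibCat.fpFst g p)) (eqToIso (based_ext rfl)) ?_
  exact isQuasiCompactMor_comp' hP h𝒴 ((isQuasiCompactMor_iff h𝒳.isStack.1 hP (rep1_of_with hγ)).1 hγ)
    (isQuasiCompactMor_fpFst g h)

theorem compactSpace_slice_prod [QuasiSeparatedSpace S] {V U W : Over S} [IsAffine V.left] [IsAffine U.left]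
    {e : FibCat.fp (FibCat.toSelf (FibCat.overCat V)) (FibCat.toSelf (FibCat.overCat U)) ⥤ᵇ FibCat.overCat W}
    (he : FibCat.IsEquivOver e) : CompactSpace ↥W.left := by
  obtain ⟨ξ₀, hW, hu⟩ := terminal_of_isEquivOver he
  let T : Over S := (FibCat.overCat V).p.obj ξ₀.obj.fst
  have hT : (FibCat.overCat U).p.obj ξ₀.obj.snd = T := fp_snd_proj ξ₀
  let a : (FibCat.overCat V).obj := (Over.mk (prod.fst : V ⨯ U ⟶ V) : Over V)
  let b : (FibCat.overCat U).obj := (Over.mk (prod.snd : V ⨯ U ⟶ U) : Over U)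
  let ξ : (FibCat.fp (FibCat.toSelf (FibCat.overCat V)) (FibCat.toSelf (FibCat.overCat U))).obj :=
    ⟨⟨a, b, Iso.refl (V ⨯ U)⟩, IsHomLift.id rfl⟩
  let h : T ⟶ V ⨯ U := prod.lift (hm ξ₀.obj.fst) (eqToHom hT.symm ≫ hm ξ₀.obj.snd)
  let s : ξ₀.obj.fst ⟶ a := (Over.homMk h (prod.lift_fst _ _) : (ξ₀.obj.fst : Over V) ⟶ Over.mk prod.fst)
  let t : ξ₀.obj.snd ⟶ b := (Over.homMk (eqToHom hT ≫ h) (by
    show (eqToHom hT ≫ h) ≫ prod.snd = hm ξ₀.obj.snd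
    rw [Category.assoc, prod.lift_snd, eqToHom_trans_assoc, eqToHom_refl, Category.id_comp]) :
      (ξ₀.obj.snd : Over U) ⟶ Over.mk prod.snd)
  have : (FibCat.overCat V).p.IsHomLift h s := IsHomLift.map (FibCat.overCat V).p s
  have : (FibCat.overCat U).p.IsHomLift h t :=
    IsHomLift.of_fac (FibCat.overCat U).p h t hT rfl (by
      show h = eqToHom hT.symm ≫ (eqToHom hT ≫ h) ≫ eqToHom rfl
      simp)
  let m : ξ₀ ⟶ ξ := fpHom s t (toSelf_sq (x := ξ₀) (y := ξ) h s t)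
  let n : ξ ⟶ ξ₀ := (hu ξ).some.default
  have hmn : m ≫ n = 𝟙 ξ₀ := ((hu ξ₀).some.uniq _).trans ((hu ξ₀).some.uniq _).symm
  let r : V ⨯ U ⟶ T := (FibCat.overCat V).p.map n.hom.fst
  have hr : h ≫ r = 𝟙 T := by
    show (FibCat.overCat V).p.map m.hom.fst ≫ (FibCat.overCat V).p.map n.hom.fst = 𝟙 T
    rw [← Functor.map_comp]
    exact (congrArg (fun k => (FibCat.overCat V).p.map k.hom.fst) hmn).trans ((FibCat.overCat V).p.map_id _)
  have : QuasiCompact U.hom := inferInstance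
  have : CompactSpace ↥(pullback V.hom U.hom : Scheme) :=
    QuasiCompact.compactSpace_of_compactSpace (pullback.fst V.hom U.hom)
  have : CompactSpace ↥(V ⨯ U).left := (Over.prodLeftIsoPullback V U).inv.homeomorph.compactSpace
  have hs : Function.Surjective r.left := fun x => ⟨h.left x, by
      rw [← Scheme.Hom.comp_apply, ← Over.comp_left, hr]
      rfl⟩
  have : CompactSpace ↥T.left := hs.compactSpace r.left.continuous
  exact hW ▸ this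

/-- Over a quasi-separated base, the product of quasi-compact stacks is quasi-compact. -/
theorem isQuasiCompact_prod [QuasiSeparatedSpace S] (h𝒳 : AlgSt.IsAlgStack Scheme.fppfPrecoverage 𝒳)
    (h𝒴 : AlgSt.IsAlgStack Scheme.fppfPrecoverage 𝒴) (hx : AlgSt.IsQuasiCompact 𝒳) (hy : AlgSt.IsQuasiCompact 𝒴) :
    AlgSt.IsQuasiCompact (FibCat.fp (FibCat.toSelf 𝒳) (FibCat.toSelf 𝒴)) := by
  obtain ⟨U, x, hU, hx1, hxs⟩ := hx
  obtain ⟨V, y, hV, hy1, hys⟩ := hy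
  obtain ⟨W, e, he⟩ := isRepresentable_slice_prod U V
  have := compactSpace_slice_prod he
  obtain ⟨L, hL, -⟩ := isEquivOver_symm he
  have g1 : FibCat.IsFibGrpd (FibCat.fp (FibCat.toSelf (FibCat.overCat U)) (FibCat.toSelf (FibCat.overCat V))).p :=
    fp_isFibGrpd (isFibGrpd_overForget U) (isFibGrpd_overForget V) isFibGrpd_selfOver
  have g2 : FibCat.IsFibGrpd (FibCat.fp (FibCat.toSelf (FibCat.overCat U)) (FibCat.toSelf 𝒴)).p :=
    fp_isFibGrpd (isFibGrpd_overForget U) h𝒴.isStack.1 isFibGrpd_selfOver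
  exact (isQuasiCompact_iff_compactScheme (isAlgStack_prod h𝒳 h𝒴)).2
    ⟨W, BasedFunctor.comp L (BasedFunctor.comp (prodMapR _ y) (prodMapL x 𝒴)), this,
      (repWith_comp_equiv hL).2 (repWith_smooth_comp g1 g2 (repWith_prodMapR hy1) (repWith_prodMapL hx1)),
      (repWith_comp_equiv hL).2 (repWith_surjective_comp g1 g2 (repWith_prodMapR hys) (repWith_prodMapL hxs))⟩

theorem isQuasiCompactMor_toSelf [QuasiSeparatedSpace S] (h𝒳 : AlgSt.IsAlgStack Scheme.fppfPrecoverage 𝒳)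
    (hx : AlgSt.IsQuasiCompact 𝒳) : AlgSt.IsQuasiCompactMor Scheme.fppfPrecoverage (FibCat.toSelf 𝒳) :=
  fun 𝒲 hW hq k => by
    obtain rfl : k = FibCat.toSelf 𝒲 := (based_ext (Functor.comp_id _).symm).trans (comp_toSelf k)
    exact isQuasiCompact_prod hW h𝒳 hq hx

theorem isQuasiCompactMor_of_qs_target [QuasiSeparatedSpace S] (h𝒳 : AlgSt.IsAlgStack Scheme.fppfPrecoverage 𝒳)
    (h𝒴 : AlgSt.IsAlgStack Scheme.fppfPrecoverage 𝒴) (f : 𝒳 ⥤ᵇ 𝒴) (hx : AlgSt.IsQuasiCompact 𝒳)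
    (hy : AlgSt.IsQuasiSeparatedOver 𝒴) : AlgSt.IsQuasiCompactMor Scheme.fppfPrecoverage f := fun 𝒲 hW hq k => by
  -- the graph of `f` into the product, then the projection
  let q := FibCat.toSelf 𝒴
  have e : BasedFunctor.comp (BasedFunctor.id 𝒳) (FibCat.toSelf 𝒳) ≅ BasedFunctor.comp f q :=
    eqToIso ((comp_toSelf _).trans (comp_toSelf f).symm)
  let γ := BasedFunctor.comp (FibCat.fpLift (BasedFunctor.id 𝒳) f e) (fpSwap _ _)
  have hγ : AlgSt.RepByAlgSpWith AlgSp.IsQuasiCompactMor γ :=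
    (repWith_equiv_comp (fpSwap_isEquivOver _ _)).2
      (repWith_mono_prop (fun _ _ _ _ _ ha => ha.1) (repWith_graph e hy))
  have hP := isAlgStack_prod h𝒴 h𝒳
  have hfst : AlgSt.IsQuasiCompactMor Scheme.fppfPrecoverage (FibCat.fpFst q (FibCat.toSelf 𝒳)) :=
    isQuasiCompactMor_fpFst q (isQuasiCompactMor_toSelf h𝒳 hx)
  exact isQuasiCompactMor_of_iso (f := BasedFunctor.comp γ (FibCat.fpFst q (FibCat.toSelf 𝒳)))
    (eqToIso (based_ext rfl)) (isQuasiCompactMor_comp' hP h𝒴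
      ((isQuasiCompactMor_iff h𝒳.isStack.1 hP (rep1_of_with hγ)).1 hγ) hfst) 𝒲 hW hq k

theorem isQuasiCompact_fp_over [QuasiSeparatedSpace S] (h𝒳 : AlgSt.IsAlgStack Scheme.fppfPrecoverage 𝒳)
    (h𝒴 : AlgSt.IsAlgStack Scheme.fppfPrecoverage 𝒴) (h𝒵 : AlgSt.IsAlgStack Scheme.fppfPrecoverage 𝒵)
    (a : 𝒳 ⥤ᵇ 𝒴) (b : 𝒵 ⥤ᵇ 𝒴) (hx : AlgSt.IsQuasiCompact 𝒳) (hy : AlgSt.IsQuasiSeparatedOver 𝒴)
    (hz : AlgSt.IsQuasiCompact 𝒵) : AlgSt.IsQuasiCompact (FibCat.fp a b) :=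
  isQuasiCompactMor_of_qs_target h𝒵 h𝒴 b hz hy 𝒳 h𝒳 hx a

theorem isQuasiSeparatedOver_fp (h𝒳 : AlgSt.IsAlgStack Scheme.fppfPrecoverage 𝒳)
    (h𝒴 : AlgSt.IsAlgStack Scheme.fppfPrecoverage 𝒴) (h𝒵 : AlgSt.IsAlgStack Scheme.fppfPrecoverage 𝒵)
    (a : 𝒳 ⥤ᵇ 𝒴) (b : 𝒵 ⥤ᵇ 𝒴) (hx : AlgSt.IsQuasiSeparatedOver 𝒳) (hy : AlgSt.IsQuasiSeparatedOver 𝒴)
    (hz : AlgSt.IsQuasiSeparatedOver 𝒵) : AlgSt.IsQuasiSeparatedOver (FibCat.fp a b) := by
  have hS := isFibGrpd_selfOver (C := Over S)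
  have hb : AlgSt.IsQuasiSeparatedMor b := by
    have := FpqcDescent.quasiCompact_descendsAlong.{u}
    refine repWith_diag_cancel (P := AlgSp.IsQuasiCompactMor ⊓ AlgSp.IsQuasiSeparatedMor) (g := FibCat.toSelf 𝒴) (R := AlgSp.IsQuasiCompactMor ⊓ AlgSp.IsQuasiSeparatedMor)
      (fun _ _ _ _ hY hZ _ _ ha hb => ⟨isQuasiCompactMor_comp hY hZ ha.1 hb.1, isQuasiSeparatedMor_comp ha.2 hb.2⟩)
      (isLocalOnBase_fppf (isLocalOnBase_and isLocalOnBase_isQuasiCompactMor isLocalOnBase_repWith_diagonal))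
      h𝒵.isStack.1 h𝒴.isStack.1 hS (by rw [comp_toSelf]; exact hz) ?_
    exact repWith_diag_of_rep (repWith_mono_prop (fun _ _ _ _ _ ha => ha.2) hy) fun _ U r hA hr _ c =>
      ⟨isQuasiCompactMor_of_repWith
        (isAlgSpace_pullback c _ (IsAlgSpace.yon_obj _) hA (isAlgSpace_pullback r r hA hA (IsAlgSpace.yon_obj U)))
        (IsAlgSpace.yon_obj _) (repWith_baseChange (IsPullback.of_hasPullback c _).flip hr),
      @isQuasiSeparatedMor_of_mono _ _ _ (pullback.fst c (pullback.diagonal r)) inferInstance⟩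
  have h1 : AlgSt.IsQuasiSeparatedMor (FibCat.fpFst a b) := repWith_diag_fpFst a hb
  have := FpqcDescent.quasiCompact_descendsAlong.{u}
  show AlgSt.IsQuasiSeparatedMor (FibCat.toSelf (FibCat.fp a b))
  rw [← comp_toSelf (FibCat.fpFst a b)]
  exact repWith_diag_comp
    (fun _ _ _ _ hY hZ _ _ ha hb => ⟨isQuasiCompactMor_comp hY hZ ha.1 hb.1, isQuasiSeparatedMor_comp ha.2 hb.2⟩)
    (isLocalOnBase_fppf (isLocalOnBase_and isLocalOnBase_isQuasiCompactMor isLocalOnBase_repWith_diagonal))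
    (fp_isFibGrpd h𝒳.isStack.1 h𝒵.isStack.1 h𝒴.isStack.1) h𝒳.isStack.1 h1 hx

end Groth.Agent.AlgStLib
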