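import Groth.Agent.AlgStLib.IsoCls
import Groth.Agent.AlgStLib.QcRules
import Mathlib

/-!
Quasi-compactness along isomorphisms of maps of presheaves of isomorphism classes.
-/

set_option autoImplicit false
set_option backward.isDefEq.respectTransparency false
set_option backward.isDefEq.respectTransparency.types false

universe u

open CategoryTheory CategoryTheory.Functor AlgebraicGeometry AlgSp

namespace Groth.Agent.AlgStLib.IsoClsPts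

open Groth.Agent Groth.Agent.FibBasics Groth.Agent.AlgSpLib Groth.Agent.AlgStLib

variable {S : Scheme.{u}} {𝒳 𝒴 𝒳' 𝒴' : AlgSt.Cat S}

/-- The inverse of an isomorphism of presheaves of isomorphism classes. -/
noncomputable def symm (φ : IsoNat.FIso 𝒳 𝒳') (h : FibCat.IsFibGrpd 𝒳.p) (h' : FibCat.IsFibGrpd 𝒳'.p) :
    IsoNat.FIso 𝒳' 𝒳 where
  toEquiv T := (φ.toEquiv T).symm
  natural {T' T} g y' y a ha := by
    obtain ⟨x, hx⟩ := Quotient.exists_rep ((φ.toEquiv T).symm (IsoNat.cls y))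
    haveI := isFibered_of_isFibGrpd _ h
    obtain ⟨x', m, hm⟩ := exists_stronglyCartesian 𝒳.p x.2 g
    have hml : 𝒳.p.IsHomLift g m := hm.toIsHomLift
    have hx' : 𝒳.p.obj x' = T' := IsHomLift.domain_eq 𝒳.p g m
    obtain ⟨z', z, b, hb, e', e⟩ := φ.natural g ⟨x', hx'⟩ x m hml
    have hzy : IsoNat.cls z = IsoNat.cls y :=
      e.symm.trans ((congrArg (φ.toEquiv T) hx).trans (Equiv.apply_symm_apply _ _))
    obtain ⟨k, hk⟩ := hom_of_cls_eq hzy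
    have hbk : 𝒳'.p.IsHomLift g (b ≫ k) := by
      have := hb
      have := hk
      have hh := (inferInstance : 𝒳'.p.IsHomLift (g ≫ 𝟙 T) (b ≫ k))
      rwa [Category.comp_id] at hh
    obtain ⟨χ, hχ⟩ := exists_compare h' g (b ≫ k) a hbk ha
    have hcls : IsoNat.cls y' = IsoNat.cls z' := by
      refine Quotient.sound ⟨?_⟩
      have := hχ
      exact { hom := ⟨χ.inv, IsHomLift.lift_id_inv 𝒳'.p T' χ⟩
              inv := ⟨χ.hom, hχ⟩
              hom_inv_id := Subtype.ext χ.inv_hom_id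
              inv_hom_id := Subtype.ext χ.hom_inv_id }
    exact ⟨⟨x', hx'⟩, x, m, hml, (Equiv.symm_apply_eq _).2 (hcls.trans e'.symm), hx.symm⟩

/-- The representative of the transfer of a field-valued point. -/
noncomputable def repPt (φ : IsoNat.FIso 𝒳 𝒳') (p : AlgSt.FPt 𝒳) : AlgSt.FPt 𝒳' where
  K := p.K
  str := p.str
  obj := (Quotient.out (φ.toEquiv (Over.mk p.str) (IsoNat.cls ⟨p.obj, p.lies⟩))).1
  lies := (Quotient.out (φ.toEquiv (Over.mk p.str) (IsoNat.cls ⟨p.obj, p.lies⟩))).2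

theorem repPt_rel (φ : IsoNat.FIso 𝒳 𝒳') {p q : AlgSt.FPt 𝒳} (h : AlgSt.FPt.Rel p q) :
    AlgSt.FPt.Rel (repPt φ p) (repPt φ q) := by
  obtain ⟨r, a, b, -⟩ := h
  have tr : ∀ (p : AlgSt.FPt 𝒳) (a : r.obj ⟶ p.obj), Nonempty ((repPt φ r).obj ⟶ (repPt φ p).obj) := fun p a => by
    let g : Over.mk r.str ⟶ Over.mk p.str := eqToHom r.lies.symm ≫ 𝒳.p.map a ≫ eqToHom p.lies
    obtain ⟨m, -⟩ := exists_hom_transfer φ g (x' := ⟨r.obj, r.lies⟩) (x := ⟨p.obj, p.lies⟩) a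
      (inferInstanceAs (𝒳.p.IsHomLift (eqToHom r.lies.symm ≫ 𝒳.p.map a ≫ eqToHom p.lies) a))
      (Quotient.out_eq _).symm (Quotient.out_eq _).symm
    exact ⟨m⟩
  exact ⟨repPt φ r, (tr p a).some, (tr q b).some, trivial⟩

/-- The transfer of points. -/
noncomputable def ptMap (φ : IsoNat.FIso 𝒳 𝒳') : AlgSt.Points 𝒳 → AlgSt.Points 𝒳' :=
  Quot.lift (fun p => AlgSt.Points.mk (repPt φ p)) fun _ _ h => AlgSt.Points.sound (repPt_rel φ h)

theorem ptMap_mk (φ : IsoNat.FIso 𝒳 𝒳') (p : AlgSt.FPt 𝒳) (y : 𝒳'.p.Fiber (Over.mk p.str))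
    (hy : φ.toEquiv (Over.mk p.str) (IsoNat.cls ⟨p.obj, p.lies⟩) = IsoNat.cls y) :
    ptMap φ (AlgSt.Points.mk p) = AlgSt.Points.mk { K := p.K, str := p.str, obj := y.1, lies := y.2 } := by
  obtain ⟨m, -⟩ := hom_of_cls_eq ((Quotient.out_eq _).trans hy)
  exact AlgSt.Points.sound ⟨repPt φ p, 𝟙 _, m, trivial⟩

theorem ptMap_symm (φ : IsoNat.FIso 𝒳 𝒳') (h : FibCat.IsFibGrpd 𝒳.p) (h' : FibCat.IsFibGrpd 𝒳'.p)
    (a : AlgSt.Points 𝒳) : ptMap (symm φ h h') (ptMap φ a) = a := by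
  obtain ⟨p, rfl⟩ := AlgSt.Points.mk_surjective a
  refine ptMap_mk (symm φ h h') (repPt φ p) ⟨p.obj, p.lies⟩ ?_
  exact (Equiv.symm_apply_eq _).2 (Quotient.out_eq _)

theorem symm_ptMap (φ : IsoNat.FIso 𝒳 𝒳') (h : FibCat.IsFibGrpd 𝒳.p) (h' : FibCat.IsFibGrpd 𝒳'.p)
    (a : AlgSt.Points 𝒳') : ptMap φ (ptMap (symm φ h h') a) = a := by
  obtain ⟨p, rfl⟩ := AlgSt.Points.mk_surjective a
  refine ptMap_mk φ (repPt (symm φ h h') p) ⟨p.obj, p.lies⟩ ?_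
  refine (congrArg (φ.toEquiv _) (Quotient.out_eq _)).trans ?_
  exact Equiv.apply_symm_apply _ _

/-- Transfer commutes with maps that correspond on isomorphism classes. -/
theorem ptMap_map {𝒵 𝒵' : AlgSt.Cat S} {f : 𝒵 ⥤ᵇ 𝒳} {f' : 𝒵' ⥤ᵇ 𝒳'} (φ : IsoNat.FIso 𝒳 𝒳')
    (ψ : IsoNat.FIso 𝒵 𝒵')
    (h : ∀ (T : Over S) (c : IsoNat.IsoCl 𝒵 T),
      φ.toEquiv T (IsoNat.mapCls f T c) = IsoNat.mapCls f' T (ψ.toEquiv T c))
    (a : AlgSt.Points 𝒵) : ptMap φ (AlgSt.Points.map f a) = AlgSt.Points.map f' (ptMap ψ a) := by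
  obtain ⟨p, rfl⟩ := AlgSt.Points.mk_surjective a
  refine ptMap_mk φ (p.map f) ((IsoNat.fibFun f' (Over.mk p.str)).obj ⟨(repPt ψ p).obj, (repPt ψ p).lies⟩) ?_
  refine (h (Over.mk p.str) (IsoNat.cls ⟨p.obj, p.lies⟩)).trans ?_
  rw [← Quotient.out_eq (ψ.toEquiv (Over.mk p.str) (IsoNat.cls ⟨p.obj, p.lies⟩))]
  rfl

/-- Maps out of a slice that correspond at the universal object correspond on points. -/
theorem ptMap_map_slice {U : Over S} {g : FibCat.overCat U ⥤ᵇ 𝒳} {g' : FibCat.overCat U ⥤ᵇ 𝒳'}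
    (h' : FibCat.IsFibGrpd 𝒳'.p) (φ : IsoNat.FIso 𝒳 𝒳')
    (hg : φ.toEquiv U (IsoNat.objCls g) = IsoNat.objCls g') (a : AlgSt.Points (FibCat.overCat U)) :
    ptMap φ (AlgSt.Points.map g a) = AlgSt.Points.map g' a := by
  obtain ⟨p, rfl⟩ := AlgSt.Points.mk_surjective a
  let o := p.obj
  let l : Over.mk p.str ⟶ U := eqToHom p.lies.symm ≫ hm o
  have lft : ∀ {𝒲 : AlgSt.Cat S} (G : FibCat.overCat U ⥤ᵇ 𝒲), 𝒲.p.IsHomLift l (G.map (toOne o)) := fun {𝒲} G => by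
    have := toOne_lift o
    have : (FibCat.overCat U).p.IsHomLift l (toOne o) := inferInstance
    exact (BasedFunctor.isHomLift_iff G _ _).2 this
  obtain ⟨z, hz⟩ := Quotient.exists_rep
    (φ.toEquiv (Over.mk p.str) (IsoNat.cls ((IsoNat.fibFun g (Over.mk p.str)).obj ⟨p.obj, p.lies⟩)))
  obtain ⟨b, hb⟩ := exists_hom_transfer φ l (x' := (IsoNat.fibFun g (Over.mk p.str)).obj ⟨p.obj, p.lies⟩)
    (x := ⟨g.obj (Over.mk (𝟙 U)), g.w_obj (Over.mk (𝟙 U))⟩) (g.map (toOne o)) (lft g)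
    (y' := z) (y := ⟨g'.obj (Over.mk (𝟙 U)), g'.w_obj (Over.mk (𝟙 U))⟩) hz.symm hg
  obtain ⟨χ, hχ⟩ := exists_compare h' l b (g'.map (toOne o)) hb (lft g')
  refine ptMap_mk φ (p.map g) ((IsoNat.fibFun g' (Over.mk p.str)).obj ⟨p.obj, p.lies⟩) (hz.symm.trans ?_)
  refine Quotient.sound ⟨?_⟩
  have := hχ
  exact { hom := ⟨χ.hom, hχ⟩
          inv := ⟨χ.inv, IsHomLift.lift_id_inv 𝒳'.p _ χ⟩
          hom_inv_id := Subtype.ext χ.hom_inv_id
          inv_hom_id := Subtype.ext χ.inv_hom_id }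

theorem exists_slice_of_cls (h : FibCat.IsFibGrpd 𝒳.p) {U : Over S} (c : IsoNat.IsoCl 𝒳 U) :
    ∃ g : FibCat.overCat U ⥤ᵇ 𝒳, IsoNat.objCls g = c := by
  haveI := isFibered_of_isFibGrpd _ h
  obtain ⟨x, rfl⟩ := Quotient.exists_rep c
  obtain ⟨G, -, ⟨e⟩⟩ := exists_evalAtId_iso x
  exact ⟨G, Quotient.sound ⟨e⟩⟩

/-- Quasi-compactness of a morphism depends only on the map of presheaves of isomorphism classes. -/
theorem isQuasiCompactMor_of_sq [QuasiSeparatedSpace S] (h𝒳 : AlgSt.IsAlgStack Scheme.fppfPrecoverage 𝒳)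
    (h𝒴 : AlgSt.IsAlgStack Scheme.fppfPrecoverage 𝒴) (h𝒳' : AlgSt.IsAlgStack Scheme.fppfPrecoverage 𝒳')
    (h𝒴' : AlgSt.IsAlgStack Scheme.fppfPrecoverage 𝒴') (hqs : AlgSt.IsQuasiSeparatedOver 𝒴')
    {f : 𝒳 ⥤ᵇ 𝒴} {f' : 𝒳' ⥤ᵇ 𝒴'} (φ : IsoNat.FIsoSq f f')
    (hf : AlgSt.IsQuasiCompactMor Scheme.fppfPrecoverage f) :
    AlgSt.IsQuasiCompactMor Scheme.fppfPrecoverage f' := fun 𝒲 hW hq k => by
  obtain ⟨U, x, hU, -, hxs⟩ := id hq
  have hxs' : AlgSt.IsSurjective x := isSurjective_of_repWith hW.isStack.1 hxs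
  let y' := BasedFunctor.comp x k
  obtain ⟨g, hg⟩ := exists_slice_of_cls h𝒴.isStack.1 ((φ.tgt.toEquiv U).symm (IsoNat.objCls y'))
  have hg' : φ.tgt.toEquiv U (IsoNat.objCls g) = IsoNat.objCls y' := by rw [hg, Equiv.apply_symm_apply]
  let g0 := BasedFunctor.comp (AlgSt.toOverCat U) g
  haveI := hU
  have hA := isAlgStack_ofSch ⟨_, IsAlgSpace.yon_obj U⟩
  obtain ⟨W, z, hWa, -, hzs⟩ := hf _ hA (isQuasiCompact_ofSch U) g0
  have hzs' : AlgSt.IsSurjective z :=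
    isSurjective_of_repWith (fp_isFibGrpd hA.isStack.1 h𝒳.isStack.1 h𝒴.isStack.1) hzs
  let a := BasedFunctor.comp z (FibCat.fpSnd g0 f)
  obtain ⟨a', ha'⟩ := exists_slice_of_cls h𝒳'.isStack.1 (φ.src.toEquiv W (IsoNat.objCls a))
  let a'0 := BasedFunctor.comp (AlgSt.toOverCat W) a'
  haveI := hWa
  have hA0 := isAlgStack_ofSch ⟨_, IsAlgSpace.yon_obj W⟩
  have hF : AlgSt.IsQuasiCompact (FibCat.fp k (BasedFunctor.comp a'0 f')) :=
    isQuasiCompact_fp_over hW h𝒴' hA0 k (BasedFunctor.comp a'0 f') hq hqs (isQuasiCompact_ofSch W)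
  refine isQuasiCompact_of_surjective (isAlgStack_fp h𝒴'.isStack.1 h𝒴'.diag hW hA0 k (BasedFunctor.comp a'0 f'))
    (isAlgStack_fp h𝒴'.isStack.1 h𝒴'.diag hW h𝒳' k f') (fpMapSnd k a'0 f') (fun c => ?_) hF
  -- the second coordinate of `c`
  let b := AlgSt.Points.map (FibCat.fpSnd k f') c
  obtain ⟨u, hu⟩ := hxs' (AlgSt.Points.map (FibCat.fpFst k f') c)
  have hfb : AlgSt.Points.map f' b = AlgSt.Points.map y' u := by
    rw [stk_map_comp, hu, ← stk_map_comp, ← stk_map_comp]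
    exact stk_map_congr (FibCat.fpIso k f').symm c
  have hb0 : ∃ b0, ptMap φ.src b0 = b :=
    ⟨_, symm_ptMap φ.src h𝒳.isStack.1 h𝒳'.isStack.1 b⟩
  obtain ⟨b0, hb0⟩ := hb0
  have hgb : AlgSt.Points.map g u = AlgSt.Points.map f b0 := by
    refine Function.LeftInverse.injective (ptMap_symm φ.tgt h𝒴.isStack.1 h𝒴'.isStack.1) ?_
    rw [ptMap_map_slice h𝒴'.isStack.1 φ.tgt hg', ptMap_map φ.tgt φ.src φ.comm, hb0, hfb]
  obtain ⟨u0, rfl⟩ := (stk_map_bijective (toOverCat_isEquivOver U)).2 u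
  obtain ⟨q, -, hq2⟩ := exists_point_fp hA.isStack.1 h𝒳.isStack.1 h𝒴.isStack.1 (g := g0) (f := f) u0 b0
    ((stk_map_comp _ _ _).trans hgb)
  obtain ⟨t, rfl⟩ := hzs' q
  obtain ⟨t0, rfl⟩ := (stk_map_bijective (toOverCat_isEquivOver W)).2 t
  have hab : AlgSt.Points.map a'0 t0 = b := by
    rw [stk_map_comp, ← ptMap_map_slice h𝒳'.isStack.1 φ.src ha'.symm, ← hb0, ← hq2, stk_map_comp z]
  obtain ⟨d, hd, -⟩ := exists_point_fp (fp_isFibGrpd hW.isStack.1 h𝒳'.isStack.1 h𝒴'.isStack.1)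
    hA0.isStack.1 h𝒳'.isStack.1 (g := FibCat.fpSnd k f') (f := a'0) c t0 hab.symm
  refine ⟨AlgSt.Points.map (fpAssoc a'0 f' k) d, ?_⟩
  rw [← stk_map_comp, stk_map_congr (fpMapSndIso a'0 k f'), hd]

end Groth.Agent.AlgStLib.IsoClsPts
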