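import Groth.Agent.AlgStLib.Basic
import Groth.Agent.FibBasics.Band
import Mathlib

/-!
Automorphisms of objects of stacks with separated diagonal.
-/

set_option autoImplicit false
set_option backward.isDefEq.respectTransparency.types false

universe u

open CategoryTheory CategoryTheory.Limits CategoryTheory.Functor AlgebraicGeometry Opposite AlgSp

namespace Groth.Agent.AlgStLib

open Groth.Agent Groth.Agent.FibBasics Groth.Agent.AlgSpLib

variable {S : Scheme.{u}} {𝒳 : AlgSt.Cat S}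

/-- An automorphism which is trivial on a schematically dense subscheme is trivial. -/
theorem aut_eq_one_of_dense (hd : AlgSt.RepByAlgSpWith IsSeparatedMor (FibCat.diag (FibCat.toSelf 𝒳)))
    {U O : Over S} (G : FibCat.overCat U ⥤ᵇ 𝒳) (j : O ⟶ U)
    (hdense : ∀ (Z : Scheme.{u}) (i : Z ⟶ U.left), IsClosedImmersion i → (∃ k : O.left ⟶ Z, k ≫ i = j.left) → IsIso i)
    (a : Gerb.AutO (G.obj (one U)))
    (h : G.map (toOne (Over.mk j : (FibCat.overCat U).obj)) ≫ a.hom.1 = G.map (toOne (Over.mk j : (FibCat.overCat U).obj))) :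
    a = 1 := by
  let y := BasedFunctor.comp G (FibCat.diag (FibCat.toSelf 𝒳))
  obtain ⟨F, e, he, hsep⟩ := hd U y
  obtain ⟨⟨_, _⟩, hes⟩ := (isEquivOver_iff e).1 he
  obtain ⟨π, hπ⟩ : ∃ π, π = AlgSt.spMapOfOver (BasedFunctor.comp e (FibCat.fpFst y (FibCat.diag (FibCat.toSelf 𝒳)))) :=
    ⟨_, rfl⟩
  rw [← hπ] at hsep
  let z₀ := G.obj (one U)
  let D := (FibCat.diag (FibCat.toSelf 𝒳)).obj z₀
  have hp : ∀ b : Gerb.AutO z₀, 𝒳.p.map b.hom.1 = 𝟙 _ := fun b => by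
    have := b.hom.2
    have h := IsHomLift.fac' 𝒳.p (𝟙 (𝒳.p.obj z₀)) b.hom.1
    simpa using h
  let M : Gerb.AutO z₀ → (D ⟶ D) := fun b => fpHom (x := D) (y := D) (𝟙 z₀) b.hom.1 (by
    show 𝒳.p.map (𝟙 z₀) ≫ D.obj.iso.hom = D.obj.iso.hom ≫ 𝒳.p.map b.hom.1
    exact (congrArg (· ≫ D.obj.iso.hom) (𝒳.p.map_id z₀)).trans ((Category.id_comp _).trans
      ((Category.comp_id _).symm.trans (congrArg (D.obj.iso.hom ≫ ·) (hp b).symm))))
  have hM : ∀ b c : Gerb.AutO z₀, M b ≫ M c = M (c * b) := fun b c =>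
    fp_hom_ext (Category.id_comp _) rfl
  have hM1 : M 1 = 𝟙 D := fp_hom_ext rfl rfl
  let B : Gerb.AutO z₀ → (FibCat.fp y (FibCat.diag (FibCat.toSelf 𝒳))).obj := fun b =>
    ⟨{ fst := one U
       snd := z₀
       iso := { hom := M b, inv := M b⁻¹
                hom_inv_id := (hM b b⁻¹).trans ((congrArg M (inv_mul_cancel b)).trans hM1)
                inv_hom_id := (hM b⁻¹ b).trans ((congrArg M (mul_inv_cancel b)).trans hM1) } }, by
      refine fp_lift_of_fst _ _ ?_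
      exact IsHomLift.id (G.w_obj (one U))⟩
  have pre : ∀ b, ∃ (σ : F.obj.obj.obj (op U)) (ε : e.obj ⟨U, σ⟩ ≅ B b),
      (FibCat.fp y (FibCat.diag (FibCat.toSelf 𝒳))).p.IsHomLift (𝟙 U) ε.hom ∧
      AlgSt.secHom (BasedFunctor.comp e (FibCat.fpFst y (FibCat.diag (FibCat.toSelf 𝒳)))) ⟨U, σ⟩ = 𝟙 U := fun b => by
    obtain ⟨⟨T, σ⟩, ε, hε⟩ := hes (B b)
    have hbase : T = U := (e.w_obj ⟨T, σ⟩).symm.trans
      (@IsHomLift.domain_eq _ _ _ _ (FibCat.fp y (FibCat.diag (FibCat.toSelf 𝒳))).p _ _ _ _ _ ε.hom hε)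
    subst hbase
    refine ⟨σ, ε, hε, ?_⟩
    have h1 : (FibCat.overCat T).p.IsHomLift (𝟙 T) ε.hom.hom.fst :=
      have : (FibCat.fp y (FibCat.diag (FibCat.toSelf 𝒳))).p.IsHomLift (𝟙 T) ε.hom := hε
      fp_lift_fst _ ε.hom
    have hw : ε.hom.hom.fst.left ≫ 𝟙 T = (e.obj ⟨T, σ⟩).obj.fst.hom := Over.w ε.hom.hom.fst
    have hl : ε.hom.hom.fst.left = eqToHom _ ≫ 𝟙 T ≫ eqToHom _ :=
      IsHomLift.fac' (FibCat.overCat T).p (𝟙 T) ε.hom.hom.fst
    rw [AlgSt.secHom]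
    refine (congrArg (eqToHom _ ≫ ·) hw.symm).trans ?_
    rw [hl]
    simp
    rfl
  obtain ⟨σ₁, ε₁, hε₁, hs₁⟩ := pre 1
  obtain ⟨σₐ, εₐ, hεₐ, hsₐ⟩ := pre a
  let t₁ : (yon S).obj U ⟶ F.obj := (J S).uliftYonedaEquiv.symm σ₁
  let tₐ : (yon S).obj U ⟶ F.obj := (J S).uliftYonedaEquiv.symm σₐ
  have ht : ∀ σ : F.obj.obj.obj (op U),
      AlgSt.secHom (BasedFunctor.comp e (FibCat.fpFst y (FibCat.diag (FibCat.toSelf 𝒳)))) ⟨U, σ⟩ = 𝟙 U →
      (J S).uliftYonedaEquiv.symm σ ≫ π = 𝟙 _ := fun σ hσ => by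
    apply (J S).uliftYonedaEquiv.injective
    rw [hπ, GrothendieckTopology.uliftYonedaEquiv_comp, Equiv.apply_symm_apply, AlgSt.spMapOfOver_app, hσ,
      ← (yon S).map_id]
    rfl
  let st : (yon S).obj U ⟶ pullback π π := pullback.lift t₁ tₐ ((ht _ hs₁).trans (ht _ hsₐ).symm)
  obtain ⟨Z, i, k, sq⟩ := hsep.1 st
  have hi : IsClosedImmersion i.left := hsep.2 st k i sq
  -- agreement on `O`
  have hj : (yon S).map j ≫ t₁ = (yon S).map j ≫ tₐ := by
    let ξ : (AlgSt.ofSp F.obj).obj := ⟨O, F.obj.obj.map j.op σ₁⟩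
    let f₁ : ξ ⟶ ⟨U, σ₁⟩ := ⟨j, rfl⟩
    let m := e.map f₁ ≫ ε₁.hom
    have hmb : (FibCat.fp y (FibCat.diag (FibCat.toSelf 𝒳))).p.IsHomLift j m := by
      have h1 : (FibCat.fp y (FibCat.diag (FibCat.toSelf 𝒳))).p.IsHomLift j (e.map f₁) :=
        (BasedFunctor.isHomLift_iff e j f₁).2 (IsHomLift.map (AlgSt.ofSp F.obj).p f₁)
      have := hε₁
      infer_instance
    have hfst : (FibCat.overCat U).p.IsHomLift j m.hom.fst := fp_lift_fst j m
    let ρ : (e.obj ξ).obj.fst ⟶ (Over.mk j : (FibCat.overCat U).obj) := Over.homMk (eqToHom (e.w_obj ξ)) (by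
      have hw : m.hom.fst.left ≫ 𝟙 U = (e.obj ξ).obj.fst.hom := Over.w m.hom.fst
      have hl : m.hom.fst.left = eqToHom _ ≫ j ≫ eqToHom _ := IsHomLift.fac' (FibCat.overCat U).p j m.hom.fst
      show eqToHom (e.w_obj ξ) ≫ j = (e.obj ξ).obj.fst.hom
      rw [← hw, hl]
      simp
      rfl)
    have hG : G.map m.hom.fst ≫ a.hom.1 = G.map m.hom.fst := by
      rw [toOne_unique m.hom.fst, ← toOne_unique (ρ ≫ toOne (Over.mk j : (FibCat.overCat U).obj)),
        G.toFunctor.map_comp, Category.assoc, h]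
    have w1 : G.map m.hom.fst ≫ 𝟙 z₀ = (e.obj ξ).obj.iso.hom.hom.fst ≫ m.hom.snd :=
      congrArg (fun t => t.hom.fst) m.hom.w
    have w2 : G.map m.hom.fst ≫ 𝟙 z₀ = (e.obj ξ).obj.iso.hom.hom.snd ≫ m.hom.snd :=
      congrArg (fun t => t.hom.snd) m.hom.w
    let m' : e.obj ξ ⟶ B a := fpHom (y := B a) m.hom.fst m.hom.snd (fp_hom_ext w1 (by
      show G.map m.hom.fst ≫ a.hom.1 = (e.obj ξ).obj.iso.hom.hom.snd ≫ m.hom.snd
      rw [hG, ← w2, Category.comp_id]))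
    have hm' : (FibCat.fp y (FibCat.diag (FibCat.toSelf 𝒳))).p.IsHomLift j m' := fp_lift_of_fst j m' hfst
    obtain ⟨ψ, hψ⟩ := e.toFunctor.map_surjective (m' ≫ εₐ.inv)
    have hψj : (AlgSt.ofSp F.obj).p.IsHomLift j ψ := by
      rw [← BasedFunctor.isHomLift_iff e, hψ]
      have hinv := hεₐ
      have : (FibCat.fp y (FibCat.diag (FibCat.toSelf 𝒳))).p.IsHomLift (𝟙 U) εₐ.inv :=
        IsHomLift.lift_id_inv _ U εₐ
      infer_instance
    have hjψ : j = ψ.hom := by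
      have := IsHomLift.fac' (AlgSt.ofSp F.obj).p j ψ
      simpa using this.symm
    apply (J S).uliftYonedaEquiv.injective
    rw [← GrothendieckTopology.uliftYonedaEquiv_naturality, ← GrothendieckTopology.uliftYonedaEquiv_naturality,
      Equiv.apply_symm_apply, Equiv.apply_symm_apply]
    exact (show F.obj.obj.map ψ.hom.op σₐ = F.obj.obj.map j.op σ₁ from ψ.map_sec).symm.trans (by rw [hjψ])
  obtain ⟨k₀, -, hk₀⟩ := exists_lift sq ((yon S).map j ≫ t₁) j (by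
    apply pullback.hom_ext <;> simp [st, hj, pullback.lift_fst, pullback.lift_snd] <;> first | exact (congrArg ((yon S).map j ≫ ·) (pullback.lift_fst _ _ _)).symm | exact (congrArg ((yon S).map j ≫ ·) (pullback.lift_snd _ _ _)).symm)
  have hiso : IsIso i.left := hdense _ _ hi ⟨k₀.left, by rw [← Over.comp_left, hk₀]⟩
  have : IsIso ((Over.forget S).map i) := hiso
  have : IsIso i := isIso_of_reflects_iso i (Over.forget S)
  have heq : t₁ = tₐ := by
    rw [← cancel_epi ((yon S).map i)]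
    have h1 := congrArg (· ≫ pullback.fst π π) sq.w
    have h2 := congrArg (· ≫ pullback.snd π π) sq.w
    simp [st] at h1 h2
    exact ((congrArg ((yon S).map i ≫ ·) (pullback.lift_fst _ _ _)).symm.trans (h1.symm.trans h2)).trans
      (congrArg ((yon S).map i ≫ ·) (pullback.lift_snd _ _ _))
  have hσ : σ₁ = σₐ := (J S).uliftYonedaEquiv.symm.injective heq
  subst hσ
  let m := ε₁.inv ≫ εₐ.hom
  have hf : m.hom.fst = 𝟙 (one U) := (toOne_unique _).trans toOne_one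
  have w1 : G.map m.hom.fst ≫ 𝟙 z₀ = 𝟙 z₀ ≫ m.hom.snd := congrArg (fun t => t.hom.fst) m.hom.w
  have w2 : G.map m.hom.fst ≫ a.hom.1 = (1 : Gerb.AutO z₀).hom.1 ≫ m.hom.snd :=
    congrArg (fun t => t.hom.snd) m.hom.w
  rw [hf, G.toFunctor.map_id] at w1 w2
  apply autO_ext
  have h3 : (1 : Gerb.AutO z₀).hom.1 = 𝟙 z₀ := rfl
  rw [h3] at w2
  exact ((Category.id_comp _).symm.trans w2).trans (w1.symm.trans ((Category.comp_id _).trans h3.symm))

end Groth.Agent.AlgStLib
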