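import Mathlib

/-!
Lines through a point over the integers and their base changes.
-/

set_option autoImplicit false
set_option backward.isDefEq.respectTransparency.types false

universe u

open CategoryTheory CategoryTheory.Limits AlgebraicGeometry TensorProduct

namespace Groth.Agent.AlgStLib.Lines

/-- The base ring. -/
def k : Type u := ULift.{u} ℤ

instance : CommRing k.{u} := inferInstanceAs (CommRing (ULift.{u} ℤ))

variable {I J K : Type}

/-- Functions on the union of lines through a point. -/
def B (I : Type) : Subring (I → Polynomial k.{u}) where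
  carrier := { v | ∀ i j, (v i).eval 0 = (v j).eval 0 }
  mul_mem' {a b} ha hb i j := by simp [ha i j, hb i j]
  one_mem' i j := rfl
  add_mem' {a b} ha hb i j := by simp [ha i j, hb i j]
  zero_mem' i j := rfl
  neg_mem' {a} ha i j := by simp [ha i j]

/-- The coordinate on all lines. -/
noncomputable def s (I : Type) : B.{u} I := ⟨fun _ => Polynomial.X, fun _ _ => rfl⟩

/-- The coordinate on one line. -/
noncomputable def x [DecidableEq I] (i : I) : B.{u} I :=
  ⟨fun m => if m = i then Polynomial.X else 0, fun m m' => by dsimp only; split_ifs <;> simp⟩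

theorem sum_x [Fintype I] [DecidableEq I] : ∑ i, x i = s.{u} I := by
  apply Subtype.ext
  rw [AddSubmonoidClass.coe_finsetSum]
  funext m
  simp [x, s, Finset.sum_apply]

theorem x_mul_x [DecidableEq I] {i j : I} (h : i ≠ j) : x.{u} i * x j = 0 := by
  apply Subtype.ext
  funext m
  show (if m = i then Polynomial.X else 0) * (if m = j then Polynomial.X else 0) = (0 : Polynomial k.{u})
  split_ifs with h₁ h₂
  · exact absurd (h₁.symm.trans h₂) h
  all_goals simp

/-- Restriction of functions. -/
def res (f : J → I) : B.{u} I →+* B.{u} J where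
  toFun v := ⟨fun j => v.1 (f j), fun i j => v.2 (f i) (f j)⟩
  map_one' := rfl
  map_mul' _ _ := rfl
  map_zero' := rfl
  map_add' _ _ := rfl

/-- Functions away from the point. -/
abbrev C (I : Type) : Type u := Localization.Away (s.{u} I)

/-- Restriction of functions away from the point. -/
noncomputable def resC (f : J → I) : C.{u} I →+* C.{u} J :=
  IsLocalization.Away.lift (s I) (g := (algebraMap (B J) (C J)).comp (res f))
    (IsLocalization.Away.algebraMap_isUnit (S := C J) (s J))

theorem resC_algebraMap (f : J → I) (v : B.{u} I) : resC f (algebraMap _ _ v) = algebraMap _ _ (res f v) :=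
  IsLocalization.Away.lift_eq _ _ v

theorem resC_comp (f : J → I) (g : K → J) : (resC.{u} g).comp (resC f) = resC (f ∘ g) := by
  refine IsLocalization.ringHom_ext (Submonoid.powers (s I)) (RingHom.ext fun v => ?_)
  show resC g (resC f (algebraMap _ _ v)) = resC (f ∘ g) (algebraMap _ _ v)
  rw [resC_algebraMap, resC_algebraMap, resC_algebraMap]
  rfl

/-- Projection to the line `i`. -/
noncomputable def retr [DecidableEq I] (i : I) : B.{u} Unit →+* B.{u} I where
  toFun v := ⟨fun m => if m = i then v.1 () else Polynomial.C ((v.1 ()).eval 0), fun m m' => by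
    dsimp only; split_ifs <;> simp⟩
  map_one' := Subtype.ext (funext fun m => by simp)
  map_mul' a b := Subtype.ext (funext fun m => by
    show (if m = i then (a * b).1 () else Polynomial.C (((a * b).1 ()).eval 0) : Polynomial k.{u}) =
      (if m = i then a.1 () else Polynomial.C ((a.1 ()).eval 0)) * (if m = i then b.1 () else Polynomial.C ((b.1 ()).eval 0))
    split_ifs <;> simp)
  map_zero' := Subtype.ext (funext fun m => by simp)
  map_add' a b := Subtype.ext (funext fun m => by
    show (if m = i then (a + b).1 () else Polynomial.C (((a + b).1 ()).eval 0) : Polynomial k.{u}) =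
      (if m = i then a.1 () else Polynomial.C ((a.1 ()).eval 0)) + (if m = i then b.1 () else Polynomial.C ((b.1 ()).eval 0))
    split_ifs <;> simp)

/-- The value at the point of a function on one line. -/
noncomputable def ev : B.{u} Unit →+* k.{u} where
  toFun v := (v.1 ()).eval 0
  map_one' := by simp
  map_mul' a b := by simp
  map_zero' := by simp
  map_add' a b := by simp

/-- Constants. -/
noncomputable def cst (I : Type) : k.{u} →+* B.{u} I where
  toFun a := ⟨fun _ => Polynomial.C a, fun _ _ => rfl⟩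
  map_one' := Subtype.ext (funext fun m => map_one Polynomial.C)
  map_mul' a b := Subtype.ext (funext fun m => map_mul Polynomial.C a b)
  map_zero' := Subtype.ext (funext fun m => map_zero Polynomial.C)
  map_add' a b := Subtype.ext (funext fun m => map_add Polynomial.C a b)

theorem res_retr_self [DecidableEq I] (i : I) : (res.{u} fun _ : Unit => i).comp (retr i) = RingHom.id _ := by
  refine RingHom.ext fun v => Subtype.ext (funext fun _ => ?_)
  show (if i = i then v.1 () else _) = v.1 ()
  simp

theorem res_retr_ne [DecidableEq I] {i m : I} (h : m ≠ i) :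
    (res.{u} fun _ : Unit => m).comp (retr i) = (cst Unit).comp ev := by
  refine RingHom.ext fun v => Subtype.ext (funext fun _ => ?_)
  show (if m = i then v.1 () else _) = Polynomial.C ((v.1 ()).eval 0)
  simp [h]

theorem ev_res (i j : I) : (ev.{u}).comp (res fun _ : Unit => i) = ev.comp (res fun _ : Unit => j) :=
  RingHom.ext fun v => v.2 i j

theorem isLocalization_piece [Fintype I] [DecidableEq I] (i : I) :
    letI := ((algebraMap (B Unit) (C.{u} Unit)).comp (res fun _ : Unit => i)).toAlgebra
    IsLocalization.Away (x.{u} i) (C.{u} Unit) := by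
  letI := ((algebraMap (B Unit) (C.{u} Unit)).comp (res fun _ : Unit => i)).toAlgebra
  have hx : res (fun _ : Unit => i) (x.{u} i) = s Unit := Subtype.ext (funext fun _ => if_pos rfl)
  refine IsLocalization.Away.mk (x i) ?_ (fun z => ?_) (fun a b hab => ?_)
  · show IsUnit (algebraMap (B Unit) (C Unit) (res (fun _ : Unit => i) (x i)))
    rw [hx]
    exact IsLocalization.Away.algebraMap_isUnit (S := C Unit) (s Unit)
  · obtain ⟨n, v, hv⟩ := IsLocalization.Away.surj (s Unit) z
    let w : B.{u} I := ⟨fun m => if m = i then Polynomial.X * v.1 () else 0, fun m m' => by dsimp only; split_ifs <;> simp⟩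
    refine ⟨n + 1, w, ?_⟩
    show z * (algebraMap (B Unit) (C Unit) (res (fun _ : Unit => i) (x i))) ^ (n + 1) =
      algebraMap (B Unit) (C Unit) (res (fun _ : Unit => i) w)
    have hw : res (fun _ : Unit => i) w = s Unit * v := Subtype.ext (funext fun _ => if_pos rfl)
    rw [hx, hw, pow_succ, ← mul_assoc, hv, map_mul]
    exact mul_comm _ _
  · change algebraMap (B Unit) (C Unit) (res (fun _ : Unit => i) a) =
      algebraMap (B Unit) (C Unit) (res (fun _ : Unit => i) b) at hab
    obtain ⟨⟨_, n, rfl⟩, hn⟩ := IsLocalization.exists_of_eq (M := Submonoid.powers (s.{u} Unit)) hab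
    refine ⟨n + 1, Subtype.ext (funext fun m => ?_)⟩
    have hn' := congrArg (fun v : B.{u} Unit => v.1 ()) hn
    simp only [res, RingHom.coe_mk, MonoidHom.coe_mk, OneHom.coe_mk, Subring.coe_mul, Pi.mul_apply,
      SubmonoidClass.coe_pow, Pi.pow_apply, s] at hn'
    show (if m = i then Polynomial.X else 0) ^ (n + 1) * a.1 m = (if m = i then Polynomial.X else 0) ^ (n + 1) * b.1 m
    split_ifs with h
    · subst h
      rw [pow_succ', mul_assoc, mul_assoc, hn']
    · simp

/-- The value of a polynomial function on one line as a polynomial. -/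
noncomputable def toPoly : B.{u} Unit →+* Polynomial k.{u} := (Pi.evalRingHom _ ()).comp (B Unit).subtype

theorem toPoly_injective : Function.Injective toPoly.{u} := fun a b h => Subtype.ext (funext fun _ => h)

end Groth.Agent.AlgStLib.Lines

namespace Groth.Agent.AlgStLib

variable {S : Scheme.{u}}

/-- Base change of an affine scheme over the integers to `T`, over `S`. -/
noncomputable abbrev bc (T : Over S) (R : CommRingCat.{u}) : Over S :=
  Over.mk (pullback.fst (specULiftZIsTerminal.from T.left) (specULiftZIsTerminal.from (Spec R)) ≫ T.hom)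

noncomputable abbrev bcp (T : Over S) (R : CommRingCat.{u}) : bc T R ⟶ T := Over.homMk (pullback.fst _ _) rfl

noncomputable abbrev bcs (T : Over S) (R : CommRingCat.{u}) : (bc T R).left ⟶ Spec R := pullback.snd _ _

/-- Functoriality of base change. -/
noncomputable def bcMap {T T' : Over S} (g : T' ⟶ T) {R R' : CommRingCat.{u}} (f : R ⟶ R') : bc T' R' ⟶ bc T R :=
  Over.homMk (pullback.map _ _ _ _ g.left (Spec.map f) (𝟙 _) (specULiftZIsTerminal.hom_ext _ _)
    (specULiftZIsTerminal.hom_ext _ _)) (by
      show pullback.map _ _ _ _ _ _ _ _ _ ≫ pullback.fst _ _ ≫ T.hom = pullback.fst _ _ ≫ T'.hom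
      rw [pullback.lift_fst_assoc, Category.assoc, Over.w g])

@[reassoc (attr := simp)]
theorem bcMap_bcp {T T' : Over S} (g : T' ⟶ T) {R R' : CommRingCat.{u}} (f : R ⟶ R') :
    bcMap g f ≫ bcp T R = bcp T' R' ≫ g :=
  Over.OverMorphism.ext (pullback.lift_fst _ _ _)

@[reassoc (attr := simp)]
theorem bcMap_bcs {T T' : Over S} (g : T' ⟶ T) {R R' : CommRingCat.{u}} (f : R ⟶ R') :
    (bcMap g f).left ≫ bcs T R = bcs T' R' ≫ Spec.map f :=
  pullback.lift_snd _ _ _

theorem bc_hom_ext {T : Over S} {R : CommRingCat.{u}} {W : Over S} {a b : W ⟶ bc T R}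
    (h₁ : a ≫ bcp T R = b ≫ bcp T R) (h₂ : a.left ≫ bcs T R = b.left ≫ bcs T R) : a = b :=
  Over.OverMorphism.ext (pullback.hom_ext (congrArg (fun m : W ⟶ T => m.left) h₁) h₂)

theorem bcMap_comp {T T' T'' : Over S} (g : T' ⟶ T) (g' : T'' ⟶ T') {R R' R'' : CommRingCat.{u}} (f : R ⟶ R')
    (f' : R' ⟶ R'') : bcMap g' f' ≫ bcMap g f = bcMap (g' ≫ g) (f ≫ f') := by
  refine bc_hom_ext ?_ ?_
  · simp
  · rw [Over.comp_left, Category.assoc, bcMap_bcs, bcMap_bcs_assoc, bcMap_bcs, Spec.map_comp]

theorem bcMap_id {T : Over S} {R : CommRingCat.{u}} : bcMap (𝟙 T) (𝟙 R) = 𝟙 (bc T R) := by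
  refine bc_hom_ext ?_ ?_
  · simp
  · rw [bcMap_bcs, Spec.map_id]
    exact (Category.comp_id _).trans (Category.id_comp _).symm

theorem isPullback_bcMap {T : Over S} {R R' : CommRingCat.{u}} (f : R ⟶ R') :
    IsPullback (bcMap (𝟙 T) f).left (bcs T R') (bcs T R) (Spec.map f) := by
  refine IsPullback.of_right ?_ (bcMap_bcs (𝟙 T) f) (IsPullback.of_hasPullback
    (specULiftZIsTerminal.from T.left) (specULiftZIsTerminal.from (Spec R)))
  have h : (bcMap (𝟙 T) f).left ≫ pullback.fst _ _ = pullback.fst _ _ := by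
    rw [show (bcMap (𝟙 T) f).left ≫ pullback.fst _ _ = pullback.fst _ _ ≫ (𝟙 T : T ⟶ T).left from
      congrArg (fun m : bc T R' ⟶ T => m.left) (bcMap_bcp (𝟙 T) f)]
    exact Category.comp_id _
  rw [h, specULiftZIsTerminal.hom_ext (Spec.map f ≫ specULiftZIsTerminal.from _) (specULiftZIsTerminal.from _)]
  exact IsPullback.of_hasPullback _ _

theorem isOpenImmersion_bcMap {T : Over S} {R R' : CommRingCat.{u}} (f : R ⟶ R')
    [h : IsOpenImmersion (Spec.map f)] : IsOpenImmersion (bcMap (𝟙 T) f).left :=
  MorphismProperty.of_isPullback (isPullback_bcMap f).flip h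

/-- The union of lines through a point. -/
noncomputable abbrev nQ (T : Over S) (I : Type) : Over S := bc T (CommRingCat.of (Lines.B.{u} I))

/-- The union of punctured lines. -/
noncomputable abbrev nO (T : Over S) (I : Type) : Over S := bc T (CommRingCat.of (Lines.C.{u} I))

noncomputable abbrev nj (T : Over S) (I : Type) : nO T I ⟶ nQ T I :=
  bcMap (𝟙 T) (CommRingCat.ofHom (algebraMap (Lines.B.{u} I) (Lines.C.{u} I)))

noncomputable abbrev nQm {T T' : Over S} (g : T' ⟶ T) {I J : Type} (f : J → I) : nQ T' J ⟶ nQ T I :=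
  bcMap g (CommRingCat.ofHom (Lines.res f))

noncomputable abbrev nOm {T T' : Over S} (g : T' ⟶ T) {I J : Type} (f : J → I) : nO T' J ⟶ nO T I :=
  bcMap g (CommRingCat.ofHom (Lines.resC f))

@[reassoc]
theorem nOm_nj {T T' : Over S} (g : T' ⟶ T) {I J : Type} (f : J → I) : nOm g f ≫ nj T I = nj T' J ≫ nQm g f := by
  rw [bcMap_comp, bcMap_comp, Category.comp_id, Category.id_comp]
  congr 1
  exact CommRingCat.hom_ext (RingHom.ext fun v => Lines.resC_algebraMap f v)

@[reassoc]
theorem nQm_comp {T T' T'' : Over S} (g : T' ⟶ T) (g' : T'' ⟶ T') {I J K : Type} (f : J → I) (f' : K → J) :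
    nQm g' f' ≫ nQm g f = nQm (g' ≫ g) (f ∘ f') := bcMap_comp _ _ _ _

@[reassoc]
theorem nOm_comp {T T' T'' : Over S} (g : T' ⟶ T) (g' : T'' ⟶ T') {I J K : Type} (f : J → I) (f' : K → J) :
    nOm g' f' ≫ nOm g f = nOm (g' ≫ g) (f ∘ f') := by
  rw [bcMap_comp]
  congr 1
  exact CommRingCat.hom_ext (Lines.resC_comp f f')

/-- The point of one line. -/
noncomputable def npt (T : Over S) : T ⟶ nQ T Unit :=
  Over.homMk (pullback.lift (𝟙 T.left) (specULiftZIsTerminal.from T.left ≫ Spec.map (CommRingCat.ofHom Lines.ev))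
    (specULiftZIsTerminal.hom_ext _ _)) (by
      show pullback.lift _ _ _ ≫ pullback.fst _ _ ≫ T.hom = T.hom
      rw [pullback.lift_fst_assoc, Category.id_comp])

@[reassoc (attr := simp)]
theorem npt_bcp (T : Over S) : npt T ≫ bcp T _ = 𝟙 T := Over.OverMorphism.ext (pullback.lift_fst _ _ _)

theorem npt_bcs (T : Over S) : (npt T).left ≫ bcs T _ =
    specULiftZIsTerminal.from T.left ≫ Spec.map (CommRingCat.ofHom Lines.ev) := pullback.lift_snd _ _ _

@[reassoc]
theorem npt_nQm {T T' : Over S} (g : T' ⟶ T) :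
    npt T' ≫ nQm g (id : Unit → Unit) = g ≫ npt T := by
  refine bc_hom_ext (by simp) ?_
  rw [Over.comp_left, Over.comp_left, Category.assoc, Category.assoc, bcMap_bcs, npt_bcs, reassoc_of% npt_bcs T',
    ← Category.assoc g.left, specULiftZIsTerminal.hom_ext (g.left ≫ _) (specULiftZIsTerminal.from T'.left),
    ← Spec.map_comp]
  rfl

theorem npt_line (T : Over S) {I : Type} (i j : I) :
    npt T ≫ nQm (𝟙 T) (fun _ : Unit => i) = npt T ≫ nQm (𝟙 T) (fun _ : Unit => j) := by
  refine bc_hom_ext (by simp) ?_
  rw [Over.comp_left, Over.comp_left, Category.assoc, Category.assoc, bcMap_bcs, bcMap_bcs,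
    reassoc_of% npt_bcs T, reassoc_of% npt_bcs T, ← Spec.map_comp, ← Spec.map_comp]
  congr 2
  exact CommRingCat.hom_ext (Lines.ev_res i j)

/-- Projection to a line. -/
noncomputable abbrev nretr (T : Over S) {I : Type} [DecidableEq I] (i : I) : nQ T I ⟶ nQ T Unit :=
  bcMap (𝟙 T) (CommRingCat.ofHom (Lines.retr i))

theorem line_nretr (T : Over S) {I : Type} [DecidableEq I] (i : I) :
    nQm (𝟙 T) (fun _ : Unit => i) ≫ nretr T i = 𝟙 _ := by
  rw [bcMap_comp, Category.id_comp, ← CommRingCat.ofHom_comp, Lines.res_retr_self, ← bcMap_id]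
  rfl

theorem line_nretr_ne (T : Over S) {I : Type} [DecidableEq I] {i m : I} (h : m ≠ i) :
    nQm (𝟙 T) (fun _ : Unit => m) ≫ nretr T i = bcp T _ ≫ npt T := by
  rw [bcMap_comp, Category.id_comp, ← CommRingCat.ofHom_comp, Lines.res_retr_ne h]
  refine bc_hom_ext (by simp) ?_
  rw [bcMap_bcs, Over.comp_left, Category.assoc, npt_bcs, CommRingCat.ofHom_comp, Spec.map_comp, ← Category.assoc,
    ← Category.assoc]
  congr 1
  exact specULiftZIsTerminal.hom_ext _ _

/-- The pieces of the punctured lines. -/
noncomputable abbrev npc (T : Over S) {I : Type} (i : I) : nO T Unit ⟶ nO T I := nOm (𝟙 T) fun _ => i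

theorem isOpenImmersion_nj (T : Over S) (I : Type) : IsOpenImmersion (nj T I).left :=
  isOpenImmersion_bcMap (h := inferInstance) _

theorem isOpenImmersion_npc (T : Over S) {I : Type} [Fintype I] [DecidableEq I] (i : I) :
    IsOpenImmersion (npc T i).left := by
  have := isOpenImmersion_nj T I
  have h₁ : IsOpenImmersion (Spec.map (CommRingCat.ofHom
      ((algebraMap (Lines.B Unit) (Lines.C.{u} Unit)).comp (Lines.res fun _ : Unit => i)))) := by
    letI := ((algebraMap (Lines.B Unit) (Lines.C.{u} Unit)).comp (Lines.res fun _ : Unit => i)).toAlgebra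
    have := Lines.isLocalization_piece.{u} i
    exact IsOpenImmersion.of_isLocalization (Lines.x i)
  have : IsOpenImmersion ((npc T i).left ≫ (nj T I).left) := by
    rw [← Over.comp_left, nOm_nj, bcMap_comp, Category.id_comp, ← CommRingCat.ofHom_comp]
    exact isOpenImmersion_bcMap (h := h₁) _
  exact IsOpenImmersion.of_comp _ (nj T I).left

theorem npc_cover (T : Over S) {I : Type} [Fintype I] [DecidableEq I] (w : ↥(nO T I).left) :
    ∃ i, w ∈ Set.range (npc T i).left := by
  let q : PrimeSpectrum (Lines.C.{u} I) := bcs T _ w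
  have hs : algebraMap (Lines.B I) (Lines.C.{u} I) (Lines.s I) ∉ q.asIdeal := fun h =>
    q.isPrime.ne_top (Ideal.eq_top_of_isUnit_mem _ h (IsLocalization.Away.algebraMap_isUnit _))
  have hs' : (∑ i, algebraMap (Lines.B I) (Lines.C.{u} I) (Lines.x i)) ∉ q.asIdeal := fun h => hs (by
    rwa [← map_sum, Lines.sum_x] at h)
  obtain ⟨i, -, hi⟩ : ∃ i ∈ Finset.univ, algebraMap (Lines.B I) (Lines.C.{u} I) (Lines.x i) ∉ q.asIdeal := by
    by_contra hc
    push_neg at hc
    exact hs' (Ideal.sum_mem _ fun i hi => hc i hi)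
  refine ⟨i, ?_⟩
  letI := ((algebraMap (Lines.B Unit) (Lines.C.{u} Unit)).comp (Lines.res fun _ : Unit => i)).toAlgebra
  have := Lines.isLocalization_piece.{u} i
  let p : PrimeSpectrum (Lines.B.{u} I) := PrimeSpectrum.comap (algebraMap (Lines.B I) (Lines.C.{u} I)) q
  have hp : p ∈ Set.range (PrimeSpectrum.comap (algebraMap (Lines.B I) (Lines.C.{u} Unit))) := by
    rw [PrimeSpectrum.localization_away_comap_range (Lines.C.{u} Unit) (Lines.x i)]
    exact hi
  obtain ⟨q', hq'⟩ := hp
  have he : PrimeSpectrum.comap (Lines.resC fun _ : Unit => i) q' = q := by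
    apply PrimeSpectrum.localization_comap_injective (Lines.C.{u} I) (Submonoid.powers (Lines.s I))
    show PrimeSpectrum.comap _ (PrimeSpectrum.comap _ q') = p
    rw [← hq']
    ext v
    show Lines.resC _ (algebraMap _ _ v) ∈ q'.asIdeal ↔ _
    rw [Lines.resC_algebraMap]
    rfl
  obtain ⟨z, hz, -⟩ : ∃ z, (npc T i).left z = w ∧ bcs T _ z = q' := by
    obtain ⟨z, h₁, h₂⟩ := Scheme.Pullback.exists_preimage_pullback (f := bcs T _)
      (g := Spec.map (CommRingCat.ofHom (Lines.resC fun _ : Unit => i))) w q' he.symm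
    refine ⟨(isPullback_bcMap (T := T) _).isoPullback.inv z, ?_, ?_⟩
    · rw [← Scheme.Hom.comp_apply, (isPullback_bcMap _).isoPullback_inv_fst, h₁]
    · rw [← Scheme.Hom.comp_apply, (isPullback_bcMap _).isoPullback_inv_snd, h₂]
  exact ⟨z, hz⟩

theorem npc_disjoint (T : Over S) {I : Type} [DecidableEq I] {i m : I} (h : i ≠ m) {W : Over S}
    (a b : W ⟶ nO T Unit) (e : a ≫ npc T i = b ≫ npc T m) : IsEmpty W.left := by
  refine ⟨fun w => ?_⟩
  let qa : PrimeSpectrum (Lines.C.{u} Unit) := bcs T _ (a.left w)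
  let qb : PrimeSpectrum (Lines.C.{u} Unit) := bcs T _ (b.left w)
  have he : PrimeSpectrum.comap (Lines.resC fun _ : Unit => i) qa =
      PrimeSpectrum.comap (Lines.resC fun _ : Unit => m) qb := by
    have h := congrArg (fun f : W ⟶ nO T I => (f.left ≫ bcs T _) w) e
    simp only [Over.comp_left, Category.assoc, bcMap_bcs] at h
    exact h
  have hmem : algebraMap _ (Lines.C.{u} I) (Lines.x i) ∈ (PrimeSpectrum.comap (Lines.resC fun _ : Unit => m) qb).asIdeal := by
    show Lines.resC _ (algebraMap _ _ (Lines.x i)) ∈ qb.asIdeal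
    rw [Lines.resC_algebraMap, show Lines.res (fun _ : Unit => m) (Lines.x i) = 0 from
      Subtype.ext (funext fun _ => if_neg h.symm), map_zero]
    exact zero_mem _
  rw [← he] at hmem
  have hx : Lines.res (fun _ : Unit => i) (Lines.x i) = Lines.s.{u} Unit := Subtype.ext (funext fun _ => if_pos rfl)
  have h' : algebraMap _ (Lines.C.{u} Unit) (Lines.s Unit) ∈ qa.asIdeal := by
    have : Lines.resC (fun _ : Unit => i) (algebraMap _ _ (Lines.x i)) ∈ qa.asIdeal := hmem
    rwa [Lines.resC_algebraMap, hx] at this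
  exact qa.isPrime.ne_top (Ideal.eq_top_of_isUnit_mem _ h' (IsLocalization.Away.algebraMap_isUnit _))

theorem appTop_nj_injective (T : Over S) [IsAffine T.left] : Function.Injective (nj T Unit).left.appTop := by
  let A := Γ(T.left, ⊤)
  letI : Algebra Lines.k.{u} A := ((Int.castRingHom A).comp (ULift.ringEquiv : Lines.k.{u} ≃+* ℤ).toRingHom).toAlgebra
  letI : Algebra Lines.k.{u} (Lines.B.{u} Unit) := (Lines.cst Unit).toAlgebra
  let f : Lines.B.{u} Unit →ₐ[Lines.k.{u}] Lines.C.{u} Unit :=
    IsScalarTower.toAlgHom Lines.k.{u} (Lines.B.{u} Unit) (Lines.C.{u} Unit)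
  -- injectivity after base change
  have hinj : Function.Injective (Algebra.TensorProduct.map (AlgHom.id Lines.k.{u} A) f) := by
    let e : Lines.B.{u} Unit ≃ₐ[Lines.k.{u}] Polynomial Lines.k.{u} :=
      AlgEquiv.ofBijective { Lines.toPoly with commutes' := fun _ => rfl }
        ⟨Lines.toPoly_injective, fun p => ⟨⟨fun _ => p, fun _ _ => rfl⟩, rfl⟩⟩
    let P := Localization.Away (Polynomial.X : Polynomial A)
    let m : Polynomial Lines.k.{u} →+* Polynomial A := Polynomial.mapRingHom (algebraMap Lines.k.{u} A)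
    let g₀ : Lines.C.{u} Unit →+* P := IsLocalization.Away.lift (Lines.s Unit)
      (g := ((algebraMap (Polynomial A) P).comp m).comp Lines.toPoly) (by
        show IsUnit (algebraMap (Polynomial A) P (Polynomial.map _ Polynomial.X))
        rw [Polynomial.map_X]
        exact IsLocalization.Away.algebraMap_isUnit _)
    have hg : ∀ r, g₀ (algebraMap Lines.k.{u} (Lines.C.{u} Unit) r) = algebraMap Lines.k.{u} P r := fun r => by
      rw [IsScalarTower.algebraMap_apply Lines.k.{u} (Lines.B.{u} Unit) (Lines.C.{u} Unit), IsLocalization.Away.lift_eq]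
      show algebraMap (Polynomial A) P (Polynomial.map _ (Polynomial.C r)) = _
      rw [Polynomial.map_C, IsScalarTower.algebraMap_apply Lines.k.{u} (Polynomial A) P]
      rfl
    let g : Lines.C.{u} Unit →ₐ[Lines.k.{u}] P := { g₀ with commutes' := hg }
    let ψ : A ⊗[Lines.k.{u}] Lines.C.{u} Unit →ₐ[Lines.k.{u}] P :=
      Algebra.TensorProduct.lift (IsScalarTower.toAlgHom Lines.k.{u} A P) g fun _ _ => Commute.all _ _
    have hcomp : ψ.comp (Algebra.TensorProduct.map (AlgHom.id Lines.k.{u} A) f) =
        ((IsScalarTower.toAlgHom Lines.k.{u} (Polynomial A) P).comp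
          (polyEquivTensor Lines.k.{u} A).symm.toAlgHom).comp
          (Algebra.TensorProduct.map (AlgHom.id Lines.k.{u} A) e.toAlgHom) := by
      refine Algebra.TensorProduct.ext' fun a v => ?_
      show algebraMap A P a * g₀ (algebraMap _ _ v) =
        algebraMap (Polynomial A) P ((polyEquivTensor Lines.k.{u} A).symm (a ⊗ₜ Lines.toPoly v))
      rw [IsLocalization.Away.lift_eq, polyEquivTensor_symm_apply_tmul_eq_smul, Polynomial.smul_eq_C_mul, map_mul,
        IsScalarTower.algebraMap_apply A (Polynomial A) P]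
      rfl
    have h2 : Function.Injective (((IsScalarTower.toAlgHom Lines.k.{u} (Polynomial A) P).comp
          (polyEquivTensor Lines.k.{u} A).symm.toAlgHom).comp
          (Algebra.TensorProduct.map (AlgHom.id Lines.k.{u} A) e.toAlgHom)) :=
      (IsLocalization.injective (M := Submonoid.powers (Polynomial.X : Polynomial A)) P
        (Submonoid.powers_le.mpr Polynomial.monic_X.mem_nonZeroDivisors)).comp
        ((polyEquivTensor Lines.k.{u} A).symm.injective.comp
          (Algebra.TensorProduct.congr AlgEquiv.refl e).injective)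
    rw [← hcomp] at h2
    exact Function.Injective.of_comp h2
  -- comparison with spectra of tensor products
  have hiso : ∀ (R : Type u) [CommRing R] [Algebra Lines.k.{u} R],
      ∃ e : Spec (CommRingCat.of (A ⊗[Lines.k.{u}] R)) ⟶ (bc T (CommRingCat.of R)).left, IsIso e ∧
        e ≫ (bcp T (CommRingCat.of R)).left =
          Spec.map (CommRingCat.ofHom Algebra.TensorProduct.includeLeftRingHom) ≫ T.left.isoSpec.inv ∧
        e ≫ bcs T (CommRingCat.of R) =
          Spec.map (CommRingCat.ofHom (Algebra.TensorProduct.includeRight (R := Lines.k.{u}) (A := A) (B := R)).toRingHom) := by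
    intro R _ _
    let e₂ : pullback (Spec.map (CommRingCat.ofHom (algebraMap Lines.k.{u} A)))
        (Spec.map (CommRingCat.ofHom (algebraMap Lines.k.{u} R))) ⟶
        pullback (specULiftZIsTerminal.from T.left) (specULiftZIsTerminal.from (Spec (CommRingCat.of R))) :=
      pullback.map _ _ _ _ T.left.isoSpec.inv (𝟙 _) (𝟙 _) (specULiftZIsTerminal.hom_ext _ _)
        (specULiftZIsTerminal.hom_ext _ _)
    have : IsIso e₂ := by
      apply +allowSynthFailures pullback.map_isIso
      exact inferInstanceAs (IsIso (𝟙 (Spec (CommRingCat.of Lines.k.{u}))))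
    refine ⟨(pullbackSpecIso Lines.k.{u} A R).inv ≫ e₂, inferInstance, ?_, ?_⟩
    · show ((pullbackSpecIso Lines.k.{u} A R).inv ≫ e₂) ≫ pullback.fst _ _ = _
      rw [Category.assoc, pullback.lift_fst, pullbackSpecIso_inv_fst_assoc]
    · show ((pullbackSpecIso Lines.k.{u} A R).inv ≫ e₂) ≫ pullback.snd _ _ = _
      rw [Category.assoc, pullback.lift_snd, Category.comp_id, pullbackSpecIso_inv_snd]
      rfl
  obtain ⟨eB, _, hB₁, hB₂⟩ := hiso (Lines.B.{u} Unit)
  obtain ⟨eC, _, hC₁, hC₂⟩ := hiso (Lines.C.{u} Unit)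
  let F := CommRingCat.ofHom (Algebra.TensorProduct.map (AlgHom.id Lines.k.{u} A) f).toRingHom
  have hsq : eC ≫ (nj T Unit).left = Spec.map F ≫ eB := by
    refine pullback.hom_ext ?_ ?_
    · have h1 : (nj T Unit).left ≫ (bcp T _).left = (bcp T _).left := by
        rw [← Over.comp_left, bcMap_bcp, Category.comp_id]
      show (eC ≫ (nj T Unit).left) ≫ (bcp T _).left = (Spec.map F ≫ eB) ≫ (bcp T _).left
      rw [Category.assoc, Category.assoc, h1, hC₁, hB₁, ← Category.assoc, ← Spec.map_comp]
      congr 2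
      ext a
      simp [F]
      rfl
    · show (eC ≫ (nj T Unit).left) ≫ bcs T _ = (Spec.map F ≫ eB) ≫ bcs T _
      rw [Category.assoc, Category.assoc, bcMap_bcs, ← Category.assoc, hC₂, hB₂, ← Spec.map_comp, ← Spec.map_comp]
      congr 1
  have hF : Function.Injective (Spec.map F).appTop := by
    intro a b hab
    apply (Scheme.ΓSpecIso _).commRingCatIsoToRingEquiv.injective
    apply hinj
    have h := Scheme.ΓSpecIso_naturality F
    have ha := ConcreteCategory.congr_hom h a
    have hb := ConcreteCategory.congr_hom h b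
    simp only [ConcreteCategory.comp_apply] at ha hb
    exact ha.symm.trans ((congrArg _ hab).trans hb)
  have h3 : Function.Injective (eC ≫ (nj T Unit).left).appTop := by
    rw [hsq, Scheme.Hom.comp_appTop]
    have : IsIso eB.appTop := inferInstanceAs (IsIso (Scheme.Γ.map eB.op))
    exact hF.comp (ConcreteCategory.bijective_of_isIso eB.appTop).1
  rw [Scheme.Hom.comp_appTop] at h3
  exact Function.Injective.of_comp h3

theorem nj_dense (T : Over S) [IsAffine T.left] (Z : Scheme.{u}) (i : Z ⟶ (nQ T Unit).left)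
    (hi : IsClosedImmersion i) (h : ∃ w : (nO T Unit).left ⟶ Z, w ≫ i = (nj T Unit).left) : IsIso i := by
  obtain ⟨w, hw⟩ := h
  have : IsAffine (nQ T Unit).left :=
    inferInstanceAs (IsAffine (pullback (specULiftZIsTerminal.from T.left) (specULiftZIsTerminal.from (Spec _))))
  have : IsAffine Z := isAffine_of_isAffineHom i
  have hb : Function.Bijective i.appTop := by
    refine ⟨fun a b hab => ?_, i.app_surjective ⊤ (isAffineOpen_top _)⟩
    apply appTop_nj_injective T
    rw [← hw, Scheme.Hom.comp_appTop, ConcreteCategory.comp_apply, ConcreteCategory.comp_apply, hab]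
  have : IsIso i.appTop := (ConcreteCategory.isIso_iff_bijective _).mpr hb
  exact (HasAffineProperty.iff_of_isAffine (P := MorphismProperty.isomorphisms Scheme.{u})).mpr ⟨‹IsAffine Z›, this⟩

end Groth.Agent.AlgStLib
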