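import Groth.Agent.AlgStLib.Clean
import Groth.Agent.AlgStLib.IsoCls
import Groth.Agent.AlgStLib.LineUniv
import Mathlib

/-!
Objects glued from the automorphisms of an object along lines through a point: automorphism groups read off from
the presheaf of isomorphism classes.
-/

set_option autoImplicit false
set_option backward.isDefEq.respectTransparency.types false

universe u

open CategoryTheory CategoryTheory.Limits CategoryTheory.Functor AlgebraicGeometry Opposite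

namespace Groth.Agent.AlgStLib

open Groth.Agent Groth.Agent.FibBasics Groth.Agent.AlgSpLib

variable {S : Scheme.{u}} {T : Over S}

/-! ### The glued scheme -/

instance isOpenImmersion_nj' (T : Over S) (I : Type) : IsOpenImmersion (nj T I).left := isOpenImmersion_nj T I

instance isOpenImmersion_eqToHom_left {A B : Over S} (h : A = B) : IsOpenImmersion (eqToHom h).left := by
  subst h; exact inferInstanceAs (IsOpenImmersion (𝟙 A.left))

/-- Two copies of the lines glued away from the point. -/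
noncomputable abbrev nP (T : Over S) (I : Type) : Over S :=
  Over.mk (pushout.desc (nQ T I).hom (nQ T I).hom (rfl : (nj T I).left ≫ (nQ T I).hom = (nj T I).left ≫ (nQ T I).hom))

/-- The charts. -/
noncomputable def pc (T : Over S) (I : Type) (b : ULift.{u} Bool) : nQ T I ⟶ nP T I :=
  bif b.down then Over.homMk (pushout.inr (nj T I).left (nj T I).left) (pushout.inr_desc _ _ _)
  else Over.homMk (pushout.inl (nj T I).left (nj T I).left) (pushout.inl_desc _ _ _)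

theorem nj_pc (T : Over S) (I : Type) (b : ULift.{u} Bool) : nj T I ≫ pc T I b = nj T I ≫ pc T I ⟨false⟩ := by
  rcases b with ⟨_ | _⟩
  · rfl
  · exact Over.OverMorphism.ext pushout.condition.symm

theorem isOpenImmersion_pc (T : Over S) (I : Type) (b : ULift.{u} Bool) : IsOpenImmersion (pc T I b).left := by
  rcases b with ⟨_ | _⟩
  · exact inferInstanceAs (IsOpenImmersion (colimit.ι (span (nj T I).left (nj T I).left) WalkingSpan.left))
  · exact inferInstanceAs (IsOpenImmersion (colimit.ι (span (nj T I).left (nj T I).left) WalkingSpan.right))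

theorem pc_cover (T : Over S) (I : Type) (w : ↥(nP T I).left) : ∃ b, w ∈ Set.range (pc T I b).left := by
  obtain ⟨k, y, hy⟩ := Scheme.IsLocallyDirected.ι_jointly_surjective (span (nj T I).left (nj T I).left) w
  rcases k with _ | _ | _
  · refine ⟨⟨false⟩, (nj T I).left y, ?_⟩
    rw [← hy, ← colimit.w (span (nj T I).left (nj T I).left) WalkingSpan.Hom.fst]
    rfl
  · exact ⟨⟨false⟩, y, hy⟩
  · exact ⟨⟨true⟩, y, hy⟩

theorem exists_factor_pc {T : Over S} {I : Type} {W : Over S} (t₀ t₁ : W ⟶ nQ T I)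
    (h : t₀ ≫ pc T I ⟨false⟩ = t₁ ≫ pc T I ⟨true⟩) : ∃ t : W ⟶ nO T I, t ≫ nj T I = t₀ ∧ t ≫ nj T I = t₁ := by
  have hsub : Set.range t₀.left ⊆ Set.range (nj T I).left := by
    rintro _ ⟨w, rfl⟩
    have h' : pushout.inl (nj T I).left (nj T I).left (t₀.left w) = pushout.inr (nj T I).left (nj T I).left (t₁.left w) :=
      congrArg (fun m : W ⟶ nP T I => m.left w) h
    obtain ⟨k, fi, fj, w', h₁, -⟩ :=
      (Scheme.IsLocallyDirected.ι_eq_ι_iff (span (nj T I).left (nj T I).left)).1 h'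
    rcases k with _ | _ | _
    · rw [Subsingleton.elim fi WalkingSpan.Hom.fst] at h₁
      exact ⟨w', h₁⟩
    · exact nomatch fj
    · exact nomatch fi
  let t : W ⟶ nO T I := Over.homMk (IsOpenImmersion.lift (nj T I).left t₀.left hsub) (by
    rw [← Over.w (nj T I), IsOpenImmersion.lift_fac_assoc]; exact Over.w t₀)
  have ht : t ≫ nj T I = t₀ := Over.OverMorphism.ext (IsOpenImmersion.lift_fac _ _ _)
  refine ⟨t, ht, ?_⟩
  have := isOpenImmersion_pc T I ⟨true⟩
  have : Mono (pc T I ⟨true⟩) := Over.mono_of_mono_left _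
  rw [← cancel_mono (pc T I ⟨true⟩), Category.assoc, nj_pc, ← Category.assoc, ht, h]

/-- The projection of the glued scheme. -/
noncomputable def pp (T : Over S) (I : Type) : nP T I ⟶ T :=
  Over.homMk (pushout.desc (bcp T _).left (bcp T _).left (rfl : (nj T I).left ≫ (bcp T _).left = (nj T I).left ≫ (bcp T _).left))
    (pushout.hom_ext
      (by show _ ≫ _ ≫ T.hom = _ ≫ pushout.desc _ _ _; rw [pushout.inl_desc_assoc, pushout.inl_desc]; rfl)
      (by show _ ≫ _ ≫ T.hom = _ ≫ pushout.desc _ _ _; rw [pushout.inr_desc_assoc, pushout.inr_desc]; rfl))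

theorem pc_pp (T : Over S) (I : Type) (b : ULift.{u} Bool) : pc T I b ≫ pp T I = bcp T _ := by
  rcases b with ⟨_ | _⟩
  · exact Over.OverMorphism.ext (pushout.inl_desc _ _ _)
  · exact Over.OverMorphism.ext (pushout.inr_desc _ _ _)

/-- Functoriality of the glued scheme in the lines. -/
noncomputable def pm (T : Over S) {I J : Type} (f : J → I) : nP T J ⟶ nP T I :=
  Over.homMk (pushout.map _ _ _ _ (nQm (𝟙 T) f).left (nQm (𝟙 T) f).left (nOm (𝟙 T) f).left
      (congrArg (fun m : nO T J ⟶ nQ T I => m.left) (nOm_nj (𝟙 T) f)).symm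
      (congrArg (fun m : nO T J ⟶ nQ T I => m.left) (nOm_nj (𝟙 T) f)).symm)
    (pushout.hom_ext
      (by
        show _ ≫ _ ≫ pushout.desc _ _ _ = _ ≫ pushout.desc _ _ _
        rw [pushout.inl_desc, pushout.inl_desc_assoc, Category.assoc, pushout.inl_desc]
        exact Over.w (nQm (𝟙 T) f))
      (by
        show _ ≫ _ ≫ pushout.desc _ _ _ = _ ≫ pushout.desc _ _ _
        rw [pushout.inr_desc, pushout.inr_desc_assoc, Category.assoc, pushout.inr_desc]
        exact Over.w (nQm (𝟙 T) f)))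

theorem pc_pm (T : Over S) {I J : Type} (f : J → I) (b : ULift.{u} Bool) :
    pc T J b ≫ pm T f = nQm (𝟙 T) f ≫ pc T I b := by
  rcases b with ⟨_ | _⟩
  · exact Over.OverMorphism.ext (pushout.inl_desc _ _ _)
  · exact Over.OverMorphism.ext (pushout.inr_desc _ _ _)

theorem pm_pp (T : Over S) {I J : Type} (f : J → I) : pm T f ≫ pp T I = pp T J := by
  refine Over.OverMorphism.ext (pushout.hom_ext ?_ ?_)
  · show (pc T J ⟨false⟩).left ≫ (pm T f ≫ pp T I).left = (pc T J ⟨false⟩).left ≫ (pp T J).left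
    rw [← Over.comp_left, ← Over.comp_left, ← Category.assoc, pc_pm, Category.assoc, pc_pp, pc_pp, bcMap_bcp,
      Category.comp_id]
  · show (pc T J ⟨true⟩).left ≫ (pm T f ≫ pp T I).left = (pc T J ⟨true⟩).left ≫ (pp T J).left
    rw [← Over.comp_left, ← Over.comp_left, ← Category.assoc, pc_pm, Category.assoc, pc_pp, pc_pp, bcMap_bcp,
      Category.comp_id]

/-! ### The objects of the slice -/

/-- The lines, in the slice over `T`. -/
noncomputable abbrev oQ (T : Over S) (I : Type) : (FibCat.overCat T).obj := Over.mk (bcp T _ : nQ T I ⟶ T)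

/-- The punctured lines, in the slice over `T`. -/
noncomputable abbrev oO (T : Over S) (I : Type) : (FibCat.overCat T).obj := Over.mk (bcp T _ : nO T I ⟶ T)

noncomputable def hj (T : Over S) (I : Type) : oO T I ⟶ oQ T I :=
  Over.homMk (nj T I) (show nj T I ≫ bcp T _ = bcp T _ by simp)

noncomputable def hq (T : Over S) {I J : Type} (f : J → I) : oQ T J ⟶ oQ T I :=
  Over.homMk (nQm (𝟙 T) f) (show nQm (𝟙 T) f ≫ bcp T _ = bcp T _ by simp)

noncomputable def ho (T : Over S) {I J : Type} (f : J → I) : oO T J ⟶ oO T I :=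
  Over.homMk (nOm (𝟙 T) f) (show nOm (𝟙 T) f ≫ bcp T _ = bcp T _ by simp)

noncomputable def hr (T : Over S) {I : Type} [DecidableEq I] (i : I) : oQ T I ⟶ oQ T Unit :=
  Over.homMk (nretr T i) (show nretr T i ≫ bcp T _ = bcp T _ by simp)

noncomputable def hpt (T : Over S) : one T ⟶ oQ T Unit := Over.homMk (npt T) (show npt T ≫ bcp T _ = 𝟙 T by simp)

theorem ho_hj {I J : Type} (f : J → I) : ho T f ≫ hj T I = hj T J ≫ hq T f :=
  Over.OverMorphism.ext (nOm_nj (𝟙 T) f)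

theorem hq_comp {I J K : Type} (f : J → I) (f' : K → J) : hq T f' ≫ hq T f = hq T (f ∘ f') :=
  Over.OverMorphism.ext ((nQm_comp _ _ f f').trans (by rw [Category.id_comp]; rfl))

theorem ho_comp {I J K : Type} (f : J → I) (f' : K → J) : ho T f' ≫ ho T f = ho T (f ∘ f') :=
  Over.OverMorphism.ext ((nOm_comp _ _ f f').trans (by rw [Category.id_comp]; rfl))

theorem line_hr_self {I : Type} [DecidableEq I] (i : I) : hq T (fun _ : Unit => i) ≫ hr T i = 𝟙 _ :=
  Over.OverMorphism.ext (line_nretr T i)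

theorem line_hr_ne {I : Type} [DecidableEq I] {i m : I} (h : m ≠ i) :
    hq T (fun _ : Unit => m) ≫ hr T i = toOne (oQ T Unit) ≫ hpt T :=
  Over.OverMorphism.ext (line_nretr_ne T h)

theorem hpt_line {I : Type} (i m : I) : hpt T ≫ hq T (fun _ : Unit => i) = hpt T ≫ hq T fun _ : Unit => m :=
  Over.OverMorphism.ext (npt_line T i m)

/-! ### Pullback of automorphisms -/

variable {𝒳 : AlgSt.Cat S} (hp : FibCat.IsFibGrpd 𝒳.p) (G : FibCat.overCat T ⥤ᵇ 𝒳)

/-- Pullback of automorphisms along a morphism of the slice. -/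
noncomputable def resA {g g' : (FibCat.overCat T).obj} (h : g ⟶ g') :
    Gerb.AutO (G.obj g') →* Gerb.AutO (G.obj g) where
  toFun a := (exists_conj hp (G.map h) a).choose
  map_one' := conj_unique hp (G.map h) (exists_conj hp (G.map h) 1).choose_spec (Conj.one _)
  map_mul' a b := conj_unique hp (G.map h) (exists_conj hp (G.map h) (a * b)).choose_spec
    ((exists_conj hp (G.map h) a).choose_spec.mul (exists_conj hp (G.map h) b).choose_spec)

theorem resA_conj {g g' : (FibCat.overCat T).obj} (h : g ⟶ g') (a : Gerb.AutO (G.obj g')) :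
    Conj (G.map h) (resA hp G h a) a := (exists_conj hp (G.map h) a).choose_spec

theorem resA_eq {g g' : (FibCat.overCat T).obj} {h : g ⟶ g'} {a : Gerb.AutO (G.obj g')} {b : Gerb.AutO (G.obj g)}
    (e : Conj (G.map h) b a) : resA hp G h a = b := conj_unique hp _ (resA_conj hp G h a) e

theorem resA_comp {g g' g'' : (FibCat.overCat T).obj} (h : g ⟶ g') (h' : g' ⟶ g'') (a : Gerb.AutO (G.obj g'')) :
    resA hp G h (resA hp G h' a) = resA hp G (h ≫ h') a :=
  (resA_eq hp G (conj_congr (G.toFunctor.map_comp h h').symm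
    ((resA_conj hp G h _).trans (resA_conj hp G h' a)))).symm

theorem resA_id {g : (FibCat.overCat T).obj} (a : Gerb.AutO (G.obj g)) : resA hp G (𝟙 g) a = a :=
  conj_id_eq hp (G.toFunctor.map_id g) (resA_conj hp G (𝟙 g) a)

include hp in
theorem hom_ext_lift {R U : Over S} (g : R ⟶ U) {a b c : 𝒳.obj} {e : b ⟶ c} (he : 𝒳.p.IsHomLift g e)
    {φ ψ : a ⟶ b} (hφ : 𝒳.p.IsHomLift (𝟙 R) φ) (hψ : 𝒳.p.IsHomLift (𝟙 R) ψ) (h : φ ≫ e = ψ ≫ e) : φ = ψ := by
  have := stronglyCartesian_of_isFibGrpd 𝒳.p hp g e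
  exact IsCartesian.ext 𝒳.p g e φ ψ h

theorem autO_isEmpty (hst : Stk.IsStack (QuotSh.J Scheme.fppfPrecoverage S) 𝒳) {g : (FibCat.overCat T).obj}
    (h : IsEmpty ((FibCat.overCat T).p.obj g).left) : Subsingleton (Gerb.AutO (G.obj g)) :=
  subsingleton_autO_of_isEmpty hst _ (by rw [G.w_obj]; exact h)

theorem map_hom_eq_of_map {g g' : (FibCat.overCat T).obj} (k : g ⟶ g') :
    𝒳.p.map (G.map k) = eqToHom (G.w_obj g) ≫ (FibCat.overCat T).p.map k ≫ eqToHom (G.w_obj g').symm := by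
  have := based_lift G k
  exact IsHomLift.fac' 𝒳.p _ (G.map k)

theorem lift_comp {R U V : Over S} {f : R ⟶ U} {g : U ⟶ V} {a b c : 𝒳.obj} {φ : a ⟶ b} {ψ : b ⟶ c}
    (h₁ : 𝒳.p.IsHomLift f φ) (h₂ : 𝒳.p.IsHomLift g ψ) : 𝒳.p.IsHomLift (f ≫ g) (φ ≫ ψ) := inferInstance

theorem lift_id_comp' {R U : Over S} {f : R ⟶ U} {a b c : 𝒳.obj} {φ : a ⟶ b} {ψ : b ⟶ c}
    (h₁ : 𝒳.p.IsHomLift (𝟙 R) φ) (h₂ : 𝒳.p.IsHomLift f ψ) : 𝒳.p.IsHomLift f (φ ≫ ψ) := by
  have h := lift_comp h₁ h₂; rwa [Category.id_comp] at h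

/-- Gluing of automorphisms along disjoint open pieces. -/
theorem existsUnique_resA_glue (hst : Stk.IsStack (QuotSh.J Scheme.fppfPrecoverage S) 𝒳) {I : Type}
    {g : (FibCat.overCat T).obj} {w : I → (FibCat.overCat T).obj} (o : ∀ i, w i ⟶ g)
    (ho : ∀ i, IsOpenImmersion ((FibCat.overCat T).p.map (o i)).left)
    (hcov : ∀ y : ↥((FibCat.overCat T).p.obj g).left, ∃ i, y ∈ Set.range ((FibCat.overCat T).p.map (o i)).left)
    (hdisj : ∀ i i', i ≠ i' → ∀ (W : Over S) (a : W ⟶ (FibCat.overCat T).p.obj (w i))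
      (b : W ⟶ (FibCat.overCat T).p.obj (w i')),
      a ≫ (FibCat.overCat T).p.map (o i) = b ≫ (FibCat.overCat T).p.map (o i') → IsEmpty W.left)
    (v : ∀ i, Gerb.AutO (G.obj (w i))) : ∃! a : Gerb.AutO (G.obj g), ∀ i, resA hst.1 G (o i) a = v i := by
  classical
  let o' : ∀ i, 𝒳.p.obj (G.obj (w i)) ⟶ 𝒳.p.obj (G.obj g) := fun i => 𝒳.p.map (G.map (o i))
  have ho' : ∀ i, IsOpenImmersion (o' i).left := fun i => by
    have h : o' i = _ := map_hom_eq_of_map G (o i)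
    rw [h, Over.comp_left, Over.comp_left]
    have := ho i
    infer_instance
  have hcov' : ∀ y : ↥(𝒳.p.obj (G.obj g)).left, ∃ i, y ∈ Set.range (o' i).left := fun y => by
    obtain ⟨i, y', hy'⟩ := hcov ((eqToHom (G.w_obj g)).left y)
    refine ⟨i, (eqToHom (G.w_obj (w i)).symm).left y', ?_⟩
    rw [show o' i = _ from map_hom_eq_of_map G (o i), ← Scheme.Hom.comp_apply, ← Over.comp_left, eqToHom_trans_assoc,
      eqToHom_refl, Category.id_comp, Over.comp_left, Scheme.Hom.comp_apply, hy', ← Scheme.Hom.comp_apply,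
      ← Over.comp_left, eqToHom_trans, eqToHom_refl]
    rfl
  have hmono : ∀ i, Mono (o' i) := fun i => have := ho' i; Over.mono_of_mono_left _
  have hex : ∀ {z' : 𝒳.obj} (φ : z' ⟶ G.obj g), Sieve.ofArrows _ o' (𝒳.p.map φ) →
      ∃ i, ∃ χ : z' ⟶ G.obj (w i), χ ≫ G.map (o i) = φ := fun {z'} φ hφ => by
    obtain ⟨i, t, ht⟩ := (Sieve.mem_ofArrows_iff _ _ _).1 hφ
    have := hst.1.isStronglyCartesian (G.map (o i))
    have : 𝒳.p.IsHomLift (t ≫ o' i) φ := ht ▸ IsHomLift.map 𝒳.p φ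
    exact ⟨i, IsStronglyCartesian.map 𝒳.p (o' i) (G.map (o i)) (rfl : t ≫ o' i = t ≫ o' i) φ,
      IsStronglyCartesian.fac 𝒳.p (o' i) (G.map (o i)) (rfl : t ≫ o' i = t ≫ o' i) φ⟩
  have key : ∀ {z' : 𝒳.obj} {i i' : I} (χ : z' ⟶ G.obj (w i)) (χ' : z' ⟶ G.obj (w i')),
      χ ≫ G.map (o i) = χ' ≫ G.map (o i') → ∀ b : Gerb.AutO z', Conj χ b (v i) → Conj χ' b (v i') := by
    intro z' i i' χ χ' e b hb
    have hb' := congrArg 𝒳.p.map e
    rw [𝒳.p.map_comp, 𝒳.p.map_comp] at hb'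
    by_cases hi : i = i'
    · subst hi
      have hχ : χ = χ' := by
        have := hst.1.isStronglyCartesian (G.map (o i))
        have e' : 𝒳.p.map χ = 𝒳.p.map χ' := (cancel_mono (o' i)).1 hb'
        have : 𝒳.p.IsHomLift (𝒳.p.map χ) χ' := e' ▸ IsHomLift.map 𝒳.p χ'
        exact IsStronglyCartesian.ext 𝒳.p (o' i) (G.map (o i)) (g := 𝒳.p.map χ) e
      exact hχ ▸ hb
    · have : Subsingleton (Gerb.AutO z') := by
        refine subsingleton_autO_of_isEmpty hst z' (hdisj i i' hi _ (𝒳.p.map χ ≫ eqToHom (G.w_obj (w i)))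
          (𝒳.p.map χ' ≫ eqToHom (G.w_obj (w i'))) ?_)
        rw [map_hom_eq_of_map G (o i), map_hom_eq_of_map G (o i')] at hb'
        simpa only [Category.assoc, cancel_mono, ← reassoc_of% hb', eqToHom_trans, eqToHom_refl,
          Category.comp_id] using congrArg (· ≫ eqToHom (G.w_obj g)) hb'
      obtain ⟨b', hb''⟩ := exists_conj hst.1 χ' (v i')
      rw [Subsingleton.elim b b']
      exact hb''
  let β : ∀ {z' : 𝒳.obj} (φ : z' ⟶ G.obj g), Sieve.ofArrows _ o' (𝒳.p.map φ) → Gerb.AutO z' := fun φ h =>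
    (exists_conj hst.1 (hex φ h).choose_spec.choose (v (hex φ h).choose)).choose
  have hβ : ∀ {z' : 𝒳.obj} (φ : z' ⟶ G.obj g) (h : Sieve.ofArrows _ o' (𝒳.p.map φ)) (i : I)
      (χ : z' ⟶ G.obj (w i)), χ ≫ G.map (o i) = φ → Conj χ (β φ h) (v i) := fun φ h i χ e =>
    key _ χ ((hex φ h).choose_spec.choose_spec.trans e.symm) _
      (exists_conj hst.1 (hex φ h).choose_spec.choose (v (hex φ h).choose)).choose_spec
  obtain ⟨a, ha, hu⟩ := existsUnique_aut_glue _ hst (G.obj g) (Sieve.ofArrows _ o')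
    (ofArrows_mem_of_openCover o' ho' hcov') β (fun {z'' z'} ψ φ h h' => by
      obtain ⟨i, χ, hχ⟩ := hex φ h
      exact conj_cancel hst.1 (hβ φ h i χ hχ) (hβ _ h' i (ψ ≫ χ) (by rw [Category.assoc, hχ])))
  have hmem : ∀ i, Sieve.ofArrows _ o' (𝒳.p.map (G.map (o i))) := fun i =>
    (Sieve.mem_ofArrows_iff _ _ _).2 ⟨i, 𝟙 _, (Category.id_comp _).symm⟩
  have hβi : ∀ i, β (G.map (o i)) (hmem i) = v i := fun i =>
    conj_id_eq hst.1 rfl (hβ _ (hmem i) i (𝟙 _) (Category.id_comp _))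
  refine ⟨a, fun i => resA_eq hst.1 G (hβi i ▸ ha (G.map (o i)) (hmem i)), fun a' ha' => ?_⟩
  refine hu a' fun {z'} φ h => ?_
  obtain ⟨i, χ, hχ⟩ := hex φ h
  exact conj_congr hχ ((hβ φ h i χ hχ).trans (ha' i ▸ resA_conj hst.1 G (o i) a'))

theorem existsUnique_pieces (hst : Stk.IsStack (QuotSh.J Scheme.fppfPrecoverage S) 𝒳) {I : Type} [Fintype I]
    [DecidableEq I] (v : I → Gerb.AutO (G.obj (oO T Unit))) :
    ∃! c : Gerb.AutO (G.obj (oO T I)), ∀ i, resA hst.1 G (ho T fun _ : Unit => i) c = v i :=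
  existsUnique_resA_glue G hst (fun i => ho T fun _ : Unit => i) (fun i => isOpenImmersion_npc T i)
    (fun y => npc_cover T y) (fun _ _ hne _ a b e => npc_disjoint T hne a b e) v

theorem isPullback_bcp {T' : Over S} (g : T' ⟶ T) (R : CommRingCat.{u}) :
    IsPullback (bcMap g (𝟙 R)).left (bcp T' R).left (bcp T R).left g.left := by
  refine IsPullback.of_right ?_ (congrArg (fun m : bc T' R ⟶ T => m.left) (bcMap_bcp g (𝟙 R)))
    (IsPullback.of_hasPullback (specULiftZIsTerminal.from T.left) (specULiftZIsTerminal.from (Spec R))).flip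
  rw [show (bcMap g (𝟙 R)).left ≫ pullback.snd _ _ = pullback.snd _ _ by
      rw [show (bcMap g (𝟙 R)).left ≫ pullback.snd _ _ = _ from bcMap_bcs g (𝟙 R), Spec.map_id]; exact Category.comp_id _,
    specULiftZIsTerminal.hom_ext (g.left ≫ specULiftZIsTerminal.from T.left) (specULiftZIsTerminal.from T'.left)]
  exact (IsPullback.of_hasPullback _ _).flip

/-- Automorphisms over the line are determined away from the point. -/
theorem resA_hj_injective (hst : Stk.IsStack (QuotSh.J Scheme.fppfPrecoverage S) 𝒳)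
    (hd : AlgSt.RepByAlgSpWith AlgSp.IsSeparatedMor (FibCat.diag (FibCat.toSelf 𝒳))) :
    Function.Injective (resA hst.1 G (hj T Unit)) := by
  rw [injective_iff_map_eq_one]
  intro a ha
  have hp := hst.1
  let 𝒰 := T.left.affineCover
  let U : 𝒰.I₀ → Over S := fun i => Over.mk (𝒰.f i ≫ T.hom)
  let ι : ∀ i, U i ⟶ T := fun i => Over.homMk (𝒰.f i) rfl
  have hUa : ∀ i, IsAffine (U i).left := fun i => inferInstanceAs (IsAffine (𝒰.X i))
  let gU : 𝒰.I₀ → (FibCat.overCat T).obj := fun i => Over.mk (bcMap (ι i) (𝟙 _) ≫ bcp T _ : nQ (U i) Unit ⟶ T)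
  let m : ∀ i, gU i ⟶ oQ T Unit := fun i => Over.homMk (bcMap (ι i) (𝟙 _)) rfl
  have h1 : ∀ i, resA hp G (m i) a = 1 := fun i => by
    have := hUa i
    let GLin := BasedFunctor.comp (AlgSt.overMap (hm (gU i))) G
    let v : (Over.map (hm (gU i))).obj (one (nQ (U i) Unit)) ⟶ oQ T Unit :=
      Over.homMk (bcMap (ι i) (𝟙 _)) (Category.id_comp _).symm
    have h2 : resA hp G v a = 1 := by
      refine aut_eq_one_of_dense hd GLin (nj (U i) Unit) (fun Z i' hi hk => nj_dense (U i) Z i' hi hk) _ ?_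
      let w : (Over.map (hm (gU i))).obj (Over.mk (nj (U i) Unit) : (FibCat.overCat (nQ (U i) Unit)).obj) ⟶ oO T Unit :=
        Over.homMk (bcMap (ι i) (𝟙 _)) (show bcMap (ι i) (𝟙 _) ≫ bcp T _ = nj (U i) Unit ≫ bcMap (ι i) (𝟙 _) ≫ bcp T _ by
          simp)
      have e : (Over.map (hm (gU i))).map (toOne (Over.mk (nj (U i) Unit) : (FibCat.overCat (nQ (U i) Unit)).obj)) ≫ v
          = w ≫ hj T Unit := by
        refine Over.OverMorphism.ext ?_
        show nj (U i) Unit ≫ bcMap (ι i) (𝟙 _) = bcMap (ι i) (𝟙 _) ≫ nj T Unit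
        rw [bcMap_comp, bcMap_comp]
        simp
      have h3 : resA hp G ((Over.map (hm (gU i))).map
          (toOne (Over.mk (nj (U i) Unit) : (FibCat.overCat (nQ (U i) Unit)).obj))) (resA hp G v a) = 1 := by
        refine ((resA_comp hp G _ _ a).trans (congrArg (fun h => resA hp G h a) e)).trans ?_
        exact (resA_comp hp G w (hj T Unit) a).symm.trans ((congrArg (resA hp G w) ha).trans (map_one _))
      have h4 := resA_conj hp G ((Over.map (hm (gU i))).map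
          (toOne (Over.mk (nj (U i) Unit) : (FibCat.overCat (nQ (U i) Unit)).obj))) (resA hp G v a)
      rw [h3] at h4
      exact h4.symm.trans (Category.id_comp _)
    let v' : gU i ⟶ (Over.map (hm (gU i))).obj (one (nQ (U i) Unit)) :=
      Over.homMk (𝟙 _) (show 𝟙 _ ≫ 𝟙 _ ≫ hm (gU i) = hm (gU i) by simp)
    rw [show m i = v' ≫ v from Over.OverMorphism.ext (Category.id_comp _).symm, ← resA_comp, h2, map_one]
  have hid : ∀ (i : 𝒰.I₀) (z : 𝒳.obj) (φ : z ⟶ G.obj (gU i)) (b : Gerb.AutO (G.obj (oQ T Unit))),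
      resA hp G (m i) b = 1 → Conj (φ ≫ G.map (m i)) 1 b := fun i z φ b hb =>
    (Conj.one φ).trans (hb ▸ resA_conj hp G (m i) b)
  let c : ∀ i, 𝒳.p.obj (G.obj (gU i)) ⟶ 𝒳.p.obj (G.obj (oQ T Unit)) := fun i => 𝒳.p.map (G.map (m i))
  have hc : ∀ i, IsOpenImmersion (c i).left := fun i => by
    have h : c i = _ := map_hom_eq_of_map G (m i)
    rw [h, Over.comp_left, Over.comp_left]
    have hop : IsOpenImmersion (ι i).left := inferInstanceAs (IsOpenImmersion (𝒰.f i))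
    have : IsOpenImmersion (bcMap (ι i) (𝟙 _) : nQ (U i) Unit ⟶ nQ T Unit).left :=
      MorphismProperty.of_isPullback (isPullback_bcp (ι i) _).flip hop
    have : IsOpenImmersion ((FibCat.overCat T).p.map (m i)).left := this
    infer_instance
  have hcov : ∀ y : ↥(𝒳.p.obj (G.obj (oQ T Unit))).left, ∃ i, y ∈ Set.range (c i).left := fun y => by
    let y₁ : ↥(nQ T Unit).left := (eqToHom (G.w_obj (oQ T Unit))).left y
    obtain ⟨i, w, hw⟩ := 𝒰.exists_eq ((bcp T _).left y₁)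
    obtain ⟨y', hy', -⟩ := exists_point_pullback (isPullback_bcp (ι i) (CommRingCat.of (Lines.B.{u} Unit)))
      (x₁ := y₁) (x₂ := w) hw.symm
    refine ⟨i, (eqToHom (G.w_obj (gU i)).symm).left y', ?_⟩
    rw [show c i = _ from map_hom_eq_of_map G (m i), ← Scheme.Hom.comp_apply, ← Over.comp_left, eqToHom_trans_assoc,
      eqToHom_refl, Category.id_comp, Over.comp_left, Scheme.Hom.comp_apply]
    erw [hy']
    rw [← Scheme.Hom.comp_apply, ← Over.comp_left, eqToHom_trans, eqToHom_refl]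
    rfl
  obtain ⟨a₀, -, hu⟩ := existsUnique_aut_glue _ hst (G.obj (oQ T Unit)) (Sieve.ofArrows _ c)
    (ofArrows_mem_of_openCover c hc hcov) (fun _ _ => 1) (fun ψ _ _ _ => Conj.one ψ)
  refine (hu a fun {z'} φ hφ => ?_).trans (hu 1 fun φ _ => Conj.one φ).symm
  obtain ⟨i, t, ht⟩ := (Sieve.mem_ofArrows_iff _ _ _).1 hφ
  have := hp.isStronglyCartesian (G.map (m i))
  have : 𝒳.p.IsHomLift (t ≫ c i) φ := ht ▸ IsHomLift.map 𝒳.p φ
  exact conj_congr (IsStronglyCartesian.fac 𝒳.p (c i) (G.map (m i)) (rfl : t ≫ c i = t ≫ c i) φ)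
    (hid i _ (IsStronglyCartesian.map 𝒳.p (c i) (G.map (m i)) (rfl : t ≫ c i = t ≫ c i) φ) a (h1 i))

/-! ### Objects glued from two charts -/

/-- `z` is glued from two pullbacks along the automorphism `c`. -/
def Tw {I : Type} (c : Gerb.AutO (G.obj (oO T I))) (z : 𝒳.p.Fiber (nP T I)) : Prop :=
  ∃ e : ULift.{u} Bool → (G.obj (oQ T I) ⟶ z.1), (∀ b, 𝒳.p.IsHomLift (pc T I b) (e b)) ∧
    G.map (hj T I) ≫ e ⟨true⟩ = c.hom.1 ≫ G.map (hj T I) ≫ e ⟨false⟩

theorem lift_hj_comp {I : Type} {z : 𝒳.obj} (b : ULift.{u} Bool) (e : G.obj (oQ T I) ⟶ z)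
    (he : 𝒳.p.IsHomLift (pc T I b) e) : 𝒳.p.IsHomLift (nj T I ≫ pc T I ⟨false⟩) (G.map (hj T I) ≫ e) := by
  have : 𝒳.p.IsHomLift (nj T I) (G.map (hj T I)) := based_lift G (hj T I)
  rw [← nj_pc T I b]
  infer_instance

include hp in
theorem exists_tw {I : Type} (z : 𝒳.p.Fiber (nP T I))
    (h : ∀ b, ∃ e : G.obj (oQ T I) ⟶ z.1, 𝒳.p.IsHomLift (pc T I b) e) : ∃ c, Tw G c z := by
  choose e he using h
  have h0 := lift_hj_comp G _ _ (he ⟨false⟩)
  have := lift_hj_comp G _ _ (he ⟨true⟩)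
  have := stronglyCartesian_of_isFibGrpd 𝒳.p hp (nj T I ≫ pc T I ⟨false⟩) (G.map (hj T I) ≫ e ⟨false⟩)
  let u := IsCartesian.map 𝒳.p (nj T I ≫ pc T I ⟨false⟩) (G.map (hj T I) ≫ e ⟨false⟩) (G.map (hj T I) ≫ e ⟨true⟩)
  have hu : 𝒳.p.IsHomLift (𝟙 (nO T I)) u := inferInstance
  obtain ⟨c, hc⟩ := exists_autO hp (G.w_obj (oO T I)) u hu
  exact ⟨c, e, he, by rw [hc]; exact (IsCartesian.fac 𝒳.p _ _ _).symm⟩

/-- The automorphism of a glued object up to the automorphisms of the charts. -/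
theorem Tw.rel (hp : FibCat.IsFibGrpd 𝒳.p) {I : Type} {c c' : Gerb.AutO (G.obj (oO T I))}
    {z z' : 𝒳.p.Fiber (nP T I)} (h : Tw G c z) (h' : Tw G c' z') (i : z' ≅ z) :
    ∃ u₀ u₁ : Gerb.AutO (G.obj (oQ T I)),
      c' = (resA hp G (hj T I) u₀)⁻¹ * c * resA hp G (hj T I) u₁ := by
  obtain ⟨e, he, hec⟩ := h
  obtain ⟨e', he', hec'⟩ := h'
  have hu : ∀ b, ∃ u : Gerb.AutO (G.obj (oQ T I)), e' b ≫ i.hom.1 = u.hom.1 ≫ e b := fun b => by
    have := he b
    have := he' b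
    have : 𝒳.p.IsHomLift (𝟙 (nP T I)) i.hom.1 := i.hom.2
    have := stronglyCartesian_of_isFibGrpd 𝒳.p hp (pc T I b) (e b)
    have h1 : 𝒳.p.IsHomLift (pc T I b) (e' b ≫ i.hom.1) := by
      have h := (inferInstance : 𝒳.p.IsHomLift (pc T I b ≫ 𝟙 _) (e' b ≫ i.hom.1))
      rwa [Category.comp_id] at h
    obtain ⟨u, hu⟩ := exists_autO hp (T := nQ T I) (G.w_obj (oQ T I)) (IsCartesian.map 𝒳.p (pc T I b) (e b) (e' b ≫ i.hom.1))
      inferInstance
    exact ⟨u, by rw [hu]; exact (IsCartesian.fac 𝒳.p _ _ _).symm⟩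
  choose u hu using hu
  refine ⟨u ⟨false⟩, u ⟨true⟩, ?_⟩
  have hr : ∀ b, G.map (hj T I) ≫ (u b).hom.1 = (resA hp G (hj T I) (u b)).hom.1 ≫ G.map (hj T I) := fun b =>
    (resA_conj hp G (hj T I) (u b)).symm
  have key : c * resA hp G (hj T I) (u ⟨true⟩) = resA hp G (hj T I) (u ⟨false⟩) * c' := by
    refine autO_ext (hom_ext_lift hp _ (lift_hj_comp G _ _ (he ⟨false⟩)) (aut_lift (G.w_obj (oO T I)) _)
      (aut_lift (G.w_obj (oO T I)) _) ?_)
    show ((resA hp G (hj T I) (u ⟨true⟩)).hom.1 ≫ c.hom.1) ≫ G.map (hj T I) ≫ e ⟨false⟩ =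
      (c'.hom.1 ≫ (resA hp G (hj T I) (u ⟨false⟩)).hom.1) ≫ G.map (hj T I) ≫ e ⟨false⟩
    calc ((resA hp G (hj T I) (u ⟨true⟩)).hom.1 ≫ c.hom.1) ≫ G.map (hj T I) ≫ e ⟨false⟩
        = ((resA hp G (hj T I) (u ⟨true⟩)).hom.1 ≫ G.map (hj T I)) ≫ e ⟨true⟩ := by
          erw [Category.assoc, ← hec, Category.assoc]
      _ = G.map (hj T I) ≫ e' ⟨true⟩ ≫ i.hom.1 := by erw [← hr, Category.assoc, hu]
      _ = (c'.hom.1 ≫ G.map (hj T I) ≫ e' ⟨false⟩) ≫ i.hom.1 := by erw [← Category.assoc, hec']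
      _ = _ := by
          erw [Category.assoc, Category.assoc, hu, ← Category.assoc (G.map (hj T I)), hr, Category.assoc,
            Category.assoc]
  rw [mul_assoc, key, inv_mul_cancel_left]

theorem Tw.change (hp : FibCat.IsFibGrpd 𝒳.p) {I : Type} {c : Gerb.AutO (G.obj (oO T I))} {z : 𝒳.p.Fiber (nP T I)}
    (h : Tw G c z) (u₀ u₁ : Gerb.AutO (G.obj (oQ T I))) :
    Tw G ((resA hp G (hj T I) u₀)⁻¹ * c * resA hp G (hj T I) u₁) z := by
  obtain ⟨e, he, hec⟩ := h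
  let u : ULift.{u} Bool → Gerb.AutO (G.obj (oQ T I)) := fun b => bif b.down then u₁ else u₀
  refine ⟨fun b => (u b).hom.1 ≫ e b, fun b => ?_, ?_⟩
  · have : 𝒳.p.IsHomLift (𝟙 (nQ T I)) (u b).hom.1 := aut_lift (G.w_obj (oQ T I)) (u b)
    have := he b
    have h := (inferInstance : 𝒳.p.IsHomLift (𝟙 (nQ T I) ≫ pc T I b) ((u b).hom.1 ≫ e b))
    rwa [Category.id_comp] at h
  · let r₀ := resA hp G (hj T I) u₀
    let r₁ := resA hp G (hj T I) u₁
    show G.map (hj T I) ≫ u₁.hom.1 ≫ e ⟨true⟩ = (r₁.hom.1 ≫ c.hom.1 ≫ r₀.inv.1) ≫ G.map (hj T I) ≫ u₀.hom.1 ≫ e ⟨false⟩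
    have h₀ : r₀.hom.1 ≫ G.map (hj T I) = G.map (hj T I) ≫ u₀.hom.1 := resA_conj hp G (hj T I) u₀
    have h₁ : r₁.hom.1 ≫ G.map (hj T I) = G.map (hj T I) ≫ u₁.hom.1 := resA_conj hp G (hj T I) u₁
    calc G.map (hj T I) ≫ u₁.hom.1 ≫ e ⟨true⟩
        = r₁.hom.1 ≫ c.hom.1 ≫ G.map (hj T I) ≫ e ⟨false⟩ := by
          erw [← Category.assoc, ← h₁, Category.assoc, hec]
      _ = r₁.hom.1 ≫ c.hom.1 ≫ (r₀.inv.1 ≫ r₀.hom.1) ≫ G.map (hj T I) ≫ e ⟨false⟩ := by
          erw [aut_inv_hom, Category.id_comp]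
      _ = (r₁.hom.1 ≫ c.hom.1 ≫ r₀.inv.1) ≫ G.map (hj T I) ≫ u₀.hom.1 ≫ e ⟨false⟩ := by
          erw [← Category.assoc (G.map (hj T I)), ← h₀]
          simp only [Category.assoc]

/-- Restriction of glued objects. -/
theorem Tw.restrict (hp : FibCat.IsFibGrpd 𝒳.p) {I J : Type} (f : J → I) {c : Gerb.AutO (G.obj (oO T I))}
    {z : 𝒳.p.Fiber (nP T I)} (h : Tw G c z) {z' : 𝒳.p.Fiber (nP T J)} (m : z'.1 ⟶ z.1)
    (hm' : 𝒳.p.IsHomLift (pm T f) m) : Tw G (resA hp G (ho T f) c) z' := by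
  obtain ⟨e, he, hec⟩ := h
  have := stronglyCartesian_of_isFibGrpd 𝒳.p hp (pm T f) m
  have hl : ∀ b, 𝒳.p.IsHomLift (pc T J b ≫ pm T f) (G.map (hq T f) ≫ e b) := fun b => by
    have : 𝒳.p.IsHomLift (nQm (𝟙 T) f) (G.map (hq T f)) := based_lift G (hq T f)
    have := he b
    rw [pc_pm]
    infer_instance
  let e' : ∀ b, G.obj (oQ T J) ⟶ z'.1 := fun b =>
    IsStronglyCartesian.map 𝒳.p (pm T f) m (rfl : pc T J b ≫ pm T f = pc T J b ≫ pm T f) (φ' := G.map (hq T f) ≫ e b)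
  have hf : ∀ b, e' b ≫ m = G.map (hq T f) ≫ e b := fun b => IsStronglyCartesian.fac 𝒳.p _ _ _ _
  have he' : ∀ b, 𝒳.p.IsHomLift (pc T J b) (e' b) := fun b => inferInstance
  refine ⟨e', he', ?_⟩
  have hl0 := lift_hj_comp G _ _ (he' ⟨false⟩)
  have : 𝒳.p.IsHomLift (𝟙 (nO T J)) (resA hp G (ho T f) c).hom.1 := aut_lift (G.w_obj (oO T J)) (resA hp G (ho T f) c)
  have hl1 : 𝒳.p.IsHomLift (nj T J ≫ pc T J ⟨false⟩) ((resA hp G (ho T f) c).hom.1 ≫ G.map (hj T J) ≫ e' ⟨false⟩) := by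
    have h := (inferInstance : 𝒳.p.IsHomLift (𝟙 (nO T J) ≫ nj T J ≫ pc T J ⟨false⟩)
      ((resA hp G (ho T f) c).hom.1 ≫ G.map (hj T J) ≫ e' ⟨false⟩))
    rwa [Category.id_comp] at h
  have := lift_hj_comp G _ _ (he' ⟨true⟩)
  refine IsStronglyCartesian.ext 𝒳.p (pm T f) m (g := nj T J ≫ pc T J ⟨false⟩) ?_
  have hsq : G.map (hj T J) ≫ G.map (hq T f) = G.map (ho T f) ≫ G.map (hj T I) :=
    ((G.toFunctor.map_comp _ _).symm.trans (congrArg G.map (ho_hj f).symm)).trans (G.toFunctor.map_comp _ _)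
  calc (G.map (hj T J) ≫ e' ⟨true⟩) ≫ m = (G.map (ho T f) ≫ G.map (hj T I)) ≫ e ⟨true⟩ := by
        erw [Category.assoc, hf, ← Category.assoc, hsq]
    _ = (G.map (ho T f) ≫ c.hom.1) ≫ G.map (hj T I) ≫ e ⟨false⟩ := by erw [Category.assoc, hec, ← Category.assoc]
    _ = ((resA hp G (ho T f) c).hom.1 ≫ G.map (ho T f)) ≫ G.map (hj T I) ≫ e ⟨false⟩ :=
        congrArg (· ≫ _) (resA_conj hp G (ho T f) c).symm
    _ = ((resA hp G (ho T f) c).hom.1 ≫ G.map (hj T J) ≫ e' ⟨false⟩) ≫ m := by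
        erw [Category.assoc, Category.assoc, Category.assoc, hf, ← Category.assoc (G.map (hj T J)), hsq]
        simp only [Category.assoc]

/-- Twisting by a cocycle on an open covering. -/
theorem exists_twisted (hst : Stk.IsStack (QuotSh.J Scheme.fppfPrecoverage S) 𝒳)
    {P : Over S} {I : Type u} {Q : I → Over S} (c : ∀ i, Q i ⟶ P) (hc : ∀ i, IsOpenImmersion (c i).left)
    (hcov : ∀ z : ↥P.left, ∃ i, z ∈ Set.range (c i).left) (G : FibCat.overCat P ⥤ᵇ 𝒳)
    (K : ∀ g : (FibCat.overCat P).obj, I → I → Gerb.AutO (G.obj g))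
    (hK1 : ∀ g i, K g i i = 1) (hK2 : ∀ g i j k, K g j k * K g i j = K g i k)
    (hKn : ∀ {g g' : (FibCat.overCat P).obj} (h : g ⟶ g') (i j : I), Valid c i g' → Valid c j g' →
      Conj (G.map h) (K g i j) (K g' i j)) :
    ∃ (z : 𝒳.p.Fiber P) (e : ∀ i, G.obj (Over.mk (c i)) ⟶ z.1), (∀ i, 𝒳.p.IsHomLift (c i) (e i)) ∧
      ∀ (g : (FibCat.overCat P).obj) (i j : I) (ti : g ⟶ Over.mk (c i)) (tj : g ⟶ Over.mk (c j)),
        G.map ti ≫ e i = (K g i j).hom.1 ≫ G.map tj ≫ e j := by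
  have hp := hst.1
  let R := Sieve.ofArrows Q c
  have hR : R ∈ (QuotSh.J Scheme.fppfPrecoverage S) P := ofArrows_mem_of_openCover c hc hcov
  have hRV : ∀ {g : (FibCat.overCat P).obj} {i : I}, Valid c i g → R g.hom := fun {g i} hv => by
    obtain ⟨t, ht⟩ := hv
    exact (Sieve.mem_ofArrows_iff _ _ _).2 ⟨i, t, ht.symm⟩
  have hRb : ∀ g : (Stk.sieveCat R).obj, ∃ i, Valid c i g.1 := fun g => by
    obtain ⟨i, t, ht⟩ := (Sieve.mem_ofArrows_iff _ _ _).1 g.2
    exact ⟨i, t, ht.symm⟩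
  choose b hb using hRb
  let mor : ∀ {g g' : (Stk.sieveCat R).obj}, (g ⟶ g') → (G.obj g.1 ⟶ G.obj g'.1) := fun {g g'} k =>
    (K g.1 (b g) (b g')).hom.1 ≫ G.map k.hom
  have hmor : ∀ {g g' : (Stk.sieveCat R).obj} (k : g ⟶ g'),
      𝒳.p.IsHomLift ((Stk.sieveCat R).p.map k) (mor k) := fun {g g'} k => by
    have := aut_lift (G.w_obj g.1) (K g.1 (b g) (b g'))
    have := based_lift G k.hom
    have h := (inferInstance : 𝒳.p.IsHomLift (𝟙 ((FibCat.overCat P).p.obj g.1) ≫ (FibCat.overCat P).p.map k.hom)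
      ((K g.1 (b g) (b g')).hom.1 ≫ G.map k.hom))
    rw [Category.id_comp] at h
    exact h
  let F₀ : (Stk.sieveCat R).obj ⥤ 𝒳.obj :=
    { obj := fun g => G.obj g.1
      map := fun k => mor k
      map_id := fun g => by
        show (K g.1 (b g) (b g)).hom.1 ≫ G.map (𝟙 g.1) = 𝟙 _
        rw [hK1]
        exact (congrArg (_ ≫ ·) (G.toFunctor.map_id g.1)).trans (Category.comp_id _)
      map_comp := fun {g g' g''} k k' => by
        show (K g.1 (b g) (b g'')).hom.1 ≫ G.map (k.hom ≫ k'.hom) =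
          ((K g.1 (b g) (b g')).hom.1 ≫ G.map k.hom) ≫ (K g'.1 (b g') (b g'')).hom.1 ≫ G.map k'.hom
        have hc' : Conj (G.map k.hom) (K g.1 (b g') (b g'')) (K g'.1 (b g') (b g'')) :=
          hKn k.hom _ _ (hb g') ((hb g'').of_hom k'.hom)
        have h2 : (K g.1 (b g) (b g')).hom.1 ≫ (K g.1 (b g') (b g'')).hom.1 = (K g.1 (b g) (b g'')).hom.1 :=
          congrArg (fun a : Gerb.AutO (G.obj g.1) => a.hom.1) (hK2 g.1 (b g) (b g') (b g''))
        rw [G.toFunctor.map_comp, ← h2]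
        simp only [Category.assoc]
        refine congrArg ((K g.1 (b g) (b g')).hom.1 ≫ ·) ?_
        exact ((Category.assoc _ _ _).symm.trans (congrArg (· ≫ G.map k'.hom) hc')).trans (Category.assoc _ _ _) }
  let F : Stk.sieveCat R ⥤ᵇ 𝒳 :=
    { toFunctor := F₀
      w := CategoryTheory.Functor.ext (fun g => G.w_obj g.1) fun g g' k =>
        @IsHomLift.fac' _ _ _ _ 𝒳.p _ _ _ _ ((Stk.sieveCat R).p.map k) (mor k) (hmor k) }
  have : (Stk.resSieve R 𝒳).IsEquivalence := hst.2 R hR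
  obtain ⟨H, ⟨e⟩⟩ := Functor.EssSurj.mem_essImage (F := Stk.resSieve R 𝒳) F
  let ei : ∀ g : (Stk.sieveCat R).obj, G.obj g.1 ⟶ H.obj g.1 := fun g => e.inv.toNatTrans.app g
  have heil : ∀ g : (Stk.sieveCat R).obj, 𝒳.p.IsHomLift (𝟙 ((Stk.sieveCat R).p.obj g)) (ei g) :=
    fun g => e.inv.isHomLift' g
  have hein : ∀ {g g' : (Stk.sieveCat R).obj} (k : g ⟶ g'),
      ((K g.1 (b g) (b g')).hom.1 ≫ G.map k.hom) ≫ ei g' = ei g ≫ H.map k.hom :=
    fun k => e.inv.toNatTrans.naturality k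
  let gc : I → (Stk.sieveCat R).obj := fun i =>
    ⟨Over.mk (c i), hRV (g := Over.mk (c i)) ⟨𝟙 _, Category.id_comp _⟩⟩
  refine ⟨⟨H.obj (one P), H.w_obj _⟩,
    fun i => ((K (Over.mk (c i)) i (b (gc i))).hom.1 ≫ ei (gc i)) ≫ H.map (toOne (gc i).1), fun i => ?_, ?_⟩
  · have : 𝒳.p.IsHomLift (𝟙 (Q i)) (K (Over.mk (c i)) i (b (gc i))).hom.1 := aut_lift (G.w_obj (Over.mk (c i))) _
    have : 𝒳.p.IsHomLift (𝟙 (Q i)) (ei (gc i)) := heil (gc i)
    have : 𝒳.p.IsHomLift (c i) (H.map (toOne (gc i).1)) := based_lift_one H (gc i).1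
    have h := (inferInstance : 𝒳.p.IsHomLift ((𝟙 (Q i) ≫ 𝟙 (Q i)) ≫ c i)
      (((K (Over.mk (c i)) i (b (gc i))).hom.1 ≫ ei (gc i)) ≫ H.map (toOne (gc i).1)))
    simpa only [Category.id_comp] using h
  · intro g i j ti tj
    have hv : ∀ {l : I} (tl : g ⟶ Over.mk (c l)), Valid c l g := fun {l} tl =>
      (show Valid c l (Over.mk (c l)) from ⟨𝟙 _, Category.id_comp _⟩).of_hom tl
    let gg : (Stk.sieveCat R).obj := ⟨g, hRV (hv ti)⟩
    have eta : ∀ {l : I} (tl : g ⟶ Over.mk (c l)),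
        G.map tl ≫ ((K (Over.mk (c l)) l (b (gc l))).hom.1 ≫ ei (gc l)) ≫ H.map (toOne (gc l).1) =
          (K g l (b gg)).hom.1 ≫ ei gg ≫ H.map (toOne g) := fun {l} tl => by
      let k : gg ⟶ gc l := ObjectProperty.homMk tl
      have hc' : Conj (G.map tl) (K g l (b (gc l))) (K (Over.mk (c l)) l (b (gc l))) :=
        hKn tl _ _ ⟨𝟙 _, Category.id_comp _⟩ (hb (gc l))
      have h2 : (K g l (b gg)).hom.1 ≫ (K g (b gg) (b (gc l))).hom.1 = (K g l (b (gc l))).hom.1 :=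
        congrArg (fun a : Gerb.AutO (G.obj g) => a.hom.1) (hK2 g l (b gg) (b (gc l)))
      calc G.map tl ≫ ((K (Over.mk (c l)) l (b (gc l))).hom.1 ≫ ei (gc l)) ≫ H.map (toOne (gc l).1)
          = ((G.map tl ≫ (K (Over.mk (c l)) l (b (gc l))).hom.1) ≫ ei (gc l)) ≫ H.map (toOne (gc l).1) := by
            simp only [Category.assoc]
        _ = ((K g l (b gg)).hom.1 ≫ ((K g (b gg) (b (gc l))).hom.1 ≫ G.map tl) ≫ ei (gc l)) ≫
              H.map (toOne (gc l).1) := by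
            rw [← hc', ← h2]; simp only [Category.assoc]
        _ = (K g l (b gg)).hom.1 ≫ ei gg ≫ H.map tl ≫ H.map (toOne (gc l).1) := by
            erw [hein k]; simp only [Category.assoc]; rfl
        _ = _ := by
            rw [show H.map tl ≫ H.map (toOne (gc l).1) = H.map (toOne g) from
              (H.toFunctor.map_comp _ _).symm.trans (congrArg H.map (toOne_unique _))]
    refine (eta ti).trans ?_
    rw [eta tj, ← Category.assoc (K g i j).hom.1]
    exact congrArg (· ≫ _) (congrArg (fun a : Gerb.AutO (G.obj g) => a.hom.1) (hK2 g i j (b gg))).symm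

theorem exists_tw_object (hst : Stk.IsStack (QuotSh.J Scheme.fppfPrecoverage S) 𝒳) {I : Type}
    (c : Gerb.AutO (G.obj (oO T I))) : ∃ z : 𝒳.p.Fiber (nP T I), Tw G c z := by
  classical
  have hp := hst.1
  let GP := BasedFunctor.comp (AlgSt.overMap (pp T I)) G
  have hmono : ∀ b, Mono (pc T I b) := fun b => have := isOpenImmersion_pc T I b; Over.mono_of_mono_left _
  have : Mono (nj T I) := Over.mono_of_mono_left _
  let Both : (FibCat.overCat (nP T I)).obj → Prop := fun g =>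
    ∃ t : (FibCat.overCat (nP T I)).p.obj g ⟶ nO T I, t ≫ nj T I ≫ pc T I ⟨false⟩ = hm g
  have hboth : ∀ {g : (FibCat.overCat (nP T I)).obj} (i i' : ULift.{u} Bool), i ≠ i' →
      Valid (Q := fun _ => nQ T I) (pc T I) i g → Valid (Q := fun _ => nQ T I) (pc T I) i' g → Both g := by
    have key : ∀ {g : (FibCat.overCat (nP T I)).obj}, Valid (Q := fun _ => nQ T I) (pc T I) ⟨false⟩ g →
        Valid (Q := fun _ => nQ T I) (pc T I) ⟨true⟩ g → Both g := by
      rintro g ⟨t₀, ht₀⟩ ⟨t₁, ht₁⟩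
      obtain ⟨t, ht, -⟩ := exists_factor_pc t₀ t₁ (ht₀.trans ht₁.symm)
      exact ⟨t, by rw [← Category.assoc, ht, ht₀]⟩
    rintro g ⟨_ | _⟩ ⟨_ | _⟩ hne h h'
    · exact absurd rfl hne
    · exact key h h'
    · exact key h' h
    · exact absurd rfl hne
  let toO : ∀ {g : (FibCat.overCat (nP T I)).obj} (h : Both g), (Over.map (pp T I)).obj g ⟶ oO T I := fun {g} h =>
    Over.homMk h.choose (by
      show h.choose ≫ bcp T _ = hm g ≫ pp T I
      refine Eq.trans ?_ (congrArg (· ≫ pp T I) h.choose_spec)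
      simp [pc_pp])
  let κ : ∀ g : (FibCat.overCat (nP T I)).obj, Gerb.AutO (GP.obj g) := fun g =>
    if h : Both g then resA hp G (toO h) c⁻¹ else 1
  let e : ∀ g : (FibCat.overCat (nP T I)).obj, ULift.{u} Bool → Gerb.AutO (GP.obj g) := fun g i =>
    bif i.down then κ g else 1
  obtain ⟨z, ez, hez, hrel⟩ := exists_twisted hst (Q := fun _ => nQ T I) (pc T I) (isOpenImmersion_pc T I)
    (pc_cover T I) GP (fun g i i' => e g i' * (e g i)⁻¹) (fun g i => mul_inv_cancel _)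
    (fun g i j k => by show e g k * (e g j)⁻¹ * (e g j * (e g i)⁻¹) = _; rw [mul_assoc, inv_mul_cancel_left])
    (fun {g g'} h i i' hi hi' => by
      by_cases hne : i = i'
      · subst hne
        simp only [mul_inv_cancel]
        exact Conj.one _
      · have hb' : Both g' := hboth i i' hne hi hi'
        have hb : Both g := hboth i i' hne (hi.of_hom h) (hi'.of_hom h)
        have et : (Over.map (pp T I)).map h ≫ toO hb' = toO hb := by
          refine Over.OverMorphism.ext ?_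
          rw [← cancel_mono (nj T I), ← cancel_mono (pc T I ⟨false⟩)]
          show (((FibCat.overCat (nP T I)).p.map h ≫ hb'.choose) ≫ nj T I) ≫ pc T I ⟨false⟩ =
            (hb.choose ≫ nj T I) ≫ pc T I ⟨false⟩
          rw [Category.assoc, Category.assoc, Category.assoc, hb'.choose_spec, hb.choose_spec]
          exact hm_w h
        have hκn : Conj (GP.map h) (κ g) (κ g') := by
          have e1 : κ g = resA hp G ((Over.map (pp T I)).map h) (κ g') := by
            show dite _ _ _ = resA hp G _ (dite _ _ _)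
            rw [dif_pos hb, dif_pos hb']
            exact ((congrArg (fun m => resA hp G m c⁻¹) et).symm.trans (resA_comp hp G _ _ _).symm)
          rw [e1]
          exact resA_conj hp G _ _
        have he : ∀ i, Conj (GP.map h) (e g i) (e g' i) := by
          rintro ⟨_ | _⟩
          · exact Conj.one _
          · exact hκn
        exact (he i').mul (he i).inv)
  let ub : ∀ b, oQ T I ⟶ (Over.map (pp T I)).obj (Over.mk (pc T I b)) := fun b =>
    Over.homMk (𝟙 _) (show 𝟙 _ ≫ pc T I b ≫ pp T I = bcp T _ by rw [Category.id_comp, pc_pp])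
  let gOP : (FibCat.overCat (nP T I)).obj := Over.mk (nj T I ≫ pc T I ⟨false⟩)
  let w : oO T I ⟶ (Over.map (pp T I)).obj gOP :=
    Over.homMk (𝟙 _) (show 𝟙 _ ≫ (nj T I ≫ pc T I ⟨false⟩) ≫ pp T I = bcp T _ by simp [pc_pp])
  let k : ∀ b, gOP ⟶ Over.mk (pc T I b) := fun b => Over.homMk (nj T I) (nj_pc T I b)
  have hsq : ∀ b, G.map (hj T I) ≫ G.map (ub b) = G.map w ≫ GP.map (k b) := fun b =>
    ((G.toFunctor.map_comp _ _).symm.trans (congrArg G.map (Over.OverMorphism.ext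
      (show nj T I ≫ 𝟙 _ = 𝟙 _ ≫ nj T I by simp) : hj T I ≫ ub b = w ≫ (Over.map (pp T I)).map (k b)))).trans
      (G.toFunctor.map_comp _ _)
  have hB : Both gOP := ⟨𝟙 _, Category.id_comp _⟩
  have hc : resA hp G w (κ gOP)⁻¹ = c := by
    have et : w ≫ toO hB = 𝟙 (oO T I) := by
      refine Over.OverMorphism.ext ?_
      rw [← cancel_mono (nj T I), ← cancel_mono (pc T I ⟨false⟩)]
      show ((𝟙 (nO T I) ≫ hB.choose) ≫ nj T I) ≫ pc T I ⟨false⟩ = (𝟙 (nO T I) ≫ nj T I) ≫ pc T I ⟨false⟩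
      rw [Category.id_comp, Category.id_comp, Category.assoc]
      exact hB.choose_spec
    rw [_root_.map_inv, show κ gOP = resA hp G (toO hB) c⁻¹ from dif_pos hB]
    rw [show resA hp G w (resA hp G (toO hB) c⁻¹) = c⁻¹ from
      (resA_comp hp G _ _ _).trans ((congrArg (fun m => resA hp G m c⁻¹) et).trans (resA_id hp G _)), inv_inv]
  refine ⟨z, fun b => G.map (ub b) ≫ ez b, fun b => ?_, ?_⟩
  · exact lift_id_comp' (f := pc T I b) (based_lift G (ub b)) (hez b)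
  · have hK : (κ gOP)⁻¹ = e gOP ⟨false⟩ * (e gOP ⟨true⟩)⁻¹ := (one_mul _).symm
    have hr := hrel gOP ⟨true⟩ ⟨false⟩ (k ⟨true⟩) (k ⟨false⟩)
    rw [← hK] at hr
    have hw : c.hom.1 ≫ G.map w = G.map w ≫ (κ gOP)⁻¹.hom.1 := hc ▸ resA_conj hp G w (κ gOP)⁻¹
    calc G.map (hj T I) ≫ G.map (ub ⟨true⟩) ≫ ez ⟨true⟩
        = G.map w ≫ GP.map (k ⟨true⟩) ≫ ez ⟨true⟩ := by erw [← Category.assoc, hsq, Category.assoc]; rfl
      _ = (G.map w ≫ (κ gOP)⁻¹.hom.1) ≫ GP.map (k ⟨false⟩) ≫ ez ⟨false⟩ := by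
          exact (congrArg (G.map w ≫ ·) hr).trans (Category.assoc _ _ _).symm
      _ = c.hom.1 ≫ G.map (hj T I) ≫ G.map (ub ⟨false⟩) ≫ ez ⟨false⟩ := by
          erw [← hw, Category.assoc, ← Category.assoc (G.map (hj T I)), hsq, Category.assoc]
          rfl

/-- Objects glued along the same automorphism are isomorphic. -/
theorem Tw.iso (hst : Stk.IsStack (QuotSh.J Scheme.fppfPrecoverage S) 𝒳) {I : Type}
    {c : Gerb.AutO (G.obj (oO T I))} {z z' : 𝒳.p.Fiber (nP T I)} (h : Tw G c z) (h' : Tw G c z') :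
    Nonempty (z ≅ z') := by
  obtain ⟨e, he, hec⟩ := h
  obtain ⟨e', he', hec'⟩ := h'
  have hp := hst.1
  have := isFibered_of_isFibGrpd 𝒳.p hp
  obtain ⟨H, -, ⟨ε⟩⟩ := exists_evalAtId_iso (𝒳 := 𝒳) (U := nP T I) z
  obtain ⟨H', -, ⟨ε'⟩⟩ := exists_evalAtId_iso (𝒳 := 𝒳) (U := nP T I) z'
  have hl : ∀ (H : FibCat.overCat (nP T I) ⥤ᵇ 𝒳) (x : 𝒳.p.Fiber (nP T I))
      (m : (FibCat.evalAtId 𝒳 (nP T I)).obj H ⟶ x)
      (g : (FibCat.overCat (nP T I)).obj), 𝒳.p.IsHomLift (hm g) (H.map (toOne g) ≫ m.1) := fun H x m g => by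
    have := based_lift_one H g
    let m' : H.obj (one (nP T I)) ⟶ x.1 := m.1
    have : 𝒳.p.IsHomLift (𝟙 (nP T I)) m' := m.2
    have h := (inferInstance : 𝒳.p.IsHomLift (hm g ≫ 𝟙 (nP T I)) (H.map (toOne g) ≫ m'))
    rwa [Category.comp_id] at h
  let ℓ : ∀ g, H.obj g ⟶ z.1 := fun g => H.map (toOne g) ≫ ε.hom.1
  let ℓ' : ∀ g, H'.obj g ⟶ z'.1 := fun g => H'.map (toOne g) ≫ ε'.hom.1
  let cb : ULift.{u} Bool → (nQ T I ⟶ nP T I) := pc T I
  let R := Sieve.ofArrows (fun _ : ULift.{u} Bool => nQ T I) cb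
  have hR : R ∈ (QuotSh.J Scheme.fppfPrecoverage S) (nP T I) :=
    ofArrows_mem_of_openCover cb (isOpenImmersion_pc T I) (pc_cover T I)
  let GP := BasedFunctor.comp (AlgSt.overMap (pp T I)) G
  let ub : ∀ b, (Over.map (pp T I)).obj (Over.mk (pc T I b)) ⟶ oQ T I := fun b =>
    Over.homMk (𝟙 _) (show 𝟙 _ ≫ bcp T _ = pc T I b ≫ pp T I by rw [Category.id_comp, pc_pp])
  let E : ∀ (b : ULift.{u} Bool) {g : (FibCat.overCat (nP T I)).obj}, (g ⟶ Over.mk (pc T I b)) →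
      (GP.obj g ⟶ z.1) := fun b {g} t => GP.map t ≫ G.map (ub b) ≫ e b
  let E' : ∀ (b : ULift.{u} Bool) {g : (FibCat.overCat (nP T I)).obj}, (g ⟶ Over.mk (pc T I b)) →
      (GP.obj g ⟶ z'.1) := fun b {g} t => GP.map t ≫ G.map (ub b) ≫ e' b
  have hEl : ∀ {z₁ : 𝒳.p.Fiber (nP T I)} (e₁ : ∀ b, G.obj (oQ T I) ⟶ z₁.1),
      (∀ b, 𝒳.p.IsHomLift (pc T I b) (e₁ b)) → ∀ (b : ULift.{u} Bool) {g : (FibCat.overCat (nP T I)).obj}
        (t : g ⟶ Over.mk (pc T I b)), 𝒳.p.IsHomLift (hm g) (GP.map t ≫ G.map (ub b) ≫ e₁ b) := by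
    intro z₁ e₁ he₁ b g t
    have h : 𝒳.p.IsHomLift ((FibCat.overCat (nP T I)).p.map t ≫ pc T I b) (GP.map t ≫ G.map (ub b) ≫ e₁ b) :=
      lift_comp (based_lift GP t) (lift_id_comp' (f := pc T I b) (based_lift G (ub b)) (he₁ b))
    rw [show (FibCat.overCat (nP T I)).p.map t ≫ pc T I b = hm g from Over.w t] at h
    exact h
  -- two charts give the same transition in both objects
  have hK : ∀ {g : (FibCat.overCat (nP T I)).obj} (b b' : ULift.{u} Bool) (t : g ⟶ Over.mk (pc T I b))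
      (t' : g ⟶ Over.mk (pc T I b')), ∃ k : Gerb.AutO (GP.obj g),
        E b' t' = k.hom.1 ≫ E b t ∧ E' b' t' = k.hom.1 ≫ E' b t := by
    have key : ∀ {g : (FibCat.overCat (nP T I)).obj} (t : g ⟶ Over.mk (pc T I ⟨false⟩))
        (t' : g ⟶ Over.mk (pc T I ⟨true⟩)), ∃ k : Gerb.AutO (GP.obj g),
          E _ t' = k.hom.1 ≫ E _ t ∧ E' _ t' = k.hom.1 ≫ E' _ t := by
      intro g t t'
      obtain ⟨q, hq₀, hq₁⟩ := exists_factor_pc ((FibCat.overCat (nP T I)).p.map t)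
        ((FibCat.overCat (nP T I)).p.map t') ((Over.w t).trans (Over.w t').symm)
      let qh : (Over.map (pp T I)).obj g ⟶ oO T I := Over.homMk q (by
        show q ≫ bcp T _ = hm g ≫ pp T I
        rw [← show (FibCat.overCat (nP T I)).p.map t ≫ pc T I ⟨false⟩ = hm g from Over.w t, ← hq₀, Category.assoc,
          ← Category.assoc]
        show q ≫ bcp T _ = ((q ≫ nj T I) ≫ pc T I ⟨false⟩) ≫ pp T I
        simp [pc_pp])
      have hs : ∀ (b : ULift.{u} Bool) (tb : g ⟶ Over.mk (pc T I b)),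
          q ≫ nj T I = (FibCat.overCat (nP T I)).p.map tb →
          GP.map tb ≫ G.map (ub b) = G.map qh ≫ G.map (hj T I) := fun b tb h =>
        ((G.toFunctor.map_comp _ _).symm.trans (congrArg G.map (Over.OverMorphism.ext
          (show (FibCat.overCat (nP T I)).p.map tb ≫ 𝟙 _ = q ≫ nj T I by rw [Category.comp_id, h]) :
          (Over.map (pp T I)).map tb ≫ ub b = qh ≫ hj T I))).trans (G.toFunctor.map_comp _ _)
      refine ⟨resA hp G qh c, ?_, ?_⟩
      · show GP.map t' ≫ G.map (ub _) ≫ e _ = (resA hp G qh c).hom.1 ≫ GP.map t ≫ G.map (ub _) ≫ e _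
        erw [← Category.assoc, hs _ t' hq₁, Category.assoc, hec, ← Category.assoc (GP.map t), hs _ t hq₀,
          ← Category.assoc, ← (resA_conj hp G qh c)]
        exact (Category.assoc _ _ _).trans (congrArg (_ ≫ ·) (Category.assoc _ _ _).symm)
      · show GP.map t' ≫ G.map (ub _) ≫ e' _ = (resA hp G qh c).hom.1 ≫ GP.map t ≫ G.map (ub _) ≫ e' _
        erw [← Category.assoc, hs _ t' hq₁, Category.assoc, hec', ← Category.assoc (GP.map t), hs _ t hq₀,
          ← Category.assoc, ← (resA_conj hp G qh c)]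
        exact (Category.assoc _ _ _).trans (congrArg (_ ≫ ·) (Category.assoc _ _ _).symm)
    have same : ∀ {g : (FibCat.overCat (nP T I)).obj} (b : ULift.{u} Bool) (t t' : g ⟶ Over.mk (pc T I b)),
        ∃ k : Gerb.AutO (GP.obj g), E b t' = k.hom.1 ≫ E b t ∧ E' b t' = k.hom.1 ≫ E' b t := fun {g} b t t' => by
      have := isOpenImmersion_pc T I b
      have : Mono (pc T I b) := Over.mono_of_mono_left _
      obtain rfl : t = t' := Over.OverMorphism.ext ((cancel_mono (pc T I b)).1 ((Over.w t).trans (Over.w t').symm))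
      exact ⟨1, (Category.id_comp _).symm, (Category.id_comp _).symm⟩
    rintro g ⟨_ | _⟩ ⟨_ | _⟩ t t'
    · exact same _ t t'
    · exact key t t'
    · obtain ⟨k, h₁, h₂⟩ := key t' t
      refine ⟨k⁻¹, ?_, ?_⟩
      · show _ = k.inv.1 ≫ _
        rw [h₁, ← Category.assoc, aut_inv_hom]
        exact (Category.id_comp _).symm
      · show _ = k.inv.1 ≫ _
        rw [h₂, ← Category.assoc, aut_inv_hom]
        exact (Category.id_comp _).symm
    · exact same _ t t'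
  have hlab : ∀ g : (Stk.sieveCat R).obj, ∃ b : ULift.{u} Bool, Nonempty (g.1 ⟶ Over.mk (pc T I b)) := fun g => by
    obtain ⟨b, t, ht⟩ := (Sieve.mem_ofArrows_iff _ _ _).1 g.2
    exact ⟨b, ⟨Over.homMk t ht.symm⟩⟩
  have hA : ∀ (g : (FibCat.overCat (nP T I)).obj) (b : ULift.{u} Bool) (t : g ⟶ Over.mk (pc T I b)),
      ∃ a : GP.obj g ≅ H.obj g, 𝒳.p.IsHomLift (𝟙 ((FibCat.overCat (nP T I)).p.obj g)) a.hom ∧
        a.hom ≫ ℓ g = E b t := fun g b t => by
    have : 𝒳.p.IsHomLift (hm g) (ℓ g) := hl H z ε.hom g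
    have : 𝒳.p.IsHomLift (hm g) (E b t) := hEl e he b t
    have := stronglyCartesian_of_isFibGrpd 𝒳.p hp (hm g) (ℓ g)
    have := stronglyCartesian_of_isFibGrpd 𝒳.p hp (hm g) (E b t)
    exact ⟨IsCartesian.domainUniqueUpToIso 𝒳.p (hm g) (ℓ g) (E b t), inferInstance, IsCartesian.fac 𝒳.p (hm g) (ℓ g) (E b t)⟩
  have hex : ∀ g : (Stk.sieveCat R).obj, ∃ f : H.obj g.1 ⟶ H'.obj g.1,
      𝒳.p.IsHomLift (𝟙 ((Stk.sieveCat R).p.obj g)) f ∧
        ∀ (b : ULift.{u} Bool) (t : g.1 ⟶ Over.mk (pc T I b)) (a : GP.obj g.1 ⟶ H.obj g.1),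
          𝒳.p.IsHomLift (𝟙 ((Stk.sieveCat R).p.obj g)) a → a ≫ ℓ g.1 = E b t → a ≫ f ≫ ℓ' g.1 = E' b t := fun g => by
    obtain ⟨b, ⟨t⟩⟩ := hlab g
    obtain ⟨a, ha, hae⟩ := hA g.1 b t
    have : 𝒳.p.IsHomLift (hm g.1) (ℓ' g.1) := hl H' z' ε'.hom g.1
    have := stronglyCartesian_of_isFibGrpd 𝒳.p hp (hm g.1) (ℓ' g.1)
    have : 𝒳.p.IsHomLift (hm g.1) (E' b t) := hEl e' he' b t
    have := ha
    have hai : 𝒳.p.IsHomLift (𝟙 ((FibCat.overCat (nP T I)).p.obj g.1)) a.inv := IsHomLift.lift_id_inv 𝒳.p _ a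
    let a' : GP.obj g.1 ⟶ H'.obj g.1 := IsCartesian.map 𝒳.p (hm g.1) (ℓ' g.1) (E' b t)
    have ha' : a' ≫ ℓ' g.1 = E' b t := IsCartesian.fac 𝒳.p _ _ _
    refine ⟨a.inv ≫ a', IsHomLift.comp_of_lift_id 𝒳.p ((FibCat.overCat (nP T I)).p.obj g.1) a.inv a',
      fun b₁ t₁ a₁ ha₁ hae₁ => ?_⟩
    obtain ⟨k, hk, hk'⟩ := hK b b₁ t t₁
    have : 𝒳.p.IsHomLift (𝟙 ((FibCat.overCat (nP T I)).p.obj g.1)) k.hom.1 := aut_lift (GP.w_obj g.1) k
    have hka : a₁ = k.hom.1 ≫ a.hom := by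
      refine hom_ext_lift hp _ (hl H z ε.hom g.1) ha₁
        (IsHomLift.comp_of_lift_id 𝒳.p ((FibCat.overCat (nP T I)).p.obj g.1) k.hom.1 a.hom) ?_
      show a₁ ≫ ℓ g.1 = (k.hom.1 ≫ a.hom) ≫ ℓ g.1
      rw [hae₁, hk, Category.assoc, hae]
    rw [hka, hk']
    calc (k.hom.1 ≫ a.hom) ≫ (a.inv ≫ a') ≫ ℓ' g.1 = k.hom.1 ≫ (a.hom ≫ a.inv) ≫ a' ≫ ℓ' g.1 := by
          simp only [Category.assoc]
      _ = _ := by rw [a.hom_inv_id, ha', Category.id_comp]
  choose f hf hfE using hex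
  let γ : (Stk.resSieve R 𝒳).obj H ⟶ (Stk.resSieve R 𝒳).obj H' :=
    { toNatTrans :=
        { app := f
          naturality := fun g g' k => by
            show H.map k.hom ≫ f g' = f g ≫ H'.map k.hom
            obtain ⟨b, ⟨t'⟩⟩ := hlab g'
            obtain ⟨a', ha', hae'⟩ := hA g'.1 b t'
            obtain ⟨a, ha, hae⟩ := hA g.1 b (k.hom ≫ t')
            let π := (FibCat.overCat (nP T I)).p.map k.hom
            have hG : 𝒳.p.IsHomLift π (GP.map k.hom) := based_lift GP k.hom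
            have hH : 𝒳.p.IsHomLift π (H.map k.hom) := based_lift H k.hom
            have hH' : 𝒳.p.IsHomLift π (H'.map k.hom) := based_lift H' k.hom
            have := ha
            have := ha'
            have hℓ : H.map k.hom ≫ ℓ g'.1 = ℓ g.1 := (Category.assoc _ _ _).symm.trans (congrArg (· ≫ _)
              ((H.toFunctor.map_comp _ _).symm.trans (congrArg H.map (toOne_unique _))))
            have hℓ' : H'.map k.hom ≫ ℓ' g'.1 = ℓ' g.1 := (Category.assoc _ _ _).symm.trans (congrArg (· ≫ _)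
              ((H'.toFunctor.map_comp _ _).symm.trans (congrArg H'.map (toOne_unique _))))
            have hcomm : a.hom ≫ H.map k.hom = GP.map k.hom ≫ a'.hom := by
              have := hl H z ε.hom g'.1
              have : 𝒳.p.IsHomLift (hm g'.1) (ℓ g'.1) := this
              have := stronglyCartesian_of_isFibGrpd 𝒳.p hp (hm g'.1) (ℓ g'.1)
              have h1 : 𝒳.p.IsHomLift π (a.hom ≫ H.map k.hom) := by
                have h := (inferInstance : 𝒳.p.IsHomLift (𝟙 ((FibCat.overCat (nP T I)).p.obj g.1) ≫ π) (a.hom ≫ H.map k.hom))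
                rwa [Category.id_comp] at h
              have h2 : 𝒳.p.IsHomLift π (GP.map k.hom ≫ a'.hom) := by
                have h := (inferInstance : 𝒳.p.IsHomLift (π ≫ 𝟙 ((FibCat.overCat (nP T I)).p.obj g'.1)) (GP.map k.hom ≫ a'.hom))
                rwa [Category.comp_id] at h
              refine IsStronglyCartesian.ext 𝒳.p (hm g'.1) (ℓ g'.1) (g := π) ?_
              rw [Category.assoc, Category.assoc, hℓ, hae, hae']
              show GP.map (k.hom ≫ t') ≫ _ = GP.map k.hom ≫ GP.map t' ≫ _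
              rw [GP.toFunctor.map_comp, Category.assoc]
            have : 𝒳.p.IsHomLift (hm g'.1) (ℓ' g'.1) := hl H' z' ε'.hom g'.1
            have := stronglyCartesian_of_isFibGrpd 𝒳.p hp (hm g'.1) (ℓ' g'.1)
            have : 𝒳.p.IsHomLift (𝟙 ((FibCat.overCat (nP T I)).p.obj g.1)) (f g) := hf g
            have : 𝒳.p.IsHomLift (𝟙 ((FibCat.overCat (nP T I)).p.obj g'.1)) (f g') := hf g'
            have h1 : 𝒳.p.IsHomLift π (H.map k.hom ≫ f g') := by
              have h := (inferInstance : 𝒳.p.IsHomLift (π ≫ 𝟙 ((FibCat.overCat (nP T I)).p.obj g'.1)) (H.map k.hom ≫ f g'))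
              rwa [Category.comp_id] at h
            have h2 : 𝒳.p.IsHomLift π (f g ≫ H'.map k.hom) := by
              have h := (inferInstance : 𝒳.p.IsHomLift (𝟙 ((FibCat.overCat (nP T I)).p.obj g.1) ≫ π) (f g ≫ H'.map k.hom))
              rwa [Category.id_comp] at h
            refine IsStronglyCartesian.ext 𝒳.p (hm g'.1) (ℓ' g'.1) (g := π) ?_
            rw [← cancel_epi a.hom]
            calc a.hom ≫ (H.map k.hom ≫ f g') ≫ ℓ' g'.1 = GP.map k.hom ≫ a'.hom ≫ f g' ≫ ℓ' g'.1 := by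
                  rw [Category.assoc, ← Category.assoc, hcomm, Category.assoc]
              _ = GP.map k.hom ≫ E' b t' := by rw [hfE g' b t' a'.hom ha' hae']
              _ = E' b (k.hom ≫ t') := by
                  show _ = GP.map (k.hom ≫ t') ≫ _
                  rw [GP.toFunctor.map_comp, Category.assoc]
              _ = a.hom ≫ f g ≫ ℓ' g.1 := (hfE g b _ a.hom ha hae).symm
              _ = _ := by rw [Category.assoc, hℓ'] }
      isHomLift' := fun g => hf g }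
  have : (Stk.resSieve R 𝒳).IsEquivalence := hst.2 R hR
  have := isGroupoid_fiber 𝒳.p hp (nP T I)
  let m : z ⟶ z' := ε.inv ≫ (FibCat.evalAtId 𝒳 (nP T I)).map ((Stk.resSieve R 𝒳).preimage γ) ≫ ε'.hom
  have : IsIso m := IsGroupoid.all_isIso m
  exact ⟨asIso m⟩

end Groth.Agent.AlgStLib
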