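import Groth.Agent.AlgStLib.Lines
import Mathlib

/-!
The presheaf of isomorphism classes sees whether automorphism groups are abelian, and abelian ones.
-/

set_option autoImplicit false
set_option backward.isDefEq.respectTransparency.types false

universe u

open CategoryTheory CategoryTheory.Limits CategoryTheory.Functor AlgebraicGeometry Opposite

namespace Groth.Agent.AlgStLib

open Groth.Agent Groth.Agent.FibBasics Groth.Agent.AlgSpLib

variable {S : Scheme.{u}} {T : Over S}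

section ClassLevel

variable {𝒳 𝒴 : AlgSt.Cat S}

/-- Restriction to some of the lines. -/
def Restr {I J : Type} (f : J → I) (z : 𝒳.p.Fiber (nP T I)) (z' : 𝒳.p.Fiber (nP T J)) : Prop :=
  ∃ m : z'.1 ⟶ z.1, 𝒳.p.IsHomLift (pm T f) m

/-- Trivial on both charts and on all lines. -/
def Good (x : 𝒳.p.Fiber T) {I : Type} (z : 𝒳.p.Fiber (nP T I)) : Prop :=
  (∀ b, ∃ (w : 𝒳.p.Fiber (nQ T I)) (e : w.1 ⟶ z.1) (m : w.1 ⟶ x.1),
    𝒳.p.IsHomLift (pc T I b) e ∧ 𝒳.p.IsHomLift (bcp T _ : nQ T I ⟶ T) m) ∧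
  ∀ i : I, ∃ w : 𝒳.p.Fiber (nP T Unit), Restr (fun _ : Unit => i) z w ∧
    ∃ m : w.1 ⟶ x.1, 𝒳.p.IsHomLift (pp T Unit) m

theorem Restr.transfer (φ : IsoNat.FIso 𝒳 𝒴) {I J : Type} {f : J → I} {z : 𝒳.p.Fiber (nP T I)}
    {w : 𝒳.p.Fiber (nP T J)} (h : Restr f z w) {z' : 𝒴.p.Fiber (nP T I)} {w' : 𝒴.p.Fiber (nP T J)}
    (hz : φ.toEquiv _ (IsoNat.cls z) = IsoNat.cls z') (hw : φ.toEquiv _ (IsoNat.cls w) = IsoNat.cls w') :
    Restr f z' w' := by
  obtain ⟨m, hm⟩ := h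
  exact exists_hom_transfer φ _ m hm hw hz

theorem exists_cls (φ : IsoNat.FIso 𝒳 𝒴) {U : Over S} (x : 𝒳.p.Fiber U) :
    ∃ y : 𝒴.p.Fiber U, φ.toEquiv U (IsoNat.cls x) = IsoNat.cls y := by
  obtain ⟨y, hy⟩ := Quotient.exists_rep (φ.toEquiv U (IsoNat.cls x))
  exact ⟨y, hy.symm⟩

theorem exists_cls' (φ : IsoNat.FIso 𝒳 𝒴) {U : Over S} (y : 𝒴.p.Fiber U) :
    ∃ x : 𝒳.p.Fiber U, φ.toEquiv U (IsoNat.cls x) = IsoNat.cls y := by
  obtain ⟨x, hx⟩ := Quotient.exists_rep ((φ.toEquiv U).symm (IsoNat.cls y))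
  exact ⟨x, ((φ.toEquiv U).symm_apply_eq.1 hx.symm).symm⟩

theorem Good.transfer (φ : IsoNat.FIso 𝒳 𝒴) {x : 𝒳.p.Fiber T} {y : 𝒴.p.Fiber T}
    (hxy : φ.toEquiv T (IsoNat.cls x) = IsoNat.cls y) {I : Type} {z : 𝒳.p.Fiber (nP T I)} (h : Good x z)
    {z' : 𝒴.p.Fiber (nP T I)} (hz : φ.toEquiv _ (IsoNat.cls z) = IsoNat.cls z') : Good y z' := by
  refine ⟨fun b => ?_, fun i => ?_⟩
  · obtain ⟨w, e, m, he, hm⟩ := h.1 b
    obtain ⟨w', hw'⟩ := exists_cls φ w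
    obtain ⟨e', he'⟩ := exists_hom_transfer φ _ e he hw' hz
    obtain ⟨m', hm'⟩ := exists_hom_transfer φ _ m hm hw' hxy
    exact ⟨w', e', m', he', hm'⟩
  · obtain ⟨w, hr, m, hm⟩ := h.2 i
    obtain ⟨w', hw'⟩ := exists_cls φ w
    exact ⟨w', hr.transfer φ hz hw', exists_hom_transfer φ _ m hm hw' hxy⟩

theorem iso_transfer (φ : IsoNat.FIso 𝒳 𝒴) {U : Over S} {z w : 𝒳.p.Fiber U} {z' w' : 𝒴.p.Fiber U}
    (hz : φ.toEquiv U (IsoNat.cls z) = IsoNat.cls z') (hw : φ.toEquiv U (IsoNat.cls w) = IsoNat.cls w') :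
    Nonempty (z ≅ w) ↔ Nonempty (z' ≅ w') := by
  constructor
  · intro h
    exact Quotient.exact (hz.symm.trans ((congrArg (φ.toEquiv U) (Quotient.sound h)).trans hw))
  · intro h
    exact Quotient.exact ((φ.toEquiv U).injective (hz.trans ((Quotient.sound h : IsoNat.cls z' = IsoNat.cls w').trans hw.symm)))

/-- The inverse of an isomorphism of presheaves of isomorphism classes. -/
noncomputable def fisoSymm (h𝒳 : FibCat.IsFibGrpd 𝒳.p) (h𝒴 : FibCat.IsFibGrpd 𝒴.p) (φ : IsoNat.FIso 𝒳 𝒴) :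
    IsoNat.FIso 𝒴 𝒳 where
  toEquiv U := (φ.toEquiv U).symm
  natural {U' U} g y' y b hb := by
    obtain ⟨x, hx⟩ := exists_cls' φ y
    have := isFibered_of_isFibGrpd 𝒳.p h𝒳
    obtain ⟨x', a, ha⟩ := exists_stronglyCartesian 𝒳.p x.2 g
    have ha' := ha.toIsHomLift
    let xx : 𝒳.p.Fiber U' := ⟨x', @IsHomLift.domain_eq _ _ _ _ 𝒳.p _ _ _ _ g a ha'⟩
    obtain ⟨y'', hy''⟩ := exists_cls φ xx
    obtain ⟨b', hb'⟩ := exists_hom_transfer φ g (x' := xx) (x := x) a ha' hy'' hx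
    obtain ⟨χ, hχ⟩ := exists_compare h𝒴 g b b' hb hb'
    let χm : y' ⟶ y'' := ⟨χ.hom, hχ⟩
    have := isGroupoid_fiber 𝒴.p h𝒴 U'
    have : IsIso χm := IsGroupoid.all_isIso χm
    refine ⟨xx, x, a, ha', (Equiv.symm_apply_eq _).2 ?_, (Equiv.symm_apply_eq _).2 hx.symm⟩
    rw [hy'']
    exact Quotient.sound ⟨asIso χm⟩

/-- Two objects with isomorphic restrictions are isomorphic. -/
def Crit (x : 𝒳.p.Fiber T) : Prop :=
  ∀ z z' : 𝒳.p.Fiber (nP T (Fin 3)), Good x z → Good x z' →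
    (∀ f : Fin 2 → Fin 3, f 0 = 0 → ∀ w w', Restr f z w → Restr f z' w' → Nonempty (w ≅ w')) →
    Nonempty (z ≅ z')

theorem Crit.transfer (h𝒳 : FibCat.IsFibGrpd 𝒳.p) (h𝒴 : FibCat.IsFibGrpd 𝒴.p) (φ : IsoNat.FIso 𝒳 𝒴)
    {x : 𝒳.p.Fiber T} {y : 𝒴.p.Fiber T} (hxy : φ.toEquiv T (IsoNat.cls x) = IsoNat.cls y) (h : Crit x) :
    Crit y := by
  intro z' z'' hz' hz'' hr
  obtain ⟨z, hz⟩ := exists_cls' φ z'
  obtain ⟨v, hv⟩ := exists_cls' φ z''
  have hs : (fisoSymm h𝒳 h𝒴 φ).toEquiv T (IsoNat.cls y) = IsoNat.cls x := (Equiv.symm_apply_eq _).2 hxy.symm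
  refine (iso_transfer φ hz hv).1 (h z v (hz'.transfer _ hs ((Equiv.symm_apply_eq _).2 hz.symm))
    (hz''.transfer _ hs ((Equiv.symm_apply_eq _).2 hv.symm)) fun f hf w w₁ hw hw₁ => ?_)
  obtain ⟨w', hw'⟩ := exists_cls φ w
  obtain ⟨w₁', hw₁'⟩ := exists_cls φ w₁
  exact (iso_transfer φ hw' hw₁').2 (hr f hf w' w₁' (hw.transfer φ hz hw') (hw₁.transfer φ hv hw₁'))

end ClassLevel

/-- The fibre automorphism group of an object. -/
theorem exists_autO_equiv {𝒳 : AlgSt.Cat S} {z : 𝒳.obj} (h : 𝒳.p.obj z = T) :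
    Nonempty (Gerb.AutO z ≃* Aut (Functor.Fiber.mk (p := 𝒳.p) h)) := by
  subst h; exact ⟨MulEquiv.refl _⟩

section Stack

variable {𝒳 : AlgSt.Cat S} (hst : Stk.IsStack (QuotSh.J Scheme.fppfPrecoverage S) 𝒳)
  (hd : AlgSt.RepByAlgSpWith AlgSp.IsSeparatedMor (FibCat.diag (FibCat.toSelf 𝒳)))
  (G : FibCat.overCat T ⥤ᵇ 𝒳) {x : 𝒳.p.Fiber T} (ε : Functor.Fiber.mk (p := 𝒳.p) (G.w_obj (one T)) ≅ x)

local notation "r" => resA (And.left hst) G

include ε in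
theorem exists_to_base (g : (FibCat.overCat T).obj) : ∃ m : G.obj g ⟶ x.1, 𝒳.p.IsHomLift (hm g) m := by
  let m' : G.obj (one T) ⟶ x.1 := ε.hom.1
  have : 𝒳.p.IsHomLift (𝟙 T) m' := ε.hom.2
  have := based_lift_one G g
  have h := (inferInstance : 𝒳.p.IsHomLift (hm g ≫ 𝟙 T) (G.map (toOne g) ≫ m'))
  rw [Category.comp_id] at h
  exact ⟨_, h⟩

/-- Automorphisms on the lines extending the transition. -/
def LData {I : Type} (c : Gerb.AutO (G.obj (oO T I))) (A : I → Gerb.AutO (G.obj (oQ T Unit))) : Prop :=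
  ∀ i, r (hj T Unit) (A i) = r (ho T fun _ : Unit => i) c

theorem res_line {I : Type} (i : I) (u : Gerb.AutO (G.obj (oQ T I))) :
    r (ho T fun _ : Unit => i) (r (hj T I) u) = r (hj T Unit) (r (hq T fun _ : Unit => i) u) := by
  rw [resA_comp, resA_comp, ho_hj]

theorem res_toOne {g g' : (FibCat.overCat T).obj} (h : g ⟶ g') (a : Gerb.AutO (G.obj (one T))) :
    r h (r (toOne g') a) = r (toOne g) a := by
  rw [resA_comp, toOne_unique (h ≫ toOne g')]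

theorem pt_const (a : Gerb.AutO (G.obj (one T))) : r (hpt T) (r (toOne (oQ T Unit)) a) = a := by
  rw [res_toOne hst G, toOne_one, resA_id]

theorem pt_line {I : Type} (i m : I) (u : Gerb.AutO (G.obj (oQ T I))) :
    r (hpt T) (r (hq T fun _ : Unit => i) u) = r (hpt T) (r (hq T fun _ : Unit => m) u) := by
  rw [resA_comp, resA_comp, hpt_line i m]

theorem retr_self {I : Type} [DecidableEq I] (i : I) (d : Gerb.AutO (G.obj (oQ T Unit))) :
    r (hq T fun _ : Unit => i) (r (hr T i) d) = d := by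
  rw [resA_comp, line_hr_self, resA_id]

theorem retr_ne {I : Type} [DecidableEq I] {i m : I} (h : m ≠ i) (d : Gerb.AutO (G.obj (oQ T Unit))) :
    r (hq T fun _ : Unit => m) (r (hr T i) d) = r (toOne (oQ T Unit)) (r (hpt T) d) := by
  rw [resA_comp, line_hr_ne h, ← resA_comp]

theorem pieces_ext {I : Type} [Fintype I] [DecidableEq I] {c c' : Gerb.AutO (G.obj (oO T I))}
    (h : ∀ i, r (ho T fun _ : Unit => i) c = r (ho T fun _ : Unit => i) c') : c = c' := by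
  obtain ⟨a, -, hu⟩ := existsUnique_pieces G hst (fun i => r (ho T fun _ : Unit => i) c')
  exact (hu c h).trans (hu c' fun _ => rfl).symm

theorem exists_ldata {I : Type} [Fintype I] [DecidableEq I] (A : I → Gerb.AutO (G.obj (oQ T Unit))) :
    ∃ c, LData hst G c A := by
  obtain ⟨c, hc, -⟩ := existsUnique_pieces G hst (fun i => r (hj T Unit) (A i))
  exact ⟨c, fun i => (hc i).symm⟩

include hst hd in
theorem LData.change {I : Type} {c c' : Gerb.AutO (G.obj (oO T I))} {A A' : I → Gerb.AutO (G.obj (oQ T Unit))}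
    (hA : LData hst G c A) (hA' : LData hst G c' A') {u₀ u₁ : Gerb.AutO (G.obj (oQ T I))}
    (h : c' = (r (hj T I) u₀)⁻¹ * c * r (hj T I) u₁) (i : I) :
    A' i = (r (hq T fun _ : Unit => i) u₀)⁻¹ * A i * r (hq T fun _ : Unit => i) u₁ := by
  apply resA_hj_injective G hst hd
  rw [hA' i, h]
  simp only [map_mul, _root_.map_inv, res_line hst G, ← hA i]

theorem LData.restrict {I J : Type} (f : J → I) {c : Gerb.AutO (G.obj (oO T I))}
    {A : I → Gerb.AutO (G.obj (oQ T Unit))} (hA : LData hst G c A) :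
    LData hst G (r (ho T f) c) (fun j => A (f j)) := fun j => by
  rw [resA_comp, ho_comp]; exact hA (f j)

include hst ε in
theorem tw_one_of_hom {I : Type} {w : 𝒳.p.Fiber (nP T I)} (m : w.1 ⟶ x.1) (hm' : 𝒳.p.IsHomLift (pp T I) m) :
    Tw G 1 w := by
  have hp := hst.1
  have := stronglyCartesian_of_isFibGrpd 𝒳.p hp (pp T I) m
  obtain ⟨mQ, hQ⟩ := exists_to_base G ε (oQ T I)
  have he : ∀ b, ∃ e : G.obj (oQ T I) ⟶ w.1, 𝒳.p.IsHomLift (pc T I b) e ∧ e ≫ m = mQ := fun b => by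
    have : 𝒳.p.IsHomLift (bcp T _ : nQ T I ⟶ T) mQ := hQ
    exact ⟨IsStronglyCartesian.map 𝒳.p (pp T I) m (pc_pp T I b).symm mQ, inferInstance,
      IsStronglyCartesian.fac 𝒳.p (pp T I) m (pc_pp T I b).symm mQ⟩
  choose e he hem using he
  refine ⟨e, he, ?_⟩
  have h0 := lift_hj_comp G _ _ (he ⟨false⟩)
  have h1 := lift_hj_comp G _ _ (he ⟨true⟩)
  refine Eq.trans ?_ (Category.id_comp _).symm
  refine IsStronglyCartesian.ext 𝒳.p (pp T I) m (g := nj T I ≫ pc T I ⟨false⟩) ?_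
  rw [Category.assoc, Category.assoc, hem, hem]

include ε in
theorem Good.exists_data {I : Type} {z : 𝒳.p.Fiber (nP T I)} (h : Good x z) :
    ∃ c A, Tw G c z ∧ LData hst G c A := by
  have hp := hst.1
  obtain ⟨mQ, hQ⟩ := exists_to_base G ε (oQ T I)
  obtain ⟨c, hc⟩ := exists_tw hp G z fun b => by
    obtain ⟨w, e, m, he, hm'⟩ := h.1 b
    obtain ⟨χ, hχ⟩ := exists_compare hp (bcp T _ : nQ T I ⟶ T) mQ m hQ hm'
    exact ⟨χ.hom ≫ e, lift_id_comp' (f := pc T I b) hχ he⟩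
  have hA : ∀ i, ∃ A, r (hj T Unit) A = r (ho T fun _ : Unit => i) c := fun i => by
    obtain ⟨w, ⟨mr, hmr⟩, m, hm'⟩ := h.2 i
    obtain ⟨u₀, u₁, hu⟩ := Tw.rel G hp (hc.restrict G hp _ mr hmr) (tw_one_of_hom hst G ε m hm') (Iso.refl w)
    refine ⟨u₀ * u₁⁻¹, ?_⟩
    have h2 : r (ho T fun _ : Unit => i) c = r (hj T Unit) u₀ * 1 * (r (hj T Unit) u₁)⁻¹ := by
      rw [hu]; simp [mul_assoc]
    rw [h2, map_mul, _root_.map_inv, mul_one]
  choose A hA using hA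
  exact ⟨c, A, hc, hA⟩

include ε in
theorem good_of_data {I : Type} {z : 𝒳.p.Fiber (nP T I)} {c : Gerb.AutO (G.obj (oO T I))}
    {A : I → Gerb.AutO (G.obj (oQ T Unit))} (hc : Tw G c z) (hA : LData hst G c A) : Good x z := by
  have hp := hst.1
  have := isFibered_of_isFibGrpd 𝒳.p hp
  refine ⟨fun b => ?_, fun i => ?_⟩
  · obtain ⟨e, he, -⟩ := hc
    obtain ⟨mQ, hQ⟩ := exists_to_base G ε (oQ T I)
    exact ⟨⟨G.obj (oQ T I), G.w_obj _⟩, e b, mQ, he b, hQ⟩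
  · obtain ⟨w, mr, hmr⟩ := exists_stronglyCartesian 𝒳.p z.2 (pm T fun _ : Unit => i)
    obtain ⟨v, mv, hmv⟩ := exists_stronglyCartesian 𝒳.p x.2 (pp T Unit)
    have hw := hmr.toIsHomLift
    have hv := hmv.toIsHomLift
    let ww : 𝒳.p.Fiber (nP T Unit) := ⟨w, @IsHomLift.domain_eq _ _ _ _ 𝒳.p _ _ _ _ _ mr hw⟩
    let vv : 𝒳.p.Fiber (nP T Unit) := ⟨v, @IsHomLift.domain_eq _ _ _ _ 𝒳.p _ _ _ _ _ mv hv⟩
    have h1 := (hc.restrict G hp (z' := ww) _ mr hw).change G hp (A i) 1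
    rw [hA i, map_one, mul_one, inv_mul_cancel] at h1
    obtain ⟨j⟩ := h1.iso G hst (tw_one_of_hom hst G ε (w := vv) mv hv)
    exact ⟨ww, ⟨mr, hw⟩, j.hom.1 ≫ mv, lift_id_comp' (f := pp T Unit) j.hom.2 hv⟩

theorem iso_of_change {I : Type} {c c' : Gerb.AutO (G.obj (oO T I))} {z z' : 𝒳.p.Fiber (nP T I)}
    (h : Tw G c z) (h' : Tw G c' z') (u₀ u₁ : Gerb.AutO (G.obj (oQ T I)))
    (e : c' = (r (hj T I) u₀)⁻¹ * c * r (hj T I) u₁) : Nonempty (z ≅ z') :=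
  (e ▸ h.change G hst.1 u₀ u₁ : Tw G c' z).iso G hst h'

include hst ε in
theorem comm_of_isAutAbelian (hab : IsoNat.IsAutAbelian x) (g : (FibCat.overCat T).obj)
    (a b : Gerb.AutO (G.obj g)) : a * b = b * a := by
  obtain ⟨m, -⟩ := exists_to_base G ε g
  exact hab (𝒳.p.obj (G.obj g)) (Gerb.fib (G.obj g)) m a b

include hst hd ε in
theorem crit_of_abelian (hab : IsoNat.IsAutAbelian x) : Crit x := by
  intro z z' hz hz' hr'
  have hcomm := comm_of_isAutAbelian hst G ε hab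
  have hp := hst.1
  have := isFibered_of_isFibGrpd 𝒳.p hp
  obtain ⟨c, A, hc, hA⟩ := hz.exists_data hst G ε
  obtain ⟨c', A', hc', hA'⟩ := hz'.exists_data hst G ε
  have hh : ∀ i : Fin 3, r (hpt T) ((A i)⁻¹ * A' i) = r (hpt T) ((A 0)⁻¹ * A' 0) := fun i => by
    let f : Fin 2 → Fin 3 := ![0, i]
    obtain ⟨w, m, hm'⟩ := exists_stronglyCartesian 𝒳.p z.2 (pm T f)
    obtain ⟨w', m', hm''⟩ := exists_stronglyCartesian 𝒳.p z'.2 (pm T f)
    have hw := hm'.toIsHomLift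
    have hw' := hm''.toIsHomLift
    let ww : 𝒳.p.Fiber (nP T (Fin 2)) := ⟨w, @IsHomLift.domain_eq _ _ _ _ 𝒳.p _ _ _ _ _ m hw⟩
    let ww' : 𝒳.p.Fiber (nP T (Fin 2)) := ⟨w', @IsHomLift.domain_eq _ _ _ _ 𝒳.p _ _ _ _ _ m' hw'⟩
    obtain ⟨e⟩ := hr' f rfl ww ww' ⟨m, hw⟩ ⟨m', hw'⟩
    obtain ⟨u₀, u₁, hu⟩ := Tw.rel G hp (hc.restrict G hp (z' := ww) _ m hw) (hc'.restrict G hp (z' := ww') _ m' hw') e.symm
    have key := fun k => LData.change hst hd G (hA.restrict hst G f) (hA'.restrict hst G f) hu k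
    have k0 : A' 0 = _ := key 0
    have k1 : A' i = _ := key 1
    rw [k0, k1]
    simp only [map_mul, _root_.map_inv, pt_line hst G (0 : Fin 2) 1]
    have hc₂ := hcomm (one T)
    generalize r (hpt T) (r (hq T fun _ : Unit => (1 : Fin 2)) u₀) = h0
    generalize r (hpt T) (r (hq T fun _ : Unit => (1 : Fin 2)) u₁) = h1
    change (r (hpt T) (A i))⁻¹ * (h0⁻¹ * r (hpt T) (A i) * h1) =
      (r (hpt T) (A 0))⁻¹ * (h0⁻¹ * r (hpt T) (A 0) * h1)
    rw [hc₂ h0⁻¹ (r (hpt T) (A i)), hc₂ h0⁻¹ (r (hpt T) (A 0))]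
    simp only [← mul_assoc, inv_mul_cancel, one_mul]
  let d := fun i : Fin 3 => (A i)⁻¹ * A' i
  let h := r (hpt T) (d 0)
  let D := r (hr T 0) (d 0) * r (hr T 1) (d 1) * r (hr T 2) (d 2) * ((r (toOne (oQ T (Fin 3))) h)⁻¹ ^ 2)
  have hdi : ∀ i, r (hpt T) (d i) = h := hh
  let C := r (toOne (oQ T Unit)) h
  have hD : ∀ k : Fin 3, r (hq T fun _ : Unit => k) D = d k := by
    intro k
    have hk := hcomm (oQ T Unit)
    fin_cases k
    · show r (hq T fun _ : Unit => (0 : Fin 3)) D = d 0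
      simp only [D, map_mul, map_pow, _root_.map_inv, retr_self hst G, retr_ne hst G (show (0 : Fin 3) ≠ 1 by decide),
        retr_ne hst G (show (0 : Fin 3) ≠ 2 by decide), res_toOne hst G, hdi]
      show d 0 * C * C * C⁻¹ ^ 2 = d 0
      group
    · show r (hq T fun _ : Unit => (1 : Fin 3)) D = d 1
      simp only [D, map_mul, map_pow, _root_.map_inv, retr_self hst G, retr_ne hst G (show (1 : Fin 3) ≠ 0 by decide),
        retr_ne hst G (show (1 : Fin 3) ≠ 2 by decide), res_toOne hst G, hdi]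
      show C * d 1 * C * C⁻¹ ^ 2 = d 1
      rw [hk C (d 1)]
      group
    · show r (hq T fun _ : Unit => (2 : Fin 3)) D = d 2
      simp only [D, map_mul, map_pow, _root_.map_inv, retr_self hst G, retr_ne hst G (show (2 : Fin 3) ≠ 0 by decide),
        retr_ne hst G (show (2 : Fin 3) ≠ 1 by decide), res_toOne hst G, hdi]
      show C * C * d 2 * C⁻¹ ^ 2 = d 2
      rw [hk (C * C) (d 2)]
      group
  refine iso_of_change hst G hc hc' 1 D (pieces_ext hst G fun i => ?_)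
  rw [map_one, inv_one, one_mul, map_mul, res_line hst G, hD, ← hA' i, ← hA i, ← map_mul, mul_inv_cancel_left]

include hst hd ε in
theorem comm_of_crit (h : Crit x) (a g : Gerb.AutO (G.obj (one T))) : g * a * g⁻¹ = a := by
  have hp := hst.1
  let cst := fun a : Gerb.AutO (G.obj (one T)) => r (toOne (oQ T Unit)) a
  let A : Fin 3 → Gerb.AutO (G.obj (oQ T Unit)) := ![1, cst a, cst a]
  let A' : Fin 3 → Gerb.AutO (G.obj (oQ T Unit)) := ![1, cst a, cst (g * a * g⁻¹)]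
  obtain ⟨c, hA⟩ := exists_ldata hst G A
  obtain ⟨c', hA'⟩ := exists_ldata hst G A'
  obtain ⟨z, hz⟩ := exists_tw_object G hst c
  obtain ⟨z', hz'⟩ := exists_tw_object G hst c'
  obtain ⟨e⟩ := h z z' (good_of_data hst G ε hz hA) (good_of_data hst G ε hz' hA') fun f hf w w' ⟨m, hm'⟩ ⟨m', hm''⟩ => by
    have h1 := hz.restrict G hp f m hm'
    have h2 := hz'.restrict G hp f m' hm''
    by_cases hf2 : f 1 = 2
    · refine iso_of_change hst G h1 h2 (r (toOne _) g⁻¹) (r (toOne _) g⁻¹) (pieces_ext hst G fun k => ?_)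
      have e1 := (hA'.restrict hst G f k).symm
      have e0 := (hA.restrict hst G f k).symm
      simp only [map_mul, _root_.map_inv, res_line hst G, res_toOne hst G, e1, e0]
      fin_cases k
      · show r (hj T Unit) (A' (f 0)) = _ * r (hj T Unit) (A (f 0)) * _
        rw [hf]
        simp [A, A']
      · show r (hj T Unit) (A' (f 1)) = _ * r (hj T Unit) (A (f 1)) * _
        rw [hf2]
        simp [A, A', cst, map_mul, res_toOne hst G]
    · refine iso_of_change hst G h1 h2 1 1 (pieces_ext hst G fun k => ?_)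
      have e1 := (hA'.restrict hst G f k).symm
      have e0 := (hA.restrict hst G f k).symm
      simp only [map_one, inv_one, one_mul, mul_one, e1, e0]
      have hk : A' (f k) = A (f k) := by
        have : f k ≠ 2 := by
          fin_cases k
          · simp [hf]
          · exact hf2
        generalize f k = i at *
        fin_cases i <;> simp_all [A, A']
      rw [hk]
  obtain ⟨u₀, u₁, hu⟩ := Tw.rel G hp hz hz' e.symm
  have key := fun i => congrArg (r (hpt T)) (LData.change hst hd G hA hA' hu i)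
  have k0 := key 0
  have k1 := key 1
  have k2 := key 2
  simp only [A, A', cst, map_mul, _root_.map_inv, map_one, pt_const hst G, pt_line hst G (0 : Fin 3) 2,
    pt_line hst G (1 : Fin 3) 2, Matrix.cons_val_zero, Matrix.cons_val_one, Matrix.cons_val] at k0 k1 k2
  rw [k2, ← k1]

/-- The element attached to an object on two lines. -/
def Inv (z : 𝒳.p.Fiber (nP T (Fin 2))) (a : Gerb.AutO (G.obj (one T))) : Prop :=
  ∃ c A, Tw G c z ∧ LData hst G c A ∧ a = (r (hpt T) (A 0))⁻¹ * r (hpt T) (A 1)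

include ε in
theorem exists_inv {z : 𝒳.p.Fiber (nP T (Fin 2))} (h : Good x z) : ∃ a, Inv hst G z a := by
  obtain ⟨c, A, hc, hA⟩ := h.exists_data hst G ε
  exact ⟨_, c, A, hc, hA, rfl⟩

include hst hd in
theorem inv_unique (hcomm : ∀ g (a b : Gerb.AutO (G.obj g)), a * b = b * a) {z z' : 𝒳.p.Fiber (nP T (Fin 2))}
    {a a' : Gerb.AutO (G.obj (one T))} (h : Inv hst G z a) (h' : Inv hst G z' a') :
    Nonempty (z ≅ z') ↔ a = a' := by
  obtain ⟨c, A, hc, hA, rfl⟩ := h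
  obtain ⟨c', A', hc', hA', rfl⟩ := h'
  have hk := hcomm (oQ T Unit)
  have h0 := hcomm (one T)
  constructor
  · rintro ⟨e⟩
    obtain ⟨u₀, u₁, hu⟩ := Tw.rel G hst.1 hc hc' e.symm
    rw [LData.change hst hd G hA hA' hu 0, LData.change hst hd G hA hA' hu 1]
    simp only [map_mul, _root_.map_inv, pt_line hst G (0 : Fin 2) 1]
    generalize r (hpt T) (A 0) = p
    generalize r (hpt T) (A 1) = q
    generalize r (hpt T) (r (hq T fun _ : Unit => (1 : Fin 2)) u₀) = v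
    generalize r (hpt T) (r (hq T fun _ : Unit => (1 : Fin 2)) u₁) = w
    calc p⁻¹ * q = w⁻¹ * w * (p⁻¹ * q) := by group
      _ = w⁻¹ * (p⁻¹ * q * w) := by rw [mul_assoc, h0 w]
      _ = _ := by group
  · intro he
    let d := fun i : Fin 2 => (A i)⁻¹ * A' i
    have hd01 : r (hpt T) (d 1) = r (hpt T) (d 0) := by
      simp only [d, map_mul, _root_.map_inv]
      generalize r (hpt T) (A 0) = p, r (hpt T) (A 1) = q, r (hpt T) (A' 0) = p', r (hpt T) (A' 1) = q' at he ⊢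
      calc q⁻¹ * q' = q⁻¹ * (p' * (p'⁻¹ * q')) := by group
        _ = q⁻¹ * ((p⁻¹ * q) * p') := by rw [← he, h0 p']
        _ = (q⁻¹ * p⁻¹) * q * p' := by group
        _ = (p⁻¹ * q⁻¹) * q * p' := by rw [h0 q⁻¹]
        _ = _ := by group
    let D := r (hr T 0) (d 0) * r (hr T 1) (d 1) * (r (toOne (oQ T (Fin 2))) (r (hpt T) (d 0)))⁻¹
    have hD : ∀ k : Fin 2, r (hq T fun _ : Unit => k) D = d k := by
      intro k
      fin_cases k
      · show r (hq T fun _ : Unit => (0 : Fin 2)) D = d 0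
        simp only [D, map_mul, _root_.map_inv, retr_self hst G, retr_ne hst G (show (0 : Fin 2) ≠ 1 by decide),
          res_toOne hst G, hd01, mul_inv_cancel_right]
      · show r (hq T fun _ : Unit => (1 : Fin 2)) D = d 1
        simp only [D, map_mul, _root_.map_inv, retr_self hst G, retr_ne hst G (show (1 : Fin 2) ≠ 0 by decide),
          res_toOne hst G]
        rw [hk (r (toOne (oQ T Unit)) (r (hpt T) (d 0))) (d 1), mul_inv_cancel_right]
    refine iso_of_change hst G hc hc' 1 D (pieces_ext hst G fun i => ?_)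
    rw [map_one, inv_one, one_mul, map_mul, res_line hst G, hD, ← hA' i, ← hA i, ← map_mul, mul_inv_cancel_left]

include ε in
theorem exists_good_inv (a : Gerb.AutO (G.obj (one T))) :
    ∃ z : 𝒳.p.Fiber (nP T (Fin 2)), Good x z ∧ Inv hst G z a := by
  let A : Fin 2 → Gerb.AutO (G.obj (oQ T Unit)) := ![1, r (toOne (oQ T Unit)) a]
  obtain ⟨c, hA⟩ := exists_ldata hst G A
  obtain ⟨z, hz⟩ := exists_tw_object G hst c
  refine ⟨z, good_of_data hst G ε hz hA, c, A, hz, hA, ?_⟩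
  simp [A, map_one, pt_const hst G]

end Stack

theorem exists_functor {𝒳 : AlgSt.Cat S} (hp : FibCat.IsFibGrpd 𝒳.p) (x : 𝒳.p.Fiber T) :
    ∃ G : FibCat.overCat T ⥤ᵇ 𝒳, Nonempty (Functor.Fiber.mk (p := 𝒳.p) (G.w_obj (one T)) ≅ x) := by
  have := isFibered_of_isFibGrpd 𝒳.p hp
  obtain ⟨G, -, h⟩ := exists_evalAtId_iso (𝒳 := 𝒳) (U := T) x
  exact ⟨G, h⟩

variable {𝒳 𝒴 : AlgSt.Cat S}

/-- Abelian automorphism sheaves are seen by the presheaf of isomorphism classes. -/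
theorem isAutAbelian_transfer (h𝒳 : Stk.IsStack (QuotSh.J Scheme.fppfPrecoverage S) 𝒳)
    (h𝒳d : AlgSt.RepByAlgSpWith AlgSp.IsSeparatedMor (FibCat.diag (FibCat.toSelf 𝒳)))
    (h𝒴 : Stk.IsStack (QuotSh.J Scheme.fppfPrecoverage S) 𝒴)
    (h𝒴d : AlgSt.RepByAlgSpWith AlgSp.IsSeparatedMor (FibCat.diag (FibCat.toSelf 𝒴)))
    (φ : IsoNat.FIso 𝒳 𝒴) (η : 𝒳.p.Fiber T) (η' : 𝒴.p.Fiber T)
    (hη : φ.toEquiv T (IsoNat.cls η) = IsoNat.cls η') (hab : IsoNat.IsAutAbelian η) :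
    IsoNat.IsAutAbelian η' := by
  intro T' y b
  have := isFibered_of_isFibGrpd 𝒳.p h𝒳.1
  let g : T' ⟶ T := eqToHom y.2.symm ≫ 𝒴.p.map b ≫ eqToHom η'.2
  have hb : 𝒴.p.IsHomLift g b := IsHomLift.of_fac _ _ _ y.2 η'.2 rfl
  obtain ⟨x₀, a, ha⟩ := exists_stronglyCartesian 𝒳.p η.2 g
  have ha' := ha.toIsHomLift
  let x : 𝒳.p.Fiber T' := ⟨x₀, @IsHomLift.domain_eq _ _ _ _ 𝒳.p _ _ _ _ g a ha'⟩
  obtain ⟨y', hy'⟩ := exists_cls φ x
  obtain ⟨b', hb'⟩ := exists_hom_transfer φ g (x' := x) (x := η) a ha' hy' hη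
  obtain ⟨χ, hχ⟩ := exists_compare h𝒴.1 g b' b hb' hb
  let χm : y' ⟶ y := ⟨χ.hom, hχ⟩
  have := isGroupoid_fiber 𝒴.p h𝒴.1 T'
  have : IsIso χm := IsGroupoid.all_isIso χm
  have hxy : φ.toEquiv T' (IsoNat.cls x) = IsoNat.cls y := hy'.trans (Quotient.sound ⟨asIso χm⟩)
  have hxab : IsoNat.IsAutAbelian x := fun T'' v m => hab T'' v (m ≫ a)
  obtain ⟨G, ⟨ε⟩⟩ := exists_functor h𝒳.1 x
  obtain ⟨G', ⟨ε'⟩⟩ := exists_functor h𝒴.1 y
  have hy : Crit y := (crit_of_abelian h𝒳 h𝒳d G ε hxab).transfer h𝒳.1 h𝒴.1 φ hxy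
  obtain ⟨eq⟩ := exists_autO_equiv (z := G'.obj (one T')) (G'.w_obj (one T'))
  intro s t
  have := comm_of_crit h𝒴 h𝒴d G' ε' hy ((eq.trans ε'.conjAut).symm t) ((eq.trans ε'.conjAut).symm s)
  apply (eq.trans ε'.conjAut).symm.injective
  exact (MulEquiv.map_mul _ _ _).trans ((mul_inv_eq_iff_eq_mul.1 this).trans (MulEquiv.map_mul _ _ _).symm)

/-- Abelian automorphism groups are seen by the presheaf of isomorphism classes. -/
theorem nonempty_aut_equiv (h𝒳 : Stk.IsStack (QuotSh.J Scheme.fppfPrecoverage S) 𝒳)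
    (h𝒳d : AlgSt.RepByAlgSpWith AlgSp.IsSeparatedMor (FibCat.diag (FibCat.toSelf 𝒳)))
    (h𝒴 : Stk.IsStack (QuotSh.J Scheme.fppfPrecoverage S) 𝒴)
    (h𝒴d : AlgSt.RepByAlgSpWith AlgSp.IsSeparatedMor (FibCat.diag (FibCat.toSelf 𝒴)))
    (φ : IsoNat.FIso 𝒳 𝒴) (η : 𝒳.p.Fiber T) (η' : 𝒴.p.Fiber T)
    (hη : φ.toEquiv T (IsoNat.cls η) = IsoNat.cls η') (hab : IsoNat.IsAutAbelian η) :
    Nonempty (Aut η ≃* Aut η') := by
  have hab' := isAutAbelian_transfer h𝒳 h𝒳d h𝒴 h𝒴d φ η η' hη hab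
  obtain ⟨G, ⟨ε⟩⟩ := exists_functor h𝒳.1 η
  obtain ⟨G', ⟨ε'⟩⟩ := exists_functor h𝒴.1 η'
  have hc := comm_of_isAutAbelian h𝒳 G ε hab
  have hc' := comm_of_isAutAbelian h𝒴 G' ε' hab'
  let Rel : Gerb.AutO (G.obj (one T)) → Gerb.AutO (G'.obj (one T)) → Prop := fun a b =>
    ∃ (z : 𝒳.p.Fiber (nP T (Fin 2))) (z' : 𝒴.p.Fiber (nP T (Fin 2))),
      φ.toEquiv _ (IsoNat.cls z) = IsoNat.cls z' ∧ Inv h𝒳 G z a ∧ Inv h𝒴 G' z' b
  have hl : ∀ a, ∃ b, Rel a b := fun a => by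
    obtain ⟨z, hg, hi⟩ := exists_good_inv h𝒳 G ε a
    obtain ⟨z', hz'⟩ := exists_cls φ z
    obtain ⟨b, hb⟩ := exists_inv h𝒴 G' ε' (hg.transfer φ hη hz')
    exact ⟨b, z, z', hz', hi, hb⟩
  have huniq : ∀ {a a' b b'}, Rel a b → Rel a' b' → (a = a' ↔ b = b') := by
    rintro a a' b b' ⟨z, z', hz, hi, hi'⟩ ⟨w, w', hw, hj, hj'⟩
    rw [← inv_unique h𝒳 h𝒳d G hc hi hj, ← inv_unique h𝒴 h𝒴d G' hc' hi' hj']
    exact iso_transfer φ hz hw
  choose θ hθ using hl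
  have hsurj : ∀ b, ∃ a, θ a = b := fun b => by
    obtain ⟨z', hg, hi'⟩ := exists_good_inv h𝒴 G' ε' b
    obtain ⟨z, hz⟩ := exists_cls' φ z'
    have hs : (fisoSymm h𝒳.1 h𝒴.1 φ).toEquiv T (IsoNat.cls η') = IsoNat.cls η := (Equiv.symm_apply_eq _).2 hη.symm
    obtain ⟨a, ha⟩ := exists_inv h𝒳 G ε (hg.transfer _ hs ((Equiv.symm_apply_eq _).2 hz.symm))
    exact ⟨a, (huniq (hθ a) ⟨z, z', hz, ha, hi'⟩).1 rfl⟩
  have hmul : ∀ a b, θ (a * b) = θ a * θ b := fun a b => by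
    have := isFibered_of_isFibGrpd 𝒳.p h𝒳.1
    let cst := fun a : Gerb.AutO (G.obj (one T)) => resA h𝒳.1 G (toOne (oQ T Unit)) a
    let A : Fin 3 → Gerb.AutO (G.obj (oQ T Unit)) := ![1, cst a, cst (a * b)]
    obtain ⟨c, hA⟩ := exists_ldata h𝒳 G A
    obtain ⟨w, hw⟩ := exists_tw_object G h𝒳 c
    obtain ⟨w', hw'⟩ := exists_cls φ w
    obtain ⟨c', A', htw', hA'⟩ := ((good_of_data h𝒳 G ε hw hA).transfer φ hη hw').exists_data h𝒴 G' ε'
    have hkey : ∀ f : Fin 2 → Fin 3,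
        θ ((resA h𝒳.1 G (hpt T) (A (f 0)))⁻¹ * resA h𝒳.1 G (hpt T) (A (f 1))) =
          (resA h𝒴.1 G' (hpt T) (A' (f 0)))⁻¹ * resA h𝒴.1 G' (hpt T) (A' (f 1)) := fun f => by
      obtain ⟨v, m, hm'⟩ := exists_stronglyCartesian 𝒳.p w.2 (pm T f)
      have hv := hm'.toIsHomLift
      let vv : 𝒳.p.Fiber (nP T (Fin 2)) := ⟨v, @IsHomLift.domain_eq _ _ _ _ 𝒳.p _ _ _ _ _ m hv⟩
      obtain ⟨v', hv'⟩ := exists_cls φ vv
      obtain ⟨m', hm''⟩ := Restr.transfer φ (z := w) (w := vv) ⟨m, hv⟩ hw' hv'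
      exact (huniq (hθ _) ⟨vv, v', hv',
        ⟨_, _, hw.restrict G h𝒳.1 (z' := vv) f m hv, hA.restrict h𝒳 G f, rfl⟩,
        ⟨_, _, htw'.restrict G' h𝒴.1 f m' hm'', hA'.restrict h𝒴 G' f, rfl⟩⟩).1 rfl
    have h1 := hkey ![0, 1]
    have h2 := hkey ![1, 2]
    have h3 := hkey ![0, 2]
    simp only [A, cst, pt_const h𝒳 G, map_one, inv_one, one_mul, Matrix.cons_val_zero, Matrix.cons_val_one,
      Matrix.cons_val, inv_mul_cancel_left] at h1 h2 h3
    rw [h3, h1, h2]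
    group
  let e : Gerb.AutO (G.obj (one T)) ≃* Gerb.AutO (G'.obj (one T)) :=
    MulEquiv.ofBijective (MonoidHom.mk' θ hmul)
      ⟨fun a a' h => (huniq (hθ a) (hθ a')).2 h, hsurj⟩
  obtain ⟨e₁⟩ := exists_autO_equiv (z := G.obj (one T)) (G.w_obj (one T))
  obtain ⟨e₂⟩ := exists_autO_equiv (z := G'.obj (one T)) (G'.w_obj (one T))
  exact ⟨(e₁.trans ε.conjAut).symm.trans (e.trans (e₂.trans ε'.conjAut))⟩

end Groth.Agent.AlgStLib
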