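import Groth.Prelude.Def_AlgSt
import Groth.Agent.FibBasics.Fp
import Groth.Agent.FibBasics.Whisker
import Groth.Agent.FibBasics.Gerbe
import Groth.Agent.FibBasics.Yoneda
import Mathlib

/-!
Stacks: 2-fibre products, and categories of sheaves of sets.
-/

set_option autoImplicit false
set_option backward.isDefEq.respectTransparency false
set_option backward.isDefEq.respectTransparency.types false

universe w v u

open CategoryTheory CategoryTheory.Limits CategoryTheory.Functor Opposite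

namespace Groth.Agent.AlgStLib

open Groth.Agent Groth.Agent.FibBasics

variable {C : Type u} [Category.{v} C] {J : GrothendieckTopology C}

namespace PshStk

variable {P : Cᵒᵖ ⥤ Type w}

universe v' u'

variable {𝒜 : BasedCategory.{v', u'} C}

/-- The section underlying the image of an object. -/
def sec (Φ : 𝒜 ⥤ᵇ Stk.ofPsh P) (a : 𝒜.obj) : P.obj (op (𝒜.p.obj a)) :=
  P.map (eqToHom (Φ.w_obj a).symm).op (Φ.obj a).sec

theorem sec_natural (Φ : 𝒜 ⥤ᵇ Stk.ofPsh P) {a b : 𝒜.obj} (f : a ⟶ b) :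
    P.map (𝒜.p.map f).op (sec Φ b) = sec Φ a := by
  have h2 : (Φ.map f).hom = eqToHom (Φ.w_obj a) ≫ 𝒜.p.map f ≫ eqToHom (Φ.w_obj b).symm :=
    @IsHomLift.fac' _ _ _ _ (Stk.ofPsh P).p _ _ _ _ (𝒜.p.map f) (Φ.map f)
      (BasedFunctor.preserves_isHomLift Φ (𝒜.p.map f) f)
  have h3 : eqToHom (Φ.w_obj a).symm ≫ (Φ.map f).hom = 𝒜.p.map f ≫ eqToHom (Φ.w_obj b).symm := by
    rw [h2]; simp
  refine (Functor.map_comp_apply P _ _ _).symm.trans ?_
  refine Eq.trans ?_ (congrArg (fun t => P.map (eqToHom (Φ.w_obj a).symm).op t) (Φ.map f).map_sec)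
  refine Eq.trans ?_ (Functor.map_comp_apply P _ _ _)
  exact congrArg (fun m => P.map m (Φ.obj b).sec) (congrArg Quiver.Hom.op h3).symm

theorem exists_hom {Φ Ψ : 𝒜 ⥤ᵇ Stk.ofPsh P} {a : 𝒜.obj} (h : sec Φ a = sec Ψ a) :
    ∃ m : Φ.obj a ⟶ Ψ.obj a, (Stk.ofPsh P).p.IsHomLift (𝟙 (𝒜.p.obj a)) m := by
  refine ⟨⟨eqToHom ((Φ.w_obj a).trans (Ψ.w_obj a).symm), ?_⟩,
    IsHomLift.of_fac _ _ _ (Φ.w_obj a) (Ψ.w_obj a) (by simp)⟩
  have h' : P.map (eqToHom (Φ.w_obj a)).op (sec Ψ a) = (Φ.obj a).sec := by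
    rw [← h, sec]
    refine (Functor.map_comp_apply P _ _ _).symm.trans ?_
    rw [← op_comp, eqToHom_trans]
    simp
  refine Eq.trans ?_ h'
  refine Eq.trans ?_ (Functor.map_comp_apply P _ _ _)
  rw [← op_comp, eqToHom_trans]
  rfl

theorem sec_eq_of_hom {Φ Ψ : 𝒜 ⥤ᵇ Stk.ofPsh P} {a : 𝒜.obj} (m : Φ.obj a ⟶ Ψ.obj a)
    (hm : (Stk.ofPsh P).p.IsHomLift (𝟙 (𝒜.p.obj a)) m) : sec Φ a = sec Ψ a := by
  have h : m.hom = eqToHom (Φ.w_obj a) ≫ 𝟙 (𝒜.p.obj a) ≫ eqToHom (Ψ.w_obj a).symm :=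
    @IsHomLift.fac' _ _ _ _ (Stk.ofPsh P).p _ _ _ _ (𝟙 (𝒜.p.obj a)) m hm
  show P.map _ (Φ.obj a).sec = P.map _ (Ψ.obj a).sec
  rw [← m.map_sec]
  refine (Functor.map_comp_apply P _ _ _).symm.trans ?_
  rw [h, ← op_comp]
  simp

theorem hom_ext {a b : (Stk.ofPsh P).obj} {R T : C} (g : R ⟶ T) (φ ψ : a ⟶ b)
    (hφ : (Stk.ofPsh P).p.IsHomLift g φ) (hψ : (Stk.ofPsh P).p.IsHomLift g ψ) : φ = ψ :=
  Stk.EltObj.hom_ext ((@IsHomLift.fac' _ _ _ _ (Stk.ofPsh P).p _ _ _ _ g φ hφ).trans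
    (@IsHomLift.fac' _ _ _ _ (Stk.ofPsh P).p _ _ _ _ g ψ hψ).symm)

theorem natTrans_ext {Φ Ψ : 𝒜 ⥤ᵇ Stk.ofPsh P} (α β : Φ ⟶ Ψ) : α = β := by
  apply BasedNatTrans.homCategory.ext
  apply NatTrans.ext
  funext a
  exact hom_ext (𝟙 (𝒜.p.obj a)) _ _ (α.isHomLift' a) (β.isHomLift' a)

/-- The comparison of functors with the same sections. -/
noncomputable def secHom {Φ Ψ : 𝒜 ⥤ᵇ Stk.ofPsh P} (h : ∀ a, sec Φ a = sec Ψ a) : Φ ⟶ Ψ where
  toNatTrans :=
    { app := fun a => (exists_hom (h a)).choose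
      naturality := fun {a b} f => by
        have := (exists_hom (h a)).choose_spec
        have := (exists_hom (h b)).choose_spec
        have : (Stk.ofPsh P).p.IsHomLift (𝒜.p.map f) (Φ.map f) := BasedFunctor.preserves_isHomLift Φ (𝒜.p.map f) f
        have : (Stk.ofPsh P).p.IsHomLift (𝒜.p.map f) (Ψ.map f) := BasedFunctor.preserves_isHomLift Ψ (𝒜.p.map f) f
        exact hom_ext (𝒜.p.map f) _ _ inferInstance inferInstance }
  isHomLift' a := (exists_hom (h a)).choose_spec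

noncomputable def secIso {Φ Ψ : 𝒜 ⥤ᵇ Stk.ofPsh P} (h : ∀ a, sec Φ a = sec Ψ a) : Φ ≅ Ψ where
  hom := secHom h
  inv := secHom fun a => (h a).symm
  hom_inv_id := natTrans_ext _ _
  inv_hom_id := natTrans_ext _ _

/-- The functor defined by a compatible family of sections. -/
def famFun (s : ∀ a : 𝒜.obj, P.obj (op (𝒜.p.obj a)))
    (hs : ∀ {a b : 𝒜.obj} (f : a ⟶ b), P.map (𝒜.p.map f).op (s b) = s a) : 𝒜 ⥤ᵇ Stk.ofPsh P where
  toFunctor :=
    { obj := fun a => ⟨𝒜.p.obj a, s a⟩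
      map := fun f => ⟨𝒜.p.map f, hs f⟩
      map_id := fun _ => Stk.EltObj.hom_ext (𝒜.p.map_id _)
      map_comp := fun _ _ => Stk.EltObj.hom_ext (𝒜.p.map_comp _ _) }
  w := rfl

theorem sec_famFun (s : ∀ a : 𝒜.obj, P.obj (op (𝒜.p.obj a)))
    (hs : ∀ {a b : 𝒜.obj} (f : a ⟶ b), P.map (𝒜.p.map f).op (s b) = s a) (a : 𝒜.obj) :
    sec (famFun s hs) a = s a := by
  show P.map (𝟙 (𝒜.p.obj a)).op (s a) = s a
  simp

variable {U : C}

theorem sec_over (K : FibCat.overCat U ⥤ᵇ Stk.ofPsh P) (g : (FibCat.overCat U).obj) :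
    sec K g = P.map g.hom.op (sec K (one U)) := (sec_natural K (toOne g)).symm

/-- The functor on a slice defined by a section. -/
def overFun (σ : P.obj (op U)) : FibCat.overCat U ⥤ᵇ Stk.ofPsh P :=
  famFun (fun g => P.map g.hom.op σ) fun {a b} f => by
    refine (Functor.map_comp_apply P _ _ _).symm.trans ?_
    rw [← op_comp]
    exact congrArg (fun m => P.map (Quiver.Hom.op m) σ) (Over.w f)

theorem sec_overFun (σ : P.obj (op U)) (g : (FibCat.overCat U).obj) :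
    sec (overFun σ) g = P.map g.hom.op σ := by
  show P.map (𝟙 g.left).op (P.map g.hom.op σ) = P.map g.hom.op σ
  simp

theorem isFibGrpd_ofPsh' (P : Cᵒᵖ ⥤ Type w) : FibCat.IsFibGrpd (Stk.ofPsh P).p := Stk.isFibGrpd_ofPsh _

theorem isStack_ofPsh (hP : Presieve.IsSheaf J P) : Stk.IsStack J (Stk.ofPsh P) := by
  refine ⟨isFibGrpd_ofPsh' P, fun U R hR => ?_⟩
  have hs := hP R hR
  refine (Functor.IsEquivalence.mk (faithful := ⟨fun {G H α β} _ => natTrans_ext _ _⟩)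
    (full := ⟨fun {G H} α => ?_⟩) (essSurj := ⟨fun H => ?_⟩) : (Stk.resSieve R (Stk.ofPsh P)).IsEquivalence)
  · have h1 : sec G (one U) = sec H (one U) := hs.isSeparatedFor.ext fun V g hg =>
      ((sec_over G (Over.mk g)).symm.trans (sec_eq_of_hom (α.toNatTrans.app ⟨Over.mk g, hg⟩)
        (α.isHomLift' ⟨Over.mk g, hg⟩))).trans (sec_over H (Over.mk g))
    exact ⟨secHom fun g => (sec_over G g).trans
      ((congrArg (fun t => P.map g.hom.op t) h1).trans (sec_over H g).symm), natTrans_ext _ _⟩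
  · let fam : Presieve.FamilyOfElements P R.arrows := fun W g hg => sec H ⟨Over.mk g, hg⟩
    have hfam : fam.Compatible := fun W₁ W₂ W g₁ g₂ f₁ f₂ h₁ h₂ w => by
      have k₁ := sec_natural H (ObjectProperty.homMk (Over.homMk g₁ rfl) :
        (⟨Over.mk (g₁ ≫ f₁), R.downward_closed h₁ g₁⟩ : (Stk.sieveCat R).obj) ⟶ ⟨Over.mk f₁, h₁⟩)
      have k₂ := sec_natural H (ObjectProperty.homMk (Over.homMk g₂ w.symm) :
        (⟨Over.mk (g₁ ≫ f₁), R.downward_closed h₁ g₁⟩ : (Stk.sieveCat R).obj) ⟶ ⟨Over.mk f₂, h₂⟩)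
      exact k₁.trans k₂.symm
    obtain ⟨σ, hσ, -⟩ := hs fam hfam
    exact ⟨overFun σ, ⟨secIso fun x => (sec_overFun σ x.obj).trans (hσ x.obj.hom x.property)⟩⟩

theorem isSheaf_of_isStack (h : Stk.IsStack J (Stk.ofPsh P)) : Presieve.IsSheaf J P := by
  intro U R hR fam hfam
  have : (Stk.resSieve R (Stk.ofPsh P)).IsEquivalence := h.2 R hR
  let H : Stk.sieveCat R ⥤ᵇ Stk.ofPsh P := famFun (fun x => fam x.obj.hom x.property) fun {a b} f =>
    (hfam f.hom.left (𝟙 _) b.property a.property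
      ((Over.w f.hom).trans (Category.id_comp _).symm)).trans (by simp)
  let K := (Stk.resSieve R (Stk.ofPsh P)).objPreimage H
  let i : (Stk.resSieve R (Stk.ofPsh P)).obj K ≅ H := (Stk.resSieve R (Stk.ofPsh P)).objObjPreimageIso H
  have hH : ∀ x, sec H x = fam x.obj.hom x.property := fun x => sec_famFun _ _ x
  refine ⟨sec K (one U), fun V g hg => ?_, fun σ hσ => ?_⟩
  · have e1 : sec K (Over.mk g) = sec H ⟨Over.mk g, hg⟩ :=
      sec_eq_of_hom (Φ := BasedFunctor.comp (Stk.sieveIncl R) K) (Ψ := H) (i.hom.toNatTrans.app ⟨Over.mk g, hg⟩)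
        (i.hom.isHomLift' ⟨Over.mk g, hg⟩)
    exact ((sec_over K (Over.mk g)).symm.trans e1).trans (hH ⟨Over.mk g, hg⟩)
  · have j : (Stk.resSieve R (Stk.ofPsh P)).obj (overFun σ) ≅ (Stk.resSieve R (Stk.ofPsh P)).obj K :=
      (secIso fun x => (sec_overFun σ x.obj).trans ((hσ x.obj.hom x.property).trans (hH x).symm)) ≪≫ i.symm
    let k := (Stk.resSieve R (Stk.ofPsh P)).preimage j.hom
    have e := sec_eq_of_hom (k.toNatTrans.app (one U)) (k.isHomLift' (one U))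
    rw [sec_overFun] at e
    exact Eq.trans (by show σ = P.map (𝟙 U).op σ; simp) e

end PshStk

section Fp

variable {𝒳 𝒴 𝒮 : BasedCategory.{v, max u v} C} (F : 𝒳 ⥤ᵇ 𝒮) (G : 𝒴 ⥤ᵇ 𝒮)

theorem isStack_fp (h𝒳 : Stk.IsStack J 𝒳) (h𝒴 : Stk.IsStack J 𝒴) (h𝒮 : Stk.IsPrestack J 𝒮) :
    Stk.IsStack J (FibCat.fp F G) := by
  refine ⟨fp_isFibGrpd h𝒳.1 h𝒴.1 h𝒮.1, fun U R hR => ?_⟩
  have e1 : (Stk.resSieve R 𝒳).IsEquivalence := h𝒳.2 R hR
  have e2 : (Stk.resSieve R 𝒴).IsEquivalence := h𝒴.2 R hR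
  obtain ⟨f3, g3⟩ := h𝒮.2 R hR
  refine (Functor.IsEquivalence.mk (faithful := ⟨fun {K L α β} h => ?_⟩)
    (full := ⟨fun {K L} α => ?_⟩) (essSurj := ⟨fun H => ?_⟩) : (Stk.resSieve R (FibCat.fp F G)).IsEquivalence)
  · have h1 : BasedCategory.whiskerRight α (FibCat.fpFst F G) = BasedCategory.whiskerRight β (FibCat.fpFst F G) :=
      (Stk.resSieve R 𝒳).map_injective (BasedNatTrans.homCategory.ext _ _ (by
        ext a
        exact congrArg (fun m => (m.toNatTrans.app a).hom.fst) h))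
    have h2 : BasedCategory.whiskerRight α (FibCat.fpSnd F G) = BasedCategory.whiskerRight β (FibCat.fpSnd F G) :=
      (Stk.resSieve R 𝒴).map_injective (BasedNatTrans.homCategory.ext _ _ (by
        ext a
        exact congrArg (fun m => (m.toNatTrans.app a).hom.snd) h))
    apply BasedNatTrans.homCategory.ext
    apply NatTrans.ext
    funext a
    exact fp_hom_ext (congrArg (fun m => m.toNatTrans.app a) h1 :) (congrArg (fun m => m.toNatTrans.app a) h2 :)
  · obtain ⟨β₁, hβ₁⟩ := (Stk.resSieve R 𝒳).map_surjective (X := BasedFunctor.comp K (FibCat.fpFst F G))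
      (Y := BasedFunctor.comp L (FibCat.fpFst F G)) (BasedCategory.whiskerRight α (FibCat.fpFst F G))
    obtain ⟨β₂, hβ₂⟩ := (Stk.resSieve R 𝒴).map_surjective (X := BasedFunctor.comp K (FibCat.fpSnd F G))
      (Y := BasedFunctor.comp L (FibCat.fpSnd F G)) (BasedCategory.whiskerRight α (FibCat.fpSnd F G))
    let cK : BasedFunctor.comp (BasedFunctor.comp K (FibCat.fpFst F G)) F ⟶
        BasedFunctor.comp (BasedFunctor.comp K (FibCat.fpSnd F G)) G :=
      BasedCategory.whiskerLeft K (FibCat.fpIso F G).hom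
    let cL : BasedFunctor.comp (BasedFunctor.comp L (FibCat.fpFst F G)) F ⟶
        BasedFunctor.comp (BasedFunctor.comp L (FibCat.fpSnd F G)) G :=
      BasedCategory.whiskerLeft L (FibCat.fpIso F G).hom
    have sq : BasedCategory.whiskerRight β₁ F ≫ cL = cK ≫ BasedCategory.whiskerRight β₂ G :=
      (Stk.resSieve R 𝒮).map_injective (BasedNatTrans.homCategory.ext _ _ (by
        ext a
        show F.map (β₁.toNatTrans.app a.obj) ≫ (L.obj a.obj).obj.iso.hom =
          (K.obj a.obj).obj.iso.hom ≫ G.map (β₂.toNatTrans.app a.obj)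
        rw [show β₁.toNatTrans.app a.obj = (α.toNatTrans.app a).hom.fst from
            congrArg (fun m => m.toNatTrans.app a) hβ₁,
          show β₂.toNatTrans.app a.obj = (α.toNatTrans.app a).hom.snd from
            congrArg (fun m => m.toNatTrans.app a) hβ₂]
        exact (α.toNatTrans.app a).hom.w))
    refine ⟨⟨
      { app := fun a => fpHom (β₁.toNatTrans.app a) (β₂.toNatTrans.app a) (congrArg (fun m => m.toNatTrans.app a) sq :)
        naturality := fun {a b} f => fp_hom_ext (β₁.toNatTrans.naturality f :) (β₂.toNatTrans.naturality f :) }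
      , fun a => fp_lift_of_fst _ _ (β₁.isHomLift' a)⟩, ?_⟩
    apply BasedNatTrans.homCategory.ext
    apply NatTrans.ext
    funext a
    exact fp_hom_ext (congrArg (fun m => m.toNatTrans.app a) hβ₁ :) (congrArg (fun m => m.toNatTrans.app a) hβ₂ :)
  · let K₁ := (Stk.resSieve R 𝒳).objPreimage (BasedFunctor.comp H (FibCat.fpFst F G))
    let θ₁ : (Stk.resSieve R 𝒳).obj K₁ ≅ BasedFunctor.comp H (FibCat.fpFst F G) :=
      (Stk.resSieve R 𝒳).objObjPreimageIso _
    let K₂ := (Stk.resSieve R 𝒴).objPreimage (BasedFunctor.comp H (FibCat.fpSnd F G))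
    let θ₂ : (Stk.resSieve R 𝒴).obj K₂ ≅ BasedFunctor.comp H (FibCat.fpSnd F G) :=
      (Stk.resSieve R 𝒴).objObjPreimageIso _
    let m : (Stk.resSieve R 𝒮).obj (BasedFunctor.comp K₁ F) ≅ (Stk.resSieve R 𝒮).obj (BasedFunctor.comp K₂ G) :=
      bWhiskerR θ₁ F ≪≫ bWhiskerL H (FibCat.fpIso F G) ≪≫ (bWhiskerR θ₂ G).symm
    let ι : BasedFunctor.comp K₁ F ≅ BasedFunctor.comp K₂ G := (Stk.resSieve R 𝒮).preimageIso m
    have hι : ∀ a : (Stk.sieveCat R).obj, ι.hom.toNatTrans.app a.obj =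
        F.map (θ₁.hom.toNatTrans.app a) ≫ (H.obj a).obj.iso.hom ≫ G.map (θ₂.inv.toNatTrans.app a) := fun a =>
      congrArg (fun m => m.toNatTrans.app a) ((Stk.resSieve R 𝒮).map_preimage m.hom :)
    refine ⟨FibCat.fpLift K₁ K₂ ι, ⟨BasedNatIso.mkNatIso (NatIso.ofComponents
      (fun a => ObjectProperty.isoMk _ (CategoricalPullback.mkIso
        (((BasedNatTrans.forgetful _ _).mapIso θ₁).app a) (((BasedNatTrans.forgetful _ _).mapIso θ₂).app a) ?_))
      (fun {a b} f => fp_hom_ext (θ₁.hom.toNatTrans.naturality f :) (θ₂.hom.toNatTrans.naturality f :)))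
      (fun a => fp_lift_of_fst _ _ (θ₁.hom.isHomLift' a))⟩⟩
    show F.map (θ₁.hom.toNatTrans.app a) ≫ (H.obj a).obj.iso.hom =
      ι.hom.toNatTrans.app a.obj ≫ G.map (θ₂.hom.toNatTrans.app a)
    rw [hι, Category.assoc, Category.assoc, ← G.toFunctor.map_comp]
    have : θ₂.inv.toNatTrans.app a ≫ θ₂.hom.toNatTrans.app a = 𝟙 _ :=
      congrArg (fun m => m.toNatTrans.app a) θ₂.inv_hom_id
    rw [this]; erw [G.toFunctor.map_id]
    exact (congrArg (fun z => _ ≫ z) (Category.comp_id _)).symm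

end Fp

theorem isPrestack_of_isStack {𝒳 : BasedCategory.{v, max u v} C} (h : Stk.IsStack J 𝒳) : Stk.IsPrestack J 𝒳 :=
  ⟨h.1, fun _ R hR => by
    have : (Stk.resSieve R 𝒳).IsEquivalence := h.2 R hR
    exact ⟨inferInstance, inferInstance⟩⟩

section Slice

variable (U : C)

/-- The slice as the category of the representable presheaf. -/
def overToPsh : FibCat.overCat U ⥤ᵇ Stk.ofPsh (yoneda.obj U) where
  toFunctor :=
    { obj := fun g => ⟨g.left, g.hom⟩
      map := fun {g h} φ => ⟨φ.left, Over.w φ⟩ }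
  w := rfl

/-- The category of the representable presheaf as the slice. -/
def pshToOver : Stk.ofPsh (yoneda.obj U) ⥤ᵇ FibCat.overCat U where
  toFunctor :=
    { obj := fun a => Over.mk a.sec
      map := fun {a b} f => Over.homMk f.hom f.map_sec }
  w := rfl

theorem overToPsh_isEquivOver : FibCat.IsEquivOver (overToPsh U) :=
  ⟨pshToOver U, ⟨Iso.refl _⟩, ⟨Iso.refl _⟩⟩

theorem pshToOver_isEquivOver : FibCat.IsEquivOver (pshToOver U) :=
  ⟨overToPsh U, ⟨Iso.refl _⟩, ⟨Iso.refl _⟩⟩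

theorem isStack_overCat_iff : Stk.IsStack J (FibCat.overCat U) ↔ Presieve.IsSheaf J (yoneda.obj U) :=
  ⟨fun h => PshStk.isSheaf_of_isStack (isStack_of_equiv J (overToPsh_isEquivOver U) h),
    fun h => isStack_of_equiv J (pshToOver_isEquivOver U) (PshStk.isStack_ofPsh h)⟩

end Slice

end Groth.Agent.AlgStLib
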