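import Groth.Agent.AlgStLib.RepStk
import Groth.Agent.AlgStLib.StackBasics
import Mathlib

/-!
Products and 2-fibre products of algebraic stacks.
-/

set_option autoImplicit false
set_option backward.isDefEq.respectTransparency false
set_option backward.isDefEq.respectTransparency.types false

universe u

open CategoryTheory CategoryTheory.Limits CategoryTheory.Functor AlgebraicGeometry Opposite AlgSp

namespace Groth.Agent.AlgStLib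

open Groth.Agent Groth.Agent.FibBasics Groth.Agent.AlgSpLib

variable {S : Scheme.{u}} {𝒳 𝒴 𝒵 𝒲 : AlgSt.Cat S}

theorem selfOver_natTrans_ext {𝒜 : BasedCategory.{u, u + 1} (Over S)} {G H : 𝒜 ⥤ᵇ FibCat.selfOver (Over S)}
    (α β : G ⟶ H) : α = β := by
  apply BasedNatTrans.homCategory.ext
  apply NatTrans.ext
  funext a
  exact @self_hom_ext _ _ _ _ (𝟙 (𝒜.p.obj a)) _ _ _ _ (α.isHomLift' a) (β.isHomLift' a)

theorem isPrestack_selfOver (J : GrothendieckTopology (Over S)) :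
    Stk.IsPrestack J (FibCat.selfOver (Over S)) :=
  ⟨isFibGrpd_selfOver, fun _ R _ => ⟨⟨fun {G H} _ =>
    ⟨eqToHom (based_ext ((G.w).trans (H.w).symm)), selfOver_natTrans_ext _ _⟩⟩,
    ⟨fun {G H α β} _ => selfOver_natTrans_ext α β⟩⟩⟩

theorem isStack_prod (h𝒳 : Stk.IsStack (QuotSh.J Scheme.fppfPrecoverage S) 𝒳)
    (h𝒴 : Stk.IsStack (QuotSh.J Scheme.fppfPrecoverage S) 𝒴) :
    Stk.IsStack (QuotSh.J Scheme.fppfPrecoverage S) (FibCat.fp (FibCat.toSelf 𝒳) (FibCat.toSelf 𝒴)) :=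
  isStack_fp _ _ h𝒳 h𝒴 (isPrestack_selfOver _)

section ProdSlices

variable {U V : Over S} (y : FibCat.overCat V ⥤ᵇ FibCat.fp (FibCat.toSelf 𝒳) (FibCat.toSelf 𝒴))
  (x : FibCat.overCat U ⥤ᵇ FibCat.fp (FibCat.toSelf 𝒳) (FibCat.toSelf 𝒴))

/-- The underlying pair of points. -/
noncomputable def toPts (a : FibCat.overCat V ⥤ᵇ 𝒵) (b : FibCat.overCat U ⥤ᵇ 𝒵) :
    FibCat.fp a b ⥤ᵇ FibCat.fp (FibCat.toSelf (FibCat.overCat V)) (FibCat.toSelf (FibCat.overCat U)) :=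
  FibCat.fpLift (FibCat.fpFst _ _) (FibCat.fpSnd _ _) (eqToIso (by rw [comp_toSelf, comp_toSelf]))

/-- Pairs of comparisons in the factors. -/
noncomputable def prodPair : FibCat.fp y x ⥤ᵇ
    FibCat.fp (toPts (BasedFunctor.comp y (FibCat.fpFst _ _)) (BasedFunctor.comp x (FibCat.fpFst _ _)))
      (toPts (BasedFunctor.comp y (FibCat.fpSnd _ _)) (BasedFunctor.comp x (FibCat.fpSnd _ _))) where
  toFunctor :=
    { obj := fun a => ⟨
        { fst := ⟨{ fst := a.obj.fst, snd := a.obj.snd, iso := (FibCat.fpFst _ _).toFunctor.mapIso a.obj.iso },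
            @fp_lift_fst _ _ _ _ _ _ _ _ _ _ _ (𝟙 _) a.obj.iso.hom a.property⟩
          snd := ⟨{ fst := a.obj.fst, snd := a.obj.snd, iso := (FibCat.fpSnd _ _).toFunctor.mapIso a.obj.iso },
            @fp_lift_snd _ _ _ _ _ _ _ _ _ _ _ (𝟙 _) a.obj.iso.hom a.property⟩
          iso := ObjectProperty.isoMk _ (CategoricalPullback.mkIso (Iso.refl _) (Iso.refl _) (by
            refine @self_hom_ext _ _ _ _ (𝟙 a.obj.fst.left) _ _ _ _ ?_ ?_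
            · exact @IsHomLift.comp_of_lift_id _ _ _ _ _ _ _ _ _ _ _ (IsHomLift.map (𝟭 (Over S)) (𝟙 a.obj.fst.left))
                (((toPts (BasedFunctor.comp y (FibCat.fpSnd _ _)) (BasedFunctor.comp x (FibCat.fpSnd _ _))).obj
                  ⟨{ fst := a.obj.fst, snd := a.obj.snd, iso := (FibCat.fpSnd _ _).toFunctor.mapIso a.obj.iso },
                    @fp_lift_snd _ _ _ _ _ _ _ _ _ _ _ (𝟙 _) a.obj.iso.hom a.property⟩)).property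
            · exact @IsHomLift.comp_of_lift_id _ _ _ _ _ _ _ _ _ _ _
                (((toPts (BasedFunctor.comp y (FibCat.fpFst _ _)) (BasedFunctor.comp x (FibCat.fpFst _ _))).obj
                  ⟨{ fst := a.obj.fst, snd := a.obj.snd, iso := (FibCat.fpFst _ _).toFunctor.mapIso a.obj.iso },
                    @fp_lift_fst _ _ _ _ _ _ _ _ _ _ _ (𝟙 _) a.obj.iso.hom a.property⟩)).property
                ((BasedFunctor.isHomLift_iff (FibCat.toSelf (FibCat.overCat U)) _ _).2 (IsHomLift.id (fp_snd_proj a))))) },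
        fp_lift_of_fst _ _ (IsHomLift.id rfl)⟩
      map := fun {a b} φ => fpHom
        (fpHom φ.hom.fst φ.hom.snd (congrArg (fun m => m.hom.fst) φ.hom.w :))
        (fpHom φ.hom.fst φ.hom.snd (congrArg (fun m => m.hom.snd) φ.hom.w :))
        (fp_hom_ext ((Category.comp_id _).trans (Category.id_comp _).symm)
          ((Category.comp_id _).trans (Category.id_comp _).symm))
      map_id := fun _ => fp_hom_ext (fp_hom_ext rfl rfl) (fp_hom_ext rfl rfl)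
      map_comp := fun _ _ => fp_hom_ext (fp_hom_ext rfl rfl) (fp_hom_ext rfl rfl) }
  w := rfl

theorem prodPair_isEquivOver : FibCat.IsEquivOver (prodPair y x) := by
  have : (prodPair y x).toFunctor.Faithful := ⟨fun {a b} φ ψ h => fp_hom_ext
    (congrArg (fun m => m.hom.fst.hom.fst) h :) (congrArg (fun m => m.hom.fst.hom.snd) h :)⟩
  have : (prodPair y x).toFunctor.Full := ⟨fun {a b} m => by
    have e1 : m.hom.fst.hom.fst ≫ 𝟙 _ = 𝟙 _ ≫ m.hom.snd.hom.fst := congrArg (fun k => k.hom.fst) m.hom.w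
    have e2 : m.hom.fst.hom.snd ≫ 𝟙 _ = 𝟙 _ ≫ m.hom.snd.hom.snd := congrArg (fun k => k.hom.snd) m.hom.w
    rw [Category.comp_id, Category.id_comp] at e1 e2
    let s : a.obj.fst ⟶ b.obj.fst := m.hom.fst.hom.fst
    let t : a.obj.snd ⟶ b.obj.snd := m.hom.fst.hom.snd
    have w1 : (y.map s).hom.fst ≫ b.obj.iso.hom.hom.fst = a.obj.iso.hom.hom.fst ≫ (x.map t).hom.fst :=
      m.hom.fst.hom.w
    have w2 : (y.map s).hom.snd ≫ b.obj.iso.hom.hom.snd = a.obj.iso.hom.hom.snd ≫ (x.map t).hom.snd := by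
      have := m.hom.snd.hom.w
      rw [← e1, ← e2] at this
      exact this
    exact ⟨fpHom s t (fp_hom_ext w1 w2), fp_hom_ext (fp_hom_ext rfl rfl) (fp_hom_ext e1 e2)⟩⟩
  refine isEquivOver_of_essSurjOver _ fun z => ?_
  obtain ⟨⟨⟨⟨t, t', κ₁⟩, h₁⟩, ⟨⟨s, s', κ₂⟩, h₂⟩, ι⟩, hι⟩ := z
  let i : t ≅ s := ⟨ι.hom.hom.fst, ι.inv.hom.fst, congrArg (fun m => m.hom.fst) ι.hom_inv_id,
    congrArg (fun m => m.hom.fst) ι.inv_hom_id⟩
  let i' : t' ≅ s' := ⟨ι.hom.hom.snd, ι.inv.hom.snd, congrArg (fun m => m.hom.snd) ι.hom_inv_id,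
    congrArg (fun m => m.hom.snd) ι.inv_hom_id⟩
  have hi : (FibCat.overCat V).p.IsHomLift (𝟙 t.left) i.hom :=
    @fp_lift_fst _ _ _ _ _ _ _ _ _ _ _ (𝟙 t.left) ι.hom hι
  have hi' : (FibCat.overCat U).p.IsHomLift (𝟙 t.left) i'.hom :=
    @fp_lift_snd _ _ _ _ _ _ _ _ _ _ _ (𝟙 t.left) ι.hom hι
  let μ₂ : (y.obj t).obj.snd ≅ (x.obj t').obj.snd :=
    (BasedFunctor.comp y (FibCat.fpSnd _ _)).toFunctor.mapIso i ≪≫ κ₂ ≪≫
      ((BasedFunctor.comp x (FibCat.fpSnd _ _)).toFunctor.mapIso i').symm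
  have hμ₁ : 𝒳.p.IsHomLift (𝟙 t.left) κ₁.hom := h₁
  have hμ₂ : 𝒴.p.IsHomLift (𝟙 t.left) μ₂.hom := by
    have hs : s.left = t.left := IsHomLift.codomain_eq (FibCat.overCat V).p (𝟙 t.left) i.hom
    have a1 : 𝒴.p.IsHomLift (𝟙 t.left) ((BasedFunctor.comp y (FibCat.fpSnd _ _)).map i.hom) :=
      (BasedFunctor.isHomLift_iff _ _ _).2 hi
    have a2 : 𝒴.p.IsHomLift (𝟙 t.left) κ₂.hom := fp_iso_lift (⟨⟨s, s', κ₂⟩, h₂⟩) hs
    have a3 : 𝒴.p.IsHomLift (𝟙 t.left) ((BasedFunctor.comp x (FibCat.fpSnd _ _)).map i'.hom) :=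
      (BasedFunctor.isHomLift_iff _ _ _).2 hi'
    have a4 : 𝒴.p.IsHomLift (𝟙 t.left) ((BasedFunctor.comp x (FibCat.fpSnd _ _)).toFunctor.mapIso i').inv :=
      @IsHomLift.lift_id_inv _ _ _ _ 𝒴.p _ _ _ _ a3
    exact @IsHomLift.comp_of_lift_id _ _ _ _ _ _ _ _ _ _ _ a1
      (@IsHomLift.comp_of_lift_id _ _ _ _ _ _ _ _ _ _ _ a2 a4)
  let a : (FibCat.fp y x).obj := ⟨⟨t, t', ObjectProperty.isoMk _
      (CategoricalPullback.mkIso κ₁ μ₂ (toSelf_sq (𝟙 t.left) κ₁.hom μ₂.hom))⟩,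
    fp_lift_of_fst _ _ hμ₁⟩
  refine ⟨a, ObjectProperty.isoMk _ (CategoricalPullback.mkIso
    (ObjectProperty.isoMk _ (CategoricalPullback.mkIso (Iso.refl t) (Iso.refl t') ?_))
    (ObjectProperty.isoMk _ (CategoricalPullback.mkIso i i' ?_)) ?_), fp_lift_of_fst _ _ (fp_lift_of_fst _ _ (IsHomLift.id rfl))⟩
  · show (y.map (𝟙 t)).hom.fst ≫ κ₁.hom = κ₁.hom ≫ (x.map (𝟙 t')).hom.fst
    rw [y.toFunctor.map_id, x.toFunctor.map_id]
    exact (Category.id_comp _).trans (Category.comp_id _).symm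
  · show (BasedFunctor.comp y (FibCat.fpSnd _ _)).map i.hom ≫ κ₂.hom =
      μ₂.hom ≫ (BasedFunctor.comp x (FibCat.fpSnd _ _)).map i'.hom
    simp [μ₂]
  · exact fp_hom_ext ((Category.id_comp _).trans (Category.id_comp _).symm)
      ((Category.id_comp _).trans (Category.id_comp _).symm)

end ProdSlices

theorem rep1_diag_prod (h𝒳 : FibCat.IsFibGrpd 𝒳.p) (h𝒴 : FibCat.IsFibGrpd 𝒴.p)
    (hX : AlgSt.RepByAlgSp1 (FibCat.diag (FibCat.toSelf 𝒳))) (hY : AlgSt.RepByAlgSp1 (FibCat.diag (FibCat.toSelf 𝒴))) :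
    AlgSt.RepByAlgSp1 (FibCat.diag (FibCat.toSelf (FibCat.fp (FibCat.toSelf 𝒳) (FibCat.toSelf 𝒴)))) :=
  repByAlgSp1_diag_of_slices (fp_isFibGrpd h𝒳 h𝒴 isFibGrpd_selfOver) fun U x V y =>
    repByAlgSp_of_equiv' (prodPair_isEquivOver y x)
      (repByAlgSp_fp (fp_isFibGrpd (isFibGrpd_overForget V) (isFibGrpd_overForget U) h𝒴)
        (fp_isFibGrpd (isFibGrpd_overForget V) (isFibGrpd_overForget U) isFibGrpd_selfOver)
        (repByAlgSp1_of_repByAlgSp (rep_slices_of_diag h𝒴 hY U _ V _) (repByAlgSp_slice_prod V U) _)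
        (rep_slices_of_diag h𝒳 hX U _ V _))

section ProdMap

/-- The map of products induced on the first factor. -/
noncomputable def prodMapL (u : 𝒲 ⥤ᵇ 𝒳) (𝒴 : AlgSt.Cat S) :
    FibCat.fp (FibCat.toSelf 𝒲) (FibCat.toSelf 𝒴) ⥤ᵇ FibCat.fp (FibCat.toSelf 𝒳) (FibCat.toSelf 𝒴) :=
  FibCat.fpLift (BasedFunctor.comp (FibCat.fpFst _ _) u) (FibCat.fpSnd _ _)
    (eqToIso (by rw [comp_toSelf, comp_toSelf]))

/-- The product with the first factor pulled back. -/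
noncomputable def prodGraph (u : 𝒲 ⥤ᵇ 𝒳) (𝒴 : AlgSt.Cat S) :
    FibCat.fp (FibCat.toSelf 𝒲) (FibCat.toSelf 𝒴) ⥤ᵇ
      FibCat.fp (FibCat.fpFst (FibCat.toSelf 𝒳) (FibCat.toSelf 𝒴)) u :=
  FibCat.fpLift (prodMapL u 𝒴) (FibCat.fpFst _ _) (Iso.refl _)

theorem prodGraph_isEquivOver (u : 𝒲 ⥤ᵇ 𝒳) : FibCat.IsEquivOver (prodGraph u 𝒴) := by
  have : (prodGraph u 𝒴).toFunctor.Faithful := ⟨fun {a b} φ ψ h => fp_hom_ext
    (congrArg (fun m => m.hom.snd) h :) (congrArg (fun m => m.hom.fst.hom.snd) h :)⟩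
  have : (prodGraph u 𝒴).toFunctor.Full := ⟨fun {a b} m => by
    let s : a.obj.fst ⟶ b.obj.fst := m.hom.snd
    let t : a.obj.snd ⟶ b.obj.snd := m.hom.fst.hom.snd
    let r : u.obj a.obj.fst ⟶ u.obj b.obj.fst := m.hom.fst.hom.fst
    have e : r ≫ 𝟙 _ = 𝟙 _ ≫ u.map s := m.hom.w
    rw [Category.comp_id, Category.id_comp] at e
    have hsq := m.hom.fst.hom.w
    have hr : 𝒳.p.map r = eqToHom (u.w_obj a.obj.fst) ≫ 𝒲.p.map s ≫ eqToHom (u.w_obj b.obj.fst).symm := by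
      rw [e]; exact Functor.congr_hom u.w s
    have w : (FibCat.toSelf 𝒲).map s ≫ b.obj.iso.hom = a.obj.iso.hom ≫ (FibCat.toSelf 𝒴).map t := by
      have h1 : 𝒲.p.IsHomLift (𝒲.p.map s) s := IsHomLift.map _ _
      have h2 : 𝒴.p.IsHomLift (𝒲.p.map s) t := by
        have h3 := @fp_lift_snd _ _ _ _ _ _ _ _ _ _ _ (𝒲.p.map s) m.hom.fst
          (fp_lift_of_fst _ _ (show 𝒳.p.IsHomLift (𝒲.p.map s) r by rw [e]; exact BasedFunctor.preserves_isHomLift u _ s))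
        exact h3
      exact toSelf_sq (𝒲.p.map s) s t
    exact ⟨fpHom s t w, fp_hom_ext (fp_hom_ext e.symm rfl) rfl⟩⟩
  refine isEquivOver_of_essSurjOver _ fun z => ?_
  obtain ⟨⟨⟨⟨a, b, σ⟩, hσ⟩, w, α⟩, hα⟩ := z
  have hw : 𝒲.p.obj w = 𝒳.p.obj a := fp_snd_proj (⟨⟨⟨⟨a, b, σ⟩, hσ⟩, w, α⟩, hα⟩ :
    (FibCat.fp (FibCat.fpFst (FibCat.toSelf 𝒳) (FibCat.toSelf 𝒴)) u).obj)
  have hα' : 𝒳.p.IsHomLift (𝟙 (𝒳.p.obj a)) α.hom := hα
  let q : (FibCat.fp (FibCat.toSelf 𝒲) (FibCat.toSelf 𝒴)).obj :=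
    ⟨{ fst := w, snd := b, iso := eqToIso hw ≪≫ σ }, by
      show (FibCat.selfOver (Over S)).p.IsHomLift (𝟙 (𝒲.p.obj w)) (eqToHom hw ≫ σ.hom)
      exact @IsHomLift.comp_of_lift_id _ _ _ _ _ _ _ _ _ _ _ (self_eqToHom_lift hw) (fp_iso_lift (⟨⟨a, b, σ⟩, hσ⟩) hw.symm)⟩
  have h1 : 𝒳.p.IsHomLift (𝟙 (𝒳.p.obj a)) α.inv := @IsHomLift.lift_id_inv _ _ _ _ 𝒳.p _ _ _ _ hα'
  have h2 : 𝒴.p.IsHomLift (𝟙 (𝒳.p.obj a)) (𝟙 b) :=
    IsHomLift.id (fp_snd_proj (⟨⟨a, b, σ⟩, hσ⟩ : (FibCat.fp (FibCat.toSelf 𝒳) (FibCat.toSelf 𝒴)).obj))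
  refine ⟨q, ObjectProperty.isoMk _ (CategoricalPullback.mkIso
    (ObjectProperty.isoMk _ (CategoricalPullback.mkIso α.symm (Iso.refl b) (@toSelf_sq _ _ 𝒳 𝒴 ((prodMapL u 𝒴).obj q) ⟨⟨a, b, σ⟩, hσ⟩ _ _ (𝟙 (𝒳.p.obj a)) α.inv (𝟙 b) h1 h2)))
    (Iso.refl w) ?_), fp_lift_of_fst _ _ (fp_lift_of_fst _ _ ?_)⟩
  · show α.inv ≫ α.hom = 𝟙 _ ≫ u.map (𝟙 w)
    rw [u.toFunctor.map_id, Iso.inv_hom_id]
    exact (Category.comp_id _).symm
  · exact h1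

theorem repWith_prodMapL {P : MorphismProperty (Sp S)} {u : 𝒲 ⥤ᵇ 𝒳} (hu : AlgSt.RepByAlgSpWith P u) :
    AlgSt.RepByAlgSpWith P (prodMapL u 𝒴) :=
  (repWith_comp_equiv (f := FibCat.fpFst (FibCat.fpFst (FibCat.toSelf 𝒳) (FibCat.toSelf 𝒴)) u)
    (prodGraph_isEquivOver u)).2 (repWith_fpFst (FibCat.fpFst (FibCat.toSelf 𝒳) (FibCat.toSelf 𝒴)) hu)

/-- The map of products induced on the second factor. -/
noncomputable def prodMapR (𝒲 : AlgSt.Cat S) (v : 𝒳 ⥤ᵇ 𝒴) :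
    FibCat.fp (FibCat.toSelf 𝒲) (FibCat.toSelf 𝒳) ⥤ᵇ FibCat.fp (FibCat.toSelf 𝒲) (FibCat.toSelf 𝒴) :=
  BasedFunctor.comp (fpSwap _ _) (BasedFunctor.comp (prodMapL v 𝒲) (fpSwap _ _))

theorem repWith_prodMapR {P : MorphismProperty (Sp S)} {v : 𝒳 ⥤ᵇ 𝒴} (hv : AlgSt.RepByAlgSpWith P v) :
    AlgSt.RepByAlgSpWith P (prodMapR 𝒲 v) :=
  (repWith_comp_equiv (fpSwap_isEquivOver _ _)).2 ((repWith_equiv_comp (fpSwap_isEquivOver _ _)).2 (repWith_prodMapL hv))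

end ProdMap

theorem isAlgStack_prod (h𝒳 : AlgSt.IsAlgStack Scheme.fppfPrecoverage 𝒳)
    (h𝒴 : AlgSt.IsAlgStack Scheme.fppfPrecoverage 𝒴) :
    AlgSt.IsAlgStack Scheme.fppfPrecoverage (FibCat.fp (FibCat.toSelf 𝒳) (FibCat.toSelf 𝒴)) := by
  refine ⟨isStack_prod h𝒳.isStack h𝒴.isStack, rep1_diag_prod h𝒳.isStack.1 h𝒴.isStack.1 h𝒳.diag h𝒴.diag, ?_⟩
  obtain ⟨U, x, hx, hxs⟩ := h𝒳.atlas
  obtain ⟨V, y, hy, hys⟩ := h𝒴.atlas
  obtain ⟨W, e, he⟩ := isRepresentable_slice_prod U V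
  obtain ⟨L, hL, -⟩ := isEquivOver_symm he
  have g1 : FibCat.IsFibGrpd (FibCat.fp (FibCat.toSelf (FibCat.overCat U)) (FibCat.toSelf (FibCat.overCat V))).p :=
    fp_isFibGrpd (isFibGrpd_overForget U) (isFibGrpd_overForget V) isFibGrpd_selfOver
  have g2 : FibCat.IsFibGrpd (FibCat.fp (FibCat.toSelf (FibCat.overCat U)) (FibCat.toSelf 𝒴)).p :=
    fp_isFibGrpd (isFibGrpd_overForget U) h𝒴.isStack.1 isFibGrpd_selfOver
  exact ⟨W, BasedFunctor.comp L (BasedFunctor.comp (prodMapR _ y) (prodMapL x 𝒴)),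
    (repWith_comp_equiv hL).2 (repWith_smooth_comp g1 g2 (repWith_prodMapR hy) (repWith_prodMapL hx)),
    (repWith_comp_equiv hL).2 (repWith_surjective_comp g1 g2 (repWith_prodMapR hys) (repWith_prodMapL hxs))⟩

section FpIncl

variable (f : 𝒳 ⥤ᵇ 𝒵) (g : 𝒴 ⥤ᵇ 𝒵)

/-- A 2-fibre product over `𝒵` maps to the product. -/
noncomputable def fpToProd : FibCat.fp f g ⥤ᵇ FibCat.fp (FibCat.toSelf 𝒳) (FibCat.toSelf 𝒴) :=
  FibCat.fpLift (FibCat.fpFst _ _) (FibCat.fpSnd _ _) (eqToIso (by rw [comp_toSelf, comp_toSelf]))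

/-- The map of products induced by two maps. -/
noncomputable def pairToSq : FibCat.fp (FibCat.toSelf 𝒳) (FibCat.toSelf 𝒴) ⥤ᵇ
    FibCat.fp (FibCat.toSelf 𝒵) (FibCat.toSelf 𝒵) :=
  FibCat.fpLift (BasedFunctor.comp (FibCat.fpFst _ _) f) (BasedFunctor.comp (FibCat.fpSnd _ _) g)
    (eqToIso (by rw [comp_toSelf, comp_toSelf]))

variable {U : Over S} (Y : FibCat.overCat U ⥤ᵇ FibCat.fp (FibCat.toSelf 𝒳) (FibCat.toSelf 𝒴))

/-- Lifts to the 2-fibre product as pullbacks of the diagonal. -/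
noncomputable def toDiagPull : FibCat.fp Y (fpToProd f g) ⥤ᵇ
    FibCat.fp (BasedFunctor.comp Y (pairToSq f g)) (FibCat.diag (FibCat.toSelf 𝒵)) where
  toFunctor :=
    { obj := fun a => ⟨⟨a.obj.fst, g.obj a.obj.snd.obj.snd,
          ObjectProperty.isoMk _ (CategoricalPullback.mkIso
            (f.toFunctor.mapIso ((FibCat.fpFst _ _).toFunctor.mapIso a.obj.iso) ≪≫ a.obj.snd.obj.iso)
            (g.toFunctor.mapIso ((FibCat.fpSnd _ _).toFunctor.mapIso a.obj.iso)) (by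
              have h : (FibCat.fp (FibCat.toSelf 𝒳) (FibCat.toSelf 𝒴)).p.IsHomLift (𝟙 a.obj.fst.left) a.obj.iso.hom :=
                a.property
              have ha : 𝒳.p.IsHomLift (𝟙 a.obj.fst.left) a.obj.iso.hom.hom.fst := fp_lift_fst _ _
              have hb : 𝒴.p.IsHomLift (𝟙 a.obj.fst.left) a.obj.iso.hom.hom.snd := fp_lift_snd _ _
              have hn : 𝒳.p.obj a.obj.snd.obj.fst = a.obj.fst.left := fp_snd_proj a
              have hφ : 𝒵.p.IsHomLift (𝟙 a.obj.fst.left) a.obj.snd.obj.iso.hom := fp_iso_lift _ hn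
              have : 𝒵.p.IsHomLift (𝟙 a.obj.fst.left) (f.map a.obj.iso.hom.hom.fst ≫ a.obj.snd.obj.iso.hom) :=
                @IsHomLift.comp_of_lift_id _ _ _ _ _ _ _ _ _ _ _ ((BasedFunctor.isHomLift_iff f _ _).2 ha) hφ
              have : 𝒵.p.IsHomLift (𝟙 a.obj.fst.left) (g.map a.obj.iso.hom.hom.snd) :=
                (BasedFunctor.isHomLift_iff g _ _).2 hb
              exact toSelf_sq (x := (pairToSq f g).obj (Y.obj a.obj.fst))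
                (y := (FibCat.diag (FibCat.toSelf 𝒵)).obj (g.obj a.obj.snd.obj.snd))
                (𝟙 a.obj.fst.left) (f.map a.obj.iso.hom.hom.fst ≫ a.obj.snd.obj.iso.hom)
                (g.map a.obj.iso.hom.hom.snd)))⟩,
        fp_lift_of_fst _ _ (@IsHomLift.comp_of_lift_id _ _ _ _ _ _ _ _ _ _ _
          ((BasedFunctor.isHomLift_iff f _ _).2 (@fp_lift_fst _ _ _ _ _ _ _ _ _ _ _ (𝟙 _) a.obj.iso.hom a.property))
          (fp_iso_lift _ (fp_snd_proj a)))⟩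
      map := fun {a b} φ => fpHom φ.hom.fst (g.map φ.hom.snd.hom.snd) (by
        have w1 : (Y.map φ.hom.fst).hom.fst ≫ b.obj.iso.hom.hom.fst = a.obj.iso.hom.hom.fst ≫ φ.hom.snd.hom.fst :=
          congrArg (fun m => m.hom.fst) φ.hom.w
        have w2 : (Y.map φ.hom.fst).hom.snd ≫ b.obj.iso.hom.hom.snd = a.obj.iso.hom.hom.snd ≫ φ.hom.snd.hom.snd :=
          congrArg (fun m => m.hom.snd) φ.hom.w
        apply fp_hom_ext
        · show f.map (Y.map φ.hom.fst).hom.fst ≫ f.map b.obj.iso.hom.hom.fst ≫ b.obj.snd.obj.iso.hom =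
            (f.map a.obj.iso.hom.hom.fst ≫ a.obj.snd.obj.iso.hom) ≫ g.map φ.hom.snd.hom.snd
          rw [← f.toFunctor.map_comp_assoc, w1, f.toFunctor.map_comp_assoc, φ.hom.snd.hom.w, Category.assoc]
        · show g.map (Y.map φ.hom.fst).hom.snd ≫ g.map b.obj.iso.hom.hom.snd =
            g.map a.obj.iso.hom.hom.snd ≫ g.map φ.hom.snd.hom.snd
          rw [← g.toFunctor.map_comp, w2, g.toFunctor.map_comp])
      map_id := fun _ => fp_hom_ext rfl (g.toFunctor.map_id _)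
      map_comp := fun _ _ => fp_hom_ext rfl (g.toFunctor.map_comp _ _) }
  w := rfl

theorem toDiagPull_isEquivOver : FibCat.IsEquivOver (toDiagPull f g Y) := by
  have key : ∀ {a b : (FibCat.fp Y (fpToProd f g)).obj} (φ : a ⟶ b),
      φ.hom.snd.hom.fst = a.obj.iso.inv.hom.fst ≫ (Y.map φ.hom.fst).hom.fst ≫ b.obj.iso.hom.hom.fst ∧
      φ.hom.snd.hom.snd = a.obj.iso.inv.hom.snd ≫ (Y.map φ.hom.fst).hom.snd ≫ b.obj.iso.hom.hom.snd := by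
    intro a b φ
    have e : (fpToProd f g).map φ.hom.snd = a.obj.iso.inv ≫ Y.map φ.hom.fst ≫ b.obj.iso.hom := (Iso.eq_inv_comp _).2 φ.hom.w.symm
    exact ⟨congrArg (fun m => m.hom.fst) e, congrArg (fun m => m.hom.snd) e⟩
  have : (toDiagPull f g Y).toFunctor.Faithful := ⟨fun {a b} φ ψ h => by
    have h1 : φ.hom.fst = ψ.hom.fst := (congrArg (fun m => m.hom.fst) h :)
    refine fp_hom_ext h1 (fp_hom_ext ?_ ?_)
    · rw [(key φ).1, (key ψ).1, h1]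
    · rw [(key φ).2, (key ψ).2, h1]⟩
  have : (toDiagPull f g Y).toFunctor.Full := ⟨fun {a b} m => by
    let s : a.obj.fst ⟶ b.obj.fst := m.hom.fst
    let r : g.obj a.obj.snd.obj.snd ⟶ g.obj b.obj.snd.obj.snd := m.hom.snd
    have m1 : f.map (Y.map s).hom.fst ≫ f.map b.obj.iso.hom.hom.fst ≫ b.obj.snd.obj.iso.hom =
        (f.map a.obj.iso.hom.hom.fst ≫ a.obj.snd.obj.iso.hom) ≫ r := congrArg (fun k => k.hom.fst) m.hom.w
    have m2 : g.map (Y.map s).hom.snd ≫ g.map b.obj.iso.hom.hom.snd = g.map a.obj.iso.hom.hom.snd ≫ r :=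
      congrArg (fun k => k.hom.snd) m.hom.w
    let c := a.obj.iso.inv ≫ Y.map s ≫ b.obj.iso.hom
    let p : a.obj.snd.obj.fst ⟶ b.obj.snd.obj.fst := c.hom.fst
    let q : a.obj.snd.obj.snd ⟶ b.obj.snd.obj.snd := c.hom.snd
    have ia : a.obj.iso.inv.hom.snd ≫ a.obj.iso.hom.hom.snd = 𝟙 _ := congrArg (fun k => k.hom.snd) a.obj.iso.inv_hom_id
    have ib : a.obj.iso.inv.hom.fst ≫ a.obj.iso.hom.hom.fst = 𝟙 _ := congrArg (fun k => k.hom.fst) a.obj.iso.inv_hom_id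
    have hq : g.map q = r := by
      show g.map (a.obj.iso.inv.hom.snd ≫ (Y.map s).hom.snd ≫ b.obj.iso.hom.hom.snd) = r
      rw [g.toFunctor.map_comp, g.toFunctor.map_comp, m2, ← g.toFunctor.map_comp_assoc, ia, g.toFunctor.map_id]
      exact Category.id_comp r
    have hp : f.map p ≫ b.obj.snd.obj.iso.hom = a.obj.snd.obj.iso.hom ≫ g.map q := by
      show f.map (a.obj.iso.inv.hom.fst ≫ (Y.map s).hom.fst ≫ b.obj.iso.hom.hom.fst) ≫ _ = _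
      rw [f.toFunctor.map_comp, f.toFunctor.map_comp, Category.assoc, Category.assoc, m1, hq, Category.assoc,
        ← f.toFunctor.map_comp_assoc, ib, f.toFunctor.map_id]
      exact Category.id_comp _
    refine ⟨fpHom s (fpHom p q hp) ?_, fp_hom_ext rfl hq⟩
    have hc : a.obj.iso.hom ≫ c = Y.map s ≫ b.obj.iso.hom := Iso.hom_inv_id_assoc _ _
    exact fp_hom_ext ((congrArg (fun k => k.hom.fst) hc).symm :) ((congrArg (fun k => k.hom.snd) hc).symm :)⟩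
  refine isEquivOver_of_essSurjOver _ fun z => ?_
  obtain ⟨⟨t, z₀, μ⟩, hμ⟩ := z
  let μ₁ : f.obj (Y.obj t).obj.fst ≅ z₀ := (FibCat.fpFst _ _).toFunctor.mapIso μ
  let μ₂ : g.obj (Y.obj t).obj.snd ≅ z₀ := (FibCat.fpSnd _ _).toFunctor.mapIso μ
  have h1 : 𝒵.p.IsHomLift (𝟙 t.left) μ₁.hom := @fp_lift_fst _ _ _ _ _ _ _ _ _ _ _ (𝟙 t.left) μ.hom hμ
  have h2 : 𝒵.p.IsHomLift (𝟙 t.left) μ₂.hom := @fp_lift_snd _ _ _ _ _ _ _ _ _ _ _ (𝟙 t.left) μ.hom hμ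
  have hb : 𝒳.p.obj (Y.obj t).obj.fst = t.left := Y.w_obj t
  have hβ : 𝒵.p.IsHomLift (𝟙 (𝒳.p.obj (Y.obj t).obj.fst)) (μ₁.hom ≫ μ₂.inv) := by
    rw [hb]
    exact @IsHomLift.comp_of_lift_id _ _ _ _ _ _ _ _ _ _ _ h1 (@IsHomLift.lift_id_inv _ _ _ _ 𝒵.p _ _ _ _ h2)
  let n : (FibCat.fp f g).obj := ⟨{ fst := (Y.obj t).obj.fst, snd := (Y.obj t).obj.snd, iso := μ₁ ≪≫ μ₂.symm }, hβ⟩
  have hfst : 𝒳.p.IsHomLift (𝟙 t.left) (𝟙 (Y.obj t).obj.fst) := IsHomLift.id hb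
  have hsnd : 𝒴.p.IsHomLift (𝟙 t.left) (𝟙 (Y.obj t).obj.snd) := IsHomLift.id ((fp_snd_proj (Y.obj t)).trans hb)
  let a : (FibCat.fp Y (fpToProd f g)).obj := ⟨⟨t, n, ObjectProperty.isoMk _
      (CategoricalPullback.mkIso (Iso.refl _) (Iso.refl _)
        (@toSelf_sq _ _ 𝒳 𝒴 (Y.obj t) ((fpToProd f g).obj n) _ _ (𝟙 t.left) (𝟙 (Y.obj t).obj.fst) (𝟙 (Y.obj t).obj.snd)
          hfst hsnd))⟩,
    fp_lift_of_fst _ _ hfst⟩
  refine ⟨a, ObjectProperty.isoMk _ (CategoricalPullback.mkIso (Iso.refl t) μ₂ ?_), fp_lift_of_fst _ _ (IsHomLift.id rfl)⟩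
  apply fp_hom_ext
  · show f.map (Y.map (𝟙 t)).hom.fst ≫ μ₁.hom = (f.map (𝟙 _) ≫ μ₁.hom ≫ μ₂.inv) ≫ μ₂.hom
    rw [Y.toFunctor.map_id]
    simp
  · show g.map (Y.map (𝟙 t)).hom.snd ≫ μ₂.hom = g.map (𝟙 _) ≫ μ₂.hom
    rw [Y.toFunctor.map_id]
    rfl

end FpIncl

theorem rep1_fpToProd (hΔ : AlgSt.RepByAlgSp1 (FibCat.diag (FibCat.toSelf 𝒵))) (f : 𝒳 ⥤ᵇ 𝒵) (g : 𝒴 ⥤ᵇ 𝒵) :
    AlgSt.RepByAlgSp1 (fpToProd f g) := fun U Y =>
  repByAlgSp_of_equiv' (toDiagPull_isEquivOver f g Y) (hΔ U _)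

theorem isAlgStack_fp (h𝒵 : FibCat.IsFibGrpd 𝒵.p) (hΔ : AlgSt.RepByAlgSp1 (FibCat.diag (FibCat.toSelf 𝒵)))
    (h𝒳 : AlgSt.IsAlgStack Scheme.fppfPrecoverage 𝒳) (h𝒴 : AlgSt.IsAlgStack Scheme.fppfPrecoverage 𝒴)
    (f : 𝒳 ⥤ᵇ 𝒵) (g : 𝒴 ⥤ᵇ 𝒵) : AlgSt.IsAlgStack Scheme.fppfPrecoverage (FibCat.fp f g) :=
  isAlgStack_of_rep1 (fp_isFibGrpd h𝒳.isStack.1 h𝒴.isStack.1 h𝒵) (isAlgStack_prod h𝒳 h𝒴) (rep1_fpToProd hΔ f g)

end Groth.Agent.AlgStLib
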