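import Groth.Agent.AlgStLib.ProdStk
import Mathlib

/-!
Invariance of algebraic stacks under equivalence; algebraic spaces as stacks.
-/

set_option autoImplicit false
set_option backward.isDefEq.respectTransparency false
set_option backward.isDefEq.respectTransparency.types false

universe u

open CategoryTheory CategoryTheory.Limits CategoryTheory.Functor AlgebraicGeometry Opposite AlgSp

namespace Groth.Agent.AlgStLib

open Groth.Agent Groth.Agent.FibBasics Groth.Agent.AlgSpLib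

variable {S : Scheme.{u}} {𝒳 𝒴 : AlgSt.Cat S}

theorem isAlgStack_of_equiv {e : 𝒳 ⥤ᵇ 𝒴} (he : FibCat.IsEquivOver e)
    (h : AlgSt.IsAlgStack Scheme.fppfPrecoverage 𝒳) : AlgSt.IsAlgStack Scheme.fppfPrecoverage 𝒴 := by
  have h𝒴 : Stk.IsStack (QuotSh.J Scheme.fppfPrecoverage S) 𝒴 := isStack_of_equiv _ he h.isStack
  refine ⟨h𝒴, repByAlgSp1_diag_of_slices h𝒴.1 fun U x => ?_, ?_⟩
  · obtain ⟨L, hL, -, ⟨ε⟩⟩ := isEquivOver_symm he
    have h1 : AlgSt.RepByAlgSpWith ⊤ (BasedFunctor.comp (BasedFunctor.comp x L) e) :=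
      (repWith_equiv_comp he).2 (rep1_iff.1 (rep_slices_of_diag h.isStack.1 h.diag U _))
    exact rep1_iff.2 (repWith_of_iso (bWhiskerL x ε) h1)
  · obtain ⟨U, x, hx, hxs⟩ := h.atlas
    exact ⟨U, BasedFunctor.comp x e, (repWith_equiv_comp he).2 hx, (repWith_equiv_comp he).2 hxs⟩

theorem isAlgStack_iff_of_equiv {e : 𝒳 ⥤ᵇ 𝒴} (he : FibCat.IsEquivOver e) :
    AlgSt.IsAlgStack Scheme.fppfPrecoverage 𝒳 ↔ AlgSt.IsAlgStack Scheme.fppfPrecoverage 𝒴 := by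
  obtain ⟨L, hL, -⟩ := isEquivOver_symm he
  exact ⟨isAlgStack_of_equiv he, isAlgStack_of_equiv hL⟩

theorem isDM_of_equiv {e : 𝒳 ⥤ᵇ 𝒴} (he : FibCat.IsEquivOver e)
    (h : AlgSt.IsDM Scheme.fppfPrecoverage 𝒳) : AlgSt.IsDM Scheme.fppfPrecoverage 𝒴 := by
  obtain ⟨h1, U, x, hx, hxs⟩ := h
  exact ⟨isAlgStack_of_equiv he h1, U, BasedFunctor.comp x e, (repWith_equiv_comp he).2 hx, (repWith_equiv_comp he).2 hxs⟩

theorem isDM_iff_of_equiv {e : 𝒳 ⥤ᵇ 𝒴} (he : FibCat.IsEquivOver e) :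
    AlgSt.IsDM Scheme.fppfPrecoverage 𝒳 ↔ AlgSt.IsDM Scheme.fppfPrecoverage 𝒴 := by
  obtain ⟨L, hL, -⟩ := isEquivOver_symm he
  exact ⟨isDM_of_equiv he, isDM_of_equiv hL⟩

/-- An atlas of an algebraic space gives an atlas of its category of sections. -/
theorem hasAtlas_ofSp (A : AlgSp.Space S) :
    AlgSt.HasAtlas IsEtaleMor (AlgSt.ofSp A.obj) ∧ AlgSt.HasAtlas (LocP @Smooth) (AlgSt.ofSp A.obj) := by
  obtain ⟨V, r, hr, hrs⟩ := A.property.atlas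
  let v : FibCat.overCat V ⥤ᵇ AlgSt.ofSp A.obj := BasedFunctor.comp (AlgSt.ofOverCat V) (AlgSt.ofSpMap r)
  have hs : AlgSt.RepByAlgSpWith IsSurjectiveMor v :=
    (repWith_comp_equiv (ofOverCat_isEquivOver V)).2 (repWith_ofSpMap (A := ⟨_, IsAlgSpace.yon_obj V⟩) r fun c =>
      surjective_map_of_repWith (repWith_baseChange (IsPullback.of_hasPullback c r).flip hrs))
  exact ⟨⟨V, v, (repWith_comp_equiv (ofOverCat_isEquivOver V)).2
      (repWith_ofSpMap (A := ⟨_, IsAlgSpace.yon_obj V⟩) r fun c =>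
        isEtaleMor_of_repWith (repWith_baseChange (IsPullback.of_hasPullback c r).flip hr)), hs⟩,
    V, v, (repWith_comp_equiv (ofOverCat_isEquivOver V)).2
      (repWith_ofSpMap (A := ⟨_, IsAlgSpace.yon_obj V⟩) r fun c =>
        locP_of_repWith (repWith_baseChange (IsPullback.of_hasPullback c r).flip hr) (fun _ _ _ k m hk hm => by
          have : Etale k := hk
          have : Etale m := hm
          infer_instance)), hs⟩

theorem isDM_ofSp (A : AlgSp.Space S) : AlgSt.IsDM Scheme.fppfPrecoverage (AlgSt.ofSp A.obj) := by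
  have hA : AlgSt.RepByAlgSp (AlgSt.ofSp A.obj) :=
    ⟨A, BasedFunctor.id _, ⟨BasedFunctor.id _, ⟨Iso.refl _⟩, ⟨Iso.refl _⟩⟩⟩
  have hs : Stk.IsStack (QuotSh.J Scheme.fppfPrecoverage S) (AlgSt.ofSp A.obj) :=
    PshStk.isStack_ofPsh ((isSheaf_iff_isSheaf_of_type _ _).1 A.obj.property)
  exact ⟨⟨hs, repByAlgSp1_diag_of_slices hs.1 (fun U x => repByAlgSp1_of_repByAlgSp (repByAlgSp_overCat U) hA x),
    (hasAtlas_ofSp A).2⟩, (hasAtlas_ofSp A).1⟩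

theorem isDM_of_repByAlgSp (hr : AlgSt.RepByAlgSp 𝒳) : AlgSt.IsDM Scheme.fppfPrecoverage 𝒳 := by
  obtain ⟨A, e, he⟩ := hr
  exact isDM_of_equiv he (isDM_ofSp A)

theorem isStack_fp_of_rep1 {𝒵 : AlgSt.Cat S} (h𝒳 : FibCat.IsFibGrpd 𝒳.p) (h𝒵 : FibCat.IsFibGrpd 𝒵.p)
    (h𝒴 : Stk.IsStack (QuotSh.J Scheme.fppfPrecoverage S) 𝒴) (f : 𝒳 ⥤ᵇ 𝒵) (g : 𝒴 ⥤ᵇ 𝒵)
    (hf : AlgSt.RepByAlgSp1 f) : Stk.IsStack (QuotSh.J Scheme.fppfPrecoverage S) (FibCat.fp f g) :=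
  isStack_of_rep1 (j := BasedFunctor.comp (fpSwap f g) (FibCat.fpFst g f)) (fp_isFibGrpd h𝒳 h𝒴.1 h𝒵) h𝒴
    (rep1_iff.2 ((repWith_comp_equiv (fpSwap_isEquivOver f g)).2 (repWith_fpFst g (rep1_iff.1 hf))))

end Groth.Agent.AlgStLib
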