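import Groth.Agent.AlgStLib.LocQ
import Groth.Agent.AlgStLib.ProdStk
import Groth.Agent.AlgStLib.StkOps
import Groth.Agent.AlgSpLib.LocalST
import Groth.Agent.AlgSpLib.LocPCover
import Mathlib

/-!
Calculus of properties read on smooth charts.
-/

set_option autoImplicit false
set_option backward.isDefEq.respectTransparency false
set_option backward.isDefEq.respectTransparency.types false

universe u

open CategoryTheory CategoryTheory.Limits CategoryTheory.Functor AlgebraicGeometry Opposite AlgSp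

namespace Groth.Agent.AlgStLib

open Groth.Agent Groth.Agent.FibBasics Groth.Agent.AlgSpLib

/-- What the chart calculus needs of a property. -/
structure StLocal {S : Scheme.{u}} (P : MorphismProperty (Sp S)) : Prop where
  pre : SmPre P
  bc : BcAlong (LocP @Smooth) P
  loc : ∀ ⦃X Y : Sp S⦄, IsAlgSpace X → IsAlgSpace Y → ∀ (f : X ⟶ Y),
    (∀ x : Points X, ∃ (U V : Sp S) (a : U ⟶ X) (b : V ⟶ Y) (h : U ⟶ V) (v : Points U),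
      IsAlgSpace U ∧ IsAlgSpace V ∧ LocP @Smooth a ∧ LocP @Smooth b ∧ a ≫ f = h ≫ b ∧
      Points.map a v = x ∧ P h) → P f

variable {S : Scheme.{u}} {𝒳 𝒴 𝒵 : AlgSt.Cat S} {P Q R : MorphismProperty (Sp S)}

theorem stLocal_of_st (hP : IsSmoothLocalST P) : StLocal P :=
  ⟨hP.precomp, bcAlong_smooth hP, fun _ _ hX hY f => (hP.locality hX hY f).2⟩

theorem stLocal_locP {P : MorphismProperty Scheme.{u}} [EtLocal P] [IsZariskiLocalAtSource P]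
    (hsm : ∀ ⦃A B : Scheme.{u}⦄ (k : A ⟶ B), Smooth k → P k)
    (hdesc : ∀ ⦃A B C : Scheme.{u}⦄ (k : A ⟶ B) (m : B ⟶ C), Smooth k → Surjective k → P (k ≫ m) → P m) :
    StLocal (LocP P : MorphismProperty (Sp S)) where
  pre X Y Z hX hY hZ f g hf hg := locP_comp hX hY hZ (locP_mono (fun _ _ k hk => hsm k hk) hf) hg
  bc X Y Y' hX hY hY' f g _ hf := locP_baseChange hX hY hY' (IsPullback.of_hasPullback g f).flip hf
  loc X Y hX hY f H := by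
    obtain ⟨ι, φ, hφ⟩ := exists_small_family hX
    choose U V a b h v hU hV ha hb w hv hh using fun i => H (φ i)
    refine locP_of_cover (M := @Smooth) hX hY hU (fun x => ?_) ha (fun i => ?_) hdesc
    · obtain ⟨i, rfl⟩ := hφ x
      exact ⟨i, v i, hv i⟩
    · rw [w i]
      exact locP_comp (hU i) (hV i) hY (hh i) (locP_mono (fun _ _ k hk => hsm k hk) (hb i))

theorem stLocal_lft : StLocal (LocP @LocallyOfFiniteType : MorphismProperty (Sp S)) :=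
  stLocal_locP (fun _ _ k hk => by have := hk; infer_instance)
    fun _ _ _ k m hk hs h => @SourceDescent.locallyOfFiniteType_of_comp _ _ _ k m hk hs h

theorem stLocal_lfp : StLocal (LocP @LocallyOfFinitePresentation : MorphismProperty (Sp S)) :=
  stLocal_locP (fun _ _ k hk => by have := hk; infer_instance)
    fun _ _ _ k m hk hs h => @SourceDescent.locallyOfFinitePresentation_of_comp _ _ _ k m hk hs h

theorem stLocal_flat : StLocal (LocP @Flat : MorphismProperty (Sp S)) :=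
  stLocal_locP (fun _ _ k hk => by have := hk; infer_instance)
    fun _ _ _ k m hk hs h => by
      have := hk
      exact @SourceDescent.flat_of_comp _ _ _ k m inferInstance hs h

theorem stLocal_smooth : StLocal (LocP @Smooth : MorphismProperty (Sp S)) :=
  stLocal_locP (fun _ _ _ hk => hk) fun _ _ _ k m hk hs h => @SourceDescent.smooth_of_comp _ _ _ k m hk hs h

/-- Every smooth chart square over a test map with `R` has the property. -/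
def Every (R P : MorphismProperty (Sp S)) (f : 𝒳 ⥤ᵇ 𝒴) : Prop :=
  ∀ ⦃U V : AlgSp.Space S⦄ (y : AlgSt.ofSp V.obj ⥤ᵇ 𝒴), AlgSt.RepByAlgSpWith R y →
    ∀ (k : AlgSt.ofSp U.obj ⥤ᵇ FibCat.fp y f), AlgSt.RepByAlgSpWith (LocP @Smooth) k →
      ∀ (h : U.obj ⟶ V.obj), Nonempty (BasedFunctor.comp k (FibCat.fpFst y f) ≅ AlgSt.ofSpMap h) → P h

theorem every_of_locQ (hP : StLocal P) (h𝒳 : FibCat.IsFibGrpd 𝒳.p) (h𝒴 : FibCat.IsFibGrpd 𝒴.p)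
    {f : 𝒳 ⥤ᵇ 𝒴} (hf : AlgSt.LocQ P f) : Every (LocP @Smooth) P f := by
  obtain ⟨U₀, V₀, x₀, y₀, h₀, α₀, hx₀, hx₀s, hy₀, hh₀⟩ := space_sq_of_locQ hf
  exact fun U V y hy k hk h ⟨i⟩ =>
    prop_of_chart isLocalOnBase_fppf_locP hP.pre hP.loc hP.bc h𝒳 h𝒴 α₀ hx₀ hx₀s hy₀ hh₀ hy k hk i

theorem every_top_of_locQ (hP : StLocal P) (hbc : BcAlong ⊤ P) (h𝒳 : FibCat.IsFibGrpd 𝒳.p)
    (h𝒴 : FibCat.IsFibGrpd 𝒴.p) {f : 𝒳 ⥤ᵇ 𝒴} (hf : AlgSt.LocQ P f) : Every ⊤ P f := by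
  obtain ⟨U₀, V₀, x₀, y₀, h₀, α₀, hx₀, hx₀s, hy₀, hh₀⟩ := space_sq_of_locQ hf
  exact fun U V y hy k hk h ⟨i⟩ =>
    prop_of_chart (fun _ _ _ _ _ _ _ _ _ _ _ _ _ _ _ => iff_of_true trivial fun _ => trivial)
      hP.pre hP.loc hbc h𝒳 h𝒴 α₀ hx₀ hx₀s hy₀ hh₀ hy k hk i

theorem repWith_ofSp_smooth_comp {A : AlgSp.Space S} {f : AlgSt.ofSp A.obj ⥤ᵇ 𝒳} {g : 𝒳 ⥤ᵇ 𝒴}
    (h𝒳 : FibCat.IsFibGrpd 𝒳.p) (hf : AlgSt.RepByAlgSpWith (LocP @Smooth) f)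
    (hg : AlgSt.RepByAlgSpWith (LocP @Smooth) g) : AlgSt.RepByAlgSpWith (LocP @Smooth) (BasedFunctor.comp f g) :=
  repWith_smooth_comp (Stk.isFibGrpd_ofPsh _) h𝒳 hf hg

theorem repWith_fpSnd' {W : AlgSt.Cat S} {y : W ⥤ᵇ 𝒴} (f : 𝒳 ⥤ᵇ 𝒴) (hy : AlgSt.RepByAlgSpWith P y) :
    AlgSt.RepByAlgSpWith P (FibCat.fpSnd y f) :=
  (repWith_comp_equiv (fpSwap_isEquivOver y f)).2 (repWith_fpFst f hy)

theorem isAlgStack_ofSch (W : AlgSp.Space S) : AlgSt.IsAlgStack Scheme.fppfPrecoverage (AlgSt.ofSp W.obj) :=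
  (isDM_ofSp W).1

/-- Maps from algebraic spaces to algebraic stacks are representable. -/
theorem rep1_of_space (h𝒴 : AlgSt.IsAlgStack Scheme.fppfPrecoverage 𝒴) {W : AlgSp.Space S}
    (w : AlgSt.ofSp W.obj ⥤ᵇ 𝒴) : AlgSt.RepByAlgSp1 w := fun U x => by
  obtain ⟨V, -, e, he, -, -⟩ := exists_space_rep (P := ⊤)
    (fun _ _ _ _ _ _ _ _ _ _ _ _ _ _ _ => iff_of_true trivial fun _ => trivial) (isFibGrpd_overForget U)
    h𝒴.isStack.1 (rep1_iff.1 (rep_slices_of_diag h𝒴.isStack.1 h𝒴.diag U x)) W w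
  exact ⟨V, BasedFunctor.comp e (fpSwap w x), isEquivOver_comp he (fpSwap_isEquivOver w x)⟩

/-- A base change of the first factor of a fibre product. -/
noncomputable def fpMapFstIso {𝒜 ℬ : AlgSt.Cat S} (a : 𝒜 ⥤ᵇ ℬ) (y : ℬ ⥤ᵇ 𝒴) (f : 𝒳 ⥤ᵇ 𝒴) :
    BasedFunctor.comp (fpPaste f y a) (fpMapFst a y f) ≅ FibCat.fpSnd a (FibCat.fpFst y f) :=
  BasedNatIso.mkNatIso (NatIso.ofComponents
    (fun x => ObjectProperty.isoMk _ (CategoricalPullback.mkIso x.obj.iso (Iso.refl x.obj.snd.obj.snd) (by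
      show y.map x.obj.iso.hom ≫ x.obj.snd.obj.iso.hom =
        (y.map x.obj.iso.hom ≫ x.obj.snd.obj.iso.hom) ≫ f.map (𝟙 _)
      rw [f.toFunctor.map_id, Category.comp_id])))
    (fun {p q} φ => fp_hom_ext φ.hom.w ((Category.comp_id _).trans (Category.id_comp _).symm)))
    (fun x => fp_lift_of_fst _ _ x.property)

theorem repWith_fpMapFst {𝒜 ℬ : AlgSt.Cat S} {a : 𝒜 ⥤ᵇ ℬ} (f : 𝒳 ⥤ᵇ 𝒴) (y : ℬ ⥤ᵇ 𝒴)
    (ha : AlgSt.RepByAlgSpWith P a) : AlgSt.RepByAlgSpWith P (fpMapFst a y f) :=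
  (repWith_comp_equiv (fpPaste_isEquivOver f y a)).1
    (repWith_of_iso (fpMapFstIso a y f).symm (repWith_fpSnd' (FibCat.fpFst y f) ha))

/-- An atlas by an algebraic space. -/
theorem exists_space_atlas (h : AlgSt.IsAlgStack Scheme.fppfPrecoverage 𝒳) :
    ∃ (V : AlgSp.Space S) (y : AlgSt.ofSp V.obj ⥤ᵇ 𝒳),
      AlgSt.RepByAlgSpWith (LocP @Smooth) y ∧ AlgSt.RepByAlgSpWith IsSurjectiveMor y := by
  obtain ⟨W, w, hw, hws⟩ := h.atlas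
  exact ⟨⟨_, IsAlgSpace.yon_obj W⟩, BasedFunctor.comp (AlgSt.toOverCat W) w,
    (repWith_comp_equiv (toOverCat_isEquivOver W)).2 hw, (repWith_comp_equiv (toOverCat_isEquivOver W)).2 hws⟩

theorem exists_space_atlas_fp (h𝒳 : AlgSt.IsAlgStack Scheme.fppfPrecoverage 𝒳)
    (h𝒴 : AlgSt.IsAlgStack Scheme.fppfPrecoverage 𝒴) (f : 𝒳 ⥤ᵇ 𝒴) {V : AlgSp.Space S}
    (y : AlgSt.ofSp V.obj ⥤ᵇ 𝒴) :
    ∃ (U : AlgSp.Space S) (k : AlgSt.ofSp U.obj ⥤ᵇ FibCat.fp y f),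
      AlgSt.RepByAlgSpWith (LocP @Smooth) k ∧ AlgSt.RepByAlgSpWith IsSurjectiveMor k :=
  exists_space_atlas (isAlgStack_fp h𝒴.isStack.1 h𝒴.diag (isAlgStack_ofSch V) h𝒳 y f)

/-- One chart square with surjective source chart. -/
theorem locQ_of_chart (hpre : SmPre P) (hbc : BcAlong (LocP @Smooth) P) {f : 𝒳 ⥤ᵇ 𝒴}
    (h𝒳 : FibCat.IsFibGrpd 𝒳.p) (h𝒴 : FibCat.IsFibGrpd 𝒴.p) {U V : AlgSp.Space S}
    {y : AlgSt.ofSp V.obj ⥤ᵇ 𝒴} (hy : AlgSt.RepByAlgSpWith (LocP @Smooth) y)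
    (hys : AlgSt.RepByAlgSpWith IsSurjectiveMor y)
    {k : AlgSt.ofSp U.obj ⥤ᵇ FibCat.fp y f} (hk : AlgSt.RepByAlgSpWith (LocP @Smooth) k)
    (hks : AlgSt.RepByAlgSpWith IsSurjectiveMor k) {h : U.obj ⟶ V.obj}
    (i : BasedFunctor.comp k (FibCat.fpFst y f) ≅ AlgSt.ofSpMap h) (hh : P h) : AlgSt.LocQ P f := by
  have hF : FibCat.IsFibGrpd (FibCat.fp y f).p := fp_isFibGrpd (Stk.isFibGrpd_ofPsh _) h𝒳 h𝒴
  exact locQ_of_sq hpre hbc (x := BasedFunctor.comp k (FibCat.fpSnd y f))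
    (bWhiskerL k (FibCat.fpIso y f).symm ≪≫ bWhiskerR i y)
    (repWith_smooth_comp (Stk.isFibGrpd_ofPsh _) hF hk (repWith_fpSnd' f hy))
    (repWith_surjective_comp (Stk.isFibGrpd_ofPsh _) hF hks (repWith_fpSnd' f hys)) hy hh

theorem locQ_of_every (hpre : SmPre P) (hbc : BcAlong (LocP @Smooth) P)
    (h𝒳 : AlgSt.IsAlgStack Scheme.fppfPrecoverage 𝒳) (h𝒴 : AlgSt.IsAlgStack Scheme.fppfPrecoverage 𝒴)
    {f : 𝒳 ⥤ᵇ 𝒴} (hf : Every (LocP @Smooth) P f) : AlgSt.LocQ P f := by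
  obtain ⟨V, y, hy, hys⟩ := exists_space_atlas h𝒴
  obtain ⟨U, k, hk, hks⟩ := exists_space_atlas_fp h𝒳 h𝒴 f y
  exact locQ_of_chart hpre hbc h𝒳.isStack.1 h𝒴.isStack.1 hy hys hk hks (ofPshMapIso _)
    (hf y hy k hk _ ⟨ofPshMapIso _⟩)

theorem locQ_mono (hP : StLocal P) (hpre : SmPre Q) (hbc : BcAlong (LocP @Smooth) Q)
    (h𝒳 : AlgSt.IsAlgStack Scheme.fppfPrecoverage 𝒳) (h𝒴 : AlgSt.IsAlgStack Scheme.fppfPrecoverage 𝒴)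
    {f : 𝒳 ⥤ᵇ 𝒴} (hf : AlgSt.LocQ P f)
    (hPQ : ∀ ⦃U V : AlgSp.Space S⦄ (y : AlgSt.ofSp V.obj ⥤ᵇ 𝒴), AlgSt.RepByAlgSpWith (LocP @Smooth) y →
      ∀ (h : U.obj ⟶ V.obj), P h → Q h) : AlgSt.LocQ Q f :=
  locQ_of_every hpre hbc h𝒳 h𝒴 fun _ _ y hy k hk h i =>
    hPQ y hy h (every_of_locQ hP h𝒳.isStack.1 h𝒴.isStack.1 hf y hy k hk h i)

/-- Stability under composition. -/
theorem locQ_comp (hP : StLocal P)
    (hPc : ∀ ⦃X₁ Y₁ Z₁ : Sp S⦄, IsAlgSpace X₁ → IsAlgSpace Y₁ → IsAlgSpace Z₁ →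
      ∀ (a : X₁ ⟶ Y₁) (b : Y₁ ⟶ Z₁), P a → P b → P (a ≫ b))
    (h𝒳 : AlgSt.IsAlgStack Scheme.fppfPrecoverage 𝒳) (h𝒴 : AlgSt.IsAlgStack Scheme.fppfPrecoverage 𝒴)
    (h𝒵 : AlgSt.IsAlgStack Scheme.fppfPrecoverage 𝒵) {f : 𝒳 ⥤ᵇ 𝒴} {g : 𝒴 ⥤ᵇ 𝒵}
    (hf : AlgSt.LocQ P f) (hg : AlgSt.LocQ P g) : AlgSt.LocQ P (BasedFunctor.comp f g) := by
  obtain ⟨W, z, hz, hzs⟩ := exists_space_atlas h𝒵
  obtain ⟨V, k₂, hk₂, hk₂s⟩ := exists_space_atlas_fp h𝒴 h𝒵 g z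
  have hF : FibCat.IsFibGrpd (FibCat.fp z g).p := fp_isFibGrpd (Stk.isFibGrpd_ofPsh _) h𝒴.isStack.1 h𝒵.isStack.1
  let y := BasedFunctor.comp k₂ (FibCat.fpSnd z g)
  have hy : AlgSt.RepByAlgSpWith (LocP @Smooth) y :=
    repWith_smooth_comp (Stk.isFibGrpd_ofPsh _) hF hk₂ (repWith_fpSnd' g hz)
  have hys : AlgSt.RepByAlgSpWith IsSurjectiveMor y :=
    repWith_surjective_comp (Stk.isFibGrpd_ofPsh _) hF hk₂s (repWith_fpSnd' g hzs)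
  obtain ⟨U, k₁, hk₁, hk₁s⟩ := exists_space_atlas_fp h𝒳 h𝒴 f y
  have hF₁ : FibCat.IsFibGrpd (FibCat.fp y f).p := fp_isFibGrpd (Stk.isFibGrpd_ofPsh _) h𝒳.isStack.1 h𝒴.isStack.1
  let i₁ := ofPshMapIso (BasedFunctor.comp k₁ (FibCat.fpFst y f))
  let i₂ := ofPshMapIso (BasedFunctor.comp k₂ (FibCat.fpFst z g))
  let h₁ : U.obj ⟶ V.obj := spMapOf (BasedFunctor.comp k₁ (FibCat.fpFst y f))
  let h₂ : V.obj ⟶ W.obj := spMapOf (BasedFunctor.comp k₂ (FibCat.fpFst z g))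
  have e₁ : P h₁ := every_of_locQ hP h𝒳.isStack.1 h𝒴.isStack.1 hf y hy k₁ hk₁ _ ⟨i₁⟩
  have e₂ : P h₂ := every_of_locQ hP h𝒴.isStack.1 h𝒵.isStack.1 hg z hz k₂ hk₂ _ ⟨i₂⟩
  exact locQ_of_sq hP.pre hP.bc (x := BasedFunctor.comp k₁ (FibCat.fpSnd y f)) (y := z) (h := h₁ ≫ h₂)
    (bWhiskerR (bWhiskerL k₁ (FibCat.fpIso y f).symm ≪≫ bWhiskerR i₁ y) g ≪≫
      bWhiskerL (AlgSt.ofSpMap h₁) (bWhiskerL k₂ (FibCat.fpIso z g).symm ≪≫ bWhiskerR i₂ z) ≪≫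
      bWhiskerR (ofSpMapCompIso h₁ h₂) z)
    (repWith_smooth_comp (Stk.isFibGrpd_ofPsh _) hF₁ hk₁ (repWith_fpSnd' f hy))
    (repWith_surjective_comp (Stk.isFibGrpd_ofPsh _) hF₁ hk₁s (repWith_fpSnd' f hys)) hz
    (hPc U.property V.property W.property _ _ e₁ e₂)

/-- Stability under base change. -/
theorem locQ_fpFst (hP : StLocal P) (hbc : BcAlong ⊤ P)
    (h𝒳 : AlgSt.IsAlgStack Scheme.fppfPrecoverage 𝒳) (h𝒴 : AlgSt.IsAlgStack Scheme.fppfPrecoverage 𝒴)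
    (h𝒵 : AlgSt.IsAlgStack Scheme.fppfPrecoverage 𝒵) {f : 𝒳 ⥤ᵇ 𝒴} (g : 𝒵 ⥤ᵇ 𝒴)
    (hf : AlgSt.LocQ P f) : AlgSt.LocQ P (FibCat.fpFst g f) := by
  have hZX : AlgSt.IsAlgStack Scheme.fppfPrecoverage (FibCat.fp g f) :=
    isAlgStack_fp h𝒴.isStack.1 h𝒴.diag h𝒵 h𝒳 g f
  refine locQ_of_every hP.pre hP.bc hZX h𝒵 fun U V y _ k hk h ⟨i⟩ => ?_
  exact every_top_of_locQ hP hbc h𝒳.isStack.1 h𝒴.isStack.1 hf (BasedFunctor.comp y g)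
    (rep1_iff.1 (rep1_of_space h𝒴 (BasedFunctor.comp y g))) (BasedFunctor.comp k (fpPaste f g y))
    ((repWith_equiv_comp (fpPaste_isEquivOver f g y)).2 hk) h ⟨i⟩

/-- Cancellation. -/
theorem locQ_cancel (hP : StLocal P) (hQ : StLocal Q)
    (hcan : ∀ ⦃X₁ Y₁ Z₁ : Sp S⦄, IsAlgSpace X₁ → IsAlgSpace Y₁ → IsAlgSpace Z₁ →
      ∀ (a : X₁ ⟶ Y₁) (b : Y₁ ⟶ Z₁), Q (a ≫ b) → R b → P a)
    (h𝒳 : AlgSt.IsAlgStack Scheme.fppfPrecoverage 𝒳) (h𝒴 : AlgSt.IsAlgStack Scheme.fppfPrecoverage 𝒴)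
    (h𝒵 : AlgSt.IsAlgStack Scheme.fppfPrecoverage 𝒵) {f : 𝒳 ⥤ᵇ 𝒴} {g : 𝒴 ⥤ᵇ 𝒵}
    (hfg : AlgSt.LocQ Q (BasedFunctor.comp f g))
    (hg : ∀ ⦃U V : AlgSp.Space S⦄ (z : AlgSt.ofSp V.obj ⥤ᵇ 𝒵), AlgSt.RepByAlgSpWith (LocP @Smooth) z →
      ∀ (k : AlgSt.ofSp U.obj ⥤ᵇ FibCat.fp z g), AlgSt.RepByAlgSpWith (LocP @Smooth) k →
        ∀ (h : U.obj ⟶ V.obj), Nonempty (BasedFunctor.comp k (FibCat.fpFst z g) ≅ AlgSt.ofSpMap h) → R h) :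
    AlgSt.LocQ P f := by
  obtain ⟨W, z, hz, hzs⟩ := exists_space_atlas h𝒵
  obtain ⟨V, k₂, hk₂, hk₂s⟩ := exists_space_atlas_fp h𝒴 h𝒵 g z
  have hF : FibCat.IsFibGrpd (FibCat.fp z g).p := fp_isFibGrpd (Stk.isFibGrpd_ofPsh _) h𝒴.isStack.1 h𝒵.isStack.1
  let y := BasedFunctor.comp k₂ (FibCat.fpSnd z g)
  have hy : AlgSt.RepByAlgSpWith (LocP @Smooth) y :=
    repWith_smooth_comp (Stk.isFibGrpd_ofPsh _) hF hk₂ (repWith_fpSnd' g hz)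
  have hys : AlgSt.RepByAlgSpWith IsSurjectiveMor y :=
    repWith_surjective_comp (Stk.isFibGrpd_ofPsh _) hF hk₂s (repWith_fpSnd' g hzs)
  obtain ⟨U, k₁, hk₁, hk₁s⟩ := exists_space_atlas_fp h𝒳 h𝒴 f y
  let h₁ : U.obj ⟶ V.obj := spMapOf (BasedFunctor.comp k₁ (FibCat.fpFst y f))
  let h₂ : V.obj ⟶ W.obj := spMapOf (BasedFunctor.comp k₂ (FibCat.fpFst z g))
  have e₂ : R h₂ := hg z hz k₂ hk₂ _ ⟨ofPshMapIso _⟩
  let c := BasedFunctor.comp (fpMapFst k₂ (FibCat.fpSnd z g) f) (fpAssoc f g z)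
  have hc : AlgSt.RepByAlgSpWith (LocP @Smooth) c :=
    (repWith_equiv_comp (fpAssoc_isEquivOver f g z)).2 (repWith_fpMapFst f (FibCat.fpSnd z g) hk₂)
  have e₁ : Q (h₁ ≫ h₂) := every_of_locQ hQ h𝒳.isStack.1 h𝒵.isStack.1 hfg z hz (BasedFunctor.comp k₁ c)
    (repWith_smooth_comp (Stk.isFibGrpd_ofPsh _)
      (fp_isFibGrpd (Stk.isFibGrpd_ofPsh _) h𝒳.isStack.1 h𝒴.isStack.1) hk₁ hc) _
    ⟨bWhiskerR (ofPshMapIso (BasedFunctor.comp k₁ (FibCat.fpFst y f))) (BasedFunctor.comp k₂ (FibCat.fpFst z g)) ≪≫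
      bWhiskerL (AlgSt.ofSpMap h₁) (ofPshMapIso _) ≪≫ ofSpMapCompIso h₁ h₂⟩
  exact locQ_of_chart hP.pre hP.bc h𝒳.isStack.1 h𝒴.isStack.1 hy hys hk₁ hk₁s (ofPshMapIso _)
    (hcan U.property V.property W.property h₁ h₂ e₁ e₂)

end Groth.Agent.AlgStLib
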