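import Groth.Agent.AlgStLib.LocQCalc
import Groth.Agent.AlgStLib.DiagLft
import Mathlib

/-!
Statements about properties read on smooth charts.
-/

set_option autoImplicit false
set_option backward.isDefEq.respectTransparency false
set_option backward.isDefEq.respectTransparency.types false

universe u

open CategoryTheory CategoryTheory.Limits CategoryTheory.Functor AlgebraicGeometry Opposite AlgSp

namespace Groth.Agent.AlgStLib

open Groth.Agent Groth.Agent.FibBasics Groth.Agent.AlgSpLib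

variable {S : Scheme.{u}} {𝒳 𝒴 𝒵 : AlgSt.Cat S} {P : MorphismProperty (Sp S)}

theorem smPre_locP {P : MorphismProperty Scheme.{u}} [EtLocal P]
    (hsm : ∀ ⦃A B : Scheme.{u}⦄ (k : A ⟶ B), Smooth k → P k) : SmPre (LocP P : MorphismProperty (Sp S)) :=
  fun _ _ _ hX hY hZ _ _ hf hg => locP_comp hX hY hZ (locP_mono (fun _ _ k hk => hsm k hk) hf) hg

theorem bcAlong_locP {R : MorphismProperty (Sp S)} {P : MorphismProperty Scheme.{u}} [EtLocal P] :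
    BcAlong R (LocP P) :=
  fun _ _ _ hX hY hY' f g _ hf => locP_baseChange hX hY hY' (IsPullback.of_hasPullback g f).flip hf

theorem isLocQ_lft_of_isImm (h𝒴 : AlgSt.IsAlgStack Scheme.fppfPrecoverage 𝒴) {f : 𝒳 ⥤ᵇ 𝒴}
    (hf : AlgSt.IsImm f) : AlgSt.LocQ (LocP @LocallyOfFiniteType) f :=
  locQ_of_repWith stLocal_lft.pre stLocal_lft.bc h𝒴 (repWith_mono_prop (fun _ _ _ _ _ ha =>
    locP_of_repWith ha fun _ _ _ k m hk hm => by
      have : Etale k := hk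
      have : IsImmersion m := hm
      infer_instance) hf)

theorem isLocQ_lfp_of_isOpenImm (h𝒴 : AlgSt.IsAlgStack Scheme.fppfPrecoverage 𝒴) {f : 𝒳 ⥤ᵇ 𝒴}
    (hf : AlgSt.IsOpenImm f) : AlgSt.LocQ (LocP @LocallyOfFinitePresentation) f :=
  locQ_of_repWith stLocal_lfp.pre stLocal_lfp.bc h𝒴 (repWith_mono_prop (fun _ _ _ _ _ ha =>
    locP_of_repWith ha fun _ _ _ k m hk hm => by
      have : Etale k := hk
      have : IsOpenImmersion m := hm
      infer_instance) hf)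

theorem locQ_iff_repWith (hP : IsSmoothLocalST P)
    (hPb : ∀ ⦃X₁ Y₁ X₂ Y₂ : Sp S⦄, IsAlgSpace X₁ → IsAlgSpace Y₁ → IsAlgSpace X₂ →
      IsAlgSpace Y₂ → ∀ (a : X₁ ⟶ Y₁) (b : Y₂ ⟶ Y₁) (a' : X₂ ⟶ Y₂) (b' : X₂ ⟶ X₁),
      IsPullback b' a' a b → P a → P a')
    (hPl : IsLocalOnBase IsFppfCover P) (h𝒳 : FibCat.IsFibGrpd 𝒳.p)
    (h𝒴 : AlgSt.IsAlgStack Scheme.fppfPrecoverage 𝒴) {f : 𝒳 ⥤ᵇ 𝒴} (hf : AlgSt.RepByAlgSp1 f) :
    AlgSt.LocQ P f ↔ AlgSt.RepByAlgSpWith P f :=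
  ⟨repWith_of_locQ hP.precomp (bcAlong_smooth hP) (fun _ _ hX hY g => (hP.locality hX hY g).2) hPb hPl h𝒳 h𝒴 hf, locQ_of_repWith hP.precomp (bcAlong_smooth hP) h𝒴⟩

theorem space_chart_iff (hP : IsSmoothLocalST P) {f : 𝒳 ⥤ᵇ 𝒴} :
    AlgSt.LocQ P f ↔
      ∃ (U V : AlgSp.Space S) (x : AlgSt.ofSp U.obj ⥤ᵇ 𝒳) (y : AlgSt.ofSp V.obj ⥤ᵇ 𝒴) (h : U ⟶ V)
        (_ : BasedFunctor.comp x f ≅ BasedFunctor.comp (AlgSt.ofSpMap h.hom) y),
        AlgSt.RepByAlgSpWith (LocP @Smooth) x ∧ AlgSt.RepByAlgSpWith IsSurjectiveMor x ∧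
        AlgSt.RepByAlgSpWith (LocP @Smooth) y ∧ P h.hom :=
  ⟨space_sq_of_locQ, fun ⟨_, _, _, _, _, α, hx, hxs, hy, hh⟩ =>
    locQ_of_sq hP.precomp (bcAlong_smooth hP) α hx hxs hy hh⟩

/-- A functor into a fibre product from its composites with the projections. -/
noncomputable def fpLiftIso {𝒲 : AlgSt.Cat S} {F : 𝒳 ⥤ᵇ 𝒵} {G : 𝒴 ⥤ᵇ 𝒵} (k : 𝒲 ⥤ᵇ FibCat.fp F G)
    {b : 𝒲 ⥤ᵇ 𝒴} (γ : BasedFunctor.comp k (FibCat.fpSnd F G) ≅ b) :
    k ≅ FibCat.fpLift (BasedFunctor.comp k (FibCat.fpFst F G)) b (bWhiskerL k (FibCat.fpIso F G) ≪≫ bWhiskerR γ G) :=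
  BasedNatIso.mkNatIso (NatIso.ofComponents
    (fun w => ObjectProperty.isoMk _ (CategoricalPullback.mkIso (Iso.refl (k.obj w).obj.fst)
      (((BasedNatTrans.forgetful _ _).mapIso γ).app w) (by
        show F.map (𝟙 _) ≫ (k.obj w).obj.iso.hom ≫ G.map (γ.hom.toNatTrans.app w) =
          (k.obj w).obj.iso.hom ≫ G.map (γ.hom.toNatTrans.app w)
        rw [F.toFunctor.map_id, Category.id_comp])))
    (fun {p q} φ => fp_hom_ext ((Category.comp_id _).trans (Category.id_comp _).symm)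
      (γ.hom.toNatTrans.naturality φ)))
    (fun w => fp_lift_of_fst _ _ (IsHomLift.id ((BasedFunctor.comp k (FibCat.fpFst F G)).w_obj w)))

theorem exists_iso_overMap {U V : Over S} (Φ : FibCat.overCat U ⥤ᵇ FibCat.overCat V) :
    ∃ h : U ⟶ V, Nonempty (Φ ≅ AlgSt.overMap h) := by
  let Ψ := BasedFunctor.comp (BasedFunctor.comp (AlgSt.toOverCat U) Φ) (AlgSt.ofOverCat V)
  refine ⟨(yon S).preimage (spMapOf Ψ), ⟨?_⟩⟩
  exact (eqToIso (based_ext rfl) : Φ ≅ BasedFunctor.comp (AlgSt.ofOverCat U) (BasedFunctor.comp Ψ (AlgSt.toOverCat V))) ≪≫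
    bWhiskerL (AlgSt.ofOverCat U) (bWhiskerR (ofPshMapIso Ψ ≪≫ eqToIso (congrArg Stk.ofPshMap
      (congrArg (fun m => m.hom) ((yon S).map_preimage (spMapOf Ψ)).symm))) (AlgSt.toOverCat V)) ≪≫
    eqToIso (based_ext rfl)

theorem every_scheme_iff (hP : StLocal P) (h𝒳 : AlgSt.IsAlgStack Scheme.fppfPrecoverage 𝒳)
    (h𝒴 : AlgSt.IsAlgStack Scheme.fppfPrecoverage 𝒴) (f : 𝒳 ⥤ᵇ 𝒴) :
    AlgSt.LocQ P f ↔
      ∀ (U V : Over S) (x : FibCat.overCat U ⥤ᵇ 𝒳) (y : FibCat.overCat V ⥤ᵇ 𝒴) (h : U ⟶ V)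
        (α : BasedFunctor.comp x f ≅ BasedFunctor.comp (AlgSt.overMap h) y),
        AlgSt.RepByAlgSpWith (LocP @Smooth) x → AlgSt.RepByAlgSpWith (LocP @Smooth) y →
        AlgSt.RepByAlgSpWith (LocP @Smooth) (FibCat.fpLift x (AlgSt.overMap h) α) → P ((yon S).map h) := by
  constructor
  · intro hf U V x y h α _ hy hk
    let k' := BasedFunctor.comp (AlgSt.toOverCat U)
      (BasedFunctor.comp (FibCat.fpLift x (AlgSt.overMap h) α) (fpSwap f y))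
    obtain ⟨M, hM, -, ⟨εM⟩⟩ :=
      isEquivOver_symm (fpMapFst_isEquivOver (AlgSt.toOverCat V) y f (toOverCat_isEquivOver V))
    have hk' : AlgSt.RepByAlgSpWith (LocP @Smooth) k' :=
      (repWith_comp_equiv (toOverCat_isEquivOver U)).2 ((repWith_equiv_comp (fpSwap_isEquivOver f y)).2 hk)
    refine every_of_locQ hP h𝒳.isStack.1 h𝒴.isStack.1 hf (U := ⟨_, IsAlgSpace.yon_obj U⟩)
      (V := ⟨_, IsAlgSpace.yon_obj V⟩) (BasedFunctor.comp (AlgSt.toOverCat V) y)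
      ((repWith_comp_equiv (toOverCat_isEquivOver V)).2 hy) (BasedFunctor.comp k' M)
      ((repWith_equiv_comp hM).2 hk') _ ⟨?_⟩
    let a := BasedFunctor.comp (BasedFunctor.comp k' M) (FibCat.fpFst (BasedFunctor.comp (AlgSt.toOverCat V) y) f)
    exact (eqToIso (based_ext rfl) : a ≅ BasedFunctor.comp (BasedFunctor.comp a (AlgSt.toOverCat V)) (AlgSt.ofOverCat V)) ≪≫
      bWhiskerR (bWhiskerR (bWhiskerL k' εM) (FibCat.fpFst y f)) (AlgSt.ofOverCat V) ≪≫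
      eqToIso (based_ext rfl)
  · intro H
    obtain ⟨V, y, hy, hys⟩ := h𝒴.atlas
    obtain ⟨U, k₀, hk₀, hk₀s⟩ := (isAlgStack_fp h𝒴.isStack.1 h𝒴.diag
      (isAlgStack_of_rep1 (isFibGrpd_overForget V) h𝒴 (rep_slices_of_diag h𝒴.isStack.1 h𝒴.diag V y)) h𝒳 y f).atlas
    let kk := BasedFunctor.comp k₀ (fpSwap y f)
    obtain ⟨h, ⟨γ⟩⟩ := exists_iso_overMap (BasedFunctor.comp kk (FibCat.fpSnd f y))
    have hFy : FibCat.IsFibGrpd (FibCat.fp y f).p :=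
      fp_isFibGrpd (isFibGrpd_overForget V) h𝒳.isStack.1 h𝒴.isStack.1
    have hx : AlgSt.RepByAlgSpWith (LocP @Smooth) (BasedFunctor.comp kk (FibCat.fpFst f y)) :=
      repWith_smooth_comp (f := k₀) (g := FibCat.fpSnd y f) (isFibGrpd_overForget U) hFy hk₀ (repWith_fpSnd' f hy)
    exact ⟨U, V, BasedFunctor.comp kk (FibCat.fpFst f y), y, h, bWhiskerL kk (FibCat.fpIso f y) ≪≫ bWhiskerR γ y,
      hx, repWith_surjective_comp (f := k₀) (g := FibCat.fpSnd y f) (isFibGrpd_overForget U) hFy hk₀s (repWith_fpSnd' f hys), hy,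
      H U V _ y h _ hx hy (repWith_of_iso (fpLiftIso kk γ) ((repWith_equiv_comp (fpSwap_isEquivOver y f)).2 hk₀))⟩

theorem locQ_ofSpMap_iff (hP : StLocal P) {F G : AlgSp.Space S} (a : F.obj ⟶ G.obj) :
    AlgSt.LocQ P (AlgSt.ofSpMap a) ↔ P a := by
  have hF : FibCat.IsFibGrpd (AlgSt.ofSp F.obj).p := Stk.isFibGrpd_ofPsh _
  have hG : FibCat.IsFibGrpd (AlgSt.ofSp G.obj).p := Stk.isFibGrpd_ofPsh _
  constructor
  · intro hf
    let k : AlgSt.ofSp F.obj ⥤ᵇ FibCat.fp (BasedFunctor.id (AlgSt.ofSp G.obj)) (AlgSt.ofSpMap a) :=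
      FibCat.fpLift (AlgSt.ofSpMap a) (BasedFunctor.id _) (Iso.refl _)
    have hk : FibCat.IsEquivOver k :=
      ⟨FibCat.fpSnd _ _, ⟨Iso.refl _⟩, ⟨BasedNatIso.mkNatIso (NatIso.ofComponents
        (fun z => ObjectProperty.isoMk _ (CategoricalPullback.mkIso z.obj.iso.symm (Iso.refl z.obj.snd) (by
          show z.obj.iso.inv ≫ z.obj.iso.hom = 𝟙 _ ≫ (AlgSt.ofSpMap a).map (𝟙 z.obj.snd)
          rw [Iso.inv_hom_id, (AlgSt.ofSpMap a).toFunctor.map_id, Category.id_comp])))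
        (fun {p q} φ => fp_hom_ext (by
            show (AlgSt.ofSpMap a).map φ.hom.snd ≫ q.obj.iso.inv = p.obj.iso.inv ≫ φ.hom.fst
            rw [Iso.comp_inv_eq, Category.assoc, Iso.eq_inv_comp]
            exact φ.hom.w.symm)
          ((Category.comp_id _).trans (Category.id_comp _).symm)))
        (fun z => fp_lift_of_fst _ _ (by
          have : (AlgSt.ofSp G.obj).p.IsHomLift
              (𝟙 ((FibCat.fp (BasedFunctor.id (AlgSt.ofSp G.obj)) (AlgSt.ofSpMap a)).p.obj z)) z.obj.iso.hom := z.property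
          exact IsHomLift.lift_id_inv _ _ z.obj.iso))⟩⟩
    exact every_of_locQ hP hF hG hf (BasedFunctor.id _)
      (repWith_id (fun _ _ _ _ _ hi => by have := hi; exact locP_of_isIso) hG) k
      ((repWith_comp_equiv (f := BasedFunctor.id _) hk).2
        (repWith_id (fun _ _ _ _ _ hi => by have := hi; exact locP_of_isIso) (fp_isFibGrpd hG hF hG))) a ⟨Iso.refl _⟩
  · exact fun ha => locQ_of_sq hP.pre hP.bc (x := BasedFunctor.id _) (y := BasedFunctor.id _) (h := a) (Iso.refl _)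
      (repWith_id (fun _ _ _ _ _ hi => by have := hi; exact locP_of_isIso) hF)
      (repWith_id (fun _ _ b _ _ hi => by have := hi; exact surjective_map_of_repWith (repWith_iso b)) hF)
      (repWith_id (fun _ _ _ _ _ hi => by have := hi; exact locP_of_isIso) hG) ha

theorem locQ_lft_cancel (h𝒳 : AlgSt.IsAlgStack Scheme.fppfPrecoverage 𝒳)
    (h𝒴 : AlgSt.IsAlgStack Scheme.fppfPrecoverage 𝒴) (h𝒵 : AlgSt.IsAlgStack Scheme.fppfPrecoverage 𝒵)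
    {f : 𝒳 ⥤ᵇ 𝒴} {g : 𝒴 ⥤ᵇ 𝒵} (h : AlgSt.LocQ (LocP @LocallyOfFiniteType) (BasedFunctor.comp f g)) :
    AlgSt.LocQ (LocP @LocallyOfFiniteType) f :=
  locQ_cancel stLocal_lft stLocal_lft (R := LocP ⊤)
    (fun _ _ _ hA hB hC a b h hb => locP_of_comp (Q := @LocallyOfFiniteType) (R := ⊤) (g := b) hA hB hC h hb
      fun _ _ _ k m hkm _ => lft_cancel k m hkm)
    h𝒳 h𝒴 h𝒵 h (fun _ _ _ _ _ _ _ _ => locP_top _)

theorem locQ_lfp_cancel (h𝒳 : AlgSt.IsAlgStack Scheme.fppfPrecoverage 𝒳)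
    (h𝒴 : AlgSt.IsAlgStack Scheme.fppfPrecoverage 𝒴) (h𝒵 : AlgSt.IsAlgStack Scheme.fppfPrecoverage 𝒵)
    {f : 𝒳 ⥤ᵇ 𝒴} {g : 𝒴 ⥤ᵇ 𝒵} (h : AlgSt.LocQ (LocP @LocallyOfFinitePresentation) (BasedFunctor.comp f g))
    (hg : AlgSt.LocQ (LocP @LocallyOfFiniteType) g) : AlgSt.LocQ (LocP @LocallyOfFinitePresentation) f :=
  locQ_cancel stLocal_lfp stLocal_lfp
    (fun _ _ _ hA hB hC a b h hb => locP_of_comp (Q := @LocallyOfFinitePresentation) (R := @LocallyOfFiniteType)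
      (g := b) hA hB hC h hb fun _ _ _ k m hkm hm => Groth.Agent.AlgSpLib.locallyOfFinitePresentation_of_comp k m hkm hm)
    h𝒳 h𝒴 h𝒵 h (fun _ _ z hz k hk h i => every_of_locQ stLocal_lft h𝒴.isStack.1 h𝒵.isStack.1 hg z hz k hk h i)

theorem locQ_lfp_of_locallyNoetherian (h𝒳 : AlgSt.IsAlgStack Scheme.fppfPrecoverage 𝒳)
    (h𝒴 : AlgSt.IsAlgStack Scheme.fppfPrecoverage 𝒴) {f : 𝒳 ⥤ᵇ 𝒴}
    (hN : AlgSt.SmoothLocally (fun T ↦ IsLocallyNoetherian T) 𝒴)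
    (hf : AlgSt.LocQ (LocP @LocallyOfFiniteType) f) : AlgSt.LocQ (LocP @LocallyOfFinitePresentation) f :=
  locQ_mono stLocal_lft stLocal_lfp.pre stLocal_lfp.bc h𝒳 h𝒴 hf fun U V y hy h hh => by
    obtain ⟨U₁, V₁, a, b, k, ha, has, hb, -, w⟩ := exists_chart U.property V.property h
    have : IsLocallyNoetherian V₁.left := hN V₁
      (BasedFunctor.comp (BasedFunctor.comp (AlgSt.ofOverCat V₁) (AlgSt.ofSpMap b)) y)
      (repWith_smooth_comp (isFibGrpd_overForget V₁) (Stk.isFibGrpd_ofPsh _)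
        ((repWith_comp_equiv (ofOverCat_isEquivOver V₁)).2
          (repWith_ofSpMap_smooth (A := ⟨_, IsAlgSpace.yon_obj V₁⟩) b (smooth_of_etale hb))) hy)
    have : LocallyOfFiniteType k.left := hh a b k ha hb w
    exact locP_of_chart ha has hb w inferInstance

theorem locQ_lfp_diag (h𝒳 : AlgSt.IsAlgStack Scheme.fppfPrecoverage 𝒳)
    (h𝒴 : AlgSt.IsAlgStack Scheme.fppfPrecoverage 𝒴) {f : 𝒳 ⥤ᵇ 𝒴}
    (hf : AlgSt.LocQ (LocP @LocallyOfFiniteType) f) :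
    AlgSt.LocQ (LocP @LocallyOfFinitePresentation) (FibCat.diag f) :=
  locQ_lfp_cancel h𝒳 (isAlgStack_fp h𝒴.isStack.1 h𝒴.diag h𝒳 h𝒳 f f) h𝒳 (g := FibCat.fpFst f f)
    (locQ_of_repWith stLocal_lfp.pre stLocal_lfp.bc h𝒳
      (repWith_of_iso (eqToIso (based_ext rfl) :
        BasedFunctor.id 𝒳 ≅ BasedFunctor.comp (FibCat.diag f) (FibCat.fpFst f f))
        (repWith_id (fun _ _ _ _ _ hi => by have := hi; exact locP_of_isIso) h𝒳.isStack.1)))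
    (locQ_fpFst stLocal_lft bcAlong_locP h𝒳 h𝒴 h𝒳 f hf)

end Groth.Agent.AlgStLib
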