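import Groth.Agent.AlgStLib.LinesInv
import Groth.Agent.AlgSpLib.DiagMor
import Mathlib

/-!
Representable monomorphisms of stacks are fully faithful on fibres.
-/

set_option autoImplicit false
set_option backward.isDefEq.respectTransparency.types false

universe u

open CategoryTheory CategoryTheory.Limits CategoryTheory.Functor AlgebraicGeometry Opposite AlgSp

namespace Groth.Agent.AlgStLib

open Groth.Agent Groth.Agent.FibBasics Groth.Agent.AlgSpLib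

variable {S : Scheme.{u}} {𝒳 𝒴 : AlgSt.Cat S}

/-- A representable monomorphism is full on fibres. -/
theorem exists_map_eq_of_mono {P : MorphismProperty (Sp S)} (hP : ∀ {F G : Sp S} (f : F ⟶ G), P f → Mono f)
    {i : 𝒳 ⥤ᵇ 𝒴} (h : AlgSt.RepByAlgSpWith P i) (h𝒴 : FibCat.IsFibGrpd 𝒴.p) {T : Over S} (x₁ x₂ : 𝒳.p.Fiber T)
    (β : (IsoNat.fibFun i T).obj x₁ ⟶ (IsoNat.fibFun i T).obj x₂) :
    ∃ b : x₁.1 ⟶ x₂.1, 𝒳.p.IsHomLift (𝟙 T) b ∧ i.map b = β.1 := by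
  obtain ⟨G, ⟨ε⟩⟩ := exists_functor h𝒴 ((IsoNat.fibFun i T).obj x₁)
  have := isGroupoid_fiber 𝒴.p h𝒴 T
  let ε₂ := ε ≪≫ @asIso _ _ _ _ β (IsGroupoid.all_isIso β)
  obtain ⟨F, e, he, hm⟩ := h T G
  have : Mono (AlgSt.spMapOfOver (BasedFunctor.comp e (FibCat.fpFst G i))) := hP _ hm
  obtain ⟨⟨_, _⟩, hes⟩ := (isEquivOver_iff e).1 he
  let i₁ : G.obj (one T) ≅ i.obj x₁.1 := Fiber.fiberInclusion.mapIso ε
  let i₂ : G.obj (one T) ≅ i.obj x₂.1 := Fiber.fiberInclusion.mapIso ε₂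
  let B₁ : (FibCat.fp G i).obj := ⟨{ fst := one T, snd := x₁.1, iso := i₁ }, ε.hom.2⟩
  let B₂ : (FibCat.fp G i).obj := ⟨{ fst := one T, snd := x₂.1, iso := i₂ }, ε₂.hom.2⟩
  have pre : ∀ B : (FibCat.fp G i).obj, B.obj.fst = one T →
      ∃ (σ : F.obj.obj.obj (op T)) (η : e.obj ⟨T, σ⟩ ≅ B), (FibCat.fp G i).p.IsHomLift (𝟙 T) η.hom ∧
        AlgSt.secHom (BasedFunctor.comp e (FibCat.fpFst G i)) ⟨T, σ⟩ = 𝟙 T := by
    rintro ⟨⟨b₁, b₂, bi⟩, hb⟩ h1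
    change b₁ = one T at h1
    subst h1
    obtain ⟨⟨T', σ⟩, η, hη⟩ := hes ⟨⟨one T, b₂, bi⟩, hb⟩
    have hbase : T' = T := (e.w_obj ⟨T', σ⟩).symm.trans
      (@IsHomLift.domain_eq _ _ _ _ (FibCat.fp G i).p _ _ _ _ _ η.hom hη)
    subst hbase
    refine ⟨σ, η, hη, ?_⟩
    have hl0 : (FibCat.overCat T').p.IsHomLift (𝟙 T') η.hom.hom.fst :=
      have : (FibCat.fp G i).p.IsHomLift (𝟙 T') η.hom := hη
      fp_lift_fst _ η.hom
    have hw : η.hom.hom.fst.left ≫ 𝟙 T' = (e.obj ⟨T', σ⟩).obj.fst.hom := Over.w η.hom.hom.fst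
    have hl : η.hom.hom.fst.left = eqToHom _ ≫ 𝟙 T' ≫ eqToHom _ :=
      IsHomLift.fac' (FibCat.overCat T').p (𝟙 T') η.hom.hom.fst
    rw [AlgSt.secHom]
    refine (congrArg (eqToHom _ ≫ ·) hw.symm).trans ?_
    rw [hl]
    simp
    rfl
  obtain ⟨σ₁, η₁, hη₁, hs₁⟩ := pre B₁ rfl
  obtain ⟨σ₂, η₂, hη₂, hs₂⟩ := pre B₂ rfl
  obtain rfl : σ₁ = σ₂ := by
    apply (J S).uliftYonedaEquiv.{u + 1}.symm.injective
    rw [← cancel_mono (AlgSt.spMapOfOver (BasedFunctor.comp e (FibCat.fpFst G i)))]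
    apply (J S).uliftYonedaEquiv.{u + 1}.injective
    rw [GrothendieckTopology.uliftYonedaEquiv_comp, GrothendieckTopology.uliftYonedaEquiv_comp,
      Equiv.apply_symm_apply, Equiv.apply_symm_apply, AlgSt.spMapOfOver_app, AlgSt.spMapOfOver_app, hs₁, hs₂]
  let m : B₁ ⟶ B₂ := η₁.inv ≫ η₂.hom
  have hf : m.hom.fst = 𝟙 (one T) := (toOne_unique _).trans toOne_one
  have hm' : (FibCat.fp G i).p.IsHomLift (𝟙 T) m := by
    have := hη₁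
    have := hη₂
    have : (FibCat.fp G i).p.IsHomLift (𝟙 T) η₁.inv := IsHomLift.lift_id_inv _ T η₁
    infer_instance
  refine ⟨m.hom.snd, fp_lift_snd _ m, ?_⟩
  have w : G.map m.hom.fst ≫ i₂.hom = i₁.hom ≫ i.map m.hom.snd := m.hom.w
  rw [hf, G.toFunctor.map_id, Category.id_comp] at w
  rw [← cancel_epi i₁.hom, ← w]
  rfl

/-- An open immersion of stacks is full on fibres. -/
theorem exists_map_eq_of_isOpenImm {i : 𝒳 ⥤ᵇ 𝒴} (h : AlgSt.IsOpenImm i) (h𝒴 : FibCat.IsFibGrpd 𝒴.p) {T : Over S}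
    (x₁ x₂ : 𝒳.p.Fiber T) (β : (IsoNat.fibFun i T).obj x₁ ⟶ (IsoNat.fibFun i T).obj x₂) :
    ∃ b : x₁.1 ⟶ x₂.1, 𝒳.p.IsHomLift (𝟙 T) b ∧ i.map b = β.1 :=
  exists_map_eq_of_mono (fun _ hf => mono_of_repWith hf fun _ _ k hk => by
    have : IsOpenImmersion k := hk; infer_instance) h h𝒴 x₁ x₂ β

/-- Isomorphism classes commute with fibre products along open immersions. -/
theorem cls_fp_injective {𝒲 : AlgSt.Cat S} (h𝒳 : FibCat.IsFibGrpd 𝒳.p) (h𝒴 : FibCat.IsFibGrpd 𝒴.p)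
    (h𝒲 : FibCat.IsFibGrpd 𝒲.p) (f : 𝒳 ⥤ᵇ 𝒴) (i : 𝒲 ⥤ᵇ 𝒴) (hi : AlgSt.IsOpenImm i)
    (T : Over S) (z₁ z₂ : (FibCat.fp f i).p.Fiber T)
    (h₁ : IsoNat.mapCls (FibCat.fpFst f i) T (IsoNat.cls z₁) = IsoNat.mapCls (FibCat.fpFst f i) T (IsoNat.cls z₂))
    (h₂ : IsoNat.mapCls (FibCat.fpSnd f i) T (IsoNat.cls z₁) = IsoNat.mapCls (FibCat.fpSnd f i) T (IsoNat.cls z₂)) :
    IsoNat.cls z₁ = IsoNat.cls z₂ := by
  obtain ⟨a⟩ := Quotient.exact h₁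
  obtain ⟨b₀⟩ := Quotient.exact h₂
  let a' : z₁.1.obj.fst ≅ z₂.1.obj.fst := Fiber.fiberInclusion.mapIso a
  have ha : 𝒳.p.IsHomLift (𝟙 T) a'.hom := a.hom.2
  have hsl : ∀ z : (FibCat.fp f i).p.Fiber T, 𝒴.p.IsHomLift (𝟙 T) z.1.obj.iso.hom := fun z => by
    have h := z.1.property
    rwa [FibCat.fpProp, show 𝒳.p.obj z.1.obj.fst = T from z.2] at h
  have := hsl z₁
  have := hsl z₂
  have : 𝒴.p.IsHomLift (𝟙 T) z₁.1.obj.iso.inv := IsHomLift.lift_id_inv _ T z₁.1.obj.iso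
  have : 𝒴.p.IsHomLift (𝟙 T) (f.map a'.hom) := BasedFunctor.preserves_isHomLift f (𝟙 T) a'.hom
  let β : (IsoNat.fibFun i T).obj ((IsoNat.fibFun (FibCat.fpSnd f i) T).obj z₁) ⟶
      (IsoNat.fibFun i T).obj ((IsoNat.fibFun (FibCat.fpSnd f i) T).obj z₂) :=
    ⟨z₁.1.obj.iso.inv ≫ f.map a'.hom ≫ z₂.1.obj.iso.hom,
      @IsHomLift.comp_of_lift_id _ _ _ _ 𝒴.p T _ _ _ z₁.1.obj.iso.inv _ inferInstance
        (IsHomLift.comp_of_lift_id 𝒴.p T (f.map a'.hom) z₂.1.obj.iso.hom)⟩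
  obtain ⟨b, hb, hib⟩ := exists_map_eq_of_isOpenImm hi h𝒴 _ _ β
  let m : z₁.1 ⟶ z₂.1 := fpHom a'.hom b (by
    show f.map a'.hom ≫ z₂.1.obj.iso.hom = z₁.1.obj.iso.hom ≫ i.map b
    refine Eq.trans ?_ (congrArg (z₁.1.obj.iso.hom ≫ ·) hib).symm
    show _ = z₁.1.obj.iso.hom ≫ z₁.1.obj.iso.inv ≫ f.map a'.hom ≫ z₂.1.obj.iso.hom
    rw [Iso.hom_inv_id_assoc])
  have hma : (FibCat.fp f i).p.IsHomLift (𝟙 T) m := fp_lift_of_fst _ m ha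
  have hbi : IsIso b := isIso_of_isFibGrpd 𝒲.p h𝒲 (𝟙 T) b
  have hmi : IsIso m := by
    refine ⟨fpHom a'.inv (@CategoryTheory.inv _ _ _ _ b hbi) ?_, fp_hom_ext a'.hom_inv_id (@IsIso.hom_inv_id _ _ _ _ b hbi),
      fp_hom_ext a'.inv_hom_id (@IsIso.inv_hom_id _ _ _ _ b hbi)⟩
    show f.map a'.inv ≫ z₁.1.obj.iso.hom = z₂.1.obj.iso.hom ≫ i.map (@CategoryTheory.inv _ _ _ _ b hbi)
    rw [← cancel_epi (f.map a'.hom), ← Category.assoc, ← f.toFunctor.map_comp, a'.hom_inv_id, f.toFunctor.map_id,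
      Category.id_comp]
    have hbb : i.map b ≫ i.map (@CategoryTheory.inv _ _ _ _ b hbi) = 𝟙 _ :=
      (i.toFunctor.map_comp _ _).symm.trans ((congrArg i.map (@IsIso.hom_inv_id _ _ _ _ b hbi)).trans
        (i.toFunctor.map_id _))
    exact ((congrArg (z₁.1.obj.iso.hom ≫ ·) hbb).trans (Category.comp_id _)).symm.trans
      ((Category.assoc _ _ _).symm.trans ((congrArg (· ≫ i.map (@CategoryTheory.inv _ _ _ _ b hbi)) m.hom.w.symm).trans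
        (Category.assoc _ _ _)))
  let mf : z₁ ⟶ z₂ := ⟨m, hma⟩
  have : IsIso mf := isIso_fiber_hom _ mf hmi
  exact Quotient.sound ⟨asIso mf⟩

end Groth.Agent.AlgStLib
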