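import Groth.Agent.AlgStLib.Mono
import Groth.Agent.FibBasics.Whisker
import Groth.Agent.FibBasics.Gerbe
import Groth.Prelude.Def_AlgSt3
import Groth.Prelude.Def_W4c2isonaturalstkIso
import Mathlib

/-!
Open substacks cut out by a property of objects.
-/

set_option autoImplicit false
set_option backward.isDefEq.respectTransparency false
set_option backward.isDefEq.respectTransparency.types false

universe u

open CategoryTheory CategoryTheory.Limits CategoryTheory.Functor AlgebraicGeometry Opposite AlgSp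

namespace Groth.Agent.AlgStLib

open Groth.Agent Groth.Agent.FibBasics Groth.Agent.AlgSpLib

variable {S : Scheme.{u}} {𝒴 : AlgSt.Cat S}

/-- A property of objects is open: its pullback to every scheme is an open subscheme. -/
def OpenProp (Q : 𝒴.obj → Prop) : Prop :=
  ∀ (U : Over S) (y : FibCat.overCat U ⥤ᵇ 𝒴), ∃ (V : Over S) (k : V ⟶ U), IsOpenImmersion k.left ∧
    ∀ g : (FibCat.overCat U).obj, Q (y.obj g) ↔ ∃ l : g.left ⟶ V, l ≫ k = g.hom

variable {Q : ObjectProperty 𝒴.obj} [hc : ObjectProperty.IsClosedUnderIsomorphisms Q]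

omit hc in
theorem mono_of_openImm {U V : Over S} (k : V ⟶ U) [IsOpenImmersion k.left] : Mono k :=
  (Over.forget S).mono_of_mono_map (inferInstanceAs (Mono k.left))

/-- The inclusion of an open full subcategory is an open immersion. -/
theorem isOpenImm_subIncl (hopen : OpenProp Q) : AlgSt.IsOpenImm (AlgSt.subIncl 𝒴 Q) := by
  intro U y
  obtain ⟨V, k, hk, hV⟩ := hopen U y
  have := mono_of_openImm k
  let o : (AlgSt.ofSch V).obj → (FibCat.overCat U).obj := fun a => Over.mk (a.sec.down ≫ k)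
  have ho : ∀ a, Q (y.obj (o a)) := fun a => (hV _).2 ⟨a.sec.down, rfl⟩
  let oMap : ∀ {a b : (AlgSt.ofSch V).obj} (f : a ⟶ b), o a ⟶ o b := fun {a b} f => Over.homMk f.hom (by
    show f.hom ≫ b.sec.down ≫ k = a.sec.down ≫ k
    rw [← f.map_sec]; exact (Category.assoc _ _ _).symm)
  let e₀ : (AlgSt.ofSch V).obj ⥤ (FibCat.fp y (AlgSt.subIncl 𝒴 Q)).obj :=
    { obj := fun a => ⟨{ fst := o a, snd := ⟨y.obj (o a), ho a⟩, iso := Iso.refl _ },
        IsHomLift.id (y.w_obj (o a))⟩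
      map := fun {a b} f => fpHom (oMap f) (ObjectProperty.homMk (y.map (oMap f)))
        ((Category.comp_id _).trans (Category.id_comp _).symm)
      map_id := fun a => fp_hom_ext rfl
        (ObjectProperty.hom_ext Q ((congrArg y.map (Over.OverMorphism.ext rfl : oMap (𝟙 a) = 𝟙 (o a))).trans
          (y.toFunctor.map_id _)))
      map_comp := fun f g => fp_hom_ext rfl
        (ObjectProperty.hom_ext Q ((congrArg y.map (Over.OverMorphism.ext rfl : oMap (f ≫ g) = oMap f ≫ oMap g)).trans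
          (y.toFunctor.map_comp _ _))) }
  let e : AlgSt.ofSch V ⥤ᵇ FibCat.fp y (AlgSt.subIncl 𝒴 Q) :=
    { toFunctor := e₀, w := rfl }
  refine ⟨⟨_, IsAlgSpace.yon_obj V⟩, e, ?_, ?_⟩
  · have : e.toFunctor.Faithful := ⟨fun {a b f g} h =>
      Stk.EltObj.hom_ext (congrArg (fun m => m.hom.fst.left) h)⟩
    have : e.toFunctor.Full := ⟨fun {a b} m => by
      have hw : m.hom.fst.left ≫ b.sec.down ≫ k = a.sec.down ≫ k := Over.w m.hom.fst
      refine ⟨⟨m.hom.fst.left, ULift.ext _ _ ((cancel_mono k).1 ((Category.assoc _ _ _).trans hw))⟩,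
        fp_hom_ext rfl (ObjectProperty.hom_ext Q ?_)⟩
      have := m.hom.w
      exact ((Category.comp_id _).symm.trans this).trans (Category.id_comp _)⟩
    refine isEquivOver_of_essSurjOver e fun x => ?_
    obtain ⟨⟨t, η, i⟩, hi⟩ := x
    obtain ⟨l, hl⟩ := (hV t).1 (Q.prop_of_iso i.symm η.property)
    let a : (AlgSt.ofSch V).obj := ⟨t.left, ⟨l⟩⟩
    have ha : o a = t := by
      show Over.mk (l ≫ k) = t
      rw [hl]; rfl
    let q : o a ≅ t := Over.isoMk (Iso.refl t.left) ((Category.id_comp _).trans hl.symm)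
    let n : (⟨y.obj (o a), ho a⟩ : (AlgSt.fullSub 𝒴 Q).obj) ⟶ η :=
      ObjectProperty.homMk (y.map q.hom ≫ i.hom)
    let n' : η ⟶ (⟨y.obj (o a), ho a⟩ : (AlgSt.fullSub 𝒴 Q).obj) :=
      ObjectProperty.homMk (i.inv ≫ y.map q.inv)
    have hn : y.map q.hom ≫ y.map q.inv = 𝟙 _ := by rw [← y.toFunctor.map_comp, q.hom_inv_id, y.toFunctor.map_id]
    have hn' : y.map q.inv ≫ y.map q.hom = 𝟙 _ := by rw [← y.toFunctor.map_comp, q.inv_hom_id, y.toFunctor.map_id]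
    refine ⟨a, ⟨fpHom q.hom n (Category.id_comp _).symm, fpHom q.inv n' ?_, fp_hom_ext q.hom_inv_id ?_,
      fp_hom_ext q.inv_hom_id ?_⟩, ?_⟩
    · show y.map q.inv ≫ 𝟙 _ = i.hom ≫ i.inv ≫ y.map q.inv
      rw [Category.comp_id, Iso.hom_inv_id_assoc]
    · refine ObjectProperty.hom_ext Q ?_
      show (y.map q.hom ≫ i.hom) ≫ i.inv ≫ y.map q.inv = 𝟙 _
      rw [Category.assoc, Iso.hom_inv_id_assoc, hn]
    · refine ObjectProperty.hom_ext Q ?_
      show (i.inv ≫ y.map q.inv) ≫ y.map q.hom ≫ i.hom = 𝟙 _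
      rw [Category.assoc, ← Category.assoc (y.map q.inv), hn', Category.id_comp, Iso.inv_hom_id]
    · exact fp_lift_of_fst _ _ (IsHomLift.map (FibCat.overCat U).p q.hom)
  · have hm : AlgSt.spMapOfOver (BasedFunctor.comp e (FibCat.fpFst y (AlgSt.subIncl 𝒴 Q))) = (yon S).map k := by
      ext T x
      apply ULift.ext
      exact Category.id_comp _
    show RepWith @IsOpenImmersion _
    rw [hm]
    exact (repWith_yon_map_iff _ k).2 hk

section Fp

variable {𝒜 ℬ : AlgSt.Cat S} (F : 𝒜 ⥤ᵇ AlgSt.fullSub 𝒴 Q) (G : ℬ ⥤ᵇ AlgSt.fullSub 𝒴 Q)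

omit hc in
/-- Fibre products over a full subcategory agree with those over the category. -/
def subFp : FibCat.fp F G ⥤ᵇ
    FibCat.fp (BasedFunctor.comp F (AlgSt.subIncl 𝒴 Q)) (BasedFunctor.comp G (AlgSt.subIncl 𝒴 Q)) where
  toFunctor :=
    { obj := fun x => ⟨{ fst := x.obj.fst, snd := x.obj.snd,
                         iso := (AlgSt.subIncl 𝒴 Q).toFunctor.mapIso x.obj.iso },
        (BasedFunctor.isHomLift_iff (AlgSt.subIncl 𝒴 Q) (𝟙 (𝒜.p.obj x.obj.fst)) x.obj.iso.hom).2 x.property⟩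
      map := fun φ => fpHom φ.hom.fst φ.hom.snd (congrArg InducedCategory.Hom.hom φ.hom.w)
      map_id := fun _ => fp_hom_ext rfl rfl
      map_comp := fun _ _ => fp_hom_ext rfl rfl }
  w := rfl

omit hc in
theorem subFp_isEquivOver : FibCat.IsEquivOver (subFp F G) := by
  have : (subFp F G).toFunctor.Faithful := ⟨fun {a b f g} h =>
    fp_hom_ext (congrArg (fun m => m.hom.fst) h) (congrArg (fun m => m.hom.snd) h)⟩
  have : (subFp F G).toFunctor.Full := ⟨fun {a b} m =>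
    ⟨fpHom m.hom.fst m.hom.snd (ObjectProperty.hom_ext Q m.hom.w), fp_hom_ext rfl rfl⟩⟩
  refine isEquivOver_of_essSurjOver _ fun x => ?_
  obtain ⟨⟨a, b, i⟩, hi⟩ := x
  let j : F.obj a ≅ G.obj b := ObjectProperty.isoMk Q i
  refine ⟨⟨{ fst := a, snd := b, iso := j },
    (BasedFunctor.isHomLift_iff (AlgSt.subIncl 𝒴 Q) (𝟙 (𝒜.p.obj a)) j.hom).1 hi⟩, Iso.refl _, ?_⟩
  exact IsHomLift.id rfl

end Fp

section Diag

omit hc in
/-- A pair of objects of the full subcategory as a pair of objects. -/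
def subSq : FibCat.fp (FibCat.toSelf (AlgSt.fullSub 𝒴 Q)) (FibCat.toSelf (AlgSt.fullSub 𝒴 Q)) ⥤ᵇ
    FibCat.fp (FibCat.toSelf 𝒴) (FibCat.toSelf 𝒴) where
  toFunctor :=
    { obj := fun x => ⟨{ fst := x.obj.fst.obj, snd := x.obj.snd.obj, iso := x.obj.iso }, x.property⟩
      map := fun φ => fpHom φ.hom.fst.hom φ.hom.snd.hom φ.hom.w
      map_id := fun _ => fp_hom_ext rfl rfl
      map_comp := fun _ _ => fp_hom_ext rfl rfl }
  w := rfl

variable {𝒜 : AlgSt.Cat S}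
  (Y : 𝒜 ⥤ᵇ FibCat.fp (FibCat.toSelf (AlgSt.fullSub 𝒴 Q)) (FibCat.toSelf (AlgSt.fullSub 𝒴 Q)))

omit hc in
/-- The diagonal of a full subcategory is a base change of the diagonal. -/
def subDiag : FibCat.fp Y (FibCat.diag (FibCat.toSelf (AlgSt.fullSub 𝒴 Q))) ⥤ᵇ
    FibCat.fp (BasedFunctor.comp Y subSq) (FibCat.diag (FibCat.toSelf 𝒴)) where
  toFunctor :=
    { obj := fun x => ⟨{ fst := x.obj.fst, snd := x.obj.snd.obj,
                         iso := subSq.toFunctor.mapIso x.obj.iso },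
        (BasedFunctor.isHomLift_iff subSq (𝟙 (𝒜.p.obj x.obj.fst)) x.obj.iso.hom).2 x.property⟩
      map := fun φ => fpHom φ.hom.fst φ.hom.snd.hom (fp_hom_ext
        (congrArg (fun m => m.hom.fst.hom) φ.hom.w) (congrArg (fun m => m.hom.snd.hom) φ.hom.w))
      map_id := fun _ => fp_hom_ext rfl rfl
      map_comp := fun _ _ => fp_hom_ext rfl rfl }
  w := rfl

theorem subDiag_isEquivOver : FibCat.IsEquivOver (subDiag Y) := by
  have : (subDiag Y).toFunctor.Faithful := ⟨fun {a b f g} h =>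
    fp_hom_ext (congrArg (fun m => m.hom.fst) h)
      (ObjectProperty.hom_ext Q (congrArg (fun m => m.hom.snd) h :))⟩
  have : (subDiag Y).toFunctor.Full := ⟨fun {a b} m =>
    ⟨fpHom m.hom.fst (ObjectProperty.homMk m.hom.snd) (fp_hom_ext
      (ObjectProperty.hom_ext Q (congrArg (fun m => m.hom.fst) m.hom.w :))
      (ObjectProperty.hom_ext Q (congrArg (fun m => m.hom.snd) m.hom.w :))), fp_hom_ext rfl rfl⟩⟩
  refine isEquivOver_of_essSurjOver _ fun x => ?_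
  obtain ⟨⟨t, η, i⟩, hi⟩ := x
  let i₁ : (Y.obj t).obj.fst.obj ≅ η :=
    ⟨i.hom.hom.fst, i.inv.hom.fst, congrArg (fun m => m.hom.fst) i.hom_inv_id,
      congrArg (fun m => m.hom.fst) i.inv_hom_id⟩
  let η' : (AlgSt.fullSub 𝒴 Q).obj := ⟨η, Q.prop_of_iso i₁ (Y.obj t).obj.fst.property⟩
  let j : Y.obj t ≅ (FibCat.diag (FibCat.toSelf (AlgSt.fullSub 𝒴 Q))).obj η' :=
    ⟨fpHom (ObjectProperty.homMk i.hom.hom.fst) (ObjectProperty.homMk i.hom.hom.snd) i.hom.hom.w,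
      fpHom (ObjectProperty.homMk i.inv.hom.fst) (ObjectProperty.homMk i.inv.hom.snd) i.inv.hom.w,
      fp_hom_ext (ObjectProperty.hom_ext Q (congrArg (fun m => m.hom.fst) i.hom_inv_id :))
        (ObjectProperty.hom_ext Q (congrArg (fun m => m.hom.snd) i.hom_inv_id :)),
      fp_hom_ext (ObjectProperty.hom_ext Q (congrArg (fun m => m.hom.fst) i.inv_hom_id :))
        (ObjectProperty.hom_ext Q (congrArg (fun m => m.hom.snd) i.inv_hom_id :))⟩
  refine ⟨⟨{ fst := t, snd := η', iso := j },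
    (BasedFunctor.isHomLift_iff subSq (𝟙 (𝒜.p.obj t)) j.hom).1 hi⟩, Iso.refl _, ?_⟩
  exact IsHomLift.id rfl

end Diag

section Transfer

omit hc in
theorem spMapOfOver_congr {F : AlgSp.Sp S} {U : Over S} (Φ Ψ : AlgSt.ofSp F ⥤ᵇ FibCat.overCat U)
    (h : ∀ a, ∃ m : Φ.obj a ⟶ Ψ.obj a, (FibCat.overCat U).p.IsHomLift (𝟙 a.base) m) :
    AlgSt.spMapOfOver Φ = AlgSt.spMapOfOver Ψ := by
  ext T x
  apply ULift.ext
  obtain ⟨m, hm⟩ := h ⟨T.unop, x⟩
  show AlgSt.secHom Φ ⟨T.unop, x⟩ = AlgSt.secHom Ψ ⟨T.unop, x⟩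
  have hw : m.left ≫ (Ψ.obj ⟨T.unop, x⟩).hom = (Φ.obj ⟨T.unop, x⟩).hom := Over.w m
  have hl : m.left = eqToHom _ ≫ 𝟙 T.unop ≫ eqToHom _ := IsHomLift.fac' (FibCat.overCat U).p (𝟙 T.unop) m
  rw [AlgSt.secHom, AlgSt.secHom, ← hw, hl]
  simp

omit hc in
/-- Representability transports along an equivalence compatible with the projections. -/
theorem exists_rep_transfer {U : Over S} {𝒵 𝒵' : AlgSt.Cat S} (K : 𝒵 ⥤ᵇ 𝒵') (hK : FibCat.IsEquivOver K)
    (p : 𝒵 ⥤ᵇ FibCat.overCat U) (p' : 𝒵' ⥤ᵇ FibCat.overCat U) (h : BasedFunctor.comp K p' = p)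
    {F : AlgSp.Sp S} {e : AlgSt.ofSp F ⥤ᵇ 𝒵'} (he : FibCat.IsEquivOver e) :
    ∃ e' : AlgSt.ofSp F ⥤ᵇ 𝒵, FibCat.IsEquivOver e' ∧
      AlgSt.spMapOfOver (BasedFunctor.comp e' p) = AlgSt.spMapOfOver (BasedFunctor.comp e p') := by
  obtain ⟨L, hL, -, ⟨α⟩⟩ := isEquivOver_symm hK
  refine ⟨BasedFunctor.comp e L, isEquivOver_comp he hL, ?_⟩
  subst h
  refine spMapOfOver_congr _ _ fun a => ⟨p'.map (α.hom.toNatTrans.app (e.obj a)), ?_⟩
  exact (BasedFunctor.isHomLift_iff p' _ _).2 (BasedNatTrans.isHomLift α.hom (e.w_obj a))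

end Transfer

section Stack

omit hc in
theorem subIncl_full : (AlgSt.subIncl 𝒴 Q).toFunctor.Full :=
  inferInstanceAs (ObjectProperty.ι Q).Full

omit hc in
theorem fullSub_isFibGrpd (h : FibCat.IsFibGrpd 𝒴.p)
    (hpull : ∀ ⦃a b : 𝒴.obj⦄, (a ⟶ b) → Q b → Q a) : FibCat.IsFibGrpd (AlgSt.fullSub 𝒴 Q).p := by
  have : (AlgSt.subIncl 𝒴 Q).toFunctor.Full := subIncl_full
  have : (AlgSt.subIncl 𝒴 Q).toFunctor.Faithful := inferInstanceAs (ObjectProperty.ι Q).Faithful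
  refine isFibGrpd_of_lifts _ (fun x R f => ?_) (fun R R' f b a φ hφ => ?_)
  · obtain ⟨b, φ, hφ⟩ := h.exists_lift (x := x.obj) f
    exact ⟨⟨b, hpull φ x.property⟩, ObjectProperty.homMk φ,
      (BasedFunctor.isHomLift_iff (AlgSt.subIncl 𝒴 Q) f _).1 hφ⟩
  · have := hφ
    have : 𝒴.p.IsStronglyCartesian f ((AlgSt.subIncl 𝒴 Q).map φ) := stronglyCartesian_of_isFibGrpd _ h f _
    exact isStronglyCartesian_of_map (AlgSt.subIncl 𝒴 Q) f φ

omit hc in
/-- A 2-morphism between functors into a full subcategory from one in the category. -/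
def subHom {𝒜 : AlgSt.Cat S} {G H : 𝒜 ⥤ᵇ AlgSt.fullSub 𝒴 Q}
    (β : BasedFunctor.comp G (AlgSt.subIncl 𝒴 Q) ⟶ BasedFunctor.comp H (AlgSt.subIncl 𝒴 Q)) : G ⟶ H where
  toNatTrans :=
    { app := fun a => ObjectProperty.homMk (β.toNatTrans.app a)
      naturality := fun _ _ f => ObjectProperty.hom_ext Q (β.toNatTrans.naturality f) }
  isHomLift' := fun a => (BasedFunctor.isHomLift_iff (AlgSt.subIncl 𝒴 Q) _ _).1 (β.isHomLift' a)

omit hc in
/-- Lift of a functor to a full subcategory. -/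
def subLift {𝒜 : BasedCategory.{u, u + 1} (Over S)} (G : 𝒜 ⥤ᵇ 𝒴) (h : ∀ a, Q (G.obj a)) :
    𝒜 ⥤ᵇ AlgSt.fullSub 𝒴 Q where
  toFunctor := ObjectProperty.lift Q G.toFunctor h
  w := G.w

theorem fullSub_isStack {J' : GrothendieckTopology (Over S)} (hst : Stk.IsStack J' 𝒴)
    (hJ : J' ≤ QuotSh.J Scheme.fppfPrecoverage S)
    (hpull : ∀ ⦃a b : 𝒴.obj⦄, (a ⟶ b) → Q b → Q a) (hopen : OpenProp Q) :
    Stk.IsStack J' (AlgSt.fullSub 𝒴 Q) := by
  refine ⟨fullSub_isFibGrpd hst.1 hpull, fun U R hR => ?_⟩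
  have : (Stk.resSieve R 𝒴).IsEquivalence := hst.2 R hR
  have post : ∀ {𝒜 : AlgSt.Cat S} {G H : 𝒜 ⥤ᵇ AlgSt.fullSub 𝒴 Q} (α : G ⟶ H),
      ∃ β : BasedFunctor.comp G (AlgSt.subIncl 𝒴 Q) ⟶ BasedFunctor.comp H (AlgSt.subIncl 𝒴 Q),
        ∀ a, β.toNatTrans.app a = (α.toNatTrans.app a).hom := fun α =>
    ⟨BasedCategory.whiskerRight α (AlgSt.subIncl 𝒴 Q), fun _ => rfl⟩
  refine (Functor.IsEquivalence.mk (faithful := ⟨fun {G H α β} h => ?_⟩) (full := ⟨fun {G H} α => ?_⟩)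
    (essSurj := ⟨fun H => ?_⟩) : (Stk.resSieve R (AlgSt.fullSub 𝒴 Q)).IsEquivalence)
  · obtain ⟨α', hα⟩ := post α
    obtain ⟨β', hβ⟩ := post β
    have : α' = β' := (Stk.resSieve R 𝒴).map_injective (BasedNatTrans.homCategory.ext _ _ (by
      ext a
      show α'.toNatTrans.app _ = β'.toNatTrans.app _
      rw [hα, hβ]
      exact congrArg (fun m => (m.toNatTrans.app a).hom) h))
    apply BasedNatTrans.homCategory.ext
    ext a
    rw [← hα, ← hβ, this]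
  · obtain ⟨β₀, hβ₀⟩ := post α
    let β : (Stk.resSieve R 𝒴).obj (BasedFunctor.comp G (AlgSt.subIncl 𝒴 Q)) ⟶
        (Stk.resSieve R 𝒴).obj (BasedFunctor.comp H (AlgSt.subIncl 𝒴 Q)) := β₀
    obtain ⟨γ, hγ⟩ := (Stk.resSieve R 𝒴).map_surjective β
    refine ⟨subHom γ, BasedNatTrans.homCategory.ext _ _ ?_⟩
    ext a
    exact (congrArg (fun m => m.toNatTrans.app a) hγ).trans (hβ₀ a)
  · let H' := BasedFunctor.comp H (AlgSt.subIncl 𝒴 Q)
    let G := (Stk.resSieve R 𝒴).objPreimage H'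
    let ε := (Stk.resSieve R 𝒴).objObjPreimageIso H'
    obtain ⟨V, k, hk, hV⟩ := hopen U G
    have := mono_of_openImm k
    have hR' : ∀ ⦃W : Over S⦄ (g : W ⟶ U), R g → ∃ l : W ⟶ V, l ≫ k = g := by
      intro W g hg
      refine (hV (Over.mk g)).1 (Q.prop_of_iso ?_ (H.obj ⟨Over.mk g, hg⟩).property)
      exact (((BasedNatTrans.forgetful _ _).mapIso ε).app ⟨Over.mk g, hg⟩).symm
    have hsh : Presieve.IsSheafFor ((yon S).obj V).obj R.arrows :=
      (isSheaf_iff_isSheaf_of_type _ _).1 ((yon S).obj V).property R (hJ _ hR)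
    have hshU : Presieve.IsSheafFor ((yon S).obj U).obj R.arrows :=
      (isSheaf_iff_isSheaf_of_type _ _).1 ((yon S).obj U).property R (hJ _ hR)
    choose l hl using hR'
    let fam : Presieve.FamilyOfElements ((yon S).obj V).obj R.arrows := fun W g hg => ⟨l g hg⟩
    have hfam : fam.Compatible := fun W₁ W₂ W g₁ g₂ f₁ f₂ h₁ h₂ e => by
      apply ULift.ext
      show g₁ ≫ l f₁ h₁ = g₂ ≫ l f₂ h₂
      rw [← cancel_mono k, Category.assoc, Category.assoc, hl, hl, e]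
    obtain ⟨⟨m⟩, hm, -⟩ := hsh fam hfam
    have hm' : m ≫ k = 𝟙 U := congrArg ULift.down (hshU.isSeparatedFor.ext
      (t₁ := (⟨m ≫ k⟩ : ULift.{u + 1} (U ⟶ U))) (t₂ := ⟨𝟙 U⟩) fun W g hg => by
      have h1 : g ≫ m = l g hg := congrArg ULift.down (hm g hg)
      apply ULift.ext
      show g ≫ m ≫ k = g ≫ 𝟙 U
      rw [Category.comp_id, ← Category.assoc, h1, hl])
    have hG : ∀ a, Q (G.obj a) := fun a =>
      (hV a).2 ⟨a.hom ≫ m, by rw [Category.assoc, hm', Category.comp_id]⟩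
    exact ⟨subLift G hG, ⟨⟨subHom ε.hom, subHom ε.inv,
      BasedNatTrans.homCategory.ext _ _ (by
        ext a; exact congrArg (fun m => m.toNatTrans.app a) ε.hom_inv_id),
      BasedNatTrans.homCategory.ext _ _ (by
        ext a; exact congrArg (fun m => m.toNatTrans.app a) ε.inv_hom_id)⟩⟩⟩

end Stack

section Main

theorem fullSub_repByAlgSp1_diag
    (hd : AlgSt.RepByAlgSp1 (FibCat.diag (FibCat.toSelf 𝒴))) :
    AlgSt.RepByAlgSp1 (FibCat.diag (FibCat.toSelf (AlgSt.fullSub 𝒴 Q))) := by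
  intro T Y
  obtain ⟨F, e, he⟩ := hd T (BasedFunctor.comp Y subSq)
  obtain ⟨L, hL, -, -⟩ := isEquivOver_symm (subDiag_isEquivOver Y)
  exact ⟨F, BasedFunctor.comp e L, isEquivOver_comp he hL⟩

omit hc in
theorem fullSub_hasAtlas (h𝒴 : FibCat.IsFibGrpd 𝒴.p)
    (hpull : ∀ ⦃a b : 𝒴.obj⦄, (a ⟶ b) → Q b → Q a) (hopen : OpenProp Q)
    (hat : AlgSt.HasAtlas (LocP @Smooth) 𝒴) : AlgSt.HasAtlas (LocP @Smooth) (AlgSt.fullSub 𝒴 Q) := by
  obtain ⟨U, x, hsm, hsurj⟩ := hat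
  obtain ⟨V, k, hk, hV⟩ := hopen U x
  have hrk : RepWith @IsOpenImmersion ((yon S).map k) := (repWith_yon_map_iff _ k).2 hk
  let x₀ := BasedFunctor.comp (AlgSt.overMap k) x
  have hx₀ : ∀ a, Q (x₀.obj a) := fun a => (hV _).2 ⟨a.hom, rfl⟩
  let x' : FibCat.overCat V ⥤ᵇ AlgSt.fullSub 𝒴 Q := subLift x₀ hx₀
  refine ⟨V, x', fun T y => ?_, fun T y => ?_⟩
  · obtain ⟨F, e, he, hm⟩ := hsm T (BasedFunctor.comp y (AlgSt.subIncl 𝒴 Q))
    obtain ⟨P, q, q', e', sq, he', hq⟩ := exists_rep_overMap _ x k he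
    obtain ⟨e'', he'', hq'⟩ := exists_rep_transfer (subFp y x') (subFp_isEquivOver y x')
      (FibCat.fpFst y x') (FibCat.fpFst _ _) rfl he'
    refine ⟨P, e'', he'', ?_⟩
    rw [show AlgSt.spMapOfOver (BasedFunctor.comp e'' (FibCat.fpFst y x')) = q ≫ _ from hq'.trans hq]
    have hqo : RepWith @IsOpenImmersion q := repWith_baseChange sq.flip hrk
    have hqe : LocP @Smooth q := (locP_iff_repWith F.property hqo.rep).2
      (repWith_mono (fun _ _ j hj => by have : IsOpenImmersion j := hj; infer_instance) hqo)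
    exact locP_comp P.property F.property (IsAlgSpace.yon_obj T) hqe hm
  · obtain ⟨F, e, he, hm⟩ := hsurj T (BasedFunctor.comp y (AlgSt.subIncl 𝒴 Q))
    obtain ⟨P, q, q', e', sq, he', hq⟩ := exists_rep_overMap _ x k he
    obtain ⟨e'', he'', hq'⟩ := exists_rep_transfer (subFp y x') (subFp_isEquivOver y x')
      (FibCat.fpFst y x') (FibCat.fpFst _ _) rfl he'
    refine ⟨P, e'', he'', ?_⟩
    rw [hq']
    refine surjective_of_fieldSurj (f := x₀) h𝒴 he' fun K _ str t => ?_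
    obtain ⟨K', hK, str', g, a, φ, hφ⟩ := fieldSurj_of_surjective hm K str t
    obtain ⟨l, hl⟩ := (hV a).1 (hpull φ (y.obj (Over.mk t)).property)
    let q : (AlgSt.overMap k).obj (Over.mk l) ≅ a :=
      Over.isoMk (Iso.refl a.left) ((Category.id_comp _).trans hl.symm)
    refine ⟨K', hK, str', g, Over.mk l, x.map q.hom ≫ φ, ?_⟩
    have h0 : (FibCat.overCat U).p.obj a = Over.mk str' :=
      (x.w_obj a).symm.trans (@IsHomLift.domain_eq _ _ _ _ 𝒴.p _ _ _ _ g φ hφ)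
    have h1 : 𝒴.p.IsHomLift (𝟙 (Over.mk str')) (x.map q.hom) :=
      (BasedFunctor.isHomLift_iff x _ _).2 (IsHomLift.of_fac _ _ _ h0 h0 (by
        show 𝟙 (Over.mk str') = eqToHom _ ≫ 𝟙 ((FibCat.overCat U).p.obj a) ≫ eqToHom _
        simp))
    have := hφ
    have := h1
    have h2 : 𝒴.p.IsHomLift (𝟙 (Over.mk str') ≫ g) (x.map q.hom ≫ φ) := inferInstance
    simpa using h2

/-- An open property of objects of an algebraic stack cuts out an open substack. -/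
theorem isOpenSubstack_of_openProp (h : AlgSt.IsAlgStack Scheme.fppfPrecoverage 𝒴)
    (hpull : ∀ ⦃a b : 𝒴.obj⦄, (a ⟶ b) → Q b → Q a) (hopen : OpenProp Q) :
    AlgSt.IsOpenSubstack 𝒴 Q Scheme.fppfPrecoverage :=
  ⟨hc, ⟨fullSub_isStack h.isStack le_rfl hpull hopen, fullSub_repByAlgSp1_diag h.diag,
    fullSub_hasAtlas h.isStack.1 hpull hopen h.atlas⟩, isOpenImm_subIncl hopen⟩

end Main

section Classes

omit hc

variable (W : ∀ T : Over S, Set (IsoNat.IsoCl 𝒴 T))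

/-- Objects whose class lies in a set of classes. -/
abbrev clsProp : ObjectProperty 𝒴.obj :=
  fun η => IsoNat.cls (⟨η, rfl⟩ : 𝒴.p.Fiber (𝒴.p.obj η)) ∈ W (𝒴.p.obj η)

theorem cls_mem_iff {η : 𝒴.obj} {T : Over S} (h : 𝒴.p.obj η = T) :
    IsoNat.cls (⟨η, h⟩ : 𝒴.p.Fiber T) ∈ W T ↔ clsProp W η := by
  subst h; rfl

variable (hWpull : ∀ (T' T : Over S) (g : T' ⟶ T) (x' : 𝒴.p.Fiber T') (x : 𝒴.p.Fiber T) (a : x'.1 ⟶ x.1),
      𝒴.p.IsHomLift g a → IsoNat.cls x ∈ W T → IsoNat.cls x' ∈ W T')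

include hWpull in
theorem clsProp_pull ⦃a b : 𝒴.obj⦄ (φ : a ⟶ b) (h : clsProp W b) : clsProp W a :=
  hWpull _ _ (𝒴.p.map φ) ⟨a, rfl⟩ ⟨b, rfl⟩ φ (IsHomLift.map 𝒴.p φ) h

include hWpull in
theorem clsProp_closed : (clsProp W).IsClosedUnderIsomorphisms :=
  ⟨fun e h => clsProp_pull W hWpull e.inv h⟩

theorem clsProp_openProp (hWopen : ∀ (T : Over S) (x : 𝒴.p.Fiber T), ∃ V : T.left.Opens,
      ∀ (T' : Over S) (g : T' ⟶ T) (x' : 𝒴.p.Fiber T') (a : x'.1 ⟶ x.1), 𝒴.p.IsHomLift g a →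
        (IsoNat.cls x' ∈ W T' ↔ ∃ g' : T'.left ⟶ ↑V, g' ≫ V.ι = g.left)) :
    OpenProp (clsProp W) := by
  intro U y
  obtain ⟨V, hV⟩ := hWopen U ⟨y.obj (one U), y.w_obj _⟩
  let k : Over.mk (V.ι ≫ U.hom) ⟶ U := Over.homMk V.ι rfl
  refine ⟨_, k, inferInstanceAs (IsOpenImmersion V.ι), fun g => ?_⟩
  refine ((cls_mem_iff W (y.w_obj g)).symm.trans
    (hV g.left g.hom ⟨y.obj g, y.w_obj g⟩ (y.map (toOne g)) (based_lift_one y g))).trans ?_
  refine ⟨fun ⟨g', hg'⟩ => ⟨Over.homMk g' ?_, Over.OverMorphism.ext hg'⟩,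
    fun ⟨l, hl⟩ => ⟨l.left, congrArg Over.Hom.left hl⟩⟩
  show g' ≫ V.ι ≫ U.hom = g.left.hom
  rw [← Category.assoc, hg', Over.w]

end Classes

end Groth.Agent.AlgStLib
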