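import Groth.Agent.AlgStLib.StkTop
import Groth.Agent.AlgStLib.LocQStmts
import Mathlib

/-!
Properties of algebraic stacks read on atlases; quasi-compactness; openness.
-/

set_option autoImplicit false
set_option backward.isDefEq.respectTransparency false
set_option backward.isDefEq.respectTransparency.types false

universe u

open CategoryTheory CategoryTheory.Limits CategoryTheory.Functor AlgebraicGeometry Opposite AlgSp

namespace Groth.Agent.AlgStLib

open Groth.Agent Groth.Agent.FibBasics Groth.Agent.AlgSpLib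

variable {S : Scheme.{u}} {𝒳 𝒴 𝒵 : AlgSt.Cat S} {P : Scheme.{u} → Prop}

/-- The chart of a stack given by a chart of a space mapping to it. -/
noncomputable abbrev chartOf {A : AlgSp.Space S} {W : Over S} (a : (yon S).obj W ⟶ A.obj)
    (x : AlgSt.ofSp A.obj ⥤ᵇ 𝒳) : FibCat.overCat W ⥤ᵇ 𝒳 :=
  BasedFunctor.comp (BasedFunctor.comp (AlgSt.ofOverCat W) (AlgSt.ofSpMap a)) x

theorem chartOf_smooth {A : AlgSp.Space S} {W : Over S} {a : (yon S).obj W ⟶ A.obj} (ha : RepWith @Etale a)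
    {x : AlgSt.ofSp A.obj ⥤ᵇ 𝒳} (hx : AlgSt.RepByAlgSpWith (LocP @Smooth) x) :
    AlgSt.RepByAlgSpWith (LocP @Smooth) (chartOf a x) :=
  repWith_smooth_comp (isFibGrpd_overForget W) (Stk.isFibGrpd_ofPsh _)
    ((repWith_comp_equiv (ofOverCat_isEquivOver W)).2
      (repWith_ofSpMap_smooth (A := ⟨_, IsAlgSpace.yon_obj W⟩) a (smooth_of_etale ha))) hx

theorem chartOf_surjective {A : AlgSp.Space S} {W : Over S} {a : (yon S).obj W ⟶ A.obj} (ha : RepWith @Surjective a)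
    {x : AlgSt.ofSp A.obj ⥤ᵇ 𝒳} (hx : AlgSt.RepByAlgSpWith IsSurjectiveMor x) :
    AlgSt.RepByAlgSpWith IsSurjectiveMor (chartOf a x) :=
  repWith_surjective_comp (isFibGrpd_overForget W) (Stk.isFibGrpd_ofPsh _)
    ((repWith_comp_equiv (ofOverCat_isEquivOver W)).2
      (repWith_ofSpMap_surjective (A := ⟨_, IsAlgSpace.yon_obj W⟩) a ha)) hx

/-- The hypothesis of locality for the smooth topology. -/
def SmoothLocal (P : Scheme.{u} → Prop) : Prop :=
  ∀ (U : Scheme.{u}) (R : Presieve U), R ∈ Scheme.precoverage @Smooth U →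
    (P U ↔ ∀ ⦃V : Scheme.{u}⦄ (g : V ⟶ U), R g → P V)

theorem smoothLocal_of_cover (hP : SmoothLocal P) {V U : Scheme.{u}} (g : V ⟶ U) [Smooth g]
    (hs : Function.Surjective g) : P U ↔ P V := by
  rw [hP U _ ((Scheme.singleton_mem_precoverage_iff @Smooth g).2 ⟨hs, ‹_›⟩)]
  exact ⟨fun h => h g ⟨⟩, fun h _ _ hk => by cases hk; exact h⟩

theorem smoothLocal_source (hP : SmoothLocal P) {V U : Scheme.{u}} (g : V ⟶ U) [Smooth g] (hU : P U) : P V := by
  let X : Bool → Scheme.{u} := fun b => bif b then V else U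
  let f : ∀ b, X b ⟶ U := fun b => match b with
    | true => g
    | false => 𝟙 U
  exact (hP U (Presieve.ofArrows X f) ((Scheme.ofArrows_mem_precoverage_iff @Smooth).2
    ⟨fun x => ⟨false, x, rfl⟩, fun b => by
      cases b
      exacts [(inferInstanceAs (Smooth (𝟙 U))), ‹Smooth g›]⟩)).1 hU g (.mk true)

theorem smoothLocally_iff_atlas (h𝒳 : AlgSt.IsAlgStack Scheme.fppfPrecoverage 𝒳) (hP : SmoothLocal P) :
    AlgSt.SmoothLocally P 𝒳 ↔
      ∃ (U : Over S) (x : FibCat.overCat U ⥤ᵇ 𝒳),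
        AlgSt.RepByAlgSpWith (LocP @Smooth) x ∧ AlgSt.RepByAlgSpWith IsSurjectiveMor x ∧ P U.left := by
  constructor
  · intro h
    obtain ⟨U, x, hx, hxs⟩ := h𝒳.atlas
    exact ⟨U, x, hx, hxs, h U x hx⟩
  · rintro ⟨U₀, x₀, hx₀, hxs₀, h₀⟩ V v hv
    obtain ⟨W, c, j, q, hc, hj, h1, -, hq⟩ := exists_scheme_fp (P := @Smooth) hx₀ v
    have : Smooth j.left := hj
    have : Smooth q.left := hq @Smooth isLocalOnBase_fppf_locP hv
    exact (smoothLocal_of_cover hP j.left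
      (surjective_of_scheme_fp h𝒳.isStack.1 (isSurjective_of_repWith h𝒳.isStack.1 hxs₀) hc h1)).2
      (smoothLocal_source hP q.left h₀)

theorem etaleLocally_yon_iff (hP : SmoothLocal P) (U : Over S) :
    AlgSp.EtaleLocally P ((yon S).obj U) ↔ P U.left := by
  refine ⟨?_, fun h => ⟨U, 𝟙 _, AlgSp.repWith_id _ U, AlgSp.repWith_id _ U, h⟩⟩
  rintro ⟨W, p, hp, hps, hW⟩
  obtain ⟨k, rfl⟩ := (yon S).map_surjective p
  have : Etale k.left := (repWith_yon_map_iff _ k).1 hp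
  have : Surjective k.left := (repWith_yon_map_iff _ k).1 hps
  exact (smoothLocal_of_cover hP k.left k.left.surjective).2 hW

theorem smoothLocally_iff_space_atlas (h𝒳 : AlgSt.IsAlgStack Scheme.fppfPrecoverage 𝒳) (hP : SmoothLocal P) :
    AlgSt.SmoothLocally P 𝒳 ↔
      ∃ (U : AlgSp.Space S) (x : AlgSt.ofSp U.obj ⥤ᵇ 𝒳),
        AlgSt.RepByAlgSpWith (LocP @Smooth) x ∧ AlgSt.RepByAlgSpWith IsSurjectiveMor x ∧
          AlgSp.EtaleLocally P U.obj := by
  rw [smoothLocally_iff_atlas h𝒳 hP]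
  constructor
  · rintro ⟨U, x, hx, hxs, h⟩
    exact ⟨⟨_, IsAlgSpace.yon_obj U⟩, BasedFunctor.comp (AlgSt.toOverCat U) x,
      (repWith_comp_equiv (toOverCat_isEquivOver U)).2 hx, (repWith_comp_equiv (toOverCat_isEquivOver U)).2 hxs,
      (etaleLocally_yon_iff hP U).2 h⟩
  · rintro ⟨A, x, hx, hxs, W, p, hp, hps, h⟩
    exact ⟨W, chartOf p x, chartOf_smooth hp hx, chartOf_surjective hps hxs, h⟩

theorem smoothLocally_iff_all_spaces (hP : SmoothLocal P) :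
    AlgSt.SmoothLocally P 𝒳 ↔
      ∀ (U : AlgSp.Space S) (x : AlgSt.ofSp U.obj ⥤ᵇ 𝒳),
        AlgSt.RepByAlgSpWith (LocP @Smooth) x → AlgSp.EtaleLocally P U.obj := by
  constructor
  · intro h A x hx
    obtain ⟨W, p, hp, hps⟩ := A.property.atlas
    exact ⟨W, p, hp, hps, h W _ (chartOf_smooth hp hx)⟩
  · exact fun h U x hx => (etaleLocally_yon_iff hP U).1
      (h ⟨_, IsAlgSpace.yon_obj U⟩ (BasedFunctor.comp (AlgSt.toOverCat U) x)
        ((repWith_comp_equiv (toOverCat_isEquivOver U)).2 hx))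

theorem smoothLocally_ofSp_iff (hP : SmoothLocal P) (X : AlgSp.Space S) :
    AlgSt.SmoothLocally P (AlgSt.ofSp X.obj) ↔ AlgSp.EtaleLocally P X.obj := by
  have hg : FibCat.IsFibGrpd (AlgSt.ofSp X.obj).p := Stk.isFibGrpd_ofPsh _
  constructor
  · exact fun h => (smoothLocally_iff_all_spaces hP).1 h X (BasedFunctor.id _)
      (repWith_id (fun _ _ _ _ _ hi => by have := hi; exact locP_of_isIso) hg)
  · exact fun h => (smoothLocally_iff_space_atlas (isAlgStack_ofSch X) hP).2 ⟨X, BasedFunctor.id _,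
      repWith_id (fun _ _ _ _ _ hi => by have := hi; exact locP_of_isIso) hg,
      repWith_id (fun _ _ a _ _ hi => by have := hi; exact surjective_map_of_repWith (repWith_iso a)) hg, h⟩

theorem smoothLocally_ofSch_iff (hP : SmoothLocal P) (U : Over S) :
    AlgSt.SmoothLocally P (AlgSt.ofSch U) ↔ P U.left :=
  (smoothLocally_ofSp_iff hP ⟨_, IsAlgSpace.yon_obj U⟩).trans (etaleLocally_yon_iff hP U)

theorem isQuasiCompact_iff_compactScheme (h𝒳 : AlgSt.IsAlgStack Scheme.fppfPrecoverage 𝒳) :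
    AlgSt.IsQuasiCompact 𝒳 ↔
      ∃ (U : Over S) (x : FibCat.overCat U ⥤ᵇ 𝒳), CompactSpace ↥U.left ∧
        AlgSt.RepByAlgSpWith (LocP @Smooth) x ∧ AlgSt.RepByAlgSpWith IsSurjectiveMor x := by
  refine ⟨fun ⟨U, x, hU, h1, h2⟩ => ⟨U, x, inferInstance, h1, h2⟩, fun ⟨U, x, hU, h1, h2⟩ => ?_⟩
  exact (isQuasiCompact_iff_compactSpace h𝒳).2
    ((ofChart_surjective (isSurjective_of_repWith h𝒳.isStack.1 h2)).compactSpace (continuous_ofChart h𝒳 x))

theorem isQuasiCompact_iff_qcSpace (h𝒳 : AlgSt.IsAlgStack Scheme.fppfPrecoverage 𝒳) :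
    AlgSt.IsQuasiCompact 𝒳 ↔
      ∃ (U : AlgSp.Space S) (x : AlgSt.ofSp U.obj ⥤ᵇ 𝒳), AlgSp.IsQuasiCompactSp U.obj ∧
        AlgSt.RepByAlgSpWith (LocP @Smooth) x ∧ AlgSt.RepByAlgSpWith IsSurjectiveMor x := by
  rw [isQuasiCompact_iff_compactScheme h𝒳]
  constructor
  · rintro ⟨U, x, hU, h1, h2⟩
    exact ⟨⟨_, IsAlgSpace.yon_obj U⟩, BasedFunctor.comp (AlgSt.toOverCat U) x,
      ⟨U, 𝟙 _, AlgSp.repWith_id _ U, AlgSp.repWith_id _ U, hU⟩,
      (repWith_comp_equiv (toOverCat_isEquivOver U)).2 h1, (repWith_comp_equiv (toOverCat_isEquivOver U)).2 h2⟩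
  · rintro ⟨A, x, ⟨W, p, hp, hps, hW⟩, h1, h2⟩
    exact ⟨W, chartOf p x, hW, chartOf_smooth hp h1, chartOf_surjective hps h2⟩

theorem isQuasiCompact_of_surjective {𝒰 : AlgSt.Cat S} (h𝒰 : AlgSt.IsAlgStack Scheme.fppfPrecoverage 𝒰)
    (h𝒳 : AlgSt.IsAlgStack Scheme.fppfPrecoverage 𝒳) (f : 𝒰 ⥤ᵇ 𝒳) (hf : AlgSt.IsSurjective f)
    (h : AlgSt.IsQuasiCompact 𝒰) : AlgSt.IsQuasiCompact 𝒳 :=
  have := (isQuasiCompact_iff_compactSpace h𝒰).1 h
  (isQuasiCompact_iff_compactSpace h𝒳).2 ((show Function.Surjective (AlgSt.Points.map f) from hf).compactSpace (continuous_points_map h𝒳 f))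

theorem isOpenMor_of_flat_lfp (h𝒳 : AlgSt.IsAlgStack Scheme.fppfPrecoverage 𝒳)
    (h𝒴 : AlgSt.IsAlgStack Scheme.fppfPrecoverage 𝒴) {f : 𝒳 ⥤ᵇ 𝒴}
    (h1 : AlgSt.LocQ (LocP @Flat) f) (h2 : AlgSt.LocQ (LocP @LocallyOfFinitePresentation) f) :
    AlgSt.IsOpenMor f := by
  obtain ⟨V', y', hy', hys'⟩ := exists_space_atlas h𝒴
  obtain ⟨U, k, hk, hks⟩ := exists_space_atlas_fp h𝒳 h𝒴 f y'
  let Φ := BasedFunctor.comp k (FibCat.fpFst y' f)
  let h : U.obj ⟶ V'.obj := spMapOf Φ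
  have hh : LocP (@Flat ⊓ @LocallyOfFinitePresentation) h :=
    locP_inf (every_of_locQ stLocal_flat h𝒳.isStack.1 h𝒴.isStack.1 h1 y' hy' k hk h ⟨ofPshMapIso Φ⟩)
      (every_of_locQ stLocal_lfp h𝒳.isStack.1 h𝒴.isStack.1 h2 y' hy' k hk h ⟨ofPshMapIso Φ⟩)
  have hu : AlgSt.RepByAlgSpWith (LocP (@Flat ⊓ @LocallyOfFinitePresentation)) Φ :=
    repWith_of_iso (ofPshMapIso Φ).symm (repWith_flat_lfp
      (repWith_ofSpMap h fun c => locP_mono (fun _ _ _ hm => hm.1) (locP_baseChange U.property V'.property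
        (IsAlgSpace.yon_obj _) (IsPullback.of_hasPullback c h).flip hh))
      (repWith_ofSpMap h fun c => locP_mono (fun _ _ _ hm => hm.2) (locP_baseChange U.property V'.property
        (IsAlgSpace.yon_obj _) (IsPullback.of_hasPullback c h).flip hh)))
  have hF : FibCat.IsFibGrpd (FibCat.fp y' f).p :=
    fp_isFibGrpd (Stk.isFibGrpd_ofPsh _) h𝒳.isStack.1 h𝒴.isStack.1
  let x := BasedFunctor.comp k (FibCat.fpSnd y' f)
  have hxs : AlgSt.IsSurjective x := isSurjective_comp (isSurjective_of_repWith hF hks)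
    (isSurjective_of_repWith h𝒳.isStack.1 (repWith_fpSnd' f hys'))
  intro O hO
  have e : AlgSt.Points.map f '' O =
      AlgSt.Points.map y' '' (AlgSt.Points.map Φ '' (AlgSt.Points.map x ⁻¹' O)) := by
    rw [← Set.image_comp]
    conv_lhs => rw [← Set.image_preimage_eq O hxs, ← Set.image_comp]
    refine Set.image_congr fun a _ => ?_
    simp only [Function.comp_apply]
    rw [← stk_map_comp, ← stk_map_comp]
    exact stk_map_congr (bWhiskerL k (FibCat.fpIso y' f).symm) a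
  rw [e]
  exact isOpenMap_map_of_space h𝒴 (repWith_flat_lfp_of_smooth hy') _
    (isOpenMap_map_of_space (isAlgStack_ofSch V') hu _ (hO.preimage (continuous_points_map h𝒳 x)))

/-- Descent of a property along a covering morphism of the source. -/
theorem repWith_of_comp_cover {P R : MorphismProperty (Sp S)}
    (hR : IsLocalOnBase IsFppfCover R) (hP : IsLocalOnBase IsFppfCover P)
    (hdesc : ∀ ⦃X' X Y : Sp S⦄, IsAlgSpace X' → IsAlgSpace X → IsAlgSpace Y → ∀ (a : X' ⟶ X) (b : X ⟶ Y),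
      R a → IsSurjectiveMor a → P (a ≫ b) → P b)
    (h𝒳 : FibCat.IsFibGrpd 𝒳.p) (h𝒴 : FibCat.IsFibGrpd 𝒴.p) {x : 𝒳 ⥤ᵇ 𝒴} {y : 𝒴 ⥤ᵇ 𝒵}
    (hy : AlgSt.RepByAlgSp1 y) (hx : AlgSt.RepByAlgSpWith R x) (hxs : AlgSt.RepByAlgSpWith IsSurjectiveMor x)
    (h : AlgSt.RepByAlgSpWith P (BasedFunctor.comp x y)) : AlgSt.RepByAlgSpWith P y := by
  intro U z
  obtain ⟨F, e, he⟩ := hy U z
  refine ⟨F, e, he, ?_⟩
  let w := BasedFunctor.comp e (FibCat.fpSnd z y)
  obtain ⟨G, e', he', hm⟩ := exists_rep_along_local hR h𝒳 h𝒴 hx F w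
  obtain ⟨G', e₂, he₂, hm₂⟩ := exists_rep_along_local isLocalOnBase_fppf_surjective h𝒳 h𝒴 hxs F w
  have hms : IsSurjectiveMor (spMapOf (BasedFunctor.comp e' (FibCat.fpFst w x))) :=
    prop_of_rep (B := F) isLocalOnBase_fppf_surjective he₂ he' _ hm₂
  let E := BasedFunctor.comp e' (BasedFunctor.comp (fpMapFst e (FibCat.fpSnd z y) x) (fpAssoc x y z))
  have hE : FibCat.IsEquivOver E :=
    isEquivOver_comp he' (isEquivOver_comp (fpMapFst_isEquivOver _ _ _ he) (fpAssoc_isEquivOver x y z))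
  obtain ⟨H, eH, heH, hH⟩ := h U z
  have := prop_of_rep_over hP heH hE (FibCat.fpFst z (BasedFunctor.comp x y)) hH
  refine hdesc G.property F.property (IsAlgSpace.yon_obj U) _ _ hm hms ?_
  rw [← spMapOfOver_comp]
  exact this

end Groth.Agent.AlgStLib
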