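import Groth.Agent.AlgStLib.StkRational
import Groth.Agent.AlgStLib.OpenSub
import Groth.Agent.AlgStLib.StkProps
import Mathlib

/-!
Open substacks and open sets of points.
-/

set_option autoImplicit false
set_option backward.isDefEq.respectTransparency false
set_option backward.isDefEq.respectTransparency.types false

universe u

open CategoryTheory CategoryTheory.Limits CategoryTheory.Functor AlgebraicGeometry Opposite AlgSp

namespace Groth.Agent.AlgStLib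

open Groth.Agent Groth.Agent.FibBasics Groth.Agent.AlgSpLib

variable {S : Scheme.{u}} {𝒳 : AlgSt.Cat S}

/-- The points of an object. -/
def ptsOf (η : 𝒳.obj) : Set (AlgSt.Points 𝒳) :=
  {c | ∃ (q : AlgSt.FPt 𝒳) (_ : q.obj ⟶ η), AlgSt.Points.mk q = c}

/-- The objects all whose points lie in a set of points. -/
def ptsIn (O : Set (AlgSt.Points 𝒳)) : ObjectProperty 𝒳.obj := fun η => ptsOf η ⊆ O

theorem ptsOf_mono {a b : 𝒳.obj} (φ : a ⟶ b) : ptsOf a ⊆ ptsOf b := by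
  rintro c ⟨q, ψ, rfl⟩
  exact ⟨q, ψ ≫ φ, rfl⟩

theorem ptsIn_pull (O : Set (AlgSt.Points 𝒳)) ⦃a b : 𝒳.obj⦄ (φ : a ⟶ b) (h : ptsIn O b) : ptsIn O a :=
  (ptsOf_mono φ).trans h

theorem ptsIn_closed (O : Set (AlgSt.Points 𝒳)) : (ptsIn O).IsClosedUnderIsomorphisms :=
  ⟨fun e h => ptsIn_pull O e.inv h⟩

theorem ptsIn_fpt_iff (O : Set (AlgSt.Points 𝒳)) (p : AlgSt.FPt 𝒳) : ptsIn O p.obj ↔ AlgSt.Points.mk p ∈ O := by
  refine ⟨fun h => h ⟨p, 𝟙 _, rfl⟩, fun h c hc => ?_⟩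
  obtain ⟨q, φ, rfl⟩ := hc
  rwa [AlgSt.Points.sound (⟨q, 𝟙 _, φ, trivial⟩ : AlgSt.FPt.Rel q p)]

theorem ptsOf_chart (h𝒳 : FibCat.IsFibGrpd 𝒳.p) {U : Over S} (y : FibCat.overCat U ⥤ᵇ 𝒳)
    (g : (FibCat.overCat U).obj) :
    ptsOf (y.obj g) = AlgSt.Points.ofChart y '' Set.range g.hom.left := by
  ext c
  constructor
  · rintro ⟨q, φ, rfl⟩
    let a : Over.mk q.str ⟶ g.left := eqToHom q.lies.symm ≫ 𝒳.p.map φ ≫ eqToHom (y.w_obj g)
    have hφ : 𝒳.p.IsHomLift a φ := IsHomLift.of_fac 𝒳.p a φ q.lies (y.w_obj g) rfl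
    let m : Over.mk q.str ⟶ U := a ≫ g.hom
    let n : (Over.mk m : (FibCat.overCat U).obj) ⟶ g := Over.homMk a rfl
    have hn : 𝒳.p.IsHomLift a (y.map n) := by
      have : (FibCat.overCat U).p.IsHomLift a n := IsHomLift.map (FibCat.overCat U).p n
      infer_instance
    obtain ⟨χ, -⟩ := exists_compare h𝒳 a φ (y.map n) hφ hn
    let p₁ : AlgSt.FPt (FibCat.overCat (Over.mk q.str)) := ⟨q.K, q.str, one _, rfl⟩
    obtain ⟨s, hs⟩ := exists_ofChart_eq (AlgSt.Points.mk p₁)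
    refine ⟨m.left s, ⟨a.left s, rfl⟩, ?_⟩
    rw [← ofChart_overMap m y s, ofChart_comp, ofChart_congr
      (eqToIso (based_ext rfl) : AlgSt.overMap m ≅ BasedFunctor.comp (BasedFunctor.id _) (AlgSt.overMap m)),
      ofChart_comp, hs]
    let i : (AlgSt.overMap m).obj (one _) ≅ (Over.mk m : (FibCat.overCat U).obj) :=
      Over.isoMk (Iso.refl _) rfl
    exact AlgSt.Points.sound ⟨q, χ.hom ≫ y.map i.inv, 𝟙 _, trivial⟩
  · rintro ⟨_, ⟨s, rfl⟩, rfl⟩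
    rw [← ofChart_overMap g.hom y s]
    refine ⟨⟨↥(g.left.left.residueField s), g.left.left.fromSpecResidueField s ≫ g.left.hom,
      (BasedFunctor.comp (AlgSt.overMap g.hom) y).obj (Over.mk (Over.homMk (g.left.left.fromSpecResidueField s) rfl :
        Over.mk (g.left.left.fromSpecResidueField s ≫ g.left.hom) ⟶ g.left)), (BasedFunctor.comp _ y).w_obj _⟩,
      y.map (Over.homMk (Over.homMk (g.left.left.fromSpecResidueField s) rfl) rfl), rfl⟩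

theorem ptsIn_openProp (h𝒳 : AlgSt.IsAlgStack Scheme.fppfPrecoverage 𝒳) {O : Set (AlgSt.Points 𝒳)}
    (hO : IsOpen O) : OpenProp (ptsIn O) := by
  intro U y
  let V : U.left.Opens := ⟨AlgSt.Points.ofChart y ⁻¹' O, hO.preimage (continuous_ofChart h𝒳 y)⟩
  let k : Over.mk (V.ι ≫ U.hom) ⟶ U := Over.homMk V.ι rfl
  refine ⟨_, k, inferInstanceAs (IsOpenImmersion V.ι), fun g => ?_⟩
  show ptsOf (y.obj g) ⊆ O ↔ _
  rw [ptsOf_chart h𝒳.isStack.1, Set.image_subset_iff]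
  have hr : Set.range V.ι = (V : Set U.left) := V.range_ι
  constructor
  · intro h
    refine ⟨Over.homMk (IsOpenImmersion.lift V.ι g.hom.left (hr ▸ h)) ?_,
      Over.OverMorphism.ext (IsOpenImmersion.lift_fac _ _ _)⟩
    show IsOpenImmersion.lift V.ι g.hom.left _ ≫ V.ι ≫ U.hom = _
    rw [IsOpenImmersion.lift_fac_assoc, Over.w]
  · rintro ⟨l, hl⟩
    rintro _ ⟨s, rfl⟩
    show g.hom.left s ∈ (V : Set U.left)
    rw [← hr, ← hl]
    exact ⟨l.left s, rfl⟩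

theorem isOpenSubstack_ptsIn (h𝒳 : AlgSt.IsAlgStack Scheme.fppfPrecoverage 𝒳) {O : Set (AlgSt.Points 𝒳)}
    (hO : IsOpen O) : AlgSt.IsOpenSubstack 𝒳 (ptsIn O) Scheme.fppfPrecoverage :=
  have := ptsIn_closed O
  isOpenSubstack_of_openProp h𝒳 (ptsIn_pull O) (ptsIn_openProp h𝒳 hO)

theorem range_subIncl_ptsIn (O : Set (AlgSt.Points 𝒳)) :
    Set.range (AlgSt.Points.map (AlgSt.subIncl 𝒳 (ptsIn O))) = O := by
  ext c
  obtain ⟨p, rfl⟩ := AlgSt.Points.mk_surjective c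
  constructor
  · rintro ⟨d, hd⟩
    obtain ⟨q, rfl⟩ := AlgSt.Points.mk_surjective d
    rw [← hd]
    exact (ptsIn_fpt_iff O (q.map _)).1 q.obj.property
  · intro h
    exact ⟨AlgSt.Points.mk ⟨p.K, p.str, ⟨p.obj, (ptsIn_fpt_iff O p).2 h⟩, p.lies⟩, rfl⟩

/-- A representable open immersion hitting every point has a section. -/
theorem exists_section_of_surjective_openImm {U : Over S} {𝒱 : AlgSt.Cat S} {π : 𝒱 ⥤ᵇ FibCat.overCat U}
    {F : AlgSp.Space S} {e : AlgSt.ofSp F.obj ⥤ᵇ 𝒱} (he : FibCat.IsEquivOver e)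
    (hr : RepWith @IsOpenImmersion (AlgSt.spMapOfOver (BasedFunctor.comp e π)))
    (hs : AlgSt.IsSurjective π) :
    ∃ G : FibCat.overCat U ⥤ᵇ 𝒱, Nonempty (BasedFunctor.comp G π ≅ BasedFunctor.id _) := by
  let b₀ := BasedFunctor.comp e π
  let r : F.obj ⟶ (yon S).obj U := AlgSt.spMapOfOver b₀
  let ir : BasedFunctor.comp b₀ (AlgSt.ofOverCat U) ≅ AlgSt.ofSpMap r := ofPshMapIso _ ≪≫ eqToIso (by congr 1)
  obtain ⟨hrep, hP⟩ := hr
  have sq := hrep.isPullback (𝟙 ((yon S).obj U))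
  have hfst : IsIso (hrep.fst (𝟙 ((yon S).obj U))) := sq.isIso_fst_of_isIso
  let V := hrep.pullback (𝟙 ((yon S).obj U))
  let k : V ⟶ U := hrep.snd (𝟙 ((yon S).obj U))
  have hk : IsOpenImmersion k.left := hP _ _ _ sq
  have hcomm : hrep.fst (𝟙 ((yon S).obj U)) ≫ r = (yon S).map k := sq.w.trans (Category.comp_id _)
  have hsurj : Function.Surjective k.left := fun t => by
    obtain ⟨w, hw⟩ := hs (AlgSt.Points.ofChart (BasedFunctor.id _) t)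
    obtain ⟨w', rfl⟩ := (stk_map_bijective he).2 w
    have h1 := congrArg (fun c => toSpPoints _ (AlgSt.Points.map (AlgSt.ofOverCat U) c)) hw
    simp only [toSp_ofChart_ofOverCat] at h1
    rw [← stk_map_comp e π, ← stk_map_comp, stk_map_congr ir, toSpPoints_map] at h1
    obtain ⟨v, hv⟩ := surjective_map_of_repWith (repWith_iso (hrep.fst (𝟙 ((yon S).obj U)))) (toSpPoints _ w')
    obtain ⟨v', rfl⟩ := exists_ofScheme v
    refine ⟨v', (Points.schemeEquiv U).injective ?_⟩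
    refine Eq.trans ?_ h1
    rw [← hv, Points.map_ofPt, Points.map_ofPt, Category.assoc, Category.id_comp, hcomm]
    show Points.ofPt (𝟙 _) (k.left v') = _
    rw [← ofPt_comp, Category.comp_id]
  have : Epi k.left.base := (TopCat.epi_iff_surjective _).2 hsurj
  have : IsIso k.left := IsOpenImmersion.isIso k.left
  have : IsIso ((Over.forget S).map k) := this
  have : IsIso k := isIso_of_reflects_iso k (Over.forget S)
  have : IsIso r := by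
    have : IsIso (hrep.fst (𝟙 ((yon S).obj U)) ≫ r) := hcomm ▸ inferInstance
    exact IsIso.of_isIso_comp_left (hrep.fst (𝟙 ((yon S).obj U))) r
  refine ⟨BasedFunctor.comp (BasedFunctor.comp (AlgSt.ofOverCat U) (AlgSt.ofSpMap (inv r))) e, ⟨?_⟩⟩
  exact (eqToIso (based_ext rfl) :
      BasedFunctor.comp (BasedFunctor.comp (BasedFunctor.comp (AlgSt.ofOverCat U) (AlgSt.ofSpMap (inv r))) e) π ≅
      BasedFunctor.comp (BasedFunctor.comp (BasedFunctor.comp (AlgSt.ofOverCat U) (AlgSt.ofSpMap (inv r)))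
        (BasedFunctor.comp b₀ (AlgSt.ofOverCat U))) (AlgSt.toOverCat U)) ≪≫
    bWhiskerR (bWhiskerL (BasedFunctor.comp (AlgSt.ofOverCat U) (AlgSt.ofSpMap (inv r))) ir) (AlgSt.toOverCat U) ≪≫
    bWhiskerR (bWhiskerL (AlgSt.ofOverCat U) (ofSpMapCompIso (inv r) r ≪≫
      eqToIso (congrArg AlgSt.ofSpMap (IsIso.inv_hom_id r)))) (AlgSt.toOverCat U) ≪≫
    eqToIso (based_ext rfl)

theorem eq_ptsIn_range (h𝒳 : AlgSt.IsAlgStack Scheme.fppfPrecoverage 𝒳) {Q : 𝒳.obj → Prop}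
    (hQ : AlgSt.IsOpenSubstack 𝒳 Q Scheme.fppfPrecoverage) :
    Q = ptsIn (Set.range (AlgSt.Points.map (AlgSt.subIncl 𝒳 Q))) := by
  obtain ⟨hc, hQs, hQi⟩ := hQ
  funext η
  apply propext
  constructor
  · rintro hη c ⟨q, φ, rfl⟩
    have hf := hQs.isStack.1
    have := isFibered_of_isFibGrpd _ hf
    obtain ⟨z, m, hm⟩ := exists_stronglyCartesian (AlgSt.fullSub 𝒳 Q).p
      (a := (⟨η, hη⟩ : (AlgSt.fullSub 𝒳 Q).obj)) rfl (eqToHom q.lies.symm ≫ 𝒳.p.map φ)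
    have h1 : 𝒳.p.IsHomLift (eqToHom q.lies.symm ≫ 𝒳.p.map φ) φ :=
      IsHomLift.of_fac 𝒳.p _ φ q.lies rfl (by simp)
    have h2 : 𝒳.p.IsHomLift (eqToHom q.lies.symm ≫ 𝒳.p.map φ) m.hom :=
      (inferInstance : 𝒳.p.IsHomLift _ ((AlgSt.subIncl 𝒳 Q).map m))
    obtain ⟨χ, -⟩ := exists_compare h𝒳.isStack.1 _ φ m.hom h1 h2
    exact ⟨AlgSt.Points.mk ⟨q.K, q.str, z, IsHomLift.domain_eq (AlgSt.fullSub 𝒳 Q).p
        (eqToHom q.lies.symm ≫ 𝒳.p.map φ) m⟩,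
      AlgSt.Points.sound ⟨q, χ.hom, 𝟙 _, trivial⟩⟩
  · intro hη
    have hX := h𝒳.isStack.1
    have := isFibered_of_isFibGrpd _ hX
    obtain ⟨T, hT⟩ : ∃ T, 𝒳.p.obj η = T := ⟨_, rfl⟩
    obtain ⟨Y, -, ⟨iy⟩⟩ := exists_evalAtId_iso (⟨η, hT⟩ : 𝒳.p.Fiber T)
    have hY : ∀ g : (FibCat.overCat T).obj,
        ptsOf (Y.obj g) ⊆ Set.range (AlgSt.Points.map (AlgSt.subIncl 𝒳 Q)) :=
      fun g => (ptsOf_mono (Y.map (toOne g) ≫ iy.hom.1)).trans hη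
    have hs : AlgSt.IsSurjective (FibCat.fpFst Y (AlgSt.subIncl 𝒳 Q)) := by
      intro d
      obtain ⟨t, rfl⟩ := exists_ofChart_eq d
      obtain ⟨w, hw⟩ := hY (one T) (show AlgSt.Points.ofChart Y t ∈ ptsOf (Y.obj (one T)) by
        rw [ptsOf_chart hX]
        exact ⟨t, ⟨t, rfl⟩, rfl⟩)
      obtain ⟨z, hz, -⟩ := exists_point_fp (isFibGrpd_overForget T) hQs.isStack.1 hX
        (g := Y) (f := AlgSt.subIncl 𝒳 Q) (AlgSt.Points.ofChart (BasedFunctor.id _) t) w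
        ((ofChart_eq_map Y t).symm.trans hw.symm)
      exact ⟨z, hz⟩
    obtain ⟨F, e, he, hr⟩ := hQi T Y
    obtain ⟨G, ⟨α⟩⟩ := exists_section_of_surjective_openImm he hr hs
    obtain ⟨x, φ, -, hφ⟩ := exists_obj_of_section hX (i := iy.hom.1) iy.hom.2 G α
    have : IsIso φ := isIso_of_isFibGrpd 𝒳.p hX (𝟙 T) φ
    exact ObjectProperty.prop_of_iso (P := (Q : ObjectProperty 𝒳.obj)) (asIso φ) x.property

theorem openSubstack_bijOn (h𝒳 : AlgSt.IsAlgStack Scheme.fppfPrecoverage 𝒳) :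
    Set.BijOn (fun Q : 𝒳.obj → Prop => Set.range (AlgSt.Points.map (AlgSt.subIncl 𝒳 Q)))
        {Q | AlgSt.IsOpenSubstack 𝒳 Q Scheme.fppfPrecoverage} {T | IsOpen T} ∧
      ∀ (Q Q' : 𝒳.obj → Prop), AlgSt.IsOpenSubstack 𝒳 Q Scheme.fppfPrecoverage → AlgSt.IsOpenSubstack 𝒳 Q' Scheme.fppfPrecoverage →
        ((∀ y, Q y → Q' y) ↔ Set.range (AlgSt.Points.map (AlgSt.subIncl 𝒳 Q)) ⊆ Set.range (AlgSt.Points.map (AlgSt.subIncl 𝒳 Q'))) := by
  refine ⟨⟨fun Q hQ => ?_, fun Q hQ Q' hQ' h => ?_,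
    fun O hO => ⟨ptsIn O, isOpenSubstack_ptsIn h𝒳 hO, range_subIncl_ptsIn O⟩⟩, fun Q Q' hQ hQ' => ⟨fun h => ?_, fun h => ?_⟩⟩
  · refine IsOpenMap.isOpen_range (isOpenMor_of_flat_lfp hQ.2.1 h𝒳 ?_ (isLocQ_lfp_of_isOpenImm h𝒳 hQ.2.2))
    exact locQ_of_repWith stLocal_flat.pre stLocal_flat.bc h𝒳 (repWith_mono_prop (fun _ _ _ _ _ ha =>
      locP_of_repWith ha fun _ _ _ k m hk hm => by
        have : Etale k := hk
        have : IsOpenImmersion m := hm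
        infer_instance) hQ.2.2)
  · rw [eq_ptsIn_range h𝒳 hQ, eq_ptsIn_range h𝒳 hQ']
    exact congrArg ptsIn h
  · rintro _ ⟨d, rfl⟩
    obtain ⟨p, rfl⟩ := AlgSt.Points.mk_surjective d
    exact ⟨AlgSt.Points.mk ⟨p.K, p.str, ⟨p.obj.obj, h _ p.obj.property⟩, p.lies⟩, rfl⟩
  · rw [eq_ptsIn_range h𝒳 hQ, eq_ptsIn_range h𝒳 hQ']
    exact fun y hy => hy.trans h

end Groth.Agent.AlgStLib

namespace Groth.Agent.AlgStLib

open Groth.Agent Groth.Agent.FibBasics Groth.Agent.AlgSpLib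

variable {S : Scheme.{u}} {𝒳 : AlgSt.Cat S}

theorem exists_openSubstack_union (h𝒳 : AlgSt.IsAlgStack Scheme.fppfPrecoverage 𝒳) {ι : Type*} (Q : ι → 𝒳.obj → Prop)
    (hQ : ∀ i, AlgSt.IsOpenSubstack 𝒳 (Q i) Scheme.fppfPrecoverage) :
    ∃ Q' : 𝒳.obj → Prop, AlgSt.IsOpenSubstack 𝒳 Q' Scheme.fppfPrecoverage ∧ (∀ i y, Q i y → Q' y) ∧
      Set.range (AlgSt.Points.map (AlgSt.subIncl 𝒳 Q')) =
        ⋃ i, Set.range (AlgSt.Points.map (AlgSt.subIncl 𝒳 (Q i))) := by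
  obtain ⟨⟨hm, -, -⟩, hsub⟩ := openSubstack_bijOn h𝒳
  have hO : IsOpen (⋃ i, Set.range (AlgSt.Points.map (AlgSt.subIncl 𝒳 (Q i)))) := isOpen_iUnion fun i => hm (hQ i)
  refine ⟨ptsIn _, isOpenSubstack_ptsIn h𝒳 hO, fun i => ?_, range_subIncl_ptsIn _⟩
  refine (hsub _ _ (hQ i) (isOpenSubstack_ptsIn h𝒳 hO)).2 ?_
  rw [range_subIncl_ptsIn]
  exact Set.subset_iUnion (fun j => Set.range (AlgSt.Points.map (AlgSt.subIncl 𝒳 (Q j)))) i

theorem exists_finset_subcover (h𝒳 : AlgSt.IsAlgStack Scheme.fppfPrecoverage 𝒳) (Q' : 𝒳.obj → Prop)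
    (hQ' : AlgSt.IsOpenSubstack 𝒳 Q' Scheme.fppfPrecoverage)
    (hqc : AlgSt.IsQuasiCompact (AlgSt.fullSub 𝒳 Q')) {ι : Type*} (Q : ι → 𝒳.obj → Prop)
    (hQ : ∀ i, AlgSt.IsOpenSubstack 𝒳 (Q i) Scheme.fppfPrecoverage)
    (hcov : Set.range (AlgSt.Points.map (AlgSt.subIncl 𝒳 Q')) ⊆
      ⋃ i, Set.range (AlgSt.Points.map (AlgSt.subIncl 𝒳 (Q i)))) :
    ∃ I' : Finset ι, Set.range (AlgSt.Points.map (AlgSt.subIncl 𝒳 Q')) ⊆
      ⋃ i ∈ I', Set.range (AlgSt.Points.map (AlgSt.subIncl 𝒳 (Q i))) := by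
  obtain ⟨⟨hm, -, -⟩, -⟩ := openSubstack_bijOn h𝒳
  have := (isQuasiCompact_iff_compactSpace hQ'.2.1).1 hqc
  exact (isCompact_range (continuous_points_map h𝒳 _)).elim_finite_subcover _ (fun i => hm (hQ i)) hcov

end Groth.Agent.AlgStLib

namespace Groth.Agent.AlgStLib

open Groth.Agent Groth.Agent.FibBasics Groth.Agent.AlgSpLib

variable {S : Scheme.{u}} {𝒳 : AlgSt.Cat S}

theorem exists_openImm_image (h𝒳 : AlgSt.IsAlgStack Scheme.fppfPrecoverage 𝒳) {U V : AlgSp.Space S}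
    (u : AlgSt.ofSp U.obj ⥤ᵇ 𝒳) (hu : AlgSt.RepByAlgSpWith (LocP @Smooth) u) (j : V ⟶ U)
    (hj : RepWith @IsOpenImmersion j.hom) :
    ∃ (𝒴 : AlgSt.Cat S) (i : 𝒴 ⥤ᵇ 𝒳) (g : AlgSt.ofSp V.obj ⥤ᵇ 𝒴),
      AlgSt.IsAlgStack Scheme.fppfPrecoverage 𝒴 ∧ AlgSt.IsOpenImm i ∧
        AlgSt.RepByAlgSpWith (LocP @Smooth) g ∧ AlgSt.RepByAlgSpWith IsSurjectiveMor g ∧
          Nonempty (BasedFunctor.comp g i ≅ BasedFunctor.comp (AlgSt.ofSpMap j.hom) u) := by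
  let w := BasedFunctor.comp (AlgSt.ofSpMap j.hom) u
  have hw : AlgSt.RepByAlgSpWith (LocP @Smooth) w :=
    repWith_smooth_comp (Stk.isFibGrpd_ofPsh _) (Stk.isFibGrpd_ofPsh _)
      (repWith_ofSpMap_smooth (A := V) (B := U) j.hom (locP_of_repWith hj fun _ _ _ k m hk hm => by
        have : Etale k := hk
        have : IsOpenImmersion m := hm
        infer_instance)) hu
  let O := Set.range (AlgSt.Points.map w)
  have hO : IsOpen O := (isOpenMap_map_of_space h𝒳 (repWith_flat_lfp_of_smooth hw)).isOpen_range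
  have hQ := isOpenSubstack_ptsIn h𝒳 hO
  have hmem : ∀ a, ptsIn O (w.obj a) := fun a c => by
    rintro ⟨q, φ, rfl⟩
    let b : Over.mk q.str ⟶ a.base := eqToHom q.lies.symm ≫ 𝒳.p.map φ ≫ eqToHom (w.w_obj a)
    have hφ : 𝒳.p.IsHomLift b φ := IsHomLift.of_fac 𝒳.p b φ q.lies (w.w_obj a) rfl
    obtain ⟨z, hz, m, hm⟩ : ∃ (z : (AlgSt.ofSp V.obj).obj) (_ : (AlgSt.ofSp V.obj).p.obj z = Over.mk q.str)
        (m : z ⟶ a), (AlgSt.ofSp V.obj).p.IsHomLift b m := by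
      have := isFibered_of_isFibGrpd _ (Stk.isFibGrpd_ofPsh V.obj.obj)
      obtain ⟨z, m, hm⟩ := exists_stronglyCartesian (AlgSt.ofSp V.obj).p (a := a) rfl b
      exact ⟨z, IsHomLift.domain_eq (AlgSt.ofSp V.obj).p b m, m, inferInstance⟩
    obtain ⟨χ, -⟩ := exists_compare h𝒳.isStack.1 b φ (w.map m) hφ inferInstance
    exact ⟨AlgSt.Points.mk ⟨q.K, q.str, z, hz⟩, AlgSt.Points.sound ⟨q, χ.hom, 𝟙 _, trivial⟩⟩
  let g : AlgSt.ofSp V.obj ⥤ᵇ AlgSt.fullSub 𝒳 (ptsIn O) := subLift w hmem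
  have hg : BasedFunctor.comp g (AlgSt.subIncl 𝒳 (ptsIn O)) = w := based_ext rfl
  have hgs : AlgSt.RepByAlgSpWith (LocP @Smooth) g := by
    refine repWith_of_equiv (f := BasedFunctor.comp g (AlgSt.subIncl 𝒳 (ptsIn O))) (fun _ y =>
      ⟨BasedFunctor.comp y (AlgSt.subIncl 𝒳 (ptsIn O)), subFp y g, subFp_isEquivOver y g, based_ext rfl⟩) ?_
    rwa [hg]
  refine ⟨_, AlgSt.subIncl 𝒳 (ptsIn O), g, hQ.2.1, hQ.2.2, hgs,
    repWith_surjective_of_isSurjective (Stk.isFibGrpd_ofPsh _) hQ.2.1.isStack.1 (rep1_of_with hgs) ?_,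
    ⟨eqToIso hg⟩⟩
  intro c
  have hc : AlgSt.Points.map (AlgSt.subIncl 𝒳 (ptsIn O)) c ∈
      Set.range (AlgSt.Points.map (AlgSt.subIncl 𝒳 (ptsIn O))) := ⟨c, rfl⟩
  obtain ⟨d, hd⟩ : AlgSt.Points.map (AlgSt.subIncl 𝒳 (ptsIn O)) c ∈ O :=
    (range_subIncl_ptsIn O).subset hc
  refine ⟨d, points_injective_of_mono hQ.2.1.isStack.1 h𝒳.isStack.1 (repWith_mono_prop (fun _ _ _ _ _ ha =>
    mono_of_repWith ha fun _ _ k hk => by have : IsOpenImmersion k := hk; infer_instance) hQ.2.2) ?_⟩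
  rw [← stk_map_comp, hg]
  exact hd

end Groth.Agent.AlgStLib
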