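import Groth.Agent.AlgStLib.ProdStk
import Groth.Agent.AlgStLib.LocQStmts
import Mathlib

/-!
Products of representable morphisms.
-/

set_option autoImplicit false
set_option backward.isDefEq.respectTransparency false
set_option backward.isDefEq.respectTransparency.types false

universe u

open CategoryTheory CategoryTheory.Limits CategoryTheory.Functor AlgebraicGeometry Opposite AlgSp

namespace Groth.Agent.AlgStLib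

open Groth.Agent Groth.Agent.FibBasics Groth.Agent.AlgSpLib

variable {S : Scheme.{u}} {𝒳₁ 𝒳₂ 𝒴₁ 𝒴₂ : AlgSt.Cat S}

theorem repWith_prodMap {P : MorphismProperty (Sp S)}
    (hPc : ∀ ⦃X Y Z : Sp S⦄, IsAlgSpace X → IsAlgSpace Y → IsAlgSpace Z →
      ∀ (a : X ⟶ Y) (b : Y ⟶ Z), P a → P b → P (a ≫ b))
    (hP : IsLocalOnBase IsFppfCover P)
    (h𝒳₁ : FibCat.IsFibGrpd 𝒳₁.p) (h𝒳₂ : FibCat.IsFibGrpd 𝒳₂.p) (h𝒴₁ : FibCat.IsFibGrpd 𝒴₁.p)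
    {f₁ : 𝒳₁ ⥤ᵇ 𝒴₁} {f₂ : 𝒳₂ ⥤ᵇ 𝒴₂} (hf₁ : AlgSt.RepByAlgSpWith P f₁) (hf₂ : AlgSt.RepByAlgSpWith P f₂)
    (e : BasedFunctor.comp (BasedFunctor.comp (FibCat.fpFst (FibCat.toSelf 𝒳₁) (FibCat.toSelf 𝒳₂)) f₁)
        (FibCat.toSelf 𝒴₁) ≅
      BasedFunctor.comp (BasedFunctor.comp (FibCat.fpSnd (FibCat.toSelf 𝒳₁) (FibCat.toSelf 𝒳₂)) f₂)
        (FibCat.toSelf 𝒴₂)) :
    AlgSt.RepByAlgSpWith P (FibCat.fpLift
      (BasedFunctor.comp (FibCat.fpFst (FibCat.toSelf 𝒳₁) (FibCat.toSelf 𝒳₂)) f₁)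
      (BasedFunctor.comp (FibCat.fpSnd (FibCat.toSelf 𝒳₁) (FibCat.toSelf 𝒳₂)) f₂) e) := by
  refine repWith_of_iso (f := BasedFunctor.comp (prodMapL f₁ 𝒳₂) (prodMapR 𝒴₁ f₂)) ?_
    (repWith_comp_stk hPc hP (fp_isFibGrpd h𝒳₁ h𝒳₂ isFibGrpd_selfOver) (fp_isFibGrpd h𝒴₁ h𝒳₂ isFibGrpd_selfOver)
      (repWith_prodMapL hf₁) (repWith_prodMapR hf₂))
  let k := BasedFunctor.comp (prodMapL f₁ 𝒳₂) (prodMapR 𝒴₁ f₂)
  let l := FibCat.fpLift (BasedFunctor.comp (FibCat.fpFst (FibCat.toSelf 𝒳₁) (FibCat.toSelf 𝒳₂)) f₁)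
      (BasedFunctor.comp (FibCat.fpSnd (FibCat.toSelf 𝒳₁) (FibCat.toSelf 𝒳₂)) f₂) e
  exact BasedNatIso.mkNatIso (NatIso.ofComponents
    (fun w => ObjectProperty.isoMk _ (CategoricalPullback.mkIso (Iso.refl (k.obj w).obj.fst)
      (Iso.refl (k.obj w).obj.snd)
      (@toSelf_sq _ _ 𝒴₁ 𝒴₂ (k.obj w) (l.obj w) _ _ (𝟙 (𝒴₁.p.obj (k.obj w).obj.fst)) (𝟙 _) (𝟙 _)
        (IsHomLift.id rfl) (IsHomLift.id (fp_snd_proj (k.obj w))))))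
    (fun {p q} φ => fp_hom_ext ((Category.comp_id _).trans (Category.id_comp _).symm)
      ((Category.comp_id _).trans (Category.id_comp _).symm)))
    (fun w => fp_lift_of_fst _ _ (IsHomLift.id (k.w_obj w)))

end Groth.Agent.AlgStLib
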