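import Groth.Agent.AlgStLib.Basic
import Groth.Agent.FibBasics.Inertia
import Groth.Prelude.Def_W4c2isonaturalstkIso
import Mathlib

/-!
Functors between categories of presheaves over the base; setoids are categories of presheaves.
-/

set_option autoImplicit false
set_option backward.isDefEq.respectTransparency false
set_option backward.isDefEq.respectTransparency.types false

universe u

open CategoryTheory CategoryTheory.Limits CategoryTheory.Functor AlgebraicGeometry Opposite AlgSp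

namespace Groth.Agent.AlgStLib

open Groth.Agent Groth.Agent.FibBasics

variable {S : Scheme.{u}} {P Q : (Over S)ᵒᵖ ⥤ Type (u + 1)}

/-- The section underlying the image of an element. -/
def funSec (Φ : Stk.ofPsh P ⥤ᵇ Stk.ofPsh Q) (a : (Stk.ofPsh P).obj) : Q.obj (op a.base) :=
  Q.map (eqToHom (Φ.w_obj a).symm).op (Φ.obj a).sec

theorem funSec_natural (Φ : Stk.ofPsh P ⥤ᵇ Stk.ofPsh Q) {a b : (Stk.ofPsh P).obj} (f : a ⟶ b) :
    Q.map f.hom.op (funSec Φ b) = funSec Φ a := by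
  have h2 : (Φ.map f).hom = eqToHom (Φ.w_obj a) ≫ f.hom ≫ eqToHom (Φ.w_obj b).symm :=
    @IsHomLift.fac' _ _ _ _ (Stk.ofPsh Q).p _ _ _ _ ((Stk.ofPsh P).p.map f) (Φ.map f)
      (BasedFunctor.preserves_isHomLift Φ ((Stk.ofPsh P).p.map f) f)
  have h3 : eqToHom (Φ.w_obj a).symm ≫ (Φ.map f).hom = f.hom ≫ eqToHom (Φ.w_obj b).symm := by
    rw [h2]; simp
  show Q.map f.hom.op (Q.map (eqToHom (Φ.w_obj b).symm).op (Φ.obj b).sec) =
    Q.map (eqToHom (Φ.w_obj a).symm).op (Φ.obj a).sec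
  refine (Functor.map_comp_apply Q _ _ _).symm.trans ?_
  refine Eq.trans ?_ (congrArg (fun t => Q.map (eqToHom (Φ.w_obj a).symm).op t) (Φ.map f).map_sec)
  refine Eq.trans ?_ (Functor.map_comp_apply Q _ _ _)
  exact congrArg (fun m => Q.map m (Φ.obj b).sec) (congrArg Quiver.Hom.op h3).symm

/-- The natural transformation underlying a functor over the base. -/
def pshMapOf (Φ : Stk.ofPsh P ⥤ᵇ Stk.ofPsh Q) : P ⟶ Q where
  app T := ↾fun x => funSec Φ ⟨T.unop, x⟩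
  naturality T T' g := by
    ext x
    exact (funSec_natural Φ (⟨g.unop, rfl⟩ :
      (⟨T'.unop, P.map g x⟩ : (Stk.ofPsh P).obj) ⟶ ⟨T.unop, x⟩)).symm

theorem pshMapOf_app (Φ : Stk.ofPsh P ⥤ᵇ Stk.ofPsh Q) (T : Over S) (x : P.obj (op T)) :
    (pshMapOf Φ).app (op T) x = funSec Φ ⟨T, x⟩ := rfl

theorem exists_hom_obj (Φ : Stk.ofPsh P ⥤ᵇ Stk.ofPsh Q) (a : (Stk.ofPsh P).obj) :
    ∃ m : Φ.obj a ⟶ (⟨a.base, (pshMapOf Φ).app (op a.base) a.sec⟩ : (Stk.ofPsh Q).obj),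
      (Stk.ofPsh Q).p.IsHomLift (𝟙 a.base) m := by
  refine ⟨⟨eqToHom (Φ.w_obj a), ?_⟩, IsHomLift.of_fac _ _ _ (Φ.w_obj a) rfl (by simp)⟩
  show Q.map (eqToHom (Φ.w_obj a)).op (Q.map (eqToHom (Φ.w_obj a).symm).op (Φ.obj a).sec) = _
  rw [← Functor.map_comp_apply, ← op_comp, eqToHom_trans]
  simp

/-- For sheaves. -/
def spMapOf {F G : AlgSp.Sp S} (Φ : AlgSt.ofSp F ⥤ᵇ AlgSt.ofSp G) : F ⟶ G :=
  ObjectProperty.homMk (pshMapOf Φ)

theorem spMapOf_app {F G : AlgSp.Sp S} (Φ : AlgSt.ofSp F ⥤ᵇ AlgSt.ofSp G) (T : Over S) (x : F.obj.obj (op T)) :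
    (spMapOf Φ).hom.app (op T) x = funSec Φ ⟨T, x⟩ := rfl

theorem spMapOfOver_comp {F G : AlgSp.Sp S} {U : Over S} (Ψ : AlgSt.ofSp F ⥤ᵇ AlgSt.ofSp G)
    (Φ : AlgSt.ofSp G ⥤ᵇ FibCat.overCat U) :
    AlgSt.spMapOfOver (BasedFunctor.comp Ψ Φ) = spMapOf Ψ ≫ AlgSt.spMapOfOver Φ := by
  ext T x
  apply ULift.ext
  obtain ⟨m, hm⟩ := exists_hom_obj Ψ ⟨T.unop, x⟩
  have h := AlgSt.secHom_comp Φ m
  have h2 : m.hom = eqToHom (Ψ.w_obj ⟨T.unop, x⟩) ≫ 𝟙 T.unop ≫ eqToHom rfl :=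
    IsHomLift.fac' (AlgSt.ofSp G).p (𝟙 T.unop) m
  show AlgSt.secHom (BasedFunctor.comp Ψ Φ) ⟨T.unop, x⟩ =
    AlgSt.secHom Φ ⟨T.unop, (pshMapOf Ψ).app (op T.unop) x⟩
  refine Eq.trans ?_ (congrArg (fun t => eqToHom (Ψ.w_obj ⟨T.unop, x⟩).symm ≫ t) h.symm |>.trans ?_)
  · show eqToHom _ ≫ (Φ.obj (Ψ.obj ⟨T.unop, x⟩)).hom =
      eqToHom (Ψ.w_obj ⟨T.unop, x⟩).symm ≫ eqToHom (Φ.w_obj _).symm ≫ (Φ.obj (Ψ.obj ⟨T.unop, x⟩)).hom
    exact (eqToHom_trans_assoc _ _ _).symm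
  · rw [h2]
    simp

section Classes

variable {𝒵 : AlgSt.Cat S}

theorem exists_pullback (h : FibCat.IsFibGrpd 𝒵.p) {R T : Over S} (g : R ⟶ T) (x : 𝒵.p.Fiber T) :
    ∃ (x' : 𝒵.p.Fiber R) (φ : x'.1 ⟶ x.1), 𝒵.p.IsHomLift g φ := by
  obtain ⟨x, hx⟩ := x
  subst hx
  obtain ⟨b, φ, hφ⟩ := h.exists_lift g
  exact ⟨⟨b, @IsHomLift.domain_eq _ _ _ _ 𝒵.p _ _ _ _ g φ hφ⟩, φ, hφ⟩

theorem cls_eq_of_lifts (h : FibCat.IsFibGrpd 𝒵.p) {R T : Over S} (g : R ⟶ T) {x₁ x₂ : 𝒵.p.Fiber R}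
    {z₁ z₂ : 𝒵.p.Fiber T} (φ₁ : x₁.1 ⟶ z₁.1) (hφ₁ : 𝒵.p.IsHomLift g φ₁) (φ₂ : x₂.1 ⟶ z₂.1)
    (hφ₂ : 𝒵.p.IsHomLift g φ₂) (hz : IsoNat.cls z₁ = IsoNat.cls z₂) : IsoNat.cls x₁ = IsoNat.cls x₂ := by
  obtain ⟨m, hm⟩ := hom_of_cls_eq hz
  have h1 : 𝒵.p.IsHomLift g (φ₁ ≫ m) := have := hφ₁; have := hm; inferInstance
  obtain ⟨χ, hχ⟩ := exists_compare h g _ φ₂ h1 hφ₂
  have := isGroupoid_fiber 𝒵.p h R
  let χ' : x₁ ⟶ x₂ := ⟨χ.hom, hχ⟩
  have : IsIso χ' := IsGroupoid.all_isIso χ'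
  exact Quotient.sound ⟨asIso χ'⟩

/-- The presheaf of isomorphism classes. -/
noncomputable def clsPsh (h : FibCat.IsFibGrpd 𝒵.p) : (Over S)ᵒᵖ ⥤ Type (u + 1) where
  obj T := IsoNat.IsoCl 𝒵 T.unop
  map g := ↾fun c => IsoNat.cls (exists_pullback h g.unop (Quotient.out c)).choose
  map_id T := by
    ext c
    obtain ⟨φ, hφ⟩ := (exists_pullback h (𝟙 T.unop) (Quotient.out c)).choose_spec
    refine Eq.trans ?_ (Quotient.out_eq c)
    exact cls_eq_of_lifts h (𝟙 _) φ hφ (𝟙 (Quotient.out c).1) (IsHomLift.id (Quotient.out c).2) rfl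
  map_comp {T₁ T₂ T₃} g g' := by
    ext c
    obtain ⟨φ, hφ⟩ := (exists_pullback h (g ≫ g').unop (Quotient.out c)).choose_spec
    let x := (exists_pullback h g.unop (Quotient.out c)).choose
    obtain ⟨φ₁, hφ₁⟩ := (exists_pullback h g.unop (Quotient.out c)).choose_spec
    let z := Quotient.out (IsoNat.cls x)
    obtain ⟨m, hm⟩ := hom_of_cls_eq (show IsoNat.cls z = IsoNat.cls x from Quotient.out_eq _)
    obtain ⟨φ₂, hφ₂⟩ := (exists_pullback h g'.unop z).choose_spec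
    have := hm
    have := hφ₁
    have := hφ₂
    exact cls_eq_of_lifts h (g'.unop ≫ g.unop) φ hφ ((φ₂ ≫ m) ≫ φ₁) inferInstance rfl

theorem clsPsh_map (h : FibCat.IsFibGrpd 𝒵.p) {R T : Over S} (g : R ⟶ T) {x : 𝒵.p.Fiber R} {y : 𝒵.p.Fiber T}
    (φ : x.1 ⟶ y.1) (hφ : 𝒵.p.IsHomLift g φ) : (clsPsh h).map g.op (IsoNat.cls y) = IsoNat.cls x := by
  obtain ⟨ψ, hψ⟩ := (exists_pullback h g (Quotient.out (IsoNat.cls y))).choose_spec
  exact cls_eq_of_lifts h g ψ hψ φ hφ (Quotient.out_eq _)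

theorem exists_hom_of_clsPsh (h : FibCat.IsFibGrpd 𝒵.p) {R T : Over S} (g : R ⟶ T) {x : 𝒵.p.Fiber R}
    {y : 𝒵.p.Fiber T} (e : (clsPsh h).map g.op (IsoNat.cls y) = IsoNat.cls x) :
    ∃ φ : x.1 ⟶ y.1, 𝒵.p.IsHomLift g φ := by
  obtain ⟨x', φ', hφ'⟩ := exists_pullback h g y
  obtain ⟨m, hm⟩ := hom_of_cls_eq (e.symm.trans (clsPsh_map h g φ' hφ'))
  have := hφ'
  have := hm
  exact ⟨m ≫ φ', inferInstance⟩

/-- A category fibred in setoids is the category of its presheaf of classes. -/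
theorem exists_equiv_clsPsh (h : FibCat.IsFibSetoid 𝒵.p) :
    ∃ e : Stk.ofPsh (clsPsh h.1) ⥤ᵇ 𝒵, FibCat.IsEquivOver e := by
  let y : ∀ a : (Stk.ofPsh (clsPsh h.1)).obj, 𝒵.p.Fiber a.base := fun a => Quotient.out a.sec
  have hy : ∀ a : (Stk.ofPsh (clsPsh h.1)).obj, IsoNat.cls (y a) = a.sec := fun a => Quotient.out_eq _
  have hm : ∀ {a b : (Stk.ofPsh (clsPsh h.1)).obj} (k : a ⟶ b), ∃ m : (y a).1 ⟶ (y b).1,
      𝒵.p.IsHomLift k.hom m := fun {a b} k =>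
    exists_hom_of_clsPsh h.1 k.hom (by rw [hy, hy]; exact k.map_sec)
  choose m hml using @hm
  let F₀ : (Stk.ofPsh (clsPsh h.1)).obj ⥤ 𝒵.obj :=
    { obj := fun a => (y a).1
      map := fun k => m k
      map_id := fun a => by
        have := hml (𝟙 a)
        have : 𝒵.p.IsHomLift (𝟙 a : a ⟶ a).hom (𝟙 (y a).1) := IsHomLift.id (y a).2
        exact fibSetoid_hom_ext h (𝟙 a : a ⟶ a).hom _ _
      map_comp := fun {a b c} k k' => by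
        have := hml (k ≫ k')
        have := hml k
        have := hml k'
        have : 𝒵.p.IsHomLift (k ≫ k').hom (m k ≫ m k') :=
          (inferInstance : 𝒵.p.IsHomLift (k.hom ≫ k'.hom) (m k ≫ m k'))
        exact fibSetoid_hom_ext h (k ≫ k').hom _ _ }
  let e : Stk.ofPsh (clsPsh h.1) ⥤ᵇ 𝒵 :=
    { toFunctor := F₀
      w := CategoryTheory.Functor.ext (fun a => (y a).2) fun a b k =>
        @IsHomLift.fac' _ _ _ _ 𝒵.p _ _ _ _ k.hom (m k) (hml k) }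
  refine ⟨e, ?_⟩
  have : e.toFunctor.Faithful := ⟨fun {a b k k'} hk => Stk.EltObj.hom_ext (by
    have h' : m k = m k' := hk
    have := hml k
    have : 𝒵.p.IsHomLift k'.hom (m k) := h' ▸ hml k'
    exact base_eq 𝒵.p k.hom k'.hom (m k))⟩
  have : e.toFunctor.Full := ⟨fun {a b} n => by
    let g : a.base ⟶ b.base := eqToHom (y a).2.symm ≫ 𝒵.p.map n ≫ eqToHom (y b).2
    have hn : 𝒵.p.IsHomLift g n := IsHomLift.of_fac _ _ _ (y a).2 (y b).2 rfl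
    have hs : (clsPsh h.1).map g.op b.sec = a.sec := by
      rw [← hy a, ← hy b]; exact clsPsh_map h.1 g n hn
    refine ⟨⟨g, hs⟩, ?_⟩
    have := hml (⟨g, hs⟩ : a ⟶ b)
    exact fibSetoid_hom_ext h g _ _⟩
  refine isEquivOver_of_essSurjOver e fun η => ?_
  let x : 𝒵.p.Fiber (𝒵.p.obj η) := ⟨η, rfl⟩
  let a : (Stk.ofPsh (clsPsh h.1)).obj := ⟨𝒵.p.obj η, IsoNat.cls x⟩
  obtain ⟨i⟩ := Quotient.exact (hy a)
  exact ⟨a, Fiber.fiberInclusion.mapIso i, i.hom.2⟩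

end Classes

end Groth.Agent.AlgStLib
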