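import Groth.Agent.AlgStLib.RepCalc
import Mathlib

/-!
2-fibre products of categories of presheaves are categories of fibre products of presheaves.
-/

set_option autoImplicit false
set_option backward.isDefEq.respectTransparency false
set_option backward.isDefEq.respectTransparency.types false

universe u

open CategoryTheory CategoryTheory.Limits CategoryTheory.Functor AlgebraicGeometry Opposite AlgSp

namespace Groth.Agent.AlgStLib

open Groth.Agent Groth.Agent.FibBasics Groth.Agent.AlgSpLib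

variable {S : Scheme.{u}}

theorem eltHom_ext {P : (Over S)ᵒᵖ ⥤ Type (u + 1)} {a b : (Stk.ofPsh P).obj} {R T : Over S} (g : R ⟶ T)
    (φ ψ : a ⟶ b) (hφ : (Stk.ofPsh P).p.IsHomLift g φ) (hψ : (Stk.ofPsh P).p.IsHomLift g ψ) : φ = ψ :=
  Stk.EltObj.hom_ext (((@IsHomLift.fac' _ _ _ _ (Stk.ofPsh P).p _ _ _ _ g φ hφ)).trans
    (@IsHomLift.fac' _ _ _ _ (Stk.ofPsh P).p _ _ _ _ g ψ hψ).symm)

variable {P Q R W : (Over S)ᵒᵖ ⥤ Type (u + 1)}

/-- A functor between categories of presheaves is induced by its natural transformation. -/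
noncomputable def ofPshMapIso (Φ : Stk.ofPsh P ⥤ᵇ Stk.ofPsh Q) : Φ ≅ Stk.ofPshMap (pshMapOf Φ) :=
  BasedNatIso.mkNatIso (NatIso.ofComponents
    (fun a =>
      { hom := (exists_hom_obj Φ a).choose
        inv := (exists_hom_of_obj Φ a).choose
        hom_inv_id := by
          have h1 := (exists_hom_obj Φ a).choose_spec
          have h2 := (exists_hom_of_obj Φ a).choose_spec
          exact eltHom_ext (𝟙 a.base) _ _ (@IsHomLift.comp_of_lift_id _ _ _ _ _ _ _ _ _ _ _ h1 h2)
            (IsHomLift.id (Φ.w_obj a))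
        inv_hom_id := by
          have h1 := (exists_hom_obj Φ a).choose_spec
          have h2 := (exists_hom_of_obj Φ a).choose_spec
          exact eltHom_ext (𝟙 a.base) _ _ (@IsHomLift.comp_of_lift_id _ _ _ _ _ _ _ _ _ _ _ h2 h1)
            (IsHomLift.id rfl) })
    (fun {a b} f => by
      have h1 := (exists_hom_obj Φ a).choose_spec
      have h2 := (exists_hom_obj Φ b).choose_spec
      have h3 : (Stk.ofPsh Q).p.IsHomLift f.hom (Φ.map f) :=
        BasedFunctor.preserves_isHomLift Φ ((Stk.ofPsh P).p.map f) f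
      have h4 : (Stk.ofPsh Q).p.IsHomLift f.hom ((Stk.ofPshMap (pshMapOf Φ)).map f) :=
        IsHomLift.map (Stk.ofPsh Q).p ((Stk.ofPshMap (pshMapOf Φ)).map f)
      have := h1
      have := h2
      have := h3
      have := h4
      exact eltHom_ext f.hom _ _ inferInstance inferInstance))
    (fun a => (exists_hom_obj Φ a).choose_spec)

theorem app_comm {a : P ⟶ Q} {b : R ⟶ Q} {fst : W ⟶ P} {snd : W ⟶ R} (w : fst ≫ a = snd ≫ b)
    {T : (Over S)ᵒᵖ} (x : W.obj T) : a.app T (fst.app T x) = b.app T (snd.app T x) :=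
  congrArg (fun m : W ⟶ Q => m.app T x) w

/-- Equal sections give isomorphic objects. -/
def eltIso {P : (Over S)ᵒᵖ ⥤ Type (u + 1)} {T : Over S} {x y : P.obj (op T)} (h : x = y) :
    (⟨T, x⟩ : (Stk.ofPsh P).obj) ≅ ⟨T, y⟩ where
  hom := ⟨𝟙 T, by simp [h]⟩
  inv := ⟨𝟙 T, by simp [h]⟩
  hom_inv_id := Stk.EltObj.hom_ext (Category.id_comp _)
  inv_hom_id := Stk.EltObj.hom_ext (Category.id_comp _)

theorem eltIso_lift {P : (Over S)ᵒᵖ ⥤ Type (u + 1)} {T : Over S} {x y : P.obj (op T)} (h : x = y) :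
    (Stk.ofPsh P).p.IsHomLift (𝟙 T) (eltIso h).hom :=
  IsHomLift.map (Stk.ofPsh P).p (eltIso h).hom

/-- The comparison from a commutative square of presheaves. -/
noncomputable def sqFun {a : P ⟶ Q} {b : R ⟶ Q} {fst : W ⟶ P} {snd : W ⟶ R} (w : fst ≫ a = snd ≫ b) :
    Stk.ofPsh W ⥤ᵇ FibCat.fp (Stk.ofPshMap a) (Stk.ofPshMap b) where
  toFunctor :=
    { obj := fun x => ⟨{ fst := (⟨x.base, fst.app _ x.sec⟩ : (Stk.ofPsh P).obj)
                         snd := (⟨x.base, snd.app _ x.sec⟩ : (Stk.ofPsh R).obj)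
                         iso := eltIso (app_comm w x.sec) },
        eltIso_lift (app_comm w x.sec)⟩
      map := fun {x y} f => fpHom ((Stk.ofPshMap fst).map f) ((Stk.ofPshMap snd).map f) (by
        exact Stk.EltObj.hom_ext ((Category.comp_id _).trans (Category.id_comp _).symm))
      map_id := fun _ => fp_hom_ext rfl rfl
      map_comp := fun _ _ => fp_hom_ext rfl rfl }
  w := rfl

/-- A pullback square of presheaves gives a 2-cartesian square. -/
theorem sqFun_isEquivOver {a : P ⟶ Q} {b : R ⟶ Q} {fst : W ⟶ P} {snd : W ⟶ R} (sq : IsPullback fst snd a b) :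
    FibCat.IsEquivOver (sqFun sq.w) := by
  have hl : ∀ (T : (Over S)ᵒᵖ), Function.Bijective
      (fun x : W.obj T => (⟨(fst.app T x, snd.app T x), app_comm sq.w x⟩ :
        {q : P.obj T × R.obj T // a.app T q.1 = b.app T q.2})) := fun T =>
    have := sq.map ((evaluation (Over S)ᵒᵖ (Type (u + 1))).obj T)
    (Types.isPullback_iff _ _ _ _).1 this |>.elim fun _ h => ⟨fun x y hxy => h.1 x y
      ⟨congrArg (fun q => q.1.1) hxy, congrArg (fun q => q.1.2) hxy⟩, fun ⟨⟨p, r⟩, hpr⟩ => by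
        obtain ⟨x, h₁, h₂⟩ := h.2 p r hpr
        exact ⟨x, Subtype.ext (Prod.ext h₁ h₂)⟩⟩
  have : (sqFun sq.w).toFunctor.Faithful := ⟨fun {x y f g} h =>
    Stk.EltObj.hom_ext (congrArg (fun m => m.hom.fst.hom) h)⟩
  have : (sqFun sq.w).toFunctor.Full := ⟨fun {x y} m => by
    have hb : m.hom.snd.hom = m.hom.fst.hom := by
      have h := @IsHomLift.fac' _ _ _ _ (Stk.ofPsh R).p _ _ _ _ _ m.hom.snd (FibCat.fp_isHomLift_snd _ _ m)
      exact h.trans ((Category.id_comp _).trans (Category.comp_id _))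
    refine ⟨⟨m.hom.fst.hom, (hl _).1 (Subtype.ext (Prod.ext ?_ ?_))⟩,
      fp_hom_ext (Stk.EltObj.hom_ext rfl) (Stk.EltObj.hom_ext hb.symm)⟩
    · exact (NatTrans.naturality_apply fst m.hom.fst.hom.op y.sec).trans m.hom.fst.map_sec
    · refine (NatTrans.naturality_apply snd m.hom.fst.hom.op y.sec).trans ?_
      rw [← hb]
      exact m.hom.snd.map_sec⟩
  refine isEquivOver_of_essSurjOver _ fun z => ?_
  obtain ⟨⟨⟨U, p⟩, ⟨U', r⟩, i⟩, hi⟩ := z
  have hU : U' = U := fp_snd_proj (⟨⟨⟨U, p⟩, ⟨U', r⟩, i⟩, hi⟩ : (FibCat.fp (Stk.ofPshMap a) (Stk.ofPshMap b)).obj)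
  subst hU
  have he : a.app (op U') p = b.app (op U') r := sec_eq_of_lift i.hom hi
  obtain ⟨x, hx⟩ := (hl (op U')).2 ⟨(p, r), he⟩
  have h1 : fst.app (op U') x = p := congrArg (fun q => q.1.1) hx
  have h2 : snd.app (op U') x = r := congrArg (fun q => q.1.2) hx
  subst h1 h2
  have hi' : i = eltIso he := by
    ext1
    exact eltHom_ext (𝟙 U') _ _ hi (eltIso_lift he)
  subst hi'
  exact ⟨⟨U', x⟩, Iso.refl _, IsHomLift.id rfl⟩

end Groth.Agent.AlgStLib
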