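import Groth.Agent.AlgStLib.Clean
import Groth.Agent.AlgStLib.LinesInv
import Groth.Agent.FibBasics.Inertia
import Mathlib

/-!
Stacks with the presheaf of isomorphism classes of an algebraic space are algebraic spaces.
-/

set_option autoImplicit false
set_option backward.isDefEq.respectTransparency.types false

universe u

open CategoryTheory CategoryTheory.Limits CategoryTheory.Functor AlgebraicGeometry Opposite

namespace Groth.Agent.AlgStLib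

open Groth.Agent Groth.Agent.FibBasics Groth.Agent.AlgSpLib

variable {S : Scheme.{u}} {𝒳 𝒴 : AlgSt.Cat S}

theorem sepClasses_transfer (φ : IsoNat.FIso 𝒳 𝒴) (h𝒳 : FibCat.IsFibGrpd 𝒳.p) (h𝒴 : FibCat.IsFibGrpd 𝒴.p)
    (h : SepClasses 𝒳) : SepClasses 𝒴 := by
  intro T T' π _ _ _ y₁ y₂ y₁' y₂' b₁ b₂ hb₁ hb₂ e
  obtain ⟨x₁, h₁⟩ := exists_cls' φ y₁
  obtain ⟨x₂, h₂⟩ := exists_cls' φ y₂
  obtain ⟨x₁', h₁'⟩ := exists_cls' φ y₁'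
  obtain ⟨x₂', h₂'⟩ := exists_cls' φ y₂'
  let ψ := fisoSymm h𝒳 h𝒴 φ
  obtain ⟨a₁, ha₁⟩ := exists_hom_transfer ψ π b₁ hb₁ ((Equiv.symm_apply_eq _).2 h₁'.symm) ((Equiv.symm_apply_eq _).2 h₁.symm)
  obtain ⟨a₂, ha₂⟩ := exists_hom_transfer ψ π b₂ hb₂ ((Equiv.symm_apply_eq _).2 h₂'.symm) ((Equiv.symm_apply_eq _).2 h₂.symm)
  exact (iso_transfer φ h₁ h₂).1 (h T T' π x₁ x₂ x₁' x₂' a₁ a₂ ha₁ ha₂ ((iso_transfer φ h₁' h₂').2 e))

theorem isFibSetoid_of_clean (hp : FibCat.IsFibGrpd 𝒳.p) (h : ∀ η : 𝒳.obj, IsoNat.IsClean η) :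
    FibCat.IsFibSetoid 𝒳.p := by
  refine ⟨hp, fun U x y => ⟨fun φ ψ => ?_⟩⟩
  have := isGroupoid_fiber 𝒳.p hp U
  have : IsIso ψ := IsGroupoid.all_isIso ψ
  let s := φ ≫ inv ψ
  have hsl : 𝒳.p.IsHomLift (𝟙 U) s.1 := s.2
  have hs : 𝒳.p.map s.1 = 𝟙 (𝒳.p.obj x.1) := by
    rw [IsHomLift.fac' 𝒳.p (𝟙 U) s.1]; simp
  have h1 : s = 𝟙 x := Subtype.ext (h x.1 x.1 (𝟙 _) s.1 hs)
  calc φ = s ≫ ψ := by simp [s]
    _ = ψ := by rw [h1, Category.id_comp]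

theorem clean_of_isFibSetoid (h : FibCat.IsFibSetoid 𝒳.p) (η : 𝒳.obj) : IsoNat.IsClean η := by
  intro x _ s hs
  have : 𝒳.p.IsHomLift (𝟙 (𝒳.p.obj x)) s := by rw [← hs]; exact IsHomLift.map 𝒳.p s
  have : 𝒳.p.IsHomLift (𝟙 (𝒳.p.obj x)) (𝟙 x) := IsHomLift.id rfl
  exact fibSetoid_hom_ext h (𝟙 (𝒳.p.obj x)) s (𝟙 x)

theorem isFibSetoid_of_equiv_ofSp {F : AlgSp.Sp S} {e : AlgSt.ofSp F ⥤ᵇ 𝒳} (he : FibCat.IsEquivOver e) :
    FibCat.IsFibSetoid 𝒳.p := by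
  have hp : FibCat.IsFibGrpd 𝒳.p := isFibGrpd_of_isEquivOver he (Stk.isFibGrpd_ofPsh _)
  obtain ⟨⟨_, _⟩, hes⟩ := (isEquivOver_iff e).1 he
  refine ⟨hp, fun U x y => ⟨fun φ ψ => ?_⟩⟩
  have := fiberFunctor_essSurj e hes U
  let G := FibCat.fiberFunctor e U
  have := fiberFunctor_faithful e U
  have := fiberFunctor_full e U
  let a := G.objObjPreimageIso x
  let b := G.objObjPreimageIso y
  obtain ⟨φ', hφ⟩ := G.map_surjective (a.hom ≫ φ ≫ b.inv)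
  obtain ⟨ψ', hψ⟩ := G.map_surjective (a.hom ≫ ψ ≫ b.inv)
  have h1 : φ' = ψ' := by
    refine Subtype.ext (Stk.EltObj.hom_ext ?_)
    have : (AlgSt.ofSp F).p.IsHomLift (𝟙 U) φ'.1 := φ'.2
    have : (AlgSt.ofSp F).p.IsHomLift (𝟙 U) ψ'.1 := ψ'.2
    exact (IsHomLift.fac' (AlgSt.ofSp F).p (𝟙 U) φ'.1).trans (IsHomLift.fac' (AlgSt.ofSp F).p (𝟙 U) ψ'.1).symm
  simpa using hφ.symm.trans ((congrArg G.map h1).trans hψ)

theorem repByAlgSp_transfer (h𝒳 : Stk.IsStack (QuotSh.J Scheme.fppfPrecoverage S) 𝒳)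
    (h𝒴 : Stk.IsStack (QuotSh.J Scheme.fppfPrecoverage S) 𝒴)
    (h𝒴d : AlgSt.RepByAlgSpWith AlgSp.IsSeparatedMor (FibCat.diag (FibCat.toSelf 𝒴)))
    (φ : IsoNat.FIso 𝒳 𝒴) (hsp : AlgSt.RepByAlgSp 𝒳) : AlgSt.RepByAlgSp 𝒴 := by
  obtain ⟨F, e, he⟩ := hsp
  have hX := isFibSetoid_of_equiv_ofSp he
  have hY : FibCat.IsFibSetoid 𝒴.p := isFibSetoid_of_clean h𝒴.1 ((clean_iff_sepClasses h𝒴 h𝒴d).2
    (sepClasses_transfer φ h𝒳.1 h𝒴.1 (sepClasses_of_clean h𝒳 (clean_of_isFibSetoid hX))))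
  obtain ⟨⟨_, _⟩, hes⟩ := (isEquivOver_iff e).1 he
  let ex : ∀ a : (AlgSt.ofSp F.obj).obj, 𝒳.p.Fiber a.base := fun a => Fiber.mk (e.w_obj a)
  choose y hy using fun a => exists_cls φ (ex a)
  have hm : ∀ {a b : (AlgSt.ofSp F.obj).obj} (k : a ⟶ b), ∃ m : (y a).1 ⟶ (y b).1, 𝒴.p.IsHomLift k.hom m :=
    fun {a b} k => exists_hom_transfer φ k.hom (x' := ex a) (x := ex b) (e.map k)
      (BasedFunctor.preserves_isHomLift e ((AlgSt.ofSp F.obj).p.map k) k) (hy a) (hy b)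
  choose m hml using @hm
  let F₀ : (AlgSt.ofSp F.obj).obj ⥤ 𝒴.obj :=
    { obj := fun a => (y a).1
      map := fun k => m k
      map_id := fun a => by
        have := hml (𝟙 a)
        have : 𝒴.p.IsHomLift (𝟙 a : a ⟶ a).hom (𝟙 (y a).1) := IsHomLift.id (y a).2
        exact fibSetoid_hom_ext hY (𝟙 a : a ⟶ a).hom _ _
      map_comp := fun {a b c} k k' => by
        have := hml (k ≫ k')
        have := hml k
        have := hml k'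
        have : 𝒴.p.IsHomLift (k ≫ k').hom (m k ≫ m k') := (inferInstance : 𝒴.p.IsHomLift (k.hom ≫ k'.hom) (m k ≫ m k'))
        exact fibSetoid_hom_ext hY (k ≫ k').hom _ _ }
  let e' : AlgSt.ofSp F.obj ⥤ᵇ 𝒴 :=
    { toFunctor := F₀
      w := CategoryTheory.Functor.ext (fun a => (y a).2) fun a b k =>
        @IsHomLift.fac' _ _ _ _ 𝒴.p _ _ _ _ k.hom (m k) (hml k) }
  refine ⟨F, e', ?_⟩
  have : e'.toFunctor.Faithful := ⟨fun {a b k k'} h => Stk.EltObj.hom_ext (by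
    have h' : m k = m k' := h
    have := hml k
    have := hml k'
    have : 𝒴.p.IsHomLift k.hom (m k') := h' ▸ hml k
    exact base_eq 𝒴.p k.hom k'.hom (m k'))⟩
  have : e'.toFunctor.Full := ⟨fun {a b} n => by
    let g : a.base ⟶ b.base := eqToHom (y a).2.symm ≫ 𝒴.p.map n ≫ eqToHom (y b).2
    have hn : 𝒴.p.IsHomLift g n := IsHomLift.of_fac _ _ _ (y a).2 (y b).2 rfl
    obtain ⟨q, hq⟩ := exists_hom_transfer (fisoSymm h𝒳.1 h𝒴.1 φ) g (x' := y a) (x := y b) n hn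
      ((Equiv.symm_apply_eq _).2 (hy a).symm) ((Equiv.symm_apply_eq _).2 (hy b).symm)
    obtain ⟨k, hk⟩ := e.toFunctor.map_surjective (X := a) (Y := b) q
    have hkl : 𝒳.p.IsHomLift k.hom q := hk ▸ BasedFunctor.preserves_isHomLift e ((AlgSt.ofSp F.obj).p.map k) k
    have hg : k.hom = g := base_eq 𝒳.p k.hom g q
    refine ⟨k, ?_⟩
    have := hml k
    have : 𝒴.p.IsHomLift k.hom n := hg ▸ hn
    exact fibSetoid_hom_ext hY k.hom _ _⟩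
  refine isEquivOver_of_essSurjOver e' fun η => ?_
  let yη : 𝒴.p.Fiber (𝒴.p.obj η) := Fiber.mk (a := η) rfl
  obtain ⟨x, hx⟩ := exists_cls' φ yη
  obtain ⟨a, ε, hε⟩ := hes x.1
  have hU : a.base = 𝒴.p.obj η := (e.w_obj a).symm.trans
    ((@IsHomLift.domain_eq _ _ _ _ 𝒳.p _ _ _ _ _ ε.hom hε).trans x.2)
  obtain ⟨U, s⟩ := a
  change U = 𝒴.p.obj η at hU
  subst hU
  rw [x.2] at hε
  let εm : ex ⟨𝒴.p.obj η, s⟩ ⟶ x := ⟨ε.hom, hε⟩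
  have := isGroupoid_fiber 𝒳.p h𝒳.1 (𝒴.p.obj η)
  have : IsIso εm := IsGroupoid.all_isIso εm
  obtain ⟨i⟩ := (iso_transfer φ (hy ⟨𝒴.p.obj η, s⟩) hx).1 ⟨asIso εm⟩
  exact ⟨⟨𝒴.p.obj η, s⟩, Fiber.fiberInclusion.mapIso i, i.hom.2⟩

end Groth.Agent.AlgStLib
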