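import Groth.Agent.AlgStLib.PshFun
import Groth.Agent.AlgStLib.RepSheaf
import Groth.Agent.AlgStLib.OpenSub
import Groth.Agent.AlgStLib.Setoid
import Groth.Agent.FibBasics.Repr
import Mathlib

/-!
The base change of a morphism representable by algebraic spaces to an algebraic space.
-/

set_option autoImplicit false
set_option backward.isDefEq.respectTransparency false
set_option backward.isDefEq.respectTransparency.types false

universe u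

open CategoryTheory CategoryTheory.Limits CategoryTheory.Functor AlgebraicGeometry Opposite AlgSp

namespace Groth.Agent.AlgStLib

open Groth.Agent Groth.Agent.FibBasics Groth.Agent.AlgSpLib

variable {S : Scheme.{u}}

section Psh

variable {P Q R' : (Over S)ᵒᵖ ⥤ Type (u + 1)}

theorem sec_eq_of_lift {T : Over S} {x y : P.obj (op T)}
    (m : (⟨T, x⟩ : (Stk.ofPsh P).obj) ⟶ ⟨T, y⟩) (hm : (Stk.ofPsh P).p.IsHomLift (𝟙 T) m) : x = y := by
  have h : m.hom = eqToHom rfl ≫ 𝟙 T ≫ eqToHom rfl := IsHomLift.fac' (Stk.ofPsh P).p (𝟙 T) m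
  have h' := m.map_sec
  rw [h] at h'
  simpa using h'.symm

theorem exists_hom_of_obj (Φ : Stk.ofPsh P ⥤ᵇ Stk.ofPsh Q) (a : (Stk.ofPsh P).obj) :
    ∃ m : (⟨a.base, (pshMapOf Φ).app (op a.base) a.sec⟩ : (Stk.ofPsh Q).obj) ⟶ Φ.obj a,
      (Stk.ofPsh Q).p.IsHomLift (𝟙 a.base) m :=
  ⟨⟨eqToHom (Φ.w_obj a).symm, rfl⟩, IsHomLift.of_fac _ _ _ rfl (Φ.w_obj a) (by simp)⟩

theorem pshMapOf_congr {Φ Ψ : Stk.ofPsh P ⥤ᵇ Stk.ofPsh Q}
    (h : ∀ a, ∃ m : Φ.obj a ⟶ Ψ.obj a, (Stk.ofPsh Q).p.IsHomLift (𝟙 a.base) m) : pshMapOf Φ = pshMapOf Ψ := by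
  ext T x
  obtain ⟨m, hm⟩ := h ⟨T.unop, x⟩
  obtain ⟨m₁, hm₁⟩ := exists_hom_of_obj Φ ⟨T.unop, x⟩
  obtain ⟨m₂, hm₂⟩ := exists_hom_obj Ψ ⟨T.unop, x⟩
  exact sec_eq_of_lift ((m₁ ≫ m) ≫ m₂) (lift₃ (𝒳 := Stk.ofPsh Q) hm₁ hm hm₂)

theorem pshMapOf_comp (Φ : Stk.ofPsh P ⥤ᵇ Stk.ofPsh Q) (Ψ : Stk.ofPsh Q ⥤ᵇ Stk.ofPsh R') :
    pshMapOf (BasedFunctor.comp Φ Ψ) = pshMapOf Φ ≫ pshMapOf Ψ := by
  ext T x
  obtain ⟨m₁, hm₁⟩ := exists_hom_of_obj (BasedFunctor.comp Φ Ψ) ⟨T.unop, x⟩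
  obtain ⟨m, hm⟩ := exists_hom_obj Φ ⟨T.unop, x⟩
  obtain ⟨m₂, hm₂⟩ := exists_hom_obj Ψ ⟨T.unop, (pshMapOf Φ).app (op T.unop) x⟩
  have hm' : (Stk.ofPsh R').p.IsHomLift (𝟙 T.unop) (Ψ.map m) :=
    (BasedFunctor.isHomLift_iff Ψ _ _).2 hm
  exact sec_eq_of_lift ((m₁ ≫ Ψ.map m) ≫ m₂) (lift₃ (𝒳 := Stk.ofPsh R') hm₁ hm' hm₂)

theorem pshMapOf_ofPshMap (φ : P ⟶ Q) : pshMapOf (Stk.ofPshMap φ) = φ := by
  ext T x
  show Q.map (eqToHom rfl).op (φ.app T x) = φ.app T x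
  simp

end Psh

section Along

variable {𝒳 𝒴 : AlgSt.Cat S} {F : Sp S} (z : AlgSt.ofSp F ⥤ᵇ 𝒴) (f : 𝒳 ⥤ᵇ 𝒴)

/-- A section as a functor on the slice. -/
abbrev secFun {T : Over S} (s : F.obj.obj (op T)) : FibCat.overCat T ⥤ᵇ AlgSt.ofSp F :=
  BasedFunctor.comp (AlgSt.ofOverCat T) (AlgSt.ofSpMap ((J S).uliftYonedaEquiv.{u + 1}.symm s))

/-- Base change of the test object to a section. -/
abbrev toAlong {T : Over S} (s : F.obj.obj (op T)) :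
    FibCat.fp (BasedFunctor.comp (secFun s) z) f ⥤ᵇ FibCat.fp z f :=
  fpMapFst (secFun s) z f

theorem exists_preimage (x : (FibCat.fp z f).obj) {R T : Over S} (h : R ⟶ T) (s : F.obj.obj (op T))
    (hR : x.obj.fst.base = R)
    (hs : F.obj.map (eqToHom hR.symm).op x.obj.fst.sec = F.obj.map h.op s) :
    ∃ x₀ : (FibCat.fp (BasedFunctor.comp (secFun s) z) f).obj,
      x₀.obj.fst = Over.mk h ∧ (toAlong z f s).obj x₀ = x := by
  obtain ⟨⟨⟨R', σ⟩, v, i⟩, hi⟩ := x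
  change R' = R at hR
  subst hR
  have hs' : σ = F.obj.map h.op s := by simpa using hs
  subst hs'
  exact ⟨⟨{ fst := Over.mk h, snd := v, iso := i }, hi⟩, rfl, rfl⟩

theorem exists_map_preimage {T : Over S} {s : F.obj.obj (op T)}
    {x y : (FibCat.fp (BasedFunctor.comp (secFun s) z) f).obj}
    (φ : (toAlong z f s).obj x ⟶ (toAlong z f s).obj y) (hw : φ.hom.fst.hom ≫ y.obj.fst.hom = x.obj.fst.hom) :
    ∃ φ₀ : x ⟶ y, (toAlong z f s).map φ₀ = φ := by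
  let k : x.obj.fst ⟶ y.obj.fst := Over.homMk φ.hom.fst.hom hw
  refine ⟨fpHom k φ.hom.snd ?_, fp_hom_ext (Stk.EltObj.hom_ext rfl) rfl⟩
  have : (secFun s).map k = φ.hom.fst := Stk.EltObj.hom_ext rfl
  show z.map ((secFun s).map k) ≫ y.obj.iso.hom = _
  rw [this]
  exact φ.hom.w

variable (h𝒳 : FibCat.IsFibGrpd 𝒳.p) (h𝒴 : FibCat.IsFibGrpd 𝒴.p) (hf : AlgSt.RepByAlgSp1 f)

include h𝒳 h𝒴 hf in
theorem fp_isFibSetoid : FibCat.IsFibSetoid (FibCat.fp z f).p := by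
  have hg : FibCat.IsFibGrpd (FibCat.fp z f).p := fp_isFibGrpd (Stk.isFibGrpd_ofPsh _) h𝒳 h𝒴
  refine isFibSetoid_of_clean hg fun η x _ α hα => ?_
  obtain ⟨x₀, hx₀, hJ⟩ := exists_preimage z f x (𝟙 x.obj.fst.base) x.obj.fst.sec rfl rfl
  suffices key : ∀ {T : Over S} (s : F.obj.obj (op T))
      (x₀ : (FibCat.fp (BasedFunctor.comp (secFun s) z) f).obj) (y : (FibCat.fp z f).obj),
      (toAlong z f s).obj x₀ = y → ∀ α : y ⟶ y, (FibCat.fp z f).p.map α = 𝟙 _ → α = 𝟙 y from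
    key _ x₀ x hJ α hα
  rintro T s x₀ _ rfl α hα
  have hh : α.hom.fst.hom = 𝟙 _ := hα
  obtain ⟨α₀, hα₀⟩ := exists_map_preimage z f α ((congrArg (· ≫ x₀.obj.fst.hom) hh).trans (Category.id_comp _))
  obtain ⟨G, e, he⟩ := hf _ (BasedFunctor.comp (secFun _) z)
  have hs := isFibSetoid_of_equiv_ofSp he
  have hl : (FibCat.fp (BasedFunctor.comp (secFun _) z) f).p.IsHomLift (𝟙 x₀.obj.fst.left) α₀ := by
    refine fp_lift_of_fst _ _ (IsHomLift.of_fac _ _ _ rfl rfl ?_)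
    have : α₀.hom.fst.left = 𝟙 _ := (congrArg (fun m => m.hom.fst.hom) hα₀).trans hh
    show 𝟙 _ = eqToHom _ ≫ α₀.hom.fst.left ≫ eqToHom _
    simp [this]
  have : (FibCat.fp (BasedFunctor.comp (secFun _) z) f).p.IsHomLift (𝟙 x₀.obj.fst.left) (𝟙 x₀) :=
    IsHomLift.id rfl
  have := hl
  rw [← hα₀, fibSetoid_hom_ext hs (𝟙 x₀.obj.fst.left) α₀ (𝟙 x₀)]
  exact (toAlong z f _).toFunctor.map_id x₀

variable {P₀ : (Over S)ᵒᵖ ⥤ Type (u + 1)} (ε : Stk.ofPsh P₀ ⥤ᵇ FibCat.fp z f)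
  {T : Over S} (s : F.obj.obj (op T)) {H : Sp S}
  (e : AlgSt.ofSp H ⥤ᵇ FibCat.fp (BasedFunctor.comp (secFun s) z) f) (c : H.obj ⟶ P₀)

/-- The projection of the fibre. -/
abbrev fibrePi : H ⟶ (yon S).obj T :=
  AlgSt.spMapOfOver (BasedFunctor.comp e (FibCat.fpFst (BasedFunctor.comp (secFun s) z) f))

theorem fibrePi_app (R : Over S) (g : H.obj.obj (op R)) :
    ((fibrePi z f s e).hom.app (op R) g).down = eqToHom (e.w_obj ⟨R, g⟩).symm ≫ (e.obj ⟨R, g⟩).obj.fst.hom :=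
  rfl

/-- `c` is the map of classes. -/
def ClsMap : Prop :=
  ∀ (R : Over S) (g : H.obj.obj (op R)), ∃ m : ε.obj ⟨R, c.app (op R) g⟩ ⟶
    (toAlong z f s).obj (e.obj ⟨R, g⟩), (FibCat.fp z f).p.IsHomLift (𝟙 R) m

variable (hc : ClsMap z f ε s e c)

include hc in
theorem fibre_comm (R : Over S) (g : H.obj.obj (op R)) :
    (pshMapOf (BasedFunctor.comp ε (FibCat.fpFst z f))).app (op R) (c.app (op R) g) =
      F.obj.map ((fibrePi z f s e).hom.app (op R) g).down.op s := by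
  obtain ⟨m, hm⟩ := hc R g
  obtain ⟨m₁, hm₁⟩ := exists_hom_of_obj (BasedFunctor.comp ε (FibCat.fpFst z f)) ⟨R, c.app (op R) g⟩
  have hm' : (AlgSt.ofSp F).p.IsHomLift (𝟙 R) ((FibCat.fpFst z f).map m) :=
    (BasedFunctor.isHomLift_iff (FibCat.fpFst z f) _ _).2 hm
  rw [fibrePi_app]
  generalize e.w_obj ⟨R, g⟩ = w
  let m₂ : ((FibCat.fpFst z f).obj ((toAlong z f s).obj (e.obj ⟨R, g⟩))) ⟶
      (⟨R, F.obj.map (eqToHom w.symm ≫ (e.obj ⟨R, g⟩).obj.fst.hom).op s⟩ : (AlgSt.ofSp F).obj) :=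
    ⟨eqToHom w, by
      show F.obj.map (eqToHom w).op (F.obj.map (eqToHom w.symm ≫ (e.obj ⟨R, g⟩).obj.fst.hom).op s) =
        F.obj.map (e.obj ⟨R, g⟩).obj.fst.hom.op s
      rw [← Functor.map_comp_apply, ← op_comp, eqToHom_trans_assoc, eqToHom_refl, Category.id_comp]
      rfl⟩
  have hm₂ : (AlgSt.ofSp F).p.IsHomLift (𝟙 R) m₂ := IsHomLift.of_fac _ _ _ w rfl (by simp [m₂] <;> rfl)
  exact sec_eq_of_lift ((m₁ ≫ (FibCat.fpFst z f).map m) ≫ m₂) (lift₃ (𝒳 := AlgSt.ofSp F) hm₁ hm' hm₂)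

include hc in
theorem fibre_inj (hε : FibCat.IsEquivOver ε) (he : FibCat.IsEquivOver e)
    (hg : FibCat.IsFibGrpd (FibCat.fp z f).p) (R : Over S) (g g' : H.obj.obj (op R))
    (h₁ : (fibrePi z f s e).hom.app (op R) g = (fibrePi z f s e).hom.app (op R) g')
    (h₂ : c.app (op R) g = c.app (op R) g') : g = g' := by
  obtain ⟨⟨_, _⟩, -⟩ := (isEquivOver_iff e).1 he
  obtain ⟨m, hm⟩ := hc R g
  obtain ⟨m', hm'⟩ := hc R g'
  have h₁' := congrArg ULift.down h₁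
  rw [fibrePi_app, fibrePi_app] at h₁'
  revert m'
  rw [← h₂]
  intro m' hm'
  have := hm
  have : IsIso m := isIso_of_isFibGrpd _ hg (𝟙 R) m
  have hinv : (FibCat.fp z f).p.IsHomLift (𝟙 R) (inv m) := by
    have : (FibCat.fp z f).p.IsHomLift (𝟙 R) (asIso m).hom := hm
    exact IsHomLift.lift_id_inv _ R (asIso m)
  let φ := inv m ≫ m'
  have hφ : (FibCat.fp z f).p.IsHomLift (𝟙 R) φ :=
    @IsHomLift.comp_of_lift_id _ _ _ _ _ _ _ _ _ _ _ hinv hm'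
  have hwg : (e.obj ⟨R, g⟩).obj.fst.left = R := e.w_obj ⟨R, g⟩
  have hwg' : (e.obj ⟨R, g'⟩).obj.fst.left = R := e.w_obj ⟨R, g'⟩
  have hbase : φ.hom.fst.hom = eqToHom hwg ≫ 𝟙 R ≫ eqToHom hwg'.symm :=
    @IsHomLift.fac' _ _ _ _ (FibCat.fp z f).p _ _ _ _ (𝟙 R) φ hφ
  obtain ⟨φ₀, hφ₀⟩ := exists_map_preimage z f φ (by
    refine ((congrArg (· ≫ (e.obj ⟨R, g'⟩).obj.fst.hom) hbase).trans ?_)
    rw [Category.id_comp, Category.assoc, ← h₁', eqToHom_trans_assoc, eqToHom_refl, Category.id_comp])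
  obtain ⟨k, hk⟩ := e.toFunctor.map_surjective φ₀
  have hk' : (FibCat.fp (BasedFunctor.comp (secFun s) z) f).p.IsHomLift (𝟙 R) φ₀ :=
    (BasedFunctor.isHomLift_iff (toAlong z f s) _ _).1 (by rw [hφ₀]; exact hφ)
  exact sec_eq_of_lift k ((BasedFunctor.isHomLift_iff e _ _).1 (hk ▸ hk'))

include hc in
theorem fibre_surj (hε : FibCat.IsEquivOver ε) (he : FibCat.IsEquivOver e) (R : Over S) (h : R ⟶ T)
    (p : P₀.obj (op R))
    (hp : (pshMapOf (BasedFunctor.comp ε (FibCat.fpFst z f))).app (op R) p = F.obj.map h.op s) :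
    ∃ g, (fibrePi z f s e).hom.app (op R) g = ⟨h⟩ ∧ c.app (op R) g = p := by
  obtain ⟨⟨_, _⟩, -⟩ := (isEquivOver_iff ε).1 hε
  have hees := essSurjOver_of_isEquivOver he
  let x := ε.obj ⟨R, p⟩
  have hR : x.obj.fst.base = R := ε.w_obj ⟨R, p⟩
  obtain ⟨x₀, hx₀, hJ⟩ := exists_preimage z f x h s hR hp
  obtain ⟨⟨R', g⟩, η, hη⟩ := hees x₀
  have hR0 : x₀.obj.fst.left = R := by rw [hx₀]; rfl
  have hbase : R' = R := ((e.w_obj ⟨R', g⟩).symm.trans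
    (@IsHomLift.domain_eq _ _ _ _ (FibCat.fp (BasedFunctor.comp (secFun s) z) f).p _ _ _ _ _ η.hom hη)).trans hR0
  subst hbase
  have hη' : (FibCat.fp (BasedFunctor.comp (secFun s) z) f).p.IsHomLift (𝟙 R') η.hom := by
    have hp' : (FibCat.fp (BasedFunctor.comp (secFun s) z) f).p.obj x₀ = R' := hR0
    rw [hp'] at hη
    exact hη
  refine ⟨g, ULift.ext _ _ ?_, ?_⟩
  · rw [fibrePi_app]
    have hw : η.hom.hom.fst.left ≫ x₀.obj.fst.hom = (e.obj ⟨R', g⟩).obj.fst.hom := Over.w η.hom.hom.fst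
    have hl : η.hom.hom.fst.left = eqToHom (e.w_obj ⟨R', g⟩) ≫ 𝟙 R' ≫ eqToHom hR0.symm :=
      @IsHomLift.fac' _ _ _ _ (FibCat.fp (BasedFunctor.comp (secFun s) z) f).p _ _ _ _ (𝟙 R') η.hom hη'
    rw [← hw, hl]
    have key : ∀ (q : (FibCat.overCat T).obj) (hq : q.left = R'), q = Over.mk h →
        eqToHom hq.symm ≫ q.hom = h := by
      rintro q hq rfl; exact Category.id_comp h
    simp [key x₀.obj.fst hR0 hx₀]
  · obtain ⟨m, hm⟩ := hc R' g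
    have hn : (FibCat.fp z f).p.IsHomLift (𝟙 R') ((m ≫ (toAlong z f s).map η.hom) ≫ eqToHom hJ) := by
      refine lift₃ hm ((BasedFunctor.isHomLift_iff (toAlong z f s) _ _).2 hη') ?_
      exact IsHomLift.of_fac _ _ _ (((toAlong z f s).w_obj x₀).trans hR0) hR (by rw [eqToHom_map]; simp)
    obtain ⟨k, hk⟩ := ε.toFunctor.map_surjective ((m ≫ (toAlong z f s).map η.hom) ≫ eqToHom hJ)
    exact sec_eq_of_lift k ((BasedFunctor.isHomLift_iff ε _ _).1 (hk ▸ hn))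

theorem exists_clsMap (hε : FibCat.IsEquivOver ε) : ∃ c : H.obj ⟶ P₀, ClsMap z f ε s e c := by
  obtain ⟨ι, -, -, ⟨β⟩⟩ := isEquivOver_symm hε
  refine ⟨pshMapOf (BasedFunctor.comp (BasedFunctor.comp e (toAlong z f s)) ι), fun R g => ?_⟩
  obtain ⟨m, hm⟩ := exists_hom_of_obj (BasedFunctor.comp (BasedFunctor.comp e (toAlong z f s)) ι) ⟨R, g⟩
  have h1 : (FibCat.fp z f).p.IsHomLift (𝟙 R) (ε.map m) := (BasedFunctor.isHomLift_iff ε _ _).2 hm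
  have h2 := BasedNatTrans.isHomLift β.hom (a := (toAlong z f s).obj (e.obj ⟨R, g⟩)) (S := R)
    (((toAlong z f s).w_obj _).trans (e.w_obj _))
  exact ⟨ε.map m ≫ β.hom.toNatTrans.app _, @IsHomLift.comp_of_lift_id _ _ _ _ _ _ _ _ _ _ _ h1 h2⟩

/-- The fibre data. -/
def mkFib (hε : FibCat.IsEquivOver ε) (he : FibCat.IsEquivOver e) (hg : FibCat.IsFibGrpd (FibCat.fp z f).p)
    (hc : ClsMap z f ε s e c) : Fibre (pshMapOf (BasedFunctor.comp ε (FibCat.fpFst z f))) s where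
  G := H
  π := fibrePi z f s e
  c := c
  comm := fibre_comm z f ε s e c hc
  inj := fibre_inj z f ε s e c hc hε he hg
  surj := fibre_surj z f ε s e c hc hε he

include h𝒳 h𝒴 hf in
/-- The base change of a representable morphism to an algebraic space is an algebraic space, with the expected fibres. -/
theorem exists_rep_along (hF : IsAlgSpace F) :
    ∃ (G : AlgSp.Space S) (e : AlgSt.ofSp G.obj ⥤ᵇ FibCat.fp z f), FibCat.IsEquivOver e ∧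
      ∀ (P : MorphismProperty (Sp S)), AlgSt.RepByAlgSpWith P f → ∀ (T : Over S) (s : F.obj.obj (op T)),
        ∃ (H : AlgSp.Space S) (c : H.obj ⟶ G.obj) (π : H.obj ⟶ (yon S).obj T), P π ∧
          IsPullback c π (spMapOf (BasedFunctor.comp e (FibCat.fpFst z f)))
            ((J S).uliftYonedaEquiv.{u + 1}.symm s) := by
  have hset := fp_isFibSetoid z f h𝒳 h𝒴 hf
  obtain ⟨ε, hε⟩ := exists_equiv_clsPsh hset
  let a := pshMapOf (BasedFunctor.comp ε (FibCat.fpFst z f))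
  have hsh : Presheaf.IsSheaf (J S) (clsPsh hset.1) := isSheaf_of_fibres a fun T s => by
    obtain ⟨H, e, he⟩ := hf T (BasedFunctor.comp (secFun s) z)
    obtain ⟨c, hc⟩ := exists_clsMap z f ε s e hε
    exact ⟨mkFib z f ε s e c hε he hset.1 hc⟩
  let G₀ : Sp S := ⟨clsPsh hset.1, hsh⟩
  let a' : G₀ ⟶ F := ObjectProperty.homMk a
  have hG : IsAlgSpace G₀ := isAlgSpace_of_fibres hF a' fun T σ => by
    obtain ⟨s, rfl⟩ := (J S).uliftYonedaEquiv.{u + 1}.symm.surjective σ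
    obtain ⟨H, e, he⟩ := hf T (BasedFunctor.comp (secFun s) z)
    obtain ⟨c, hc⟩ := exists_clsMap z f ε s e hε
    exact ⟨H.obj, _, _, H.property, Fibre.isPullback (a' := a') (mkFib z f ε s e c hε he hset.1 hc)⟩
  refine ⟨⟨G₀, hG⟩, ε, hε, fun P hP T s => ?_⟩
  obtain ⟨H, e, he, hm⟩ := hP T (BasedFunctor.comp (secFun s) z)
  obtain ⟨c, hc⟩ := exists_clsMap z f ε s e hε
  exact ⟨H, _, _, hm, Fibre.isPullback (a' := a') (mkFib z f ε s e c hε he hset.1 hc)⟩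

end Along

end Groth.Agent.AlgStLib
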