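import Groth.Agent.AlgStLib.RepAlong
import Groth.Agent.AlgSpLib.ChartMor
import Groth.Agent.FibBasics.Whisker
import Mathlib

/-!
Calculus of morphisms representable by algebraic spaces: invariance, base change, composition.
-/

set_option autoImplicit false
set_option backward.isDefEq.respectTransparency false
set_option backward.isDefEq.respectTransparency.types false

universe u

open CategoryTheory CategoryTheory.Limits CategoryTheory.Functor AlgebraicGeometry Opposite AlgSp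

namespace Groth.Agent.AlgStLib

open Groth.Agent Groth.Agent.FibBasics Groth.Agent.AlgSpLib

variable {S : Scheme.{u}} {𝒜 ℬ 𝒳 𝒴 𝒵 : AlgSt.Cat S}

/-- The property transports along an equivalence of 2-fibre products compatible with the projections. -/
theorem repWith_of_equiv {P : MorphismProperty (Sp S)} {f : 𝒳 ⥤ᵇ 𝒴} {f' : 𝒜 ⥤ᵇ ℬ}
    (h : ∀ (U : Over S) (y : FibCat.overCat U ⥤ᵇ ℬ), ∃ (y' : FibCat.overCat U ⥤ᵇ 𝒴)
      (K : FibCat.fp y f' ⥤ᵇ FibCat.fp y' f), FibCat.IsEquivOver K ∧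
        BasedFunctor.comp K (FibCat.fpFst y' f) = FibCat.fpFst y f')
    (hf : AlgSt.RepByAlgSpWith P f) : AlgSt.RepByAlgSpWith P f' := by
  intro U y
  obtain ⟨y', K, hK, hKp⟩ := h U y
  obtain ⟨F, e, he, hm⟩ := hf U y'
  obtain ⟨e', he', hq⟩ := exists_rep_transfer K hK _ _ hKp he
  exact ⟨F, e', he', hq ▸ hm⟩

/-- The same with the comparison in the other direction. -/
theorem repWith_of_equiv' {P : MorphismProperty (Sp S)} {f : 𝒳 ⥤ᵇ 𝒴} {f' : 𝒜 ⥤ᵇ ℬ}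
    (h : ∀ (U : Over S) (y : FibCat.overCat U ⥤ᵇ ℬ), ∃ (y' : FibCat.overCat U ⥤ᵇ 𝒴)
      (K : FibCat.fp y' f ⥤ᵇ FibCat.fp y f'), FibCat.IsEquivOver K ∧
        BasedFunctor.comp K (FibCat.fpFst y f') = FibCat.fpFst y' f)
    (hf : AlgSt.RepByAlgSpWith P f) : AlgSt.RepByAlgSpWith P f' := by
  intro U y
  obtain ⟨y', K, hK, hKp⟩ := h U y
  obtain ⟨F, e, he, hm⟩ := hf U y'
  refine ⟨F, BasedFunctor.comp e K, isEquivOver_comp he hK, ?_⟩
  rw [← hKp] at hm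
  exact hm

section BaseChange

variable (f : 𝒳 ⥤ᵇ 𝒴) (g : 𝒵 ⥤ᵇ 𝒴) (y : ℬ ⥤ᵇ 𝒵)

/-- Pasting of 2-fibre products. -/
def fpPaste : FibCat.fp y (FibCat.fpFst g f) ⥤ᵇ FibCat.fp (BasedFunctor.comp y g) f where
  toFunctor :=
    { obj := fun x => ⟨{ fst := x.obj.fst, snd := x.obj.snd.obj.snd,
                         iso := g.toFunctor.mapIso x.obj.iso ≪≫ x.obj.snd.obj.iso },
        by
          have h2 : 𝒵.p.obj x.obj.snd.obj.fst = ℬ.p.obj x.obj.fst := fp_snd_proj x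
          have h1 : 𝒴.p.IsHomLift (𝟙 (ℬ.p.obj x.obj.fst)) (g.map x.obj.iso.hom) :=
            (BasedFunctor.isHomLift_iff g _ _).2 x.property
          have h3 : 𝒴.p.IsHomLift (𝟙 (ℬ.p.obj x.obj.fst)) x.obj.snd.obj.iso.hom := h2 ▸ x.obj.snd.property
          show 𝒴.p.IsHomLift (𝟙 (ℬ.p.obj x.obj.fst)) (g.map x.obj.iso.hom ≫ x.obj.snd.obj.iso.hom)
          exact @IsHomLift.comp_of_lift_id _ _ _ _ _ _ _ _ _ _ _ h1 h3⟩
      map := fun {a b} φ => fpHom φ.hom.fst φ.hom.snd.hom.snd (by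
        have w₁ : y.map φ.hom.fst ≫ b.obj.iso.hom = a.obj.iso.hom ≫ φ.hom.snd.hom.fst := φ.hom.w
        have w₂ := φ.hom.snd.hom.w
        show g.map (y.map φ.hom.fst) ≫ g.map b.obj.iso.hom ≫ b.obj.snd.obj.iso.hom =
          (g.map a.obj.iso.hom ≫ a.obj.snd.obj.iso.hom) ≫ f.map φ.hom.snd.hom.snd
        rw [← Category.assoc, ← g.toFunctor.map_comp, w₁, g.toFunctor.map_comp, Category.assoc, Category.assoc, w₂])
      map_id := fun _ => fp_hom_ext rfl rfl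
      map_comp := fun _ _ => fp_hom_ext rfl rfl }
  w := rfl

theorem fpPaste_isEquivOver : FibCat.IsEquivOver (fpPaste f g y) := by
  have : (fpPaste f g y).toFunctor.Faithful := ⟨fun {a b} φ ψ h => by
    have h1 : φ.hom.fst = ψ.hom.fst := congrArg (fun m => m.hom.fst) h
    have h2 : φ.hom.snd.hom.snd = ψ.hom.snd.hom.snd := congrArg (fun m => m.hom.snd) h
    refine fp_hom_ext h1 (fp_hom_ext ?_ h2)
    rw [← cancel_epi a.obj.iso.hom]
    exact φ.hom.w.symm.trans ((congrArg (fun m => y.map m ≫ b.obj.iso.hom) h1).trans ψ.hom.w)⟩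
  have : (fpPaste f g y).toFunctor.Full := ⟨fun {a b} m => by
    have w : g.map (y.map m.hom.fst) ≫ g.map b.obj.iso.hom ≫ b.obj.snd.obj.iso.hom =
        (g.map a.obj.iso.hom ≫ a.obj.snd.obj.iso.hom) ≫ f.map m.hom.snd := m.hom.w
    let t : a.obj.snd.obj.fst ⟶ b.obj.snd.obj.fst := a.obj.iso.inv ≫ y.map m.hom.fst ≫ b.obj.iso.hom
    have ht : g.map t ≫ b.obj.snd.obj.iso.hom = a.obj.snd.obj.iso.hom ≫ f.map m.hom.snd := by
      have hinv : g.map a.obj.iso.inv ≫ g.map a.obj.iso.hom = 𝟙 _ :=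
        (g.toFunctor.map_comp _ _).symm.trans
          ((congrArg g.map a.obj.iso.inv_hom_id).trans (g.toFunctor.map_id _))
      simp only [t, g.toFunctor.map_comp, Category.assoc]
      rw [w, Category.assoc, reassoc_of% hinv]
    exact ⟨fpHom m.hom.fst (fpHom t m.hom.snd ht) (Iso.hom_inv_id_assoc a.obj.iso _).symm,
      fp_hom_ext rfl rfl⟩⟩
  refine isEquivOver_of_essSurjOver _ fun x => ?_
  obtain ⟨⟨u, v, i⟩, hi⟩ := x
  have hi' : 𝒴.p.IsHomLift (𝟙 (𝒵.p.obj (y.obj u))) i.hom := by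
    rw [y.w_obj]; exact hi
  let w : (FibCat.fp g f).obj := ⟨{ fst := y.obj u, snd := v, iso := i }, hi'⟩
  let a : (FibCat.fp y (FibCat.fpFst g f)).obj :=
    ⟨{ fst := u, snd := w, iso := Iso.refl _ }, IsHomLift.id (y.w_obj u)⟩
  have hg : g.map (𝟙 (y.obj u)) ≫ i.hom = i.hom :=
    (congrArg (· ≫ i.hom) (g.toFunctor.map_id _)).trans (Category.id_comp _)
  refine ⟨a, ⟨fpHom (𝟙 u) (𝟙 v) ?_, fpHom (𝟙 u) (𝟙 v) ?_, fp_hom_ext (Category.comp_id _) (Category.comp_id _),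
    fp_hom_ext (Category.comp_id _) (Category.comp_id _)⟩, fp_lift_of_fst _ _ (IsHomLift.id rfl)⟩
  · show g.map (y.map (𝟙 u)) ≫ i.hom = (g.map (𝟙 (y.obj u)) ≫ i.hom) ≫ f.map (𝟙 v)
    rw [y.toFunctor.map_id, f.toFunctor.map_id, Category.comp_id]
  · show g.map (y.map (𝟙 u)) ≫ g.map (𝟙 (y.obj u)) ≫ i.hom = i.hom ≫ f.map (𝟙 v)
    rw [y.toFunctor.map_id, f.toFunctor.map_id, Category.comp_id, hg, hg]

/-- Base change. -/
theorem repWith_fpFst {P : MorphismProperty (Sp S)} {f : 𝒳 ⥤ᵇ 𝒴} (g : 𝒵 ⥤ᵇ 𝒴)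
    (hf : AlgSt.RepByAlgSpWith P f) : AlgSt.RepByAlgSpWith P (FibCat.fpFst g f) :=
  repWith_of_equiv (fun _ y => ⟨_, fpPaste f g y, fpPaste_isEquivOver f g y, rfl⟩) hf

theorem rep1_iff {f : 𝒳 ⥤ᵇ 𝒴} : AlgSt.RepByAlgSp1 f ↔ AlgSt.RepByAlgSpWith ⊤ f :=
  ⟨fun h U y => by obtain ⟨F, e, he⟩ := h U y; exact ⟨F, e, he, trivial⟩,
    fun h U y => by obtain ⟨F, e, he, -⟩ := h U y; exact ⟨F, e, he⟩⟩

theorem rep1_of_with {P : MorphismProperty (Sp S)} {f : 𝒳 ⥤ᵇ 𝒴} (h : AlgSt.RepByAlgSpWith P f) :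
    AlgSt.RepByAlgSp1 f :=
  fun U y => by obtain ⟨F, e, he, -⟩ := h U y; exact ⟨F, e, he⟩

theorem repWith_mono_prop {P Q : MorphismProperty (Sp S)}
    (hPQ : ∀ ⦃F G : Sp S⦄ (a : F ⟶ G), IsAlgSpace F → IsAlgSpace G → P a → Q a) {f : 𝒳 ⥤ᵇ 𝒴}
    (h : AlgSt.RepByAlgSpWith P f) : AlgSt.RepByAlgSpWith Q f :=
  fun U y => by
    obtain ⟨F, e, he, hm⟩ := h U y
    exact ⟨F, e, he, hPQ _ F.property (IsAlgSpace.yon_obj _) hm⟩

end BaseChange

section Invariance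

/-- Change of the second leg by a 2-isomorphism. -/
def fpIsoSnd (y : ℬ ⥤ᵇ 𝒴) {f f' : 𝒳 ⥤ᵇ 𝒴} (α : f ≅ f') : FibCat.fp y f ⥤ᵇ FibCat.fp y f' where
  toFunctor :=
    { obj := fun x => ⟨{ fst := x.obj.fst, snd := x.obj.snd,
                         iso := x.obj.iso ≪≫ ((BasedNatTrans.forgetful _ _).mapIso α).app x.obj.snd },
        by
          have h2 := BasedNatTrans.isHomLift α.hom (a := x.obj.snd) (S := ℬ.p.obj x.obj.fst) (fp_snd_proj x)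
          exact @IsHomLift.comp_of_lift_id _ _ _ _ _ _ _ _ _ _ _ x.property h2⟩
      map := fun {a b} φ => fpHom φ.hom.fst φ.hom.snd (by
        show y.map φ.hom.fst ≫ b.obj.iso.hom ≫ α.hom.toNatTrans.app b.obj.snd =
          (a.obj.iso.hom ≫ α.hom.toNatTrans.app a.obj.snd) ≫ f'.map φ.hom.snd
        rw [← Category.assoc, φ.hom.w, Category.assoc, Category.assoc]
        exact congrArg _ (α.hom.toNatTrans.naturality φ.hom.snd))
      map_id := fun _ => fp_hom_ext rfl rfl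
      map_comp := fun _ _ => fp_hom_ext rfl rfl }
  w := rfl

theorem fpIsoSnd_isEquivOver (y : ℬ ⥤ᵇ 𝒴) {f f' : 𝒳 ⥤ᵇ 𝒴} (α : f ≅ f') :
    FibCat.IsEquivOver (fpIsoSnd y α) := by
  refine ⟨fpIsoSnd y α.symm, ⟨BasedNatIso.mkNatIso (NatIso.ofComponents
    (fun x => ObjectProperty.isoMk _ (CategoricalPullback.mkIso (Iso.refl _) (Iso.refl _) ?_))
    (fun φ => fp_hom_ext ?_ ?_)) (fun x => fp_lift_of_fst _ _ (IsHomLift.id rfl))⟩,
    ⟨BasedNatIso.mkNatIso (NatIso.ofComponents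
    (fun x => ObjectProperty.isoMk _ (CategoricalPullback.mkIso (Iso.refl _) (Iso.refl _) ?_))
    (fun φ => fp_hom_ext ?_ ?_)) (fun x => fp_lift_of_fst _ _ (IsHomLift.id rfl))⟩⟩
  · have h : α.hom.toNatTrans.app x.obj.snd ≫ α.inv.toNatTrans.app x.obj.snd = 𝟙 _ :=
      congrArg (fun m => m.toNatTrans.app x.obj.snd) α.hom_inv_id
    show y.map (𝟙 _) ≫ x.obj.iso.hom =
      ((x.obj.iso.hom ≫ α.hom.toNatTrans.app x.obj.snd) ≫ α.inv.toNatTrans.app x.obj.snd) ≫ f.map (𝟙 _)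
    rw [y.toFunctor.map_id, f.toFunctor.map_id, Category.assoc x.obj.iso.hom, h]
    simp
  · exact (Category.comp_id _).trans (Category.id_comp _).symm
  · exact (Category.comp_id _).trans (Category.id_comp _).symm
  · have h : α.inv.toNatTrans.app x.obj.snd ≫ α.hom.toNatTrans.app x.obj.snd = 𝟙 _ :=
      congrArg (fun m => m.toNatTrans.app x.obj.snd) α.inv_hom_id
    show y.map (𝟙 _) ≫ x.obj.iso.hom =
      ((x.obj.iso.hom ≫ α.inv.toNatTrans.app x.obj.snd) ≫ α.hom.toNatTrans.app x.obj.snd) ≫ f'.map (𝟙 _)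
    rw [y.toFunctor.map_id, f'.toFunctor.map_id, Category.assoc x.obj.iso.hom, h]
    simp
  · exact (Category.comp_id _).trans (Category.id_comp _).symm
  · exact (Category.comp_id _).trans (Category.id_comp _).symm

/-- Change of the first leg by a 2-isomorphism. -/
def fpIsoFst {y y' : ℬ ⥤ᵇ 𝒴} (α : y ≅ y') (f : 𝒳 ⥤ᵇ 𝒴) : FibCat.fp y f ⥤ᵇ FibCat.fp y' f where
  toFunctor :=
    { obj := fun x => ⟨{ fst := x.obj.fst, snd := x.obj.snd,
                         iso := ((BasedNatTrans.forgetful _ _).mapIso α).symm.app x.obj.fst ≪≫ x.obj.iso },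
        @IsHomLift.comp_of_lift_id _ _ _ _ _ _ _ _ _ _ _
          (BasedNatTrans.isHomLift α.inv (a := x.obj.fst) rfl) x.property⟩
      map := fun {a b} φ => fpHom φ.hom.fst φ.hom.snd (by
        show y'.map φ.hom.fst ≫ α.inv.toNatTrans.app b.obj.fst ≫ b.obj.iso.hom =
          (α.inv.toNatTrans.app a.obj.fst ≫ a.obj.iso.hom) ≫ f.map φ.hom.snd
        rw [← Category.assoc, α.inv.toNatTrans.naturality, Category.assoc, φ.hom.w, Category.assoc])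
      map_id := fun _ => fp_hom_ext rfl rfl
      map_comp := fun _ _ => fp_hom_ext rfl rfl }
  w := rfl

theorem fpIsoFst_isEquivOver {y y' : ℬ ⥤ᵇ 𝒴} (α : y ≅ y') (f : 𝒳 ⥤ᵇ 𝒴) :
    FibCat.IsEquivOver (fpIsoFst α f) := by
  refine ⟨fpIsoFst α.symm f, ⟨BasedNatIso.mkNatIso (NatIso.ofComponents
    (fun x => ObjectProperty.isoMk _ (CategoricalPullback.mkIso (Iso.refl _) (Iso.refl _) ?_))
    (fun φ => fp_hom_ext ?_ ?_)) (fun x => fp_lift_of_fst _ _ (IsHomLift.id rfl))⟩,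
    ⟨BasedNatIso.mkNatIso (NatIso.ofComponents
    (fun x => ObjectProperty.isoMk _ (CategoricalPullback.mkIso (Iso.refl _) (Iso.refl _) ?_))
    (fun φ => fp_hom_ext ?_ ?_)) (fun x => fp_lift_of_fst _ _ (IsHomLift.id rfl))⟩⟩
  · have h : α.hom.toNatTrans.app x.obj.fst ≫ α.inv.toNatTrans.app x.obj.fst = 𝟙 _ :=
      congrArg (fun m => m.toNatTrans.app x.obj.fst) α.hom_inv_id
    show y.map (𝟙 _) ≫ x.obj.iso.hom =
      (α.hom.toNatTrans.app x.obj.fst ≫ α.inv.toNatTrans.app x.obj.fst ≫ x.obj.iso.hom) ≫ f.map (𝟙 _)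
    rw [y.toFunctor.map_id, f.toFunctor.map_id, ← Category.assoc (α.hom.toNatTrans.app x.obj.fst), h]
    simp
  · exact (Category.comp_id _).trans (Category.id_comp _).symm
  · exact (Category.comp_id _).trans (Category.id_comp _).symm
  · have h : α.inv.toNatTrans.app x.obj.fst ≫ α.hom.toNatTrans.app x.obj.fst = 𝟙 _ :=
      congrArg (fun m => m.toNatTrans.app x.obj.fst) α.inv_hom_id
    show y'.map (𝟙 _) ≫ x.obj.iso.hom =
      (α.inv.toNatTrans.app x.obj.fst ≫ α.hom.toNatTrans.app x.obj.fst ≫ x.obj.iso.hom) ≫ f.map (𝟙 _)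
    rw [y'.toFunctor.map_id, f.toFunctor.map_id, ← Category.assoc (α.inv.toNatTrans.app x.obj.fst), h]
    simp
  · exact (Category.comp_id _).trans (Category.id_comp _).symm
  · exact (Category.comp_id _).trans (Category.id_comp _).symm

theorem repWith_of_iso {P : MorphismProperty (Sp S)} {f f' : 𝒳 ⥤ᵇ 𝒴} (α : f ≅ f')
    (hf : AlgSt.RepByAlgSpWith P f) : AlgSt.RepByAlgSpWith P f' :=
  repWith_of_equiv (fun _ y => ⟨y, fpIsoSnd y α.symm, fpIsoSnd_isEquivOver y α.symm, rfl⟩) hf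

/-- Precomposition on the second leg. -/
def fpMapSnd (y : ℬ ⥤ᵇ 𝒴) (a : 𝒜 ⥤ᵇ 𝒳) (f : 𝒳 ⥤ᵇ 𝒴) :
    FibCat.fp y (BasedFunctor.comp a f) ⥤ᵇ FibCat.fp y f where
  toFunctor :=
    { obj := fun x => ⟨{ fst := x.obj.fst, snd := a.obj x.obj.snd, iso := x.obj.iso }, x.property⟩
      map := fun φ => fpHom φ.hom.fst (a.map φ.hom.snd) φ.hom.w
      map_id := fun _ => fp_hom_ext rfl (a.toFunctor.map_id _)
      map_comp := fun _ _ => fp_hom_ext rfl (a.toFunctor.map_comp _ _) }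
  w := rfl

theorem fpMapSnd_isEquivOver (y : ℬ ⥤ᵇ 𝒴) {a : 𝒜 ⥤ᵇ 𝒳} (ha : FibCat.IsEquivOver a) (f : 𝒳 ⥤ᵇ 𝒴) :
    FibCat.IsEquivOver (fpMapSnd y a f) := by
  obtain ⟨⟨_, _⟩, hes⟩ := (isEquivOver_iff a).1 ha
  have : (fpMapSnd y a f).toFunctor.Faithful := ⟨fun {s t} φ ψ h => fp_hom_ext
    (congrArg (fun k => k.hom.fst) h :) (a.toFunctor.map_injective (congrArg (fun k => k.hom.snd) h))⟩
  have : (fpMapSnd y a f).toFunctor.Full := ⟨fun {s t} θ => by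
    obtain ⟨r, hr⟩ := a.toFunctor.map_surjective θ.hom.snd
    exact ⟨fpHom θ.hom.fst r (show y.map θ.hom.fst ≫ t.obj.iso.hom = s.obj.iso.hom ≫ f.map (a.map r) by
      rw [hr]; exact θ.hom.w), fp_hom_ext rfl hr⟩⟩
  refine isEquivOver_of_essSurjOver _ fun η => ?_
  obtain ⟨q, ε, hε⟩ := hes η.obj.snd
  have hb : 𝒳.p.obj η.obj.snd = ℬ.p.obj η.obj.fst := fp_snd_proj η
  have h1 : 𝒳.p.IsHomLift (𝟙 (ℬ.p.obj η.obj.fst)) ε.hom := hb ▸ hε
  have h2 : 𝒴.p.IsHomLift (𝟙 (ℬ.p.obj η.obj.fst)) (f.map ε.inv) :=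
    (BasedFunctor.isHomLift_iff f _ _).2 (@IsHomLift.lift_id_inv _ _ _ _ 𝒳.p _ _ _ ε h1)
  let x : (FibCat.fp y (BasedFunctor.comp a f)).obj :=
    ⟨{ fst := η.obj.fst, snd := q, iso := η.obj.iso ≪≫ f.toFunctor.mapIso ε.symm },
      @IsHomLift.comp_of_lift_id _ _ _ _ _ _ _ _ _ _ _ η.property h2⟩
  refine ⟨x, ObjectProperty.isoMk _ (CategoricalPullback.mkIso (Iso.refl _) ε ?_),
    fp_lift_of_fst _ _ (IsHomLift.id rfl)⟩
  show y.map (𝟙 η.obj.fst) ≫ η.obj.iso.hom = (η.obj.iso.hom ≫ f.map ε.inv) ≫ f.map ε.hom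
  rw [y.toFunctor.map_id, Category.assoc, ← f.toFunctor.map_comp, ε.inv_hom_id, f.toFunctor.map_id]
  simp

/-- Postcomposition. -/
def fpPost (y : ℬ ⥤ᵇ 𝒴) (f : 𝒳 ⥤ᵇ 𝒴) (b : 𝒴 ⥤ᵇ 𝒵) :
    FibCat.fp y f ⥤ᵇ FibCat.fp (BasedFunctor.comp y b) (BasedFunctor.comp f b) where
  toFunctor :=
    { obj := fun x => ⟨{ fst := x.obj.fst, snd := x.obj.snd, iso := b.toFunctor.mapIso x.obj.iso },
        (BasedFunctor.isHomLift_iff b _ _).2 x.property⟩
      map := fun {s t} φ => fpHom φ.hom.fst φ.hom.snd (by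
        show b.map (y.map φ.hom.fst) ≫ b.map t.obj.iso.hom = b.map s.obj.iso.hom ≫ b.map (f.map φ.hom.snd)
        rw [← b.toFunctor.map_comp, φ.hom.w, b.toFunctor.map_comp])
      map_id := fun _ => fp_hom_ext rfl rfl
      map_comp := fun _ _ => fp_hom_ext rfl rfl }
  w := rfl

theorem fpPost_isEquivOver (y : ℬ ⥤ᵇ 𝒴) (f : 𝒳 ⥤ᵇ 𝒴) {b : 𝒴 ⥤ᵇ 𝒵} (hb : FibCat.IsEquivOver b) :
    FibCat.IsEquivOver (fpPost y f b) := by
  obtain ⟨⟨_, _⟩, -⟩ := (isEquivOver_iff b).1 hb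
  have : (fpPost y f b).toFunctor.Faithful := ⟨fun {s t} φ ψ h => fp_hom_ext
    (congrArg (fun k => k.hom.fst) h :) (congrArg (fun k => k.hom.snd) h :)⟩
  have : (fpPost y f b).toFunctor.Full := ⟨fun {s t} θ => ⟨fpHom θ.hom.fst θ.hom.snd
    (b.toFunctor.map_injective (by
      rw [b.toFunctor.map_comp, b.toFunctor.map_comp]; exact θ.hom.w)), fp_hom_ext rfl rfl⟩⟩
  refine isEquivOver_of_essSurjOver _ fun η => ?_
  obtain ⟨⟨u, v, i⟩, hi⟩ := η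
  let j : y.obj u ≅ f.obj v := b.toFunctor.preimageIso i
  have hj : b.toFunctor.mapIso j = i := by ext; simp [j]
  let x : (FibCat.fp y f).obj := ⟨{ fst := u, snd := v, iso := j },
    (BasedFunctor.isHomLift_iff b _ _).1 (by
      show 𝒵.p.IsHomLift _ (b.toFunctor.mapIso j).hom
      rw [hj]; exact hi)⟩
  refine ⟨x, ObjectProperty.isoMk _ (CategoricalPullback.mkIso (Iso.refl _) (Iso.refl _) ?_),
    fp_lift_of_fst _ _ (IsHomLift.id rfl)⟩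
  show b.map (y.map (𝟙 u)) ≫ i.hom = (b.toFunctor.mapIso j).hom ≫ b.map (f.map (𝟙 v))
  rw [hj, y.toFunctor.map_id, f.toFunctor.map_id, b.toFunctor.map_id, b.toFunctor.map_id]
  simp

theorem repWith_comp_equiv {P : MorphismProperty (Sp S)} {a : 𝒜 ⥤ᵇ 𝒳} (ha : FibCat.IsEquivOver a)
    {f : 𝒳 ⥤ᵇ 𝒴} : AlgSt.RepByAlgSpWith P (BasedFunctor.comp a f) ↔ AlgSt.RepByAlgSpWith P f := by
  constructor
  · exact repWith_of_equiv' (fun _ y => ⟨y, fpMapSnd y a f, fpMapSnd_isEquivOver y ha f, rfl⟩)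
  · exact repWith_of_equiv (fun _ y => ⟨y, fpMapSnd y a f, fpMapSnd_isEquivOver y ha f, rfl⟩)

theorem repWith_equiv_comp {P : MorphismProperty (Sp S)} {f : 𝒳 ⥤ᵇ 𝒴} {b : 𝒴 ⥤ᵇ 𝒵}
    (hb : FibCat.IsEquivOver b) :
    AlgSt.RepByAlgSpWith P (BasedFunctor.comp f b) ↔ AlgSt.RepByAlgSpWith P f := by
  constructor
  · exact repWith_of_equiv (fun _ y => ⟨_, fpPost y f b, fpPost_isEquivOver y f hb, rfl⟩)
  · refine fun h => repWith_of_equiv' (fun U y => ?_) h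
    obtain ⟨b', hb', -, ⟨γ⟩⟩ := isEquivOver_symm hb
    exact ⟨BasedFunctor.comp y b', BasedFunctor.comp (fpPost (BasedFunctor.comp y b') f b)
        (fpIsoFst (bWhiskerL y γ : BasedFunctor.comp (BasedFunctor.comp y b') b ≅ y) (BasedFunctor.comp f b)),
      isEquivOver_comp (fpPost_isEquivOver _ f hb) (fpIsoFst_isEquivOver _ _), rfl⟩

end Invariance

section Comp

variable (f : 𝒳 ⥤ᵇ 𝒴) (g : 𝒴 ⥤ᵇ 𝒵) (y : ℬ ⥤ᵇ 𝒵)

/-- Pasting for a composite. -/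
def fpAssoc : FibCat.fp (FibCat.fpSnd y g) f ⥤ᵇ FibCat.fp y (BasedFunctor.comp f g) where
  toFunctor :=
    { obj := fun x => ⟨{ fst := x.obj.fst.obj.fst, snd := x.obj.snd,
                         iso := x.obj.fst.obj.iso ≪≫ g.toFunctor.mapIso x.obj.iso },
        @IsHomLift.comp_of_lift_id _ _ _ _ _ _ _ _ _ _ _ x.obj.fst.property
          ((BasedFunctor.isHomLift_iff g _ _).2 x.property)⟩
      map := fun {a b} φ => fpHom φ.hom.fst.hom.fst φ.hom.snd (by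
        have w₁ : y.map φ.hom.fst.hom.fst ≫ b.obj.fst.obj.iso.hom =
            a.obj.fst.obj.iso.hom ≫ g.map φ.hom.fst.hom.snd := φ.hom.fst.hom.w
        have w₂ : φ.hom.fst.hom.snd ≫ b.obj.iso.hom = a.obj.iso.hom ≫ f.map φ.hom.snd := φ.hom.w
        show y.map φ.hom.fst.hom.fst ≫ b.obj.fst.obj.iso.hom ≫ g.map b.obj.iso.hom =
          (a.obj.fst.obj.iso.hom ≫ g.map a.obj.iso.hom) ≫ g.map (f.map φ.hom.snd)
        rw [← Category.assoc, w₁, Category.assoc, Category.assoc, ← g.toFunctor.map_comp, ← g.toFunctor.map_comp, w₂])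
      map_id := fun _ => fp_hom_ext rfl rfl
      map_comp := fun _ _ => fp_hom_ext rfl rfl }
  w := rfl

theorem fpAssoc_isEquivOver : FibCat.IsEquivOver (fpAssoc f g y) := by
  have : (fpAssoc f g y).toFunctor.Faithful := ⟨fun {a b} φ ψ h => by
    have h1 : φ.hom.fst.hom.fst = ψ.hom.fst.hom.fst := congrArg (fun m => m.hom.fst) h
    have h2 : φ.hom.snd = ψ.hom.snd := congrArg (fun m => m.hom.snd) h
    refine fp_hom_ext (fp_hom_ext h1 ?_) h2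
    rw [← cancel_mono b.obj.iso.hom]
    exact φ.hom.w.trans ((congrArg (fun m => a.obj.iso.hom ≫ f.map m) h2).trans ψ.hom.w.symm)⟩
  have : (fpAssoc f g y).toFunctor.Full := ⟨fun {a b} m => by
    have w : y.map m.hom.fst ≫ b.obj.fst.obj.iso.hom ≫ g.map b.obj.iso.hom =
        (a.obj.fst.obj.iso.hom ≫ g.map a.obj.iso.hom) ≫ g.map (f.map m.hom.snd) := m.hom.w
    let t : a.obj.fst.obj.snd ⟶ b.obj.fst.obj.snd := a.obj.iso.hom ≫ f.map m.hom.snd ≫ b.obj.iso.inv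
    have hinv : g.map b.obj.iso.hom ≫ g.map b.obj.iso.inv = 𝟙 _ :=
      (g.toFunctor.map_comp _ _).symm.trans
        ((congrArg g.map b.obj.iso.hom_inv_id).trans (g.toFunctor.map_id _))
    have ht : y.map m.hom.fst ≫ b.obj.fst.obj.iso.hom = a.obj.fst.obj.iso.hom ≫ g.map t := by
      simp only [t, g.toFunctor.map_comp]
      calc y.map m.hom.fst ≫ b.obj.fst.obj.iso.hom
          = (y.map m.hom.fst ≫ b.obj.fst.obj.iso.hom ≫ g.map b.obj.iso.hom) ≫ g.map b.obj.iso.inv := by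
            rw [Category.assoc, Category.assoc, hinv]
            exact congrArg (_ ≫ ·) (Category.comp_id _).symm
        _ = _ := by rw [w]; simp only [Category.assoc]
    refine ⟨fpHom (fpHom m.hom.fst t ht) m.hom.snd ?_, fp_hom_ext rfl rfl⟩
    show t ≫ b.obj.iso.hom = a.obj.iso.hom ≫ f.map m.hom.snd
    simp [t]⟩
  refine isEquivOver_of_essSurjOver _ fun x => ?_
  obtain ⟨⟨u, v, i⟩, hi⟩ := x
  have hv : 𝒳.p.obj v = ℬ.p.obj u := fp_snd_proj (⟨⟨u, v, i⟩, hi⟩ : (FibCat.fp y (BasedFunctor.comp f g)).obj)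
  let w : (FibCat.fp y g).obj := ⟨{ fst := u, snd := f.obj v, iso := i }, hi⟩
  let a : (FibCat.fp (FibCat.fpSnd y g) f).obj :=
    ⟨{ fst := w, snd := v, iso := Iso.refl _ }, IsHomLift.id ((f.w_obj v).trans hv)⟩
  have hg : i.hom ≫ g.map (𝟙 (f.obj v)) = i.hom :=
    (congrArg (i.hom ≫ ·) (g.toFunctor.map_id _)).trans (Category.comp_id _)
  refine ⟨a, ⟨fpHom (𝟙 u) (𝟙 v) ?_, fpHom (𝟙 u) (𝟙 v) ?_, fp_hom_ext (Category.comp_id _) (Category.comp_id _),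
    fp_hom_ext (Category.comp_id _) (Category.comp_id _)⟩, fp_lift_of_fst _ _ (IsHomLift.id rfl)⟩
  · show y.map (𝟙 u) ≫ i.hom = (i.hom ≫ g.map (𝟙 (f.obj v))) ≫ g.map (f.map (𝟙 v))
    rw [hg, y.toFunctor.map_id, f.toFunctor.map_id, Category.id_comp, hg]
  · show y.map (𝟙 u) ≫ i.hom ≫ g.map (𝟙 (f.obj v)) = i.hom ≫ g.map (f.map (𝟙 v))
    rw [hg, y.toFunctor.map_id, f.toFunctor.map_id, Category.id_comp, hg]

/-- Fibre product with an algebraic space. -/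
theorem repByAlgSp_fp (h𝒳 : FibCat.IsFibGrpd 𝒳.p) (h𝒴 : FibCat.IsFibGrpd 𝒴.p) {f : 𝒳 ⥤ᵇ 𝒴}
    (hf : AlgSt.RepByAlgSp1 f) {g : 𝒜 ⥤ᵇ 𝒴} (hA : AlgSt.RepByAlgSp 𝒜) :
    AlgSt.RepByAlgSp (FibCat.fp g f) := by
  obtain ⟨F, ε, hε⟩ := hA
  obtain ⟨G, e, he, -⟩ := exists_rep_along (BasedFunctor.comp ε g) f h𝒳 h𝒴 hf F.property
  exact ⟨G, _, isEquivOver_comp he (fpMapFst_isEquivOver ε g f hε)⟩

/-- `P` passes to base changes of representable morphisms along algebraic spaces. -/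
theorem exists_rep_along_local {P : MorphismProperty (Sp S)} (hP : IsLocalOnBase IsFppfCover P)
    (h𝒳 : FibCat.IsFibGrpd 𝒳.p) (h𝒴 : FibCat.IsFibGrpd 𝒴.p) {f : 𝒳 ⥤ᵇ 𝒴} (hf : AlgSt.RepByAlgSpWith P f)
    (F : AlgSp.Space S) (z : AlgSt.ofSp F.obj ⥤ᵇ 𝒴) :
    ∃ (G : AlgSp.Space S) (e : AlgSt.ofSp G.obj ⥤ᵇ FibCat.fp z f), FibCat.IsEquivOver e ∧
      P (spMapOf (BasedFunctor.comp e (FibCat.fpFst z f))) := by
  obtain ⟨G, e, he, hfib⟩ := exists_rep_along z f h𝒳 h𝒴 (rep1_of_with hf) F.property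
  refine ⟨G, e, he, ?_⟩
  obtain ⟨U, r, hr, hrs⟩ := F.property.atlas
  obtain ⟨H, c, π, hπ, sq⟩ := hfib P hf U ((J S).uliftYonedaEquiv.{u + 1} r)
  rw [Equiv.symm_apply_apply] at sq
  have hcov : IsFppfCover (fun _ : PUnit.{u + 1} => (yon S).obj U) (fun _ => r) := by
    refine ⟨fun _ => ⟨locP_of_repWith hr (fun _ _ _ k m hk hm => ?_), locP_of_repWith hr (fun _ _ _ k m hk hm => ?_)⟩,
      fun x => ⟨⟨⟩, surjective_map_of_repWith hrs x⟩⟩
    · have : Etale k := hk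
      have : Etale m := hm
      infer_instance
    · have : Etale k := hk
      have : Etale m := hm
      infer_instance
  exact (hP (fun _ : PUnit.{u + 1} => (yon S).obj U) (fun _ => r) F.property (fun _ => IsAlgSpace.yon_obj U) hcov
    _ G.property (fun _ => H.obj) (fun _ => π) (fun _ => c) (fun _ => H.property) (fun _ => sq)).2 (fun _ => hπ)

/-- Composition. -/
theorem repWith_comp_stk {P : MorphismProperty (Sp S)}
    (hPc : ∀ ⦃X Y Z : Sp S⦄, IsAlgSpace X → IsAlgSpace Y → IsAlgSpace Z →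
      ∀ (a : X ⟶ Y) (b : Y ⟶ Z), P a → P b → P (a ≫ b))
    (hP : IsLocalOnBase IsFppfCover P)
    (h𝒳 : FibCat.IsFibGrpd 𝒳.p) (h𝒴 : FibCat.IsFibGrpd 𝒴.p) {f : 𝒳 ⥤ᵇ 𝒴} {g : 𝒴 ⥤ᵇ 𝒵}
    (hf : AlgSt.RepByAlgSpWith P f) (hg : AlgSt.RepByAlgSpWith P g) :
    AlgSt.RepByAlgSpWith P (BasedFunctor.comp f g) := by
  intro U y
  obtain ⟨F, e, he, hm⟩ := hg U y
  obtain ⟨G, e', he', hm'⟩ := exists_rep_along_local hP h𝒳 h𝒴 hf F (BasedFunctor.comp e (FibCat.fpSnd y g))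
  refine ⟨G, BasedFunctor.comp e' (BasedFunctor.comp (fpMapFst e (FibCat.fpSnd y g) f) (fpAssoc f g y)),
    isEquivOver_comp he' (isEquivOver_comp (fpMapFst_isEquivOver _ _ _ he) (fpAssoc_isEquivOver f g y)), ?_⟩
  have := hPc G.property F.property (IsAlgSpace.yon_obj U) _ _ hm' hm
  rw [← spMapOfOver_comp] at this
  exact this

theorem repByAlgSp1_comp (h𝒳 : FibCat.IsFibGrpd 𝒳.p) (h𝒴 : FibCat.IsFibGrpd 𝒴.p) {f : 𝒳 ⥤ᵇ 𝒴} {g : 𝒴 ⥤ᵇ 𝒵}
    (hf : AlgSt.RepByAlgSp1 f) (hg : AlgSt.RepByAlgSp1 g) : AlgSt.RepByAlgSp1 (BasedFunctor.comp f g) :=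
  rep1_iff.2 (repWith_comp_stk (fun _ _ _ _ _ _ _ _ _ _ => trivial)
    (fun _ _ _ _ _ _ _ _ _ _ _ _ _ _ _ => iff_of_true trivial fun _ => trivial) h𝒳 h𝒴 (rep1_iff.1 hf) (rep1_iff.1 hg))

end Comp

end Groth.Agent.AlgStLib
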