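import Groth.Agent.AlgStLib.DescendLocal
import Groth.Agent.AlgStLib.RepAlong
import Groth.Prelude.Def_AlgSpRep
import Mathlib

/-!
Representability of a map of presheaves and of the map of associated categories.
-/

set_option autoImplicit false
set_option backward.isDefEq.respectTransparency false
set_option backward.isDefEq.respectTransparency.types false

universe u

open CategoryTheory CategoryTheory.Limits CategoryTheory.Functor AlgebraicGeometry Opposite AlgSp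

namespace Groth.Agent.AlgStLib

open Groth.Agent Groth.Agent.FibBasics Groth.Agent.AlgSpLib

variable {S : Scheme.{u}} {F G : PSp S} {a : F ⟶ G}

/-- A test object of `G`, as a map of presheaves. -/
theorem exists_test (U : Over S) (y : FibCat.overCat U ⥤ᵇ Stk.ofPsh G) :
    ∃ ξ : ((yon S).obj U).obj ⟶ G, Nonempty (y ≅ BasedFunctor.comp (AlgSt.ofOverCat U) (Stk.ofPshMap ξ)) :=
  ⟨pshMapOf (BasedFunctor.comp (AlgSt.toOverCat U) y),
    ⟨(eqToIso (based_ext rfl) : y ≅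
      BasedFunctor.comp (AlgSt.ofOverCat U) (BasedFunctor.comp (AlgSt.toOverCat U) y)) ≪≫
      bWhiskerL (AlgSt.ofOverCat U) (ofPshMapIso _)⟩⟩

/-- The fibre product of categories of a pullback square. -/
theorem exists_equiv_of_square {U : Over S} {ξ : ((yon S).obj U).obj ⟶ G} {F' : PSp S} {fst : F' ⟶ F}
    {snd : F' ⟶ ((yon S).obj U).obj} (sq : IsPullback fst snd a ξ) :
    ∃ E : Stk.ofPsh F' ⥤ᵇ FibCat.fp (BasedFunctor.comp (AlgSt.ofOverCat U) (Stk.ofPshMap ξ)) (Stk.ofPshMap a),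
      FibCat.IsEquivOver E ∧
      Nonempty (BasedFunctor.comp (BasedFunctor.comp E (FibCat.fpFst _ _)) (AlgSt.ofOverCat U) ≅
        Stk.ofPshMap snd) := by
  obtain ⟨M, hM, -, ⟨εM⟩⟩ :=
    isEquivOver_symm (fpMapFst_isEquivOver (AlgSt.ofOverCat U) (Stk.ofPshMap ξ) (Stk.ofPshMap a)
      (ofOverCat_isEquivOver U))
  exact ⟨BasedFunctor.comp (sqFun sq.flip.w) M, isEquivOver_comp (sqFun_isEquivOver sq.flip) hM,
    ⟨bWhiskerR (bWhiskerL (sqFun sq.flip.w) εM) (FibCat.fpFst (Stk.ofPshMap ξ) (Stk.ofPshMap a))⟩⟩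

theorem pshMapOf_iso {P P' : PSp S} {Φ Ψ : Stk.ofPsh P ⥤ᵇ Stk.ofPsh P'} (α : Φ ≅ Ψ) : pshMapOf Φ = pshMapOf Ψ :=
  pshMapOf_congr fun a => ⟨α.hom.toNatTrans.app a, α.hom.isHomLift' a⟩

/-- Presheaves with equivalent categories of elements are isomorphic. -/
theorem exists_iso_of_equiv {𝒱 : AlgSt.Cat S} {P P' : PSp S} {e : Stk.ofPsh P ⥤ᵇ 𝒱} {e' : Stk.ofPsh P' ⥤ᵇ 𝒱}
    (he : FibCat.IsEquivOver e) (he' : FibCat.IsEquivOver e') {Q : PSp S} (p : 𝒱 ⥤ᵇ Stk.ofPsh Q) :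
    ∃ i : P ≅ P', i.hom ≫ pshMapOf (BasedFunctor.comp e' p) = pshMapOf (BasedFunctor.comp e p) := by
  obtain ⟨L, hL, ⟨η⟩, ⟨ε⟩⟩ := isEquivOver_symm he
  obtain ⟨L', hL', ⟨η'⟩, ⟨ε'⟩⟩ := isEquivOver_symm he'
  refine ⟨
    { hom := pshMapOf (BasedFunctor.comp e L')
      inv := pshMapOf (BasedFunctor.comp e' L)
      hom_inv_id := (pshMapOf_comp _ _).symm.trans
        ((pshMapOf_iso (bWhiskerR (bWhiskerL e ε') L ≪≫ η)).trans ?_)
      inv_hom_id := (pshMapOf_comp _ _).symm.trans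
        ((pshMapOf_iso (bWhiskerR (bWhiskerL e' ε) L' ≪≫ η')).trans ?_) },
    (pshMapOf_comp _ _).symm.trans (pshMapOf_iso (bWhiskerR (bWhiskerL e ε') p))⟩
  · exact (pshMapOf_iso (eqToIso (based_ext rfl) : BasedFunctor.id _ ≅ Stk.ofPshMap (𝟙 P))).trans
      (pshMapOf_ofPshMap _)
  · exact (pshMapOf_iso (eqToIso (based_ext rfl) : BasedFunctor.id _ ≅ Stk.ofPshMap (𝟙 P'))).trans
      (pshMapOf_ofPshMap _)

theorem repBySp_iff_rep1 : RepBySp a ↔ AlgSt.RepByAlgSp1 (Stk.ofPshMap a) := by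
  constructor
  · intro h U y
    obtain ⟨ξ, ⟨α⟩⟩ := exists_test U y
    obtain ⟨E, hE, -⟩ := exists_equiv_of_square (IsPullback.of_hasPullback a ξ)
    obtain ⟨hs, hF⟩ := h ξ _ _ (IsPullback.of_hasPullback a ξ)
    exact ⟨⟨⟨_, hs⟩, hF⟩, BasedFunctor.comp E (fpIsoFst α.symm _),
      isEquivOver_comp hE (fpIsoFst_isEquivOver α.symm _)⟩
  · intro h U ξ F' fst snd sq
    obtain ⟨H, e, he⟩ := h U (BasedFunctor.comp (AlgSt.ofOverCat U) (Stk.ofPshMap ξ))
    obtain ⟨E, hE, -⟩ := exists_equiv_of_square sq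
    obtain ⟨i, -⟩ := exists_iso_of_equiv he hE (BasedFunctor.comp (FibCat.fpFst _ _) (AlgSt.ofOverCat U))
    exact IsAlgSpaceP.of_iso ((isAlgSpaceP_obj_iff H.obj).2 H.property) i

theorem repBySpWith_iff_repWith (Q : MorphismProperty (Sp S)) [Q.RespectsIso] :
    RepBySpWith Q a ↔ AlgSt.RepByAlgSpWith Q (Stk.ofPshMap a) := by
  constructor
  · intro h U y
    obtain ⟨ξ, ⟨α⟩⟩ := exists_test U y
    obtain ⟨E, hE, ⟨ε⟩⟩ := exists_equiv_of_square (IsPullback.of_hasPullback a ξ)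
    obtain ⟨hs, hF, hQ⟩ := h ξ _ _ (IsPullback.of_hasPullback a ξ)
    let F₀ : AlgSp.Space S := ⟨⟨_, hs⟩, hF⟩
    let e : AlgSt.ofSp F₀.obj ⥤ᵇ FibCat.fp y (Stk.ofPshMap a) := BasedFunctor.comp E (fpIsoFst α.symm _)
    refine ⟨F₀, e, isEquivOver_comp hE (fpIsoFst_isEquivOver α.symm _), ?_⟩
    have key : AlgSt.spMapOfOver (BasedFunctor.comp e (FibCat.fpFst y (Stk.ofPshMap a))) =
        (ObjectProperty.homMk (pullback.snd a ξ) : F₀.obj ⟶ (yon S).obj U) := by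
      rw [← spMapOf_ofOverCat]
      exact ObjectProperty.hom_ext _ ((pshMapOf_iso
        ((eqToIso (based_ext rfl) : BasedFunctor.comp (BasedFunctor.comp e (FibCat.fpFst y (Stk.ofPshMap a)))
          (AlgSt.ofOverCat U) ≅ BasedFunctor.comp (BasedFunctor.comp E (FibCat.fpFst _ _)) (AlgSt.ofOverCat U)) ≪≫
            ε)).trans (pshMapOf_ofPshMap _))
    rw [key]
    exact hQ
  · intro h U ξ F' fst snd sq
    obtain ⟨H, e, he, hQ⟩ := h U (BasedFunctor.comp (AlgSt.ofOverCat U) (Stk.ofPshMap ξ))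
    obtain ⟨E, hE, ⟨ε⟩⟩ := exists_equiv_of_square sq
    obtain ⟨i, hi⟩ := exists_iso_of_equiv hE he (BasedFunctor.comp (FibCat.fpFst _ _) (AlgSt.ofOverCat U))
    have hi' : i.hom ≫ (AlgSt.spMapOfOver (BasedFunctor.comp e (FibCat.fpFst _ _))).hom = snd := by
      rw [← spMapOf_ofOverCat]
      exact hi.trans ((pshMapOf_iso ε).trans (pshMapOf_ofPshMap _))
    have hs : Presheaf.IsSheaf (J S) F' := (Presheaf.isSheaf_of_iso_iff i).2 H.obj.property
    let j : (⟨F', hs⟩ : Sp S) ≅ H.obj :=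
      (fullyFaithfulSheafToPresheaf (J S) _).preimageIso (X := (⟨F', hs⟩ : Sp S)) (Y := H.obj) i
    refine ⟨hs, H.property.of_iso j.symm, ?_⟩
    have : (ObjectProperty.homMk snd : (⟨F', hs⟩ : Sp S) ⟶ (yon S).obj U) =
        j.hom ≫ AlgSt.spMapOfOver (BasedFunctor.comp e (FibCat.fpFst _ _)) :=
      ObjectProperty.hom_ext _ hi'.symm
    rw [this]
    exact (Q.cancel_left_of_respectsIso j.hom _).2 hQ

end Groth.Agent.AlgStLib
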