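import Groth.Agent.AlgStLib.PshPullback
import Groth.Agent.AlgStLib.LocalProps
import Groth.Agent.AlgStLib.LinesInv
import Groth.Agent.FibBasics.Gerbe
import Mathlib

/-!
Representable morphisms and stacks.
-/

set_option autoImplicit false
set_option backward.isDefEq.respectTransparency false
set_option backward.isDefEq.respectTransparency.types false

universe u

open CategoryTheory CategoryTheory.Limits CategoryTheory.Functor AlgebraicGeometry Opposite AlgSp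

namespace Groth.Agent.AlgStLib

open Groth.Agent Groth.Agent.FibBasics Groth.Agent.AlgSpLib

variable {S : Scheme.{u}} {𝒳 𝒴 𝒵 : AlgSt.Cat S}

section Spaces

theorem toOverCat_isEquivOver (U : Over S) : FibCat.IsEquivOver (AlgSt.toOverCat U) :=
  ⟨AlgSt.ofOverCat U, ⟨Iso.refl _⟩, ⟨Iso.refl _⟩⟩

theorem ofOverCat_isEquivOver (U : Over S) : FibCat.IsEquivOver (AlgSt.ofOverCat U) :=
  ⟨AlgSt.toOverCat U, ⟨Iso.refl _⟩, ⟨Iso.refl _⟩⟩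

theorem repByAlgSp_overCat (U : Over S) : AlgSt.RepByAlgSp (FibCat.overCat U) :=
  ⟨⟨_, IsAlgSpace.yon_obj U⟩, AlgSt.toOverCat U, toOverCat_isEquivOver U⟩

theorem repByAlgSp1_ofSp {F G : AlgSp.Space S} (Φ : AlgSt.ofSp F.obj ⥤ᵇ AlgSt.ofSp G.obj) :
    AlgSt.RepByAlgSp1 Φ := by
  intro U y
  let y' : AlgSt.ofSp ((yon S).obj U) ⥤ᵇ AlgSt.ofSp G.obj := BasedFunctor.comp (AlgSt.toOverCat U) y
  let c : (yon S).obj U ⟶ G.obj := spMapOf y'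
  let b : F.obj ⟶ G.obj := spMapOf Φ
  let P : AlgSp.Space S := ⟨pullback c b, isAlgSpace_pullback c b (IsAlgSpace.yon_obj U) F.property G.property⟩
  have sq : IsPullback (pullback.fst c b).hom (pullback.snd c b).hom (pshMapOf y') (pshMapOf Φ) :=
    (IsPullback.of_hasPullback c b).map (sheafToPresheaf (J S) (Type (u + 1)))
  exact ⟨P, BasedFunctor.comp (sqFun sq.w) (BasedFunctor.comp (fpIsoFst (ofPshMapIso y').symm _)
      (BasedFunctor.comp (fpIsoSnd y' (ofPshMapIso Φ).symm) (fpMapFst (AlgSt.toOverCat U) y Φ))),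
    isEquivOver_comp (sqFun_isEquivOver sq) (isEquivOver_comp (fpIsoFst_isEquivOver _ _)
      (isEquivOver_comp (fpIsoSnd_isEquivOver _ _) (fpMapFst_isEquivOver _ _ _ (toOverCat_isEquivOver U))))⟩

theorem repByAlgSp1_of_repByAlgSp (hX : AlgSt.RepByAlgSp 𝒳) (hY : AlgSt.RepByAlgSp 𝒴) (f : 𝒳 ⥤ᵇ 𝒴) :
    AlgSt.RepByAlgSp1 f := by
  obtain ⟨A, a, ha⟩ := hX
  obtain ⟨B, b, hb⟩ := hY
  obtain ⟨b', -, -, ⟨β⟩⟩ := isEquivOver_symm hb
  have h := rep1_iff.1 (repByAlgSp1_ofSp (F := A) (G := B) (BasedFunctor.comp (BasedFunctor.comp a f) b'))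
  have h' := repWith_of_iso (bWhiskerL (BasedFunctor.comp a f) β :
    BasedFunctor.comp (BasedFunctor.comp (BasedFunctor.comp a f) b') b ≅ BasedFunctor.comp a f)
    ((repWith_equiv_comp hb).2 h)
  exact rep1_iff.2 ((repWith_comp_equiv ha).1 h')

theorem repByAlgSp_of_equiv {F : 𝒳 ⥤ᵇ 𝒴} (hF : FibCat.IsEquivOver F) (h : AlgSt.RepByAlgSp 𝒳) :
    AlgSt.RepByAlgSp 𝒴 := by
  obtain ⟨A, a, ha⟩ := h
  exact ⟨A, _, isEquivOver_comp ha hF⟩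

theorem repByAlgSp_of_equiv' {F : 𝒳 ⥤ᵇ 𝒴} (hF : FibCat.IsEquivOver F) (h : AlgSt.RepByAlgSp 𝒴) :
    AlgSt.RepByAlgSp 𝒳 := by
  obtain ⟨L, hL, -⟩ := isEquivOver_symm hF
  exact repByAlgSp_of_equiv hL h

theorem repByAlgSp_slice_prod (V U : Over S) :
    AlgSt.RepByAlgSp (FibCat.fp (FibCat.toSelf (FibCat.overCat V)) (FibCat.toSelf (FibCat.overCat U))) := by
  obtain ⟨W, F, hF⟩ := isRepresentable_slice_prod V U
  exact repByAlgSp_of_equiv' hF (repByAlgSp_overCat W)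

end Spaces

theorem fp_iso_lift {𝒜 ℬ 𝒮 : BasedCategory.{u, u + 1} (Over S)} {F : 𝒜 ⥤ᵇ 𝒮} {G : ℬ ⥤ᵇ 𝒮}
    (x : (FibCat.fp F G).obj) {R : Over S} (h : 𝒜.p.obj x.obj.fst = R) :
    𝒮.p.IsHomLift (𝟙 R) x.obj.iso.hom := by
  subst h; exact x.property

section Diag

theorem rep_slices_of_diag (h : FibCat.IsFibGrpd 𝒳.p) (hΔ : AlgSt.RepByAlgSp1 (FibCat.diag (FibCat.toSelf 𝒳)))
    (U : Over S) (x : FibCat.overCat U ⥤ᵇ 𝒳) : AlgSt.RepByAlgSp1 x := by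
  intro V y
  have hW : AlgSt.RepByAlgSp (FibCat.fp (BasedFunctor.comp y (FibCat.toSelf 𝒳))
      (BasedFunctor.comp x (FibCat.toSelf 𝒳))) := by
    rw [comp_toSelf, comp_toSelf]
    exact repByAlgSp_slice_prod V U
  exact repByAlgSp_of_equiv' (magic_isEquivOver y x (FibCat.toSelf 𝒳))
    (repByAlgSp_fp h (fp_isFibGrpd h h isFibGrpd_selfOver) hΔ hW)

variable {U : Over S} (Y : FibCat.overCat U ⥤ᵇ FibCat.fp (FibCat.toSelf 𝒳) (FibCat.toSelf 𝒳))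

/-- The two projections of the pairs of points, as a point of the product. -/
noncomputable def pairProj : FibCat.fp (BasedFunctor.comp Y (FibCat.fpFst _ _)) (BasedFunctor.comp Y (FibCat.fpSnd _ _)) ⥤ᵇ
    FibCat.fp (FibCat.toSelf (FibCat.overCat U)) (FibCat.toSelf (FibCat.overCat U)) :=
  FibCat.fpLift (FibCat.fpFst _ _) (FibCat.fpSnd _ _) (eqToIso (by rw [comp_toSelf, comp_toSelf]))

theorem repByAlgSp1_diag_of_slices (h : FibCat.IsFibGrpd 𝒳.p)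
    (hs : ∀ (U : Over S) (x : FibCat.overCat U ⥤ᵇ 𝒳), AlgSt.RepByAlgSp1 x) :
    AlgSt.RepByAlgSp1 (FibCat.diag (FibCat.toSelf 𝒳)) := by
  intro U Y
  have hG : AlgSt.RepByAlgSp (FibCat.fp (BasedFunctor.comp Y (FibCat.fpFst _ _))
      (BasedFunctor.comp Y (FibCat.fpSnd _ _))) := hs U _ U _
  let q := pairProj Y
  let D : FibCat.overCat U ⥤ᵇ FibCat.fp (FibCat.toSelf (FibCat.overCat U)) (FibCat.toSelf (FibCat.overCat U)) :=
    FibCat.diag (FibCat.toSelf (FibCat.overCat U))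
  have hq : AlgSt.RepByAlgSp1 q := repByAlgSp1_of_repByAlgSp hG (repByAlgSp_slice_prod U U) q
  let ι : ∀ x : (FibCat.fp Y (FibCat.diag (FibCat.toSelf 𝒳))).obj, D.obj x.obj.fst ≅ q.obj ((diagToPair Y).obj x) :=
    fun x => ObjectProperty.isoMk _ (CategoricalPullback.mkIso (Iso.refl _) (Iso.refl _) (by
      refine @self_hom_ext _ _ x.obj.fst.left x.obj.fst.left (𝟙 x.obj.fst.left) _ _ _ _ ?_ ?_
      · exact @IsHomLift.comp_of_lift_id _ _ _ _ _ _ _ _ _ _ _ (IsHomLift.map (𝟭 (Over S)) (𝟙 x.obj.fst.left))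
          (q.obj ((diagToPair Y).obj x)).property
      · exact @IsHomLift.comp_of_lift_id _ _ _ _ _ _ _ _ _ _ _ (D.obj x.obj.fst).property
          (IsHomLift.map (𝟭 (Over S)) (𝟙 x.obj.fst.left))))
  let K₀ : (FibCat.fp Y (FibCat.diag (FibCat.toSelf 𝒳))).obj ⥤ (FibCat.fp D q).obj :=
    { obj := fun x => ⟨{ fst := x.obj.fst, snd := (diagToPair Y).obj x, iso := ι x },
        fp_lift_of_fst _ _ (IsHomLift.id rfl)⟩
      map := fun {a b} φ => fpHom φ.hom.fst ((diagToPair Y).map φ) (fp_hom_ext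
        ((Category.comp_id _).trans (Category.id_comp _).symm)
        ((Category.comp_id _).trans (Category.id_comp _).symm))
      map_id := fun _ => fp_hom_ext rfl ((diagToPair Y).toFunctor.map_id _)
      map_comp := fun _ _ => fp_hom_ext rfl ((diagToPair Y).toFunctor.map_comp _ _) }
  let K : FibCat.fp Y (FibCat.diag (FibCat.toSelf 𝒳)) ⥤ᵇ FibCat.fp D q := { toFunctor := K₀, w := rfl }
  have : K.toFunctor.Faithful := ⟨fun {a b} φ ψ e => diagToPair_injective Y φ ψ (congrArg (fun m => m.hom.fst) e :)⟩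
  have : K.toFunctor.Full := ⟨fun {a b} m => by
    obtain ⟨φ, hφ⟩ := diagToPair_surjective Y m.hom.snd
    have e1 : m.hom.fst ≫ 𝟙 _ = 𝟙 _ ≫ m.hom.snd.hom.fst := congrArg (fun k => k.hom.fst) m.hom.w
    rw [Category.comp_id, Category.id_comp] at e1
    exact ⟨φ, fp_hom_ext ((congrArg (fun k => k.hom.fst) hφ).trans e1.symm) hφ⟩⟩
  refine repByAlgSp_of_equiv' (isEquivOver_of_essSurjOver K fun z => ?_)
    (repByAlgSp_fp (fp_isFibGrpd (isFibGrpd_overForget U) (isFibGrpd_overForget U) h)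
      (fp_isFibGrpd (isFibGrpd_overForget U) (isFibGrpd_overForget U) isFibGrpd_selfOver) hq (repByAlgSp_overCat U))
  obtain ⟨⟨t, ⟨⟨t₁, t₂, i⟩, hi⟩, κ⟩, hκ⟩ := z
  let a := BasedFunctor.comp Y (FibCat.fpFst (FibCat.toSelf 𝒳) (FibCat.toSelf 𝒳))
  let b := BasedFunctor.comp Y (FibCat.fpSnd (FibCat.toSelf 𝒳) (FibCat.toSelf 𝒳))
  let κ₁ : t ≅ t₁ := ⟨κ.hom.hom.fst, κ.inv.hom.fst, congrArg (fun m => m.hom.fst) κ.hom_inv_id,
    congrArg (fun m => m.hom.fst) κ.inv_hom_id⟩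
  let κ₂ : t ≅ t₂ := ⟨κ.hom.hom.snd, κ.inv.hom.snd, congrArg (fun m => m.hom.snd) κ.hom_inv_id,
    congrArg (fun m => m.hom.snd) κ.inv_hom_id⟩
  have hκ₁ : (FibCat.overCat U).p.IsHomLift (𝟙 t.left) κ₁.hom :=
    @fp_lift_fst _ _ _ _ _ _ _ _ _ _ _ (𝟙 _) κ.hom hκ
  have hκ₂ : (FibCat.overCat U).p.IsHomLift (𝟙 t.left) κ₂.hom :=
    @fp_lift_snd _ _ _ _ _ _ _ _ _ _ _ (𝟙 _) κ.hom hκ
  have ht : t₁.left = t.left := @IsHomLift.codomain_eq _ _ _ _ (FibCat.overCat U).p _ _ _ _ _ κ₁.hom hκ₁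
  let j : b.obj t ≅ a.obj t := b.toFunctor.mapIso κ₂ ≪≫ i.symm ≪≫ (a.toFunctor.mapIso κ₁).symm
  have hj : 𝒳.p.IsHomLift (𝟙 t.left) j.hom := by
    have h1 : 𝒳.p.IsHomLift (𝟙 t.left) (b.map κ₂.hom) := (BasedFunctor.isHomLift_iff b _ _).2 hκ₂
    have hi' : 𝒳.p.IsHomLift (𝟙 t.left) i.hom := ht ▸ hi
    have h2 : 𝒳.p.IsHomLift (𝟙 t.left) i.inv := @IsHomLift.lift_id_inv _ _ _ _ 𝒳.p _ _ _ i hi'
    have h3 : 𝒳.p.IsHomLift (𝟙 t.left) (a.map κ₁.inv) :=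
      (BasedFunctor.isHomLift_iff a _ _).2 (@IsHomLift.lift_id_inv _ _ _ _ _ _ _ _ κ₁ hκ₁)
    exact @IsHomLift.comp_of_lift_id _ _ _ _ _ _ _ _ _ _ _ h1 (@IsHomLift.comp_of_lift_id _ _ _ _ _ _ _ _ _ _ _ h2 h3)
  let Δη := (FibCat.diag (FibCat.toSelf 𝒳)).obj (a.obj t)
  let τ : Y.obj t ≅ Δη := ObjectProperty.isoMk _ (CategoricalPullback.mkIso (Iso.refl _) j (by
    refine @self_hom_ext _ _ t.left t.left (𝟙 t.left) _ _ _ _ ?_ ?_
    · exact @IsHomLift.comp_of_lift_id _ _ _ _ _ _ _ _ _ _ _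
        ((BasedFunctor.isHomLift_iff (FibCat.toSelf 𝒳) _ _).2 (IsHomLift.id (a.w_obj t)))
        (fp_iso_lift Δη (a.w_obj t))
    · exact @IsHomLift.comp_of_lift_id _ _ _ _ _ _ _ _ _ _ _ (fp_iso_lift (Y.obj t) (a.w_obj t))
        ((BasedFunctor.isHomLift_iff (FibCat.toSelf 𝒳) _ _).2 hj)))
  let x : (FibCat.fp Y (FibCat.diag (FibCat.toSelf 𝒳))).obj :=
    ⟨{ fst := t, snd := a.obj t, iso := τ }, fp_lift_of_fst _ _ (IsHomLift.id (a.w_obj t))⟩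
  let P := FibCat.fp a b
  let θ : ((diagToPair Y).obj x) ≅ (⟨⟨t₁, t₂, i⟩, hi⟩ : P.obj) :=
    ObjectProperty.isoMk _ (CategoricalPullback.mkIso κ₁ κ₂ (by
      show a.map κ₁.hom ≫ i.hom = (𝟙 _ ≫ j.inv) ≫ b.map κ₂.hom
      simp [j]))
  refine ⟨x, ObjectProperty.isoMk _ (CategoricalPullback.mkIso (Iso.refl t) θ ?_), fp_lift_of_fst _ _ (IsHomLift.id rfl)⟩
  refine fp_hom_ext ?_ ?_
  · show 𝟙 t ≫ κ₁.hom = 𝟙 t ≫ κ₁.hom
    rfl
  · show 𝟙 t ≫ κ₂.hom = 𝟙 t ≫ κ₂.hom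
    rfl

end Diag

section Faithful

theorem faithful_of_rep1 (h𝒳 : FibCat.IsFibGrpd 𝒳.p) (h𝒴 : FibCat.IsFibGrpd 𝒴.p) {f : 𝒳 ⥤ᵇ 𝒴}
    (hf : AlgSt.RepByAlgSp1 f) : f.toFunctor.Faithful := ⟨fun {x x'} φ ψ h => by
  let g := 𝒳.p.map φ
  have hg : 𝒳.p.map ψ = g := by
    have e := Functor.congr_hom f.w φ
    have e' := Functor.congr_hom f.w ψ
    simp only [Functor.comp_map] at e e'
    rw [h] at e
    exact (cancel_mono _).1 ((cancel_epi _).1 (e'.symm.trans e))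
  have hφ : 𝒳.p.IsHomLift g φ := IsHomLift.map 𝒳.p φ
  have hψ : 𝒳.p.IsHomLift g ψ := hg ▸ IsHomLift.map 𝒳.p ψ
  obtain ⟨χ, hχ, hc⟩ : ∃ χ : x ⟶ x, 𝒳.p.IsHomLift (𝟙 (𝒳.p.obj x)) χ ∧ χ ≫ ψ = φ := by
    have := stronglyCartesian_of_isFibGrpd 𝒳.p h𝒳 g ψ
    exact ⟨IsCartesian.map 𝒳.p g ψ φ, inferInstance, IsCartesian.fac 𝒳.p g ψ φ⟩
  have hfχ : f.map χ = 𝟙 _ := by
    have h1 : 𝒴.p.IsHomLift g (f.map ψ) := (BasedFunctor.isHomLift_iff f _ _).2 hψ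
    have := stronglyCartesian_of_isFibGrpd 𝒴.p h𝒴 g (f.map ψ)
    have h2 : 𝒴.p.IsHomLift (𝟙 (𝒳.p.obj x)) (f.map χ) := (BasedFunctor.isHomLift_iff f _ _).2 hχ
    have h3 : 𝒴.p.IsHomLift (𝟙 (𝒳.p.obj x)) (𝟙 (f.obj x)) := IsHomLift.id (f.w_obj x)
    exact IsCartesian.ext 𝒴.p g (f.map ψ) _ _ (by rw [← f.toFunctor.map_comp, hc, h, Category.id_comp])
  obtain ⟨G, ⟨ε⟩⟩ := exists_functor h𝒴 (⟨f.obj x, f.w_obj x⟩ : 𝒴.p.Fiber (𝒳.p.obj x))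
  obtain ⟨H, e, he⟩ := hf _ G
  have hs := isFibSetoid_of_equiv_ofSp he
  let B : (FibCat.fp G f).obj := ⟨{ fst := one _, snd := x, iso := Fiber.fiberInclusion.mapIso ε }, ε.hom.2⟩
  let α : B ⟶ B := fpHom (𝟙 (one _)) χ
    (((congrArg (· ≫ B.obj.iso.hom) (G.toFunctor.map_id _)).trans (Category.id_comp _)).trans
      ((Category.comp_id _).symm.trans (congrArg (B.obj.iso.hom ≫ ·) hfχ.symm)))
  have hl : (FibCat.fp G f).p.IsHomLift (𝟙 (𝒳.p.obj x)) α := fp_lift_of_fst _ _ (IsHomLift.id rfl)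
  have hl' : (FibCat.fp G f).p.IsHomLift (𝟙 (𝒳.p.obj x)) (𝟙 B) := IsHomLift.id rfl
  have : χ = 𝟙 x := congrArg (fun m => m.hom.snd) (fibSetoid_hom_ext hs (𝟙 (𝒳.p.obj x)) α (𝟙 B))
  rw [← hc, this, Category.id_comp]⟩

end Faithful

end Groth.Agent.AlgStLib
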