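import Groth.Agent.AlgStLib.RepStack
import Mathlib

/-!
Stacks and algebraic stacks representable over one another.
-/

set_option autoImplicit false
set_option backward.isDefEq.respectTransparency false
set_option backward.isDefEq.respectTransparency.types false

universe u

open CategoryTheory CategoryTheory.Limits CategoryTheory.Functor AlgebraicGeometry Opposite AlgSp

namespace Groth.Agent.AlgStLib

open Groth.Agent Groth.Agent.FibBasics Groth.Agent.AlgSpLib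

variable {S : Scheme.{u}} {𝒳 𝒴 𝒵 : AlgSt.Cat S}

section Swap

variable (F : 𝒳 ⥤ᵇ 𝒵) (G : 𝒴 ⥤ᵇ 𝒵)

/-- Exchange of the factors of a 2-fibre product. -/
def fpSwap : FibCat.fp F G ⥤ᵇ FibCat.fp G F where
  toFunctor :=
    { obj := fun x => ⟨{ fst := x.obj.snd, snd := x.obj.fst, iso := x.obj.iso.symm }, by
        show 𝒵.p.IsHomLift (𝟙 (𝒴.p.obj x.obj.snd)) x.obj.iso.inv
        have h : 𝒵.p.IsHomLift (𝟙 (𝒴.p.obj x.obj.snd)) x.obj.iso.hom := fp_iso_lift x (fp_snd_proj x).symm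
        exact IsHomLift.lift_id_inv 𝒵.p _ x.obj.iso⟩
      map := fun {a b} φ => fpHom φ.hom.snd φ.hom.fst (by
        show G.map φ.hom.snd ≫ b.obj.iso.inv = a.obj.iso.inv ≫ F.map φ.hom.fst
        rw [Iso.comp_inv_eq, Category.assoc, Iso.eq_inv_comp]
        exact φ.hom.w.symm)
      map_id := fun _ => fp_hom_ext rfl rfl
      map_comp := fun _ _ => fp_hom_ext rfl rfl }
  w := (FibCat.fpSnd F G).w

theorem fpSwap_isEquivOver : FibCat.IsEquivOver (fpSwap F G) :=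
  ⟨fpSwap G F,
    ⟨BasedNatIso.mkNatIso (NatIso.ofComponents (fun x => Iso.refl x)
      (fun φ => (Category.comp_id _).trans (Eq.trans (fp_hom_ext rfl rfl) (Category.id_comp _).symm)))
      (fun x => IsHomLift.id rfl)⟩,
    ⟨BasedNatIso.mkNatIso (NatIso.ofComponents (fun x => Iso.refl x)
      (fun φ => (Category.comp_id _).trans (Eq.trans (fp_hom_ext rfl rfl) (Category.id_comp _).symm)))
      (fun x => IsHomLift.id rfl)⟩⟩

end Swap

theorem rep1_of_repByAlgSp_source (h : FibCat.IsFibGrpd 𝒳.p)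
    (hΔ : AlgSt.RepByAlgSp1 (FibCat.diag (FibCat.toSelf 𝒳))) {𝒰 : AlgSt.Cat S} (_hU : FibCat.IsFibGrpd 𝒰.p)
    (hr : AlgSt.RepByAlgSp 𝒰) (x : 𝒰 ⥤ᵇ 𝒳) : AlgSt.RepByAlgSp1 x := fun V y =>
  repByAlgSp_of_equiv' (fpSwap_isEquivOver y x)
    (repByAlgSp_fp (isFibGrpd_overForget V) h (rep_slices_of_diag h hΔ V y) hr)

section Mediate

variable {𝒜 ℬ : AlgSt.Cat S} (j : 𝒳 ⥤ᵇ 𝒴) (y : 𝒜 ⥤ᵇ 𝒳) (x : ℬ ⥤ᵇ 𝒳)

/-- `t ↦ (t, y t)`. -/
def graphFun : 𝒜 ⥤ᵇ FibCat.fp (BasedFunctor.comp y j) j :=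
  FibCat.fpLift (BasedFunctor.id 𝒜) y (Iso.refl _)

/-- Fibre products over a category mapping representably factor through those over the target. -/
def mediate : FibCat.fp y x ⥤ᵇ FibCat.fp (graphFun j y) (fpMapSnd (BasedFunctor.comp y j) x j) where
  toFunctor :=
    { obj := fun a => ⟨{ fst := a.obj.fst
                         snd := ⟨{ fst := a.obj.fst, snd := a.obj.snd, iso := j.toFunctor.mapIso a.obj.iso },
                           (BasedFunctor.isHomLift_iff j _ _).2 a.property⟩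
                         iso := ObjectProperty.isoMk _ (CategoricalPullback.mkIso (Iso.refl _) a.obj.iso
                           (show j.map (y.map (𝟙 a.obj.fst)) ≫ j.map a.obj.iso.hom = 𝟙 _ ≫ j.map a.obj.iso.hom by
                             rw [y.toFunctor.map_id, j.toFunctor.map_id])) },
        fp_lift_of_fst _ _ (IsHomLift.id rfl)⟩
      map := fun {a b} φ => fpHom φ.hom.fst
        (fpHom φ.hom.fst φ.hom.snd (by
          show j.map (y.map φ.hom.fst) ≫ j.map b.obj.iso.hom = j.map a.obj.iso.hom ≫ j.map (x.map φ.hom.snd)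
          rw [← j.toFunctor.map_comp, φ.hom.w, j.toFunctor.map_comp]))
        (fp_hom_ext ((Category.comp_id _).trans (Category.id_comp _).symm) φ.hom.w)
      map_id := fun _ => fp_hom_ext rfl (fp_hom_ext rfl rfl)
      map_comp := fun _ _ => fp_hom_ext rfl (fp_hom_ext rfl rfl) }
  w := rfl

theorem mediate_isEquivOver : FibCat.IsEquivOver (mediate j y x) := by
  have : (mediate j y x).toFunctor.Faithful := ⟨fun {a b} φ ψ h => fp_hom_ext
    (congrArg (fun m => m.hom.fst) h :) (congrArg (fun m => m.hom.snd.hom.snd) h :)⟩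
  have : (mediate j y x).toFunctor.Full := ⟨fun {a b} m => by
    have e1 : m.hom.fst ≫ 𝟙 _ = 𝟙 _ ≫ m.hom.snd.hom.fst := congrArg (fun k => k.hom.fst) m.hom.w
    rw [Category.comp_id, Category.id_comp] at e1
    exact ⟨fpHom m.hom.fst m.hom.snd.hom.snd (congrArg (fun k => k.hom.snd) m.hom.w :),
      fp_hom_ext rfl (fp_hom_ext e1 rfl)⟩⟩
  refine isEquivOver_of_essSurjOver _ fun z => ?_
  obtain ⟨⟨t₀, ⟨⟨t, t', i⟩, hi⟩, κ⟩, hκ⟩ := z
  let κ₁ : t₀ ≅ t := ⟨κ.hom.hom.fst, κ.inv.hom.fst, congrArg (fun m => m.hom.fst) κ.hom_inv_id,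
    congrArg (fun m => m.hom.fst) κ.inv_hom_id⟩
  let κ₂ : y.obj t₀ ≅ x.obj t' := ⟨κ.hom.hom.snd, κ.inv.hom.snd, congrArg (fun m => m.hom.snd) κ.hom_inv_id,
    congrArg (fun m => m.hom.snd) κ.inv_hom_id⟩
  have hκ₂ : 𝒳.p.IsHomLift (𝟙 (𝒜.p.obj t₀)) κ₂.hom := @fp_lift_snd _ _ _ _ _ _ _ _ _ _ _ (𝟙 _) κ.hom hκ
  let a : (FibCat.fp y x).obj := ⟨{ fst := t₀, snd := t', iso := κ₂ }, hκ₂⟩
  have hw : j.map (y.map κ₁.hom) ≫ i.hom = 𝟙 _ ≫ j.map κ₂.hom := κ.hom.hom.w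
  refine ⟨a, ObjectProperty.isoMk _ (CategoricalPullback.mkIso (Iso.refl t₀)
    (ObjectProperty.isoMk _ (CategoricalPullback.mkIso κ₁ (Iso.refl t') ?_)) ?_), fp_lift_of_fst _ _ (IsHomLift.id rfl)⟩
  · show j.map (y.map κ₁.hom) ≫ i.hom = j.map κ₂.hom ≫ j.map (x.map (𝟙 t'))
    rw [x.toFunctor.map_id, j.toFunctor.map_id, hw, Category.id_comp]
    exact (Category.comp_id _).symm
  · refine fp_hom_ext ?_ ?_
    · show 𝟙 t₀ ≫ κ₁.hom = 𝟙 t₀ ≫ κ₁.hom
      rfl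
    · show y.map (𝟙 t₀) ≫ κ₂.hom = κ₂.hom ≫ x.map (𝟙 t')
      rw [x.toFunctor.map_id, y.toFunctor.map_id, Category.id_comp]
      exact (Category.comp_id _).symm

end Mediate

theorem rep1_slices_of_rep1 (h𝒳 : FibCat.IsFibGrpd 𝒳.p) (h𝒴 : FibCat.IsFibGrpd 𝒴.p) {j : 𝒳 ⥤ᵇ 𝒴}
    (hj : AlgSt.RepByAlgSp1 j) (hΔ : AlgSt.RepByAlgSp1 (FibCat.diag (FibCat.toSelf 𝒴))) :
    AlgSt.RepByAlgSp1 (FibCat.diag (FibCat.toSelf 𝒳)) := by
  refine repByAlgSp1_diag_of_slices h𝒳 fun U x V y => ?_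
  have hA : AlgSt.RepByAlgSp (FibCat.fp (BasedFunctor.comp y j) (BasedFunctor.comp x j)) :=
    rep_slices_of_diag h𝒴 hΔ U _ V _
  have hB : AlgSt.RepByAlgSp (FibCat.fp (BasedFunctor.comp y j) j) := hj V _
  exact repByAlgSp_of_equiv' (mediate_isEquivOver j y x)
    (repByAlgSp_fp (fp_isFibGrpd (isFibGrpd_overForget V) (isFibGrpd_overForget U) h𝒴)
      (fp_isFibGrpd (isFibGrpd_overForget V) h𝒳 h𝒴) (repByAlgSp1_of_repByAlgSp hA hB _) (repByAlgSp_overCat V))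

section Local

variable {P : (Over S)ᵒᵖ ⥤ Type (u + 1)} {𝒜 : BasedCategory.{u, u + 1} (Over S)}

/-- The section underlying the image of an object. -/
def secAt (Φ : 𝒜 ⥤ᵇ Stk.ofPsh P) (a : 𝒜.obj) : P.obj (op (𝒜.p.obj a)) :=
  P.map (eqToHom (Φ.w_obj a).symm).op (Φ.obj a).sec

theorem secAt_natural (Φ : 𝒜 ⥤ᵇ Stk.ofPsh P) {a b : 𝒜.obj} (f : a ⟶ b) :
    P.map (𝒜.p.map f).op (secAt Φ b) = secAt Φ a := by
  have h2 : (Φ.map f).hom = eqToHom (Φ.w_obj a) ≫ 𝒜.p.map f ≫ eqToHom (Φ.w_obj b).symm :=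
    @IsHomLift.fac' _ _ _ _ (Stk.ofPsh P).p _ _ _ _ (𝒜.p.map f) (Φ.map f)
      (BasedFunctor.preserves_isHomLift Φ (𝒜.p.map f) f)
  have h3 : eqToHom (Φ.w_obj a).symm ≫ (Φ.map f).hom = 𝒜.p.map f ≫ eqToHom (Φ.w_obj b).symm := by
    rw [h2]; simp
  refine (Functor.map_comp_apply P _ _ _).symm.trans ?_
  refine Eq.trans ?_ (congrArg (fun t => P.map (eqToHom (Φ.w_obj a).symm).op t) (Φ.map f).map_sec)
  refine Eq.trans ?_ (Functor.map_comp_apply P _ _ _)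
  exact congrArg (fun m => P.map m (Φ.obj b).sec) (congrArg Quiver.Hom.op h3).symm

theorem exists_hom_of_secAt {Φ Ψ : 𝒜 ⥤ᵇ Stk.ofPsh P} {a : 𝒜.obj} (h : secAt Φ a = secAt Ψ a) :
    ∃ m : Φ.obj a ⟶ Ψ.obj a, (Stk.ofPsh P).p.IsHomLift (𝟙 (𝒜.p.obj a)) m := by
  refine ⟨⟨eqToHom ((Φ.w_obj a).trans (Ψ.w_obj a).symm), ?_⟩,
    IsHomLift.of_fac _ _ _ (Φ.w_obj a) (Ψ.w_obj a) (by simp)⟩
  have h' : P.map (eqToHom (Φ.w_obj a)).op (secAt Ψ a) = (Φ.obj a).sec := by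
    rw [← h, secAt]
    refine (Functor.map_comp_apply P _ _ _).symm.trans ?_
    rw [← op_comp, eqToHom_trans]
    simp
  refine Eq.trans ?_ h'
  refine Eq.trans ?_ (Functor.map_comp_apply P _ _ _)
  rw [← op_comp, eqToHom_trans]
  rfl

theorem secAt_eq_of_hom {Φ Ψ : 𝒜 ⥤ᵇ Stk.ofPsh P} {a : 𝒜.obj} (m : Φ.obj a ⟶ Ψ.obj a)
    (hm : (Stk.ofPsh P).p.IsHomLift (𝟙 (𝒜.p.obj a)) m) : secAt Φ a = secAt Ψ a := by
  have h : m.hom = eqToHom (Φ.w_obj a) ≫ 𝟙 (𝒜.p.obj a) ≫ eqToHom (Ψ.w_obj a).symm :=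
    @IsHomLift.fac' _ _ _ _ (Stk.ofPsh P).p _ _ _ _ (𝟙 (𝒜.p.obj a)) m hm
  show P.map _ (Φ.obj a).sec = P.map _ (Ψ.obj a).sec
  rw [← m.map_sec]
  refine (Functor.map_comp_apply P _ _ _).symm.trans ?_
  rw [h, ← op_comp]
  simp

/-- Functors to a category of a presheaf with the same sections are isomorphic. -/
noncomputable def secIso {Φ Ψ : 𝒜 ⥤ᵇ Stk.ofPsh P} (h : ∀ a, secAt Φ a = secAt Ψ a) : Φ ≅ Ψ :=
  BasedNatIso.mkNatIso (NatIso.ofComponents
    (fun a =>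
      { hom := (exists_hom_of_secAt (h a)).choose
        inv := (exists_hom_of_secAt (h a).symm).choose
        hom_inv_id := eltHom_ext (𝟙 (𝒜.p.obj a)) _ _ (@IsHomLift.comp_of_lift_id _ _ _ _ _ _ _ _ _ _ _
          (exists_hom_of_secAt (h a)).choose_spec (exists_hom_of_secAt (h a).symm).choose_spec)
          (IsHomLift.id (Φ.w_obj a))
        inv_hom_id := eltHom_ext (𝟙 (𝒜.p.obj a)) _ _ (@IsHomLift.comp_of_lift_id _ _ _ _ _ _ _ _ _ _ _
          (exists_hom_of_secAt (h a).symm).choose_spec (exists_hom_of_secAt (h a)).choose_spec)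
          (IsHomLift.id (Ψ.w_obj a)) })
    (fun {a b} f => by
      have := (exists_hom_of_secAt (h a)).choose_spec
      have := (exists_hom_of_secAt (h b)).choose_spec
      have : (Stk.ofPsh P).p.IsHomLift (𝒜.p.map f) (Φ.map f) := BasedFunctor.preserves_isHomLift Φ (𝒜.p.map f) f
      have : (Stk.ofPsh P).p.IsHomLift (𝒜.p.map f) (Ψ.map f) := BasedFunctor.preserves_isHomLift Ψ (𝒜.p.map f) f
      exact eltHom_ext (𝒜.p.map f) _ _ inferInstance inferInstance))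
    (fun a => (exists_hom_of_secAt (h a)).choose_spec)

variable {U : Over S} {R : Sieve U} (hR : R ∈ (QuotSh.J Scheme.fppfPrecoverage S) U) {j : 𝒳 ⥤ᵇ 𝒴}

include hR in
/-- A morphism lifts along a representable morphism if it lifts locally. -/
theorem exists_lift_of_local {G H : FibCat.overCat U ⥤ᵇ 𝒳} (hj : AlgSt.RepByAlgSp1 j)
    (h𝒴 : FibCat.IsFibGrpd 𝒴.p) (β : BasedFunctor.comp G j ⟶ BasedFunctor.comp H j)
    (hloc : ∀ g : (FibCat.overCat U).obj, R g.hom → ∃ m : G.obj g ⟶ H.obj g,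
      𝒳.p.IsHomLift (𝟙 g.left) m ∧ j.map m = β.toNatTrans.app g) :
    ∃ b : G.obj (one U) ⟶ H.obj (one U), 𝒳.p.IsHomLift (𝟙 U) b ∧ j.map b = β.toNatTrans.app (one U) := by
  have hiso : ∀ g, IsIso (β.toNatTrans.app g) := fun g => by
    have : 𝒴.p.IsHomLift (𝟙 ((FibCat.overCat U).p.obj g)) (β.toNatTrans.app g) := β.isHomLift' g
    exact isIso_of_isFibGrpd _ h𝒴 (𝟙 ((FibCat.overCat U).p.obj g)) _
  let β' : BasedFunctor.comp G j ≅ BasedFunctor.comp H j :=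
    BasedNatIso.mkNatIso (NatIso.ofComponents (fun g => @asIso _ _ _ _ (β.toNatTrans.app g) (hiso g))
      (fun f => β.toNatTrans.naturality f)) (fun g => β.isHomLift' g)
  let y := BasedFunctor.comp H j
  obtain ⟨F, e, he⟩ := hj U y
  obtain ⟨L, -, -, ⟨γ⟩⟩ := isEquivOver_symm he
  let a₁ : FibCat.overCat U ⥤ᵇ FibCat.fp y j := FibCat.fpLift (BasedFunctor.id _) G β'.symm
  let a₂ : FibCat.overCat U ⥤ᵇ FibCat.fp y j := FibCat.fpLift (BasedFunctor.id _) H (Iso.refl _)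
  let Φ₁ := BasedFunctor.comp a₁ L
  let Φ₂ := BasedFunctor.comp a₂ L
  have hsec : secAt Φ₁ (one U) = secAt Φ₂ (one U) := by
    refine ((isSheaf_iff_isSheaf_of_type _ _).1 F.obj.property R hR).isSeparatedFor.ext fun W g hg => ?_
    obtain ⟨m, hm, hjm⟩ := hloc (Over.mk g) hg
    let n : a₁.obj (Over.mk g) ⟶ a₂.obj (Over.mk g) := fpHom (𝟙 _) m (by
      show y.map (𝟙 (Over.mk g)) ≫ 𝟙 _ = (@asIso _ _ _ _ (β.toNatTrans.app (Over.mk g)) (hiso _)).inv ≫ j.map m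
      rw [hjm, y.toFunctor.map_id, Category.comp_id]
      exact (Iso.inv_hom_id _).symm)
    have hn : (FibCat.fp y j).p.IsHomLift (𝟙 W) n := fp_lift_of_fst _ _ (IsHomLift.id rfl)
    have h1 := secAt_natural Φ₁ (toOne (Over.mk g : (FibCat.overCat U).obj))
    have h2 := secAt_natural Φ₂ (toOne (Over.mk g : (FibCat.overCat U).obj))
    have h3 : secAt Φ₁ (Over.mk g) = secAt Φ₂ (Over.mk g) :=
      secAt_eq_of_hom (L.map n) ((BasedFunctor.isHomLift_iff L _ _).2 hn)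
    exact h1.trans (h3.trans h2.symm)
  obtain ⟨k, hk⟩ := exists_hom_of_secAt hsec
  have hg₁ := BasedNatTrans.isHomLift γ.inv (a := a₁.obj (one U)) (S := U) (a₁.w_obj _)
  have hg₂ := BasedNatTrans.isHomLift γ.hom (a := a₂.obj (one U)) (S := U) (a₂.w_obj _)
  have hk' : (FibCat.fp y j).p.IsHomLift (𝟙 U) (e.map k) := (BasedFunctor.isHomLift_iff e _ _).2 hk
  let m : a₁.obj (one U) ⟶ a₂.obj (one U) :=
    γ.inv.toNatTrans.app (a₁.obj (one U)) ≫ e.map k ≫ γ.hom.toNatTrans.app (a₂.obj (one U))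
  have hm : (FibCat.fp y j).p.IsHomLift (𝟙 U) m :=
    @IsHomLift.comp_of_lift_id _ _ _ _ _ _ _ _ _ _ _ hg₁ (@IsHomLift.comp_of_lift_id _ _ _ _ _ _ _ _ _ _ _ hk' hg₂)
  have hf : m.hom.fst = 𝟙 (one U) := (toOne_unique _).trans toOne_one
  have w : y.map m.hom.fst ≫ 𝟙 _ = (@asIso _ _ _ _ (β.toNatTrans.app (one U)) (hiso _)).inv ≫ j.map m.hom.snd :=
    m.hom.w
  rw [hf] at w
  have e0 : y.map (𝟙 (one U)) ≫ 𝟙 _ = 𝟙 (y.obj (one U)) := (Category.comp_id _).trans (y.toFunctor.map_id _)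
  exact ⟨m.hom.snd, fp_lift_snd _ m, ((Iso.inv_comp_eq _).1 (e0.symm.trans w).symm).trans (Category.comp_id _)⟩

include hR in
/-- An object given locally, whose image extends, extends. -/
theorem exists_ext_of_local (H : Stk.sieveCat R ⥤ᵇ 𝒳) (hj : AlgSt.RepByAlgSp1 j)
    (G : FibCat.overCat U ⥤ᵇ 𝒴) (ε : (Stk.resSieve R 𝒴).obj G ≅ BasedFunctor.comp H j) :
    ∃ G' : FibCat.overCat U ⥤ᵇ 𝒳, Nonempty ((Stk.resSieve R 𝒳).obj G' ≅ H) := by
  obtain ⟨F, e, he⟩ := hj U G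
  obtain ⟨L, -, -, ⟨γ⟩⟩ := isEquivOver_symm he
  let a : Stk.sieveCat R ⥤ᵇ FibCat.fp G j := FibCat.fpLift (Stk.sieveIncl R) H ε
  let Φ := BasedFunctor.comp a L
  let fam : Presieve.FamilyOfElements F.obj.obj R.arrows := fun W g hg => secAt Φ ⟨Over.mk g, hg⟩
  have hfam : fam.Compatible := fun W₁ W₂ W g₁ g₂ f₁ f₂ h₁ h₂ w => by
    have k₁ := secAt_natural Φ (ObjectProperty.homMk (Over.homMk g₁ rfl) :
      (⟨Over.mk (g₁ ≫ f₁), R.downward_closed h₁ g₁⟩ : (Stk.sieveCat R).obj) ⟶ ⟨Over.mk f₁, h₁⟩)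
    have k₂ := secAt_natural Φ (ObjectProperty.homMk (Over.homMk g₂ w.symm) :
      (⟨Over.mk (g₁ ≫ f₁), R.downward_closed h₁ g₁⟩ : (Stk.sieveCat R).obj) ⟶ ⟨Over.mk f₂, h₂⟩)
    exact k₁.trans k₂.symm
  obtain ⟨σ, hσ, -⟩ := (isSheaf_iff_isSheaf_of_type _ _).1 F.obj.property R hR fam hfam
  let K : FibCat.overCat U ⥤ᵇ AlgSt.ofSp F.obj := secFun σ
  have hK : ∀ x, secAt (BasedFunctor.comp (Stk.sieveIncl R) K) x = secAt Φ x := fun x => by
    refine Eq.trans ?_ (hσ x.obj.hom x.property)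
    show F.obj.obj.map (𝟙 x.obj.left).op (F.obj.obj.map x.obj.hom.op σ) = F.obj.obj.map x.obj.hom.op σ
    simp
  exact ⟨BasedFunctor.comp K (BasedFunctor.comp e (FibCat.fpSnd G j)),
    ⟨bWhiskerR (secIso hK) (BasedFunctor.comp e (FibCat.fpSnd G j)) ≪≫
      bWhiskerR (bWhiskerL a γ) (FibCat.fpSnd G j)⟩⟩

end Local

/-- Stacks pull back along representable morphisms. -/
theorem isStack_of_rep1 (h𝒳 : FibCat.IsFibGrpd 𝒳.p) (h𝒴 : Stk.IsStack (QuotSh.J Scheme.fppfPrecoverage S) 𝒴)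
    {j : 𝒳 ⥤ᵇ 𝒴} (hj : AlgSt.RepByAlgSp1 j) : Stk.IsStack (QuotSh.J Scheme.fppfPrecoverage S) 𝒳 := by
  have := faithful_of_rep1 h𝒳 h𝒴.1 hj
  refine ⟨h𝒳, fun U R hR => ?_⟩
  have : (Stk.resSieve R 𝒴).IsEquivalence := h𝒴.2 R hR
  refine (Functor.IsEquivalence.mk (faithful := ⟨fun {G H α β} h => ?_⟩) (full := ⟨fun {G H} α => ?_⟩)
    (essSurj := ⟨fun H => ?_⟩) : (Stk.resSieve R 𝒳).IsEquivalence)
  · have : BasedCategory.whiskerRight α j = BasedCategory.whiskerRight β j :=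
      (Stk.resSieve R 𝒴).map_injective (BasedNatTrans.homCategory.ext _ _ (by
        ext a
        exact congrArg (fun m => j.map (m.toNatTrans.app a)) h))
    apply BasedNatTrans.homCategory.ext
    ext a
    exact j.toFunctor.map_injective (congrArg (fun m => m.toNatTrans.app a) this)
  · obtain ⟨β, hβ⟩ := (Stk.resSieve R 𝒴).map_surjective (X := BasedFunctor.comp G j) (Y := BasedFunctor.comp H j)
      (BasedCategory.whiskerRight α j)
    obtain ⟨b, hb, hbj⟩ := exists_lift_of_local hR (G := G) (H := H) hj h𝒴.1 β (fun g hg =>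
      ⟨α.toNatTrans.app ⟨g, hg⟩, α.isHomLift' ⟨g, hg⟩,
        (congrArg (fun m => m.toNatTrans.app ⟨g, hg⟩) hβ).symm⟩)
    obtain ⟨γ, hγ⟩ := evalAtId_surjective (cartOne_of_isFibGrpd H h𝒳) (G := G) (Fiber.homMk 𝒳.p U b)
    have hγ₁ : γ.toNatTrans.app (one U) = b := congrArg Subtype.val hγ
    have hγj : BasedCategory.whiskerRight γ j = β :=
      evalAtId_injective (cartOne_of_isFibGrpd _ h𝒴.1) _ _ (Fiber.hom_ext
        (show j.map (γ.toNatTrans.app (one U)) = β.toNatTrans.app (one U) by rw [hγ₁, hbj]))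
    refine ⟨γ, BasedNatTrans.homCategory.ext _ _ ?_⟩
    ext a
    refine j.toFunctor.map_injective ?_
    show j.map (γ.toNatTrans.app _) = j.map (α.toNatTrans.app a)
    have e1 : j.map (γ.toNatTrans.app ((Stk.sieveIncl R).obj a)) = β.toNatTrans.app ((Stk.sieveIncl R).obj a) :=
      congrArg (fun m => m.toNatTrans.app ((Stk.sieveIncl R).obj a)) hγj
    exact e1.trans (congrArg (fun m => m.toNatTrans.app a) hβ)
  · exact exists_ext_of_local hR H hj ((Stk.resSieve R 𝒴).objPreimage (BasedFunctor.comp H j))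
      ((Stk.resSieve R 𝒴).objObjPreimageIso _)

theorem repWith_ofSpMap {P : MorphismProperty (Sp S)} {A : AlgSp.Space S} {B : AlgSp.Space S} (r : A.obj ⟶ B.obj)
    (hP : ∀ {V : Over S} (c : (yon S).obj V ⟶ B.obj), P (pullback.fst c r)) :
    AlgSt.RepByAlgSpWith P (AlgSt.ofSpMap r) := by
  intro U y
  let y' : AlgSt.ofSp ((yon S).obj U) ⥤ᵇ AlgSt.ofSp B.obj := BasedFunctor.comp (AlgSt.toOverCat U) y
  let c : (yon S).obj U ⟶ B.obj := spMapOf y'
  let Q : AlgSp.Space S := ⟨pullback c r, isAlgSpace_pullback c r (IsAlgSpace.yon_obj U) A.property B.property⟩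
  have sq : IsPullback (pullback.fst c r).hom (pullback.snd c r).hom (pshMapOf y') r.hom :=
    (IsPullback.of_hasPullback c r).map (sheafToPresheaf (J S) (Type (u + 1)))
  refine ⟨Q, BasedFunctor.comp (sqFun sq.w) (BasedFunctor.comp (fpIsoFst (ofPshMapIso y').symm _)
      (fpMapFst (AlgSt.toOverCat U) y (AlgSt.ofSpMap r))), isEquivOver_comp (sqFun_isEquivOver sq)
      (isEquivOver_comp (fpIsoFst_isEquivOver _ _) (fpMapFst_isEquivOver _ _ _ (toOverCat_isEquivOver U))), ?_⟩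
  convert hP c using 1
  ext T x
  apply ULift.ext
  exact Category.id_comp _

/-- The source of a representable morphism to an algebraic stack is algebraic. -/
theorem isAlgStack_of_rep1 (h𝒳 : FibCat.IsFibGrpd 𝒳.p) (h𝒴 : AlgSt.IsAlgStack Scheme.fppfPrecoverage 𝒴)
    {j : 𝒳 ⥤ᵇ 𝒴} (hj : AlgSt.RepByAlgSp1 j) : AlgSt.IsAlgStack Scheme.fppfPrecoverage 𝒳 := by
  refine ⟨isStack_of_rep1 h𝒳 h𝒴.isStack hj, rep1_slices_of_rep1 h𝒳 h𝒴.isStack.1 hj h𝒴.diag, ?_⟩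
  obtain ⟨U, x, hx, hxs⟩ := h𝒴.atlas
  obtain ⟨A, e, he⟩ := hj U x
  obtain ⟨V, r, hr, hrs⟩ := A.property.atlas
  let π : AlgSt.ofSp A.obj ⥤ᵇ 𝒳 := BasedFunctor.comp e (BasedFunctor.comp (fpSwap x j) (FibCat.fpFst j x))
  have hπ : ∀ P : MorphismProperty (Sp S), AlgSt.RepByAlgSpWith P x → AlgSt.RepByAlgSpWith P π := fun P h =>
    (repWith_comp_equiv he).2 ((repWith_comp_equiv (fpSwap_isEquivOver x j)).2 (repWith_fpFst j h))
  let v : FibCat.overCat V ⥤ᵇ AlgSt.ofSp A.obj := BasedFunctor.comp (AlgSt.ofOverCat V) (AlgSt.ofSpMap r)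
  have hg : FibCat.IsFibGrpd (AlgSt.ofSp A.obj).p := Stk.isFibGrpd_ofPsh _
  refine ⟨V, BasedFunctor.comp v π,
    repWith_smooth_comp (isFibGrpd_overForget V) hg
      ((repWith_comp_equiv (ofOverCat_isEquivOver V)).2 (repWith_ofSpMap (A := ⟨_, IsAlgSpace.yon_obj V⟩) r fun c => ?_))
      (hπ _ hx),
    repWith_surjective_comp (isFibGrpd_overForget V) hg
      ((repWith_comp_equiv (ofOverCat_isEquivOver V)).2 (repWith_ofSpMap (A := ⟨_, IsAlgSpace.yon_obj V⟩) r fun c => ?_))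
      (hπ _ hxs)⟩
  · refine locP_of_repWith (repWith_baseChange (IsPullback.of_hasPullback c r).flip hr) (fun _ _ _ k m hk hm => ?_)
    have : Etale k := hk
    have : Etale m := hm
    infer_instance
  · exact surjective_map_of_repWith (repWith_baseChange (IsPullback.of_hasPullback c r).flip hrs)

end Groth.Agent.AlgStLib
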