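import Mathlib

/-!
Quotients of spectral spaces by open quasi-compact equivalence relations are spectral.
-/

set_option autoImplicit false

universe u

open Topology TopologicalSpace Set

namespace Groth.Agent.AlgStLib.SpectralQuot

section FIP

variable {X : Type*} [TopologicalSpace X] [CompactSpace X] [QuasiSober X] [PrespectralSpace X]
  [QuasiSeparatedSpace X]

/-- Families of compact opens and their complements with the finite intersection property meet. -/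
theorem nonempty_sInter_of_fip {ℱ : Set (Set X)} (hℱ : ℱ ⊆ constructibleTopologySubbasis X)
    (h : ∀ ℱ' ⊆ ℱ, ℱ'.Finite → (⋂₀ ℱ').Nonempty) : (⋂₀ ℱ).Nonempty := by
  classical
  let e := WithTopology.toTopology (constructibleTopology X)
  obtain ⟨g, hg⟩ := (WithTopology.toTopology_surjective (constructibleTopology X)).hasRightInverse
  by_contra hc
  rw [not_nonempty_iff_eq_empty] at hc
  have hclosed : ∀ F ∈ ℱ, IsClosed (g ⁻¹' F : Set (WithConstructibleTopology X)) := by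
    intro F hF
    rw [WithConstructibleTopology.isClosed_iff]
    have he : e ⁻¹' (g ⁻¹' F) = F := by
      ext x
      show g (e x) ∈ F ↔ x ∈ F
      have : g (e x) = x := (WithTopology.toTopology_bijective _).1 (hg (e x))
      rw [this]
    rw [he]
    exact @IsClosed.mk _ (constructibleTopology X) _
      (TopologicalSpace.isOpen_generateFrom_of_mem (compl_mem_constructibleTopologySubbasis_iff.2 (hℱ hF)))
  obtain ⟨t, ht⟩ := isCompact_univ.elim_finite_subfamily_closed (fun F : ℱ => g ⁻¹' (F : Set X))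
    (fun F => hclosed F F.2) (by
      rw [univ_inter, ← not_nonempty_iff_eq_empty]
      rintro ⟨y, hy⟩
      have : g y ∈ ⋂₀ ℱ := fun F hF => mem_iInter.1 hy ⟨F, hF⟩
      rw [hc] at this
      exact this.elim)
  obtain ⟨x, hx⟩ := h ((Subtype.val : ℱ → Set X) '' (t : Set ℱ)) (by rintro _ ⟨F, -, rfl⟩; exact F.2)
    (t.finite_toSet.image _)
  rw [univ_inter] at ht
  refine (Set.eq_empty_iff_forall_notMem.1 ht) (e x) (mem_iInter₂.2 fun F hF => ?_)
  show g (e x) ∈ (F : Set X)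
  rw [(WithTopology.toTopology_bijective _).1 (hg (e x))]
  exact hx F ⟨F, hF, rfl⟩

end FIP

section Quot

variable {U R C : Type*} [TopologicalSpace U] [TopologicalSpace R] [TopologicalSpace C]
  [SpectralSpace U] [SpectralSpace R]
  {p q : R → U} {π : U → C}

/-- The data of a quotient. -/
structure QuotData (p q : R → U) (π : U → C) : Prop where
  hp : IsSpectralMap p
  hq : IsSpectralMap q
  cont : Continuous π
  surj : Function.Surjective π
  isOpen : IsOpenMap π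
  rel : ∀ u v, π u = π v ↔ ∃ r, p r = u ∧ q r = v

variable (h : QuotData p q π)

include h

theorem QuotData.preimage_image (W : Set U) : π ⁻¹' (π '' W) = q '' (p ⁻¹' W) := by
  ext v
  constructor
  · rintro ⟨u, hu, huv⟩
    obtain ⟨r, rfl, rfl⟩ := (h.rel u v).1 huv
    exact ⟨r, hu, rfl⟩
  · rintro ⟨r, hr, rfl⟩
    exact ⟨p r, hr, (h.rel _ _).2 ⟨r, rfl, rfl⟩⟩

omit [SpectralSpace U] [SpectralSpace R] in
theorem QuotData.compactSpace [CompactSpace U] : CompactSpace C :=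
  h.surj.compactSpace h.cont

theorem QuotData.prespectral : PrespectralSpace C := by
  refine PrespectralSpace.of_isTopologicalBasis (B := {K | IsOpen K ∧ IsCompact K})
    (isTopologicalBasis_of_isOpen_of_nhds (fun K hK => hK.1) fun c O hc hO => ?_) fun K hK => hK.2
  obtain ⟨u, rfl⟩ := h.surj c
  obtain ⟨W, ⟨hWo, hWc⟩, huW, hWO⟩ :=
    (PrespectralSpace.isTopologicalBasis (X := U)).exists_subset_of_mem_open (show u ∈ π ⁻¹' O from hc)
      (hO.preimage h.cont)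
  exact ⟨π '' W, ⟨h.isOpen _ hWo, hWc.image h.cont⟩, ⟨u, huW, rfl⟩, image_subset_iff.2 hWO⟩

theorem QuotData.isCompact_preimage {K : Set C} (ho : IsOpen K) (hc : IsCompact K) : IsCompact (π ⁻¹' K) := by
  classical
  let W : {W : Set U // IsOpen W ∧ IsCompact W ∧ W ⊆ π ⁻¹' K} → Set C := fun W => π '' W.1
  obtain ⟨t, ht⟩ := hc.elim_finite_subcover W (fun W => h.isOpen _ W.2.1) fun c hcK => by
    obtain ⟨u, rfl⟩ := h.surj c
    obtain ⟨W₀, ⟨hWo, hWc⟩, huW, hWK⟩ :=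
      (PrespectralSpace.isTopologicalBasis (X := U)).exists_subset_of_mem_open (show u ∈ π ⁻¹' K from hcK)
        (ho.preimage h.cont)
    exact mem_iUnion.2 ⟨⟨W₀, hWo, hWc, hWK⟩, u, huW, rfl⟩
  have e : π ⁻¹' K = ⋃ W₀ ∈ t, π ⁻¹' (W W₀) := by
    refine Subset.antisymm (fun u hu => ?_) (iUnion₂_subset fun W₀ _ u hu => ?_)
    · simpa using mem_iUnion₂.1 (ht hu)
    · obtain ⟨v, hv, hvu⟩ := hu
      show π u ∈ K
      rw [← hvu]
      exact W₀.2.2.2 hv
  rw [e]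
  refine t.isCompact_biUnion fun W₀ _ => ?_
  rw [h.preimage_image]
  exact (W₀.2.2.1.preimage_of_isOpen h.hp W₀.2.1).image h.hq.continuous

theorem QuotData.quasiSeparated : QuasiSeparatedSpace C := ⟨fun K₁ K₂ ho₁ hc₁ ho₂ hc₂ => by
  rw [← image_preimage_eq (K₁ ∩ K₂) h.surj]
  exact (((h.isCompact_preimage ho₁ hc₁).inter_of_isOpen (h.isCompact_preimage ho₂ hc₂) (ho₁.preimage h.cont)
    (ho₂.preimage h.cont))).image h.cont⟩

theorem QuotData.quasiSober : QuasiSober C := ⟨fun {Z} hZ hZc => by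
  have := h.prespectral
  let ℱ : Set (Set U) := {F | IsClosed F ∧ IsCompact Fᶜ ∧ π ⁻¹' Z ⊆ F} ∪
    {F | ∃ K : Set C, IsOpen K ∧ IsCompact K ∧ (Z ∩ K).Nonempty ∧ F = π ⁻¹' K}
  have hℱ : ℱ ⊆ constructibleTopologySubbasis U := by
    rintro F (⟨h1, h2, -⟩ | ⟨K, ho, hc, -, rfl⟩)
    · exact Or.inr ⟨h1, h2⟩
    · exact Or.inl ⟨ho.preimage h.cont, h.isCompact_preimage ho hc⟩
  have key : ∀ ℱ' : Set (Set U), ℱ'.Finite → ℱ' ⊆ ℱ →
      ∃ K : Set C, IsOpen K ∧ (Z ∩ K).Nonempty ∧ π ⁻¹' (Z ∩ K) ⊆ ⋂₀ ℱ' := by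
    intro ℱ' hfin
    induction ℱ', hfin using Set.Finite.induction_on with
    | empty => exact fun _ => ⟨univ, isOpen_univ, by simpa using hZ.nonempty, by simp⟩
    | @insert F s _ _ ih =>
      intro hsub
      obtain ⟨K, hKo, hKne, hK⟩ := ih fun a ha => hsub (mem_insert_of_mem _ ha)
      rcases hsub (mem_insert F s) with ⟨-, -, hF⟩ | ⟨K', hK'o, -, hK'ne, rfl⟩
      · refine ⟨K, hKo, hKne, ?_⟩
        rw [sInter_insert]
        exact subset_inter (fun u hu => hF hu.1) hK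
      · refine ⟨K ∩ K', hKo.inter hK'o, hZ.isPreirreducible _ _ hKo hK'o hKne hK'ne, ?_⟩
        rw [sInter_insert]
        exact subset_inter (fun u hu => hu.2.2) fun u hu => hK ⟨hu.1, hu.2.1⟩
  obtain ⟨u, hu⟩ := nonempty_sInter_of_fip hℱ fun ℱ' hsub hfin => by
    obtain ⟨K, -, ⟨c, hc⟩, hK⟩ := key ℱ' hfin hsub
    obtain ⟨u, rfl⟩ := h.surj c
    exact ⟨u, hK hc⟩
  have huZ : π u ∈ Z := by
    by_contra hn
    obtain ⟨W, ⟨hWo, hWc⟩, huW, hWZ⟩ := (PrespectralSpace.isTopologicalBasis (X := U)).exists_subset_of_mem_open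
      (show u ∈ π ⁻¹' Zᶜ from hn) (hZc.isOpen_compl.preimage h.cont)
    exact hu Wᶜ (Or.inl ⟨hWo.isClosed_compl, by rwa [compl_compl], fun v hv hvW => hWZ hvW hv⟩) huW
  refine ⟨π u, Subset.antisymm (hZc.closure_subset_iff.2 (singleton_subset_iff.2 huZ)) fun z hz => ?_⟩
  rw [mem_closure_iff]
  intro O hO hzO
  obtain ⟨K, ⟨hKo, hKc⟩, hzK, hKO⟩ := (PrespectralSpace.isTopologicalBasis (X := C)).exists_subset_of_mem_open hzO hO
  exact ⟨π u, hKO (hu _ (Or.inr ⟨K, hKo, hKc, ⟨z, hz, hzK⟩, rfl⟩)), rfl⟩⟩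

omit h in
/-- The conditions cutting out a point. -/
theorem eq_of_conditions {u v : U} (h1 : ∀ W : Set U, IsOpen W → IsCompact W → (u ∈ W ↔ v ∈ W)) : u = v := by
  refine Inseparable.eq ((inseparable_iff_forall_isOpen (x := u) (y := v)).2 fun O hO => ?_)
  constructor <;> intro hm <;>
    obtain ⟨W, ⟨hWo, hWc⟩, hmW, hWO⟩ :=
      (PrespectralSpace.isTopologicalBasis (X := U)).exists_subset_of_mem_open hm hO
  · exact hWO ((h1 W hWo hWc).1 hmW)
  · exact hWO ((h1 W hWo hWc).2 hmW)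

/-- A point of the class of `u` in all members of a finitely realised family of compact opens. -/
theorem QuotData.exists_equiv_mem (u : U) (𝒦 : Set (Set U)) (h𝒦 : ∀ W ∈ 𝒦, IsOpen W ∧ IsCompact W)
    (hfip : ∀ 𝒦' ⊆ 𝒦, 𝒦'.Finite → ∃ w, π w = π u ∧ ∀ W ∈ 𝒦', w ∈ W) :
    ∃ w, π w = π u ∧ ∀ W ∈ 𝒦, w ∈ W := by
  classical
  let ℱ : Set (Set R) :=
    {F | ∃ W : Set U, IsOpen W ∧ IsCompact W ∧ F = (if u ∈ W then p ⁻¹' W else (p ⁻¹' W)ᶜ)} ∪
      (q ⁻¹' ·) '' 𝒦
  have hℱ : ℱ ⊆ constructibleTopologySubbasis R := by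
    rintro F (⟨W, ho, hc, rfl⟩ | ⟨W, hW, rfl⟩)
    · have h1 : p ⁻¹' W ∈ constructibleTopologySubbasis R :=
        Or.inl ⟨ho.preimage h.hp.continuous, hc.preimage_of_isOpen h.hp ho⟩
      split
      · exact h1
      · exact compl_mem_constructibleTopologySubbasis_iff.2 h1
    · exact Or.inl ⟨(h𝒦 W hW).1.preimage h.hq.continuous, (h𝒦 W hW).2.preimage_of_isOpen h.hq (h𝒦 W hW).1⟩
  obtain ⟨r, hr⟩ := nonempty_sInter_of_fip hℱ fun ℱ' hsub hfin => by
    obtain ⟨𝒦', hK'sub, hK'fin, hK'⟩ : ∃ 𝒦' ⊆ 𝒦, 𝒦'.Finite ∧ ℱ' ∩ (q ⁻¹' ·) '' 𝒦 ⊆ (q ⁻¹' ·) '' 𝒦' := by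
      have : Finite ↥(ℱ' ∩ (q ⁻¹' ·) '' 𝒦) := (hfin.subset inter_subset_left).to_subtype
      choose g hg using fun F : ↥(ℱ' ∩ (q ⁻¹' ·) '' 𝒦) => F.2.2
      exact ⟨range g, range_subset_iff.2 fun F => (hg F).1, finite_range g,
        fun F hF => ⟨g ⟨F, hF⟩, mem_range_self _, (hg ⟨F, hF⟩).2⟩⟩
    obtain ⟨w, hw, hwm⟩ := hfip 𝒦' hK'sub hK'fin
    obtain ⟨r, hpr, rfl⟩ := (h.rel u w).1 hw.symm
    refine ⟨r, fun F hF => ?_⟩
    rcases hsub hF with ⟨W, -, -, rfl⟩ | hFq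
    · split_ifs with huW
      · show p r ∈ W
        rwa [hpr]
      · show ¬ p r ∈ W
        rwa [hpr]
    · obtain ⟨W, hW, rfl⟩ : F ∈ (q ⁻¹' ·) '' 𝒦' := hK' ⟨hF, hFq⟩
      exact hwm W hW
  refine ⟨q r, ?_, fun W hW => hr _ (Or.inr ⟨W, hW, rfl⟩)⟩
  have hpr : p r = u := eq_of_conditions fun W ho hc => by
    have := hr _ (Or.inl ⟨W, ho, hc, rfl⟩)
    split_ifs at this with huW
    · exact ⟨fun _ => huW, fun _ => this⟩
    · exact ⟨fun hm => (this hm).elim, fun hm => (huW hm).elim⟩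
  rw [← hpr]
  exact ((h.rel _ _).2 ⟨r, rfl, rfl⟩).symm

/-- Generalisations lift. -/
theorem QuotData.exists_lift_specializes {u v : U} (hs : π u ⤳ π v) : ∃ w, π w = π u ∧ w ⤳ v := by
  obtain ⟨w, hw, hwm⟩ := h.exists_equiv_mem u {W | IsOpen W ∧ IsCompact W ∧ v ∈ W} (fun W hW => ⟨hW.1, hW.2.1⟩)
    fun 𝒦' hsub hfin => by
      have hO : IsOpen (⋂₀ 𝒦') := hfin.isOpen_sInter fun W hW => (hsub hW).1
      obtain ⟨w, hw, hwu⟩ := hs.mem_open (h.isOpen _ hO) ⟨v, fun W hW => (hsub hW).2.2, rfl⟩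
      exact ⟨w, hwu, fun W hW => hw W hW⟩
  refine ⟨w, hw, specializes_iff_forall_open.2 fun O hO hv => ?_⟩
  obtain ⟨W, ⟨hWo, hWc⟩, hvW, hWO⟩ := (PrespectralSpace.isTopologicalBasis (X := U)).exists_subset_of_mem_open hv hO
  exact hWO (hwm W ⟨hWo, hWc, hvW⟩)

/-- Each class has a most general point. -/
theorem QuotData.exists_maximal (u : U) : ∃ m, π m = π u ∧ ∀ a, π a = π u → a ⤳ m → a = m := by
  obtain ⟨m, hm⟩ := exists_maximal_of_chains_bounded (α := {w // π w = π u}) (r := fun a b => b.1 ⤳ a.1)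
    (fun c hc => by
      rcases c.eq_empty_or_nonempty with rfl | hne
      · exact ⟨⟨u, rfl⟩, fun a ha => ha.elim⟩
      obtain ⟨w, hw, hwm⟩ := h.exists_equiv_mem u {W | IsOpen W ∧ IsCompact W ∧ ∃ a ∈ c, (a : U) ∈ W}
        (fun W hW => ⟨hW.1, hW.2.1⟩) fun 𝒦' hsub hfin => by
          suffices ∃ a ∈ c, ∀ W ∈ 𝒦', (a : U) ∈ W by
            obtain ⟨a, -, ha⟩ := this
            exact ⟨a, a.2, ha⟩
          induction 𝒦', hfin using Set.Finite.induction_on with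
          | empty => exact ⟨hne.some, hne.some_mem, fun W hW => hW.elim⟩
          | @insert W s _ _ ih =>
            obtain ⟨a, hac, ha⟩ := ih fun x hx => hsub (mem_insert_of_mem _ hx)
            obtain ⟨hWo, -, b, hbc, hb⟩ := hsub (mem_insert W s)
            rcases eq_or_ne a b with rfl | hne'
            · exact ⟨a, hac, fun V hV => hV.elim (fun e => e ▸ hb) (ha V)⟩
            rcases hc hac hbc hne' with hab | hba
            · exact ⟨b, hbc, fun V hV => hV.elim (fun e => e ▸ hb)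
                fun hVs => hab.mem_open (hsub (mem_insert_of_mem _ hVs)).1 (ha V hVs)⟩
            · exact ⟨a, hac, fun V hV => hV.elim (fun e => e ▸ hba.mem_open hWo hb) (ha V)⟩
      refine ⟨⟨w, hw⟩, fun a ha => specializes_iff_forall_open.2 fun O hO hv => ?_⟩
      obtain ⟨W, ⟨hWo, hWc⟩, hvW, hWO⟩ :=
        (PrespectralSpace.isTopologicalBasis (X := U)).exists_subset_of_mem_open hv hO
      exact hWO (hwm W ⟨hWo, hWc, a, ha, hvW⟩))
    (fun hab hbc => hbc.trans hab)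
  exact ⟨m, m.2, fun a ha hs => (hs.antisymm (hm ⟨a, ha⟩ hs)).eq⟩

theorem QuotData.t0 : T0Space C := ⟨fun c d hcd => by
  obtain ⟨u, rfl⟩ := h.surj c
  obtain ⟨v, rfl⟩ := h.surj d
  obtain ⟨m, hm, hmax⟩ := h.exists_maximal u
  obtain ⟨n, hn, hnm⟩ := h.exists_lift_specializes (u := v) (v := m) (by rw [hm]; exact hcd.symm.specializes)
  obtain ⟨l, hl, hln⟩ := h.exists_lift_specializes (u := u) (v := n) (by rw [hn]; exact hcd.specializes)
  obtain rfl := hmax l hl (hln.trans hnm)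
  rw [← hm, ← hn, (hnm.antisymm hln).eq]⟩

theorem QuotData.spectral : SpectralSpace C :=
  have := h.compactSpace
  have := h.prespectral
  have := h.quasiSeparated
  have := h.quasiSober
  have := h.t0
  ⟨⟩

end Quot

end Groth.Agent.AlgStLib.SpectralQuot
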