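import Groth.Agent.AlgStLib.StkPoints
import Groth.Agent.AlgStLib.LocQCalc
import Mathlib

/-!
The topology on the points of an algebraic stack.
-/

set_option autoImplicit false
set_option backward.isDefEq.respectTransparency false
set_option backward.isDefEq.respectTransparency.types false

universe u

open CategoryTheory CategoryTheory.Limits CategoryTheory.Functor AlgebraicGeometry Opposite AlgSp Topology

namespace Groth.Agent.AlgStLib

open Groth.Agent Groth.Agent.FibBasics Groth.Agent.AlgSpLib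

variable {S : Scheme.{u}} {𝒳 𝒴 : AlgSt.Cat S}

theorem ofChart_eq_map {U : Over S} (x : FibCat.overCat U ⥤ᵇ 𝒳) (t : ↥U.left) :
    AlgSt.Points.ofChart x t = AlgSt.Points.map x (AlgSt.Points.ofChart (BasedFunctor.id (FibCat.overCat U)) t) :=
  rfl

theorem ofChart_comp {U : Over S} (x : FibCat.overCat U ⥤ᵇ 𝒳) (f : 𝒳 ⥤ᵇ 𝒴) (t : ↥U.left) :
    AlgSt.Points.ofChart (BasedFunctor.comp x f) t = AlgSt.Points.map f (AlgSt.Points.ofChart x t) :=
  rfl

theorem ofChart_congr {U : Over S} {x x' : FibCat.overCat U ⥤ᵇ 𝒳} (α : x ≅ x') (t : ↥U.left) :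
    AlgSt.Points.ofChart x t = AlgSt.Points.ofChart x' t := by
  rw [ofChart_eq_map x, ofChart_eq_map x']
  exact stk_map_congr α _

/-- The point of a scheme, in the category of its sheaf. -/
theorem toSp_ofChart_ofOverCat {U : Over S} (t : ↥U.left) :
    toSpPoints ((yon S).obj U) (AlgSt.Points.map (AlgSt.ofOverCat U) (AlgSt.Points.ofChart (BasedFunctor.id _) t)) =
      Points.ofPt (𝟙 _) t := by
  refine congrArg Points.mk (congrArg (fun v =>
    (⟨↥(U.left.residueField t), U.left.fromSpecResidueField t ≫ U.hom, v⟩ : FieldPt ((yon S).obj U))) ?_)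
  apply ULift.ext
  apply Over.OverMorphism.ext
  simp
  rfl

theorem toSp_ofChart {A : Sp S} {U : Over S} (g : (yon S).obj U ⟶ A) (t : ↥U.left) :
    toSpPoints A (AlgSt.Points.ofChart (BasedFunctor.comp (AlgSt.ofOverCat U) (AlgSt.ofSpMap g)) t) =
      Points.ofPt g t := by
  rw [ofChart_eq_map, stk_map_comp, toSpPoints_map, toSp_ofChart_ofOverCat, Points.map_ofPt, Category.id_comp]

theorem ofChart_overMap {U' U : Over S} (j : U' ⟶ U) (x : FibCat.overCat U ⥤ᵇ 𝒳) (t : ↥U'.left) :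
    AlgSt.Points.ofChart (BasedFunctor.comp (AlgSt.overMap j) x) t = AlgSt.Points.ofChart x (j.left t) := by
  rw [ofChart_comp, ofChart_eq_map x]
  refine congrArg _ ((stk_map_bijective (ofOverCat_isEquivOver U)).1 ((toSpPoints_bijective _).1 ?_))
  rw [toSp_ofChart_ofOverCat, ← ofChart_comp,
    ofChart_congr (eqToIso (based_ext rfl) : BasedFunctor.comp (AlgSt.overMap j) (AlgSt.ofOverCat U) ≅
      BasedFunctor.comp (AlgSt.ofOverCat U') (AlgSt.ofSpMap ((yon S).map j))),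
    toSp_ofChart, ← ofPt_comp, Category.comp_id]

theorem exists_ofChart_eq {U : Over S} (a : AlgSt.Points (FibCat.overCat U)) :
    ∃ t, AlgSt.Points.ofChart (BasedFunctor.id _) t = a := by
  obtain ⟨t, ht⟩ := exists_ofScheme (toSpPoints _ (AlgSt.Points.map (AlgSt.ofOverCat U) a))
  refine ⟨t, (stk_map_bijective (ofOverCat_isEquivOver U)).1 ((toSpPoints_bijective _).1 ?_)⟩
  rw [toSp_ofChart_ofOverCat, ht]

theorem ofChart_surjective {U : Over S} {x : FibCat.overCat U ⥤ᵇ 𝒳} (hx : AlgSt.IsSurjective x) :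
    Function.Surjective (AlgSt.Points.ofChart x) := fun p => by
  obtain ⟨a, rfl⟩ := hx p
  obtain ⟨t, rfl⟩ := exists_ofChart_eq a
  exact ⟨t, rfl⟩

/-- A scheme covering the base change of a chart. -/
theorem exists_scheme_fp
    {P : MorphismProperty Scheme.{u}} [EtLocal P] {U V : Over S} {x : FibCat.overCat U ⥤ᵇ 𝒳}
    (hx : AlgSt.RepByAlgSpWith (LocP P) x) (v : FibCat.overCat V ⥤ᵇ 𝒳) :
    ∃ (W : Over S) (c : FibCat.overCat W ⥤ᵇ FibCat.fp v x) (j : W ⟶ V) (q : W ⟶ U),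
      AlgSt.IsSurjective c ∧ P j.left ∧
      (∀ t, AlgSt.Points.map (FibCat.fpFst v x) (AlgSt.Points.ofChart c t) =
        AlgSt.Points.ofChart (BasedFunctor.id _) (j.left t)) ∧
      (∀ t, AlgSt.Points.map (FibCat.fpSnd v x) (AlgSt.Points.ofChart c t) =
        AlgSt.Points.ofChart (BasedFunctor.id _) (q.left t)) ∧
      (∀ (Q : MorphismProperty Scheme.{u}), IsLocalOnBase (IsFppfCover (S := S)) (LocP Q) →
        AlgSt.RepByAlgSpWith (LocP Q) v → Q q.left) := by
  obtain ⟨F, e, he, hr⟩ := hx V v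
  obtain ⟨W, a, ha, has⟩ := F.property.atlas
  let r : F.obj ⟶ (yon S).obj V := AlgSt.spMapOfOver (BasedFunctor.comp e (FibCat.fpFst v x))
  let s : F.obj ⟶ (yon S).obj U := AlgSt.spMapOfOver (BasedFunctor.comp e (FibCat.fpSnd v x))
  let j : W ⟶ V := (yon S).preimage (a ≫ r)
  let q : W ⟶ U := (yon S).preimage (a ≫ s)
  let A₀ := BasedFunctor.comp (AlgSt.ofOverCat W) (AlgSt.ofSpMap a)
  let c := BasedFunctor.comp A₀ e
  have hj : a ≫ r = (yon S).map j ≫ 𝟙 _ := by rw [Category.comp_id, Functor.map_preimage]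
  refine ⟨W, c, j, q, ?_, hr a (𝟙 _) j ha (AlgSp.repWith_id _ V) hj, ?_, ?_, fun Q hQ hv => ?_⟩
  · exact isSurjective_comp (isSurjective_comp (stk_map_bijective (ofOverCat_isEquivOver W)).2
      ((isSurjective_ofSpMap_iff a).2 (surjective_map_of_repWith has))) (stk_map_bijective he).2
  · intro t
    apply (stk_map_bijective (ofOverCat_isEquivOver V)).1
    apply (toSpPoints_bijective _).1
    rw [toSp_ofChart_ofOverCat, ← ofChart_comp, ← ofChart_comp]
    let Φ := BasedFunctor.comp (BasedFunctor.comp e (FibCat.fpFst v x)) (AlgSt.ofOverCat V)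
    rw [ofChart_congr (eqToIso (based_ext rfl) :
        BasedFunctor.comp (BasedFunctor.comp c (FibCat.fpFst v x)) (AlgSt.ofOverCat V) ≅ BasedFunctor.comp A₀ Φ),
      ofChart_congr (bWhiskerL A₀ (ofPshMapIso Φ ≪≫ eqToIso (by congr 1) : Φ ≅ AlgSt.ofSpMap r)),
      ofChart_comp A₀ (AlgSt.ofSpMap r), toSpPoints_map, toSp_ofChart, Points.map_ofPt, hj, Category.comp_id, ← ofPt_comp, Category.comp_id]
  · intro t
    apply (stk_map_bijective (ofOverCat_isEquivOver U)).1
    apply (toSpPoints_bijective _).1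
    rw [toSp_ofChart_ofOverCat, ← ofChart_comp, ← ofChart_comp]
    let Φ := BasedFunctor.comp (BasedFunctor.comp e (FibCat.fpSnd v x)) (AlgSt.ofOverCat U)
    rw [ofChart_congr (eqToIso (based_ext rfl) :
        BasedFunctor.comp (BasedFunctor.comp c (FibCat.fpSnd v x)) (AlgSt.ofOverCat U) ≅ BasedFunctor.comp A₀ Φ),
      ofChart_congr (bWhiskerL A₀ (ofPshMapIso Φ ≪≫ eqToIso (by congr 1) : Φ ≅ AlgSt.ofSpMap s)),
      ofChart_comp A₀ (AlgSt.ofSpMap s), toSpPoints_map, toSp_ofChart, Points.map_ofPt, ← (yon S).map_preimage (a ≫ s), ← Category.comp_id ((yon S).map _), ofPt_comp]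
  · obtain ⟨F', e', he', hs⟩ := hv U x
    have : LocP Q s := prop_of_rep_over hQ he' (e' := BasedFunctor.comp e (fpSwap v x))
      (isEquivOver_comp he (fpSwap_isEquivOver v x)) (FibCat.fpFst x v) hs
    exact this a (𝟙 _) q ha (AlgSp.repWith_id _ U) (by rw [Category.comp_id, Functor.map_preimage])

theorem ofChart_fp_eq {U V W : Over S} {x : FibCat.overCat U ⥤ᵇ 𝒳} {v : FibCat.overCat V ⥤ᵇ 𝒳}
    (c : FibCat.overCat W ⥤ᵇ FibCat.fp v x) {j : W ⟶ V} {q : W ⟶ U} (t : ↥W.left)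
    (h1 : AlgSt.Points.map (FibCat.fpFst v x) (AlgSt.Points.ofChart c t) =
      AlgSt.Points.ofChart (BasedFunctor.id _) (j.left t))
    (h2 : AlgSt.Points.map (FibCat.fpSnd v x) (AlgSt.Points.ofChart c t) =
      AlgSt.Points.ofChart (BasedFunctor.id _) (q.left t)) :
    AlgSt.Points.ofChart v (j.left t) = AlgSt.Points.ofChart x (q.left t) := by
  rw [ofChart_eq_map v, ofChart_eq_map x, ← h1, ← h2, ← stk_map_comp, ← stk_map_comp,
    stk_map_congr (FibCat.fpIso v x)]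

theorem surjective_of_scheme_fp (h𝒳 : FibCat.IsFibGrpd 𝒳.p) {U V W : Over S} {x : FibCat.overCat U ⥤ᵇ 𝒳}
    (hxs : AlgSt.IsSurjective x) {v : FibCat.overCat V ⥤ᵇ 𝒳} {c : FibCat.overCat W ⥤ᵇ FibCat.fp v x} {j : W ⟶ V}
    (hc : AlgSt.IsSurjective c)
    (h1 : ∀ t, AlgSt.Points.map (FibCat.fpFst v x) (AlgSt.Points.ofChart c t) =
      AlgSt.Points.ofChart (BasedFunctor.id _) (j.left t)) : Function.Surjective j.left := by
  intro u
  obtain ⟨w, hw⟩ := isSurjective_fpFst (isFibGrpd_overForget V) (isFibGrpd_overForget U) h𝒳 v hxs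
    (AlgSt.Points.ofChart (BasedFunctor.id _) u)
  obtain ⟨t, rfl⟩ := ofChart_surjective hc w
  have a1 := congrArg (fun p => toSpPoints _ (AlgSt.Points.map (AlgSt.ofOverCat V) p)) ((h1 t).symm.trans hw)
  simp only [toSp_ofChart_ofOverCat] at a1
  exact ⟨t, (Points.schemeEquiv V).injective a1⟩

/-- Every scheme chart is continuous on points. -/
theorem continuous_ofChart (h𝒳 : AlgSt.IsAlgStack Scheme.fppfPrecoverage 𝒳) {U : Over S}
    (x : FibCat.overCat U ⥤ᵇ 𝒳) : Continuous (AlgSt.Points.ofChart x) := by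
  refine continuous_def.2 fun O hO => ?_
  obtain ⟨V, v, hv, hvs⟩ := h𝒳.atlas
  obtain ⟨W, c, j, q, hc, hj, h1, h2, -⟩ := exists_scheme_fp (P := @Smooth) hv x
  have hsj : Function.Surjective j.left :=
    surjective_of_scheme_fp h𝒳.isStack.1 (isSurjective_of_repWith h𝒳.isStack.1 hvs) hc h1
  have e : j.left ⁻¹' (AlgSt.Points.ofChart x ⁻¹' O) = q.left ⁻¹' (AlgSt.Points.ofChart v ⁻¹' O) := by
    ext t
    show AlgSt.Points.ofChart x (j.left t) ∈ O ↔ AlgSt.Points.ofChart v (q.left t) ∈ O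
    rw [ofChart_fp_eq c t (h1 t) (h2 t)]
  rw [← Set.image_preimage_eq (AlgSt.Points.ofChart x ⁻¹' O) hsj, e]
  have : Smooth j.left := hj
  exact j.left.isOpenMap _ ((hO V v hv).preimage q.left.continuous)

theorem continuous_points_map (h𝒴 : AlgSt.IsAlgStack Scheme.fppfPrecoverage 𝒴) (f : 𝒳 ⥤ᵇ 𝒴) :
    Continuous (AlgSt.Points.map f) :=
  continuous_def.2 fun _ hO _ x _ => hO.preimage (continuous_ofChart h𝒴 (BasedFunctor.comp x f))

/-- Flat locally finitely presented charts are open on points. -/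
theorem isOpenMap_ofChart (h𝒳 : FibCat.IsFibGrpd 𝒳.p) {U : Over S} {x : FibCat.overCat U ⥤ᵇ 𝒳}
    (hx : AlgSt.RepByAlgSpWith (LocP (@Flat ⊓ @LocallyOfFinitePresentation)) x) :
    IsOpenMap (AlgSt.Points.ofChart x) := by
  intro O hO
  refine AlgSt.Points.isOpen_iff.2 fun V v _ => ?_
  obtain ⟨W, c, j, q, hc, hj, h1, h2, -⟩ := exists_scheme_fp hx v
  have e : AlgSt.Points.ofChart v ⁻¹' (AlgSt.Points.ofChart x '' O) = j.left '' (q.left ⁻¹' O) := by
    ext s
    constructor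
    · rintro ⟨o, ho, hos⟩
      obtain ⟨w, hw1, hw2⟩ := exists_point_fp (isFibGrpd_overForget V) (isFibGrpd_overForget U) h𝒳
        (g := v) (f := x) (AlgSt.Points.ofChart (BasedFunctor.id _) s) (AlgSt.Points.ofChart (BasedFunctor.id _) o)
        hos.symm
      obtain ⟨t, rfl⟩ := ofChart_surjective hc w
      have a1 := congrArg (fun p => toSpPoints _ (AlgSt.Points.map (AlgSt.ofOverCat V) p)) ((h1 t).symm.trans hw1)
      have a2 := congrArg (fun p => toSpPoints _ (AlgSt.Points.map (AlgSt.ofOverCat U) p)) ((h2 t).symm.trans hw2)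
      simp only [toSp_ofChart_ofOverCat] at a1 a2
      have b1 : j.left t = s := (Points.schemeEquiv V).injective a1
      have b2 : q.left t = o := (Points.schemeEquiv U).injective a2
      exact ⟨t, show q.left t ∈ O from b2 ▸ ho, b1⟩
    · rintro ⟨t, ht, rfl⟩
      exact ⟨_, ht, (ofChart_fp_eq c t (h1 t) (h2 t)).symm⟩
  rw [e]
  exact isOpenMap_of_flat_lfp j.left hj _ (hO.preimage q.left.continuous)

theorem repWith_flat_lfp {𝒲 : AlgSt.Cat S} {x : 𝒲 ⥤ᵇ 𝒳} (h1 : AlgSt.RepByAlgSpWith (LocP @Flat) x)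
    (h2 : AlgSt.RepByAlgSpWith (LocP @LocallyOfFinitePresentation) x) :
    AlgSt.RepByAlgSpWith (LocP (@Flat ⊓ @LocallyOfFinitePresentation)) x := fun U y => by
  obtain ⟨F, e, he, hF⟩ := h1 U y
  obtain ⟨F', e', he', hF'⟩ := h2 U y
  exact ⟨F, e, he, locP_inf hF (prop_of_rep_over (isLocalOnBase_fppf (Groth.Agent.S10527.result S)) he' he _ hF')⟩

theorem repWith_flat_lfp_of_smooth {𝒲 : AlgSt.Cat S} {x : 𝒲 ⥤ᵇ 𝒳} (h : AlgSt.RepByAlgSpWith (LocP @Smooth) x) :
    AlgSt.RepByAlgSpWith (LocP (@Flat ⊓ @LocallyOfFinitePresentation)) x :=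
  repWith_mono_prop (fun _ _ _ _ _ ha => locP_mono (fun _ _ k hk => by
    have : Smooth k := hk
    exact ⟨inferInstanceAs (Flat k), inferInstanceAs (LocallyOfFinitePresentation k)⟩) ha) h

theorem isLocalOnBase_fppf_flat_lfp :
    IsLocalOnBase (IsFppfCover (S := S)) (LocP (@Flat ⊓ @LocallyOfFinitePresentation)) := by
  intro ι Y Yi g hY hYi hg X f hX Xi p q hXi sq
  have h1 := isLocalOnBase_fppf_locP (P := @Flat) Yi g hY hYi hg f hX Xi p q hXi sq
  have h2 := (isLocalOnBase_fppf (Groth.Agent.S10527.result S)) Yi g hY hYi hg f hX Xi p q hXi sq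
  exact ⟨fun h i => locP_inf (h1.1 (locP_mono (fun _ _ _ hk => hk.1) h) i) (h2.1 (locP_mono (fun _ _ _ hk => hk.2) h) i),
    fun h => locP_inf (h1.2 fun i => locP_mono (fun _ _ _ hk => hk.1) (h i)) (h2.2 fun i => locP_mono (fun _ _ _ hk => hk.2) (h i))⟩

/-- A space with a flat locally finitely presented map to a stack maps openly on points. -/
theorem isOpenMap_map_of_space (h𝒳 : AlgSt.IsAlgStack Scheme.fppfPrecoverage 𝒳) {A : AlgSp.Space S}
    {u : AlgSt.ofSp A.obj ⥤ᵇ 𝒳} (hu : AlgSt.RepByAlgSpWith (LocP (@Flat ⊓ @LocallyOfFinitePresentation)) u) :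
    IsOpenMap (AlgSt.Points.map u) := by
  obtain ⟨W, a, ha, has⟩ := A.property.atlas
  have hA := isAlgStack_ofSch A
  let w := BasedFunctor.comp (AlgSt.ofOverCat W) (AlgSt.ofSpMap a)
  have hw : AlgSt.RepByAlgSpWith (LocP (@Flat ⊓ @LocallyOfFinitePresentation)) w :=
    repWith_flat_lfp_of_smooth ((repWith_comp_equiv (ofOverCat_isEquivOver W)).2
      (repWith_ofSpMap_smooth (A := ⟨_, IsAlgSpace.yon_obj W⟩) a (smooth_of_etale ha)))
  have hws : Function.Surjective (AlgSt.Points.ofChart w) :=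
    ofChart_surjective (isSurjective_comp (stk_map_bijective (ofOverCat_isEquivOver W)).2
      ((isSurjective_ofSpMap_iff a).2 (surjective_map_of_repWith has)))
  intro O hO
  rw [← Set.image_preimage_eq O hws, ← Set.image_comp]
  exact isOpenMap_ofChart h𝒳.isStack.1
    (repWith_comp_stk (fun _ _ _ hX hY hZ _ _ h h' => locP_comp hX hY hZ h h') isLocalOnBase_fppf_flat_lfp (isFibGrpd_overForget W)
      hA.isStack.1 hw hu) _ (hO.preimage (continuous_ofChart hA w))

theorem isOpen_iff_preimage (h𝒳 : AlgSt.IsAlgStack Scheme.fppfPrecoverage 𝒳) {A : AlgSp.Space S}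
    {u : AlgSt.ofSp A.obj ⥤ᵇ 𝒳} (hu : AlgSt.RepByAlgSpWith (LocP (@Flat ⊓ @LocallyOfFinitePresentation)) u)
    (hs : AlgSt.RepByAlgSpWith IsSurjectiveMor u) (O : Set (AlgSt.Points 𝒳)) :
    IsOpen O ↔ IsOpen (AlgSt.Points.map u ⁻¹' O) :=
  ((isOpenMap_map_of_space h𝒳 hu).isQuotientMap (continuous_points_map h𝒳 u)
    (isSurjective_of_repWith h𝒳.isStack.1 hs)).isOpen_preimage.symm

theorem exists_compact_nhd_points (h𝒳 : AlgSt.IsAlgStack Scheme.fppfPrecoverage 𝒳) (p : AlgSt.Points 𝒳)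
    (O : Set (AlgSt.Points 𝒳)) (hO : IsOpen O) (hp : p ∈ O) :
    ∃ K : Set (AlgSt.Points 𝒳), IsOpen K ∧ IsCompact K ∧ p ∈ K ∧ K ⊆ O := by
  obtain ⟨V, v, hv, hvs⟩ := h𝒳.atlas
  obtain ⟨t, rfl⟩ := ofChart_surjective (isSurjective_of_repWith h𝒳.isStack.1 hvs) p
  obtain ⟨_, ⟨A, hA, rfl⟩, htA, hAO⟩ := V.left.isBasis_affineOpens.exists_subset_of_mem_open
    (show t ∈ AlgSt.Points.ofChart v ⁻¹' O from hp) (hO.preimage (continuous_ofChart h𝒳 v))
  exact ⟨AlgSt.Points.ofChart v '' A,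
    isOpenMap_ofChart h𝒳.isStack.1 (repWith_flat_lfp_of_smooth hv) _ A.isOpen,
    hA.isCompact.image (continuous_ofChart h𝒳 v), ⟨t, htA, rfl⟩, Set.image_subset_iff.2 hAO⟩

end Groth.Agent.AlgStLib

namespace Groth.Agent.AlgStLib

open Groth.Agent Groth.Agent.FibBasics Groth.Agent.AlgSpLib

variable {S : Scheme.{u}} {𝒳 : AlgSt.Cat S}

theorem isQuasiCompact_iff_compactSpace (h𝒳 : AlgSt.IsAlgStack Scheme.fppfPrecoverage 𝒳) :
    (∃ (U : Over S) (x : FibCat.overCat U ⥤ᵇ 𝒳), IsAffine U.left ∧ AlgSt.RepByAlgSpWith (LocP @Smooth) x ∧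
      AlgSt.RepByAlgSpWith IsSurjectiveMor x) ↔ CompactSpace (AlgSt.Points 𝒳) := by
  constructor
  · rintro ⟨U, x, hU, -, hxs⟩
    have : CompactSpace U.left := inferInstance
    exact (ofChart_surjective (isSurjective_of_repWith h𝒳.isStack.1 hxs)).compactSpace (continuous_ofChart h𝒳 x)
  · intro h
    obtain ⟨V, v, hv, hvs⟩ := h𝒳.atlas
    have hs := ofChart_surjective (isSurjective_of_repWith h𝒳.isStack.1 hvs)
    let O : V.left.affineOpens → Set (AlgSt.Points 𝒳) := fun A => AlgSt.Points.ofChart v '' (A : V.left.Opens)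
    obtain ⟨f, hf⟩ := isCompact_univ.elim_finite_subcover O
      (fun A => isOpenMap_ofChart h𝒳.isStack.1 (repWith_flat_lfp_of_smooth hv) _ A.1.isOpen)
      (fun p _ => by
        obtain ⟨t, rfl⟩ := hs p
        obtain ⟨_, ⟨A, hA, rfl⟩, htA, -⟩ := V.left.isBasis_affineOpens.exists_subset_of_mem_open
          (Set.mem_univ t) isOpen_univ
        exact Set.mem_iUnion.2 ⟨⟨A, hA⟩, t, htA, rfl⟩)
    let X : ({A // A ∈ f}) → Scheme.{u} := fun A => (A.1.1 : V.left.Opens)
    let p : ∐ X ⟶ V.left := Sigma.desc fun A => A.1.1.ι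
    let U : Over S := Over.mk (p ≫ V.hom)
    let j : U ⟶ V := Over.homMk p
    have : ∀ A, IsAffine (X A) := fun A => A.1.2
    have : IsAffine U.left := inferInstanceAs (IsAffine (∐ X))
    have hp : ∀ A, Sigma.ι X A ≫ p = A.1.1.ι := fun A => Sigma.ι_desc _ _
    have hj : Smooth j.left := by
      show Smooth p
      rw [IsZariskiLocalAtSource.iff_of_openCover (P := @Smooth) (sigmaOpenCover X)]
      intro A
      show Smooth (Sigma.ι X A ≫ p)
      rw [hp]
      infer_instance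
    let x := BasedFunctor.comp (AlgSt.overMap j) v
    have hm : AlgSt.RepByAlgSpWith (LocP @Smooth) (AlgSt.overMap j) := by
      refine repWith_of_iso (eqToIso (based_ext rfl) : BasedFunctor.comp (BasedFunctor.comp (AlgSt.ofOverCat U)
        (AlgSt.ofSpMap ((yon S).map j))) (AlgSt.toOverCat V) ≅ AlgSt.overMap j) ?_
      refine (repWith_equiv_comp (toOverCat_isEquivOver V)).2 ((repWith_comp_equiv (ofOverCat_isEquivOver U)).2
        (repWith_ofSpMap_smooth (A := ⟨_, IsAlgSpace.yon_obj U⟩) (B := ⟨_, IsAlgSpace.yon_obj V⟩) _ ?_))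
      exact locP_of_repWith ((repWith_yon_map_iff _ j).2 hj) fun _ _ _ k m hk hm => by
        have : Etale k := hk
        have : Smooth m := hm
        infer_instance
    have hx := repWith_smooth_comp (isFibGrpd_overForget U) (isFibGrpd_overForget V) hm hv
    refine ⟨U, x, inferInstance, hx, repWith_surjective_of_isSurjective (isFibGrpd_overForget U) h𝒳.isStack.1
      (rep1_of_with hx) fun q => ?_⟩
    obtain ⟨A, hA, t, ht, rfl⟩ : ∃ A ∈ f, q ∈ O A := by simpa using hf (Set.mem_univ q)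
    refine ⟨AlgSt.Points.ofChart (BasedFunctor.id _) (Sigma.ι X ⟨A, hA⟩ ⟨t, ht⟩), ?_⟩
    rw [← ofChart_eq_map, ofChart_overMap]
    congr 1
    show (Sigma.ι X ⟨A, hA⟩ ≫ p) ⟨t, ht⟩ = t
    rw [hp]
    rfl

end Groth.Agent.AlgStLib
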