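import Groth.Agent.AlgStLib.LocQDescend
import Groth.Agent.AlgStLib.StkTop
import Mathlib

/-!
Lifting objects along flat, locally finitely presented covering families of stacks.
-/

set_option autoImplicit false
set_option backward.isDefEq.respectTransparency false
set_option backward.isDefEq.respectTransparency.types false

universe u

open CategoryTheory CategoryTheory.Limits CategoryTheory.Functor AlgebraicGeometry Opposite AlgSp

namespace Groth.Agent.AlgStLib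

open Groth.Agent Groth.Agent.FibBasics Groth.Agent.AlgSpLib

variable {S : Scheme.{u}} {𝒳 𝒴 : AlgSt.Cat S}

/-- A chart of a fibre product whose first projection is a map of schemes up to isomorphism. -/
theorem exists_chart_lift_iso {P : MorphismProperty Scheme.{u}} [EtLocal P] {U V : Over S}
    {c : FibCat.overCat V ⥤ᵇ 𝒳} (hc : AlgSt.RepByAlgSpWith (LocP P) c) (x : FibCat.overCat U ⥤ᵇ 𝒳) :
    ∃ (W : Over S) (k : FibCat.overCat W ⥤ᵇ FibCat.fp x c) (m : W ⟶ U),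
      AlgSt.IsSurjective k ∧ P m.left ∧ Nonempty (BasedFunctor.comp k (FibCat.fpFst x c) ≅ AlgSt.overMap m) := by
  obtain ⟨F, e, he, hr⟩ := hc U x
  obtain ⟨W, a, ha, has⟩ := F.property.atlas
  let b₀ := BasedFunctor.comp e (FibCat.fpFst x c)
  let r : F.obj ⟶ (yon S).obj U := AlgSt.spMapOfOver b₀
  let m : W ⟶ U := (yon S).preimage (a ≫ r)
  have hm : a ≫ r = (yon S).map m ≫ 𝟙 _ := by rw [Category.comp_id, Functor.map_preimage]
  let A₀ := BasedFunctor.comp (AlgSt.ofOverCat W) (AlgSt.ofSpMap a)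
  let k := BasedFunctor.comp A₀ e
  refine ⟨W, k, m, isSurjective_comp (isSurjective_comp (stk_map_bijective (ofOverCat_isEquivOver W)).2
      ((isSurjective_ofSpMap_iff a).2 (surjective_map_of_repWith has))) (stk_map_bijective he).2,
    hr a (𝟙 _) m ha (AlgSp.repWith_id _ U) hm, ⟨?_⟩⟩
  let i₀ : BasedFunctor.comp b₀ (AlgSt.ofOverCat U) ≅ AlgSt.ofSpMap r := ofPshMapIso _ ≪≫ eqToIso (by congr 1)
  exact (eqToIso (based_ext rfl) : BasedFunctor.comp k (FibCat.fpFst x c) ≅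
      BasedFunctor.comp (BasedFunctor.comp A₀ (BasedFunctor.comp b₀ (AlgSt.ofOverCat U))) (AlgSt.toOverCat U)) ≪≫
    bWhiskerR (bWhiskerL A₀ i₀) (AlgSt.toOverCat U) ≪≫
    bWhiskerR (bWhiskerL (AlgSt.ofOverCat W) (ofSpMapCompIso a r ≪≫
      eqToIso (congrArg AlgSt.ofSpMap (hm.trans (Category.comp_id _))))) (AlgSt.toOverCat U) ≪≫
    eqToIso (based_ext rfl)

/-- A scheme chart of the source whose composite is flat and locally finitely presented. -/
theorem exists_flat_lfp_chart (h𝒳 : AlgSt.IsAlgStack Scheme.fppfPrecoverage 𝒳)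
    (h𝒴 : AlgSt.IsAlgStack Scheme.fppfPrecoverage 𝒴) {f : 𝒳 ⥤ᵇ 𝒴}
    (h₁ : AlgSt.LocQ (LocP @Flat) f) (h₂ : AlgSt.LocQ (LocP @LocallyOfFinitePresentation) f) :
    ∃ (V : Over S) (v : FibCat.overCat V ⥤ᵇ 𝒳), AlgSt.IsSurjective v ∧
      AlgSt.RepByAlgSpWith (LocP (@Flat ⊓ @LocallyOfFinitePresentation)) (BasedFunctor.comp v f) := by
  obtain ⟨V, v, hv, hvs⟩ := h𝒳.atlas
  refine ⟨V, v, isSurjective_of_repWith h𝒳.isStack.1 hvs, ?_⟩
  let w := BasedFunctor.comp (AlgSt.toOverCat V) v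
  have hw : AlgSt.RepByAlgSpWith (LocP @Smooth) w := (repWith_comp_equiv (toOverCat_isEquivOver V)).2 hv
  let W : AlgSp.Space S := ⟨_, IsAlgSpace.yon_obj V⟩
  have hW := isAlgStack_ofSch W
  have hr : AlgSt.RepByAlgSp1 (BasedFunctor.comp w f) := rep1_of_space (W := W) h𝒴 _
  suffices key : AlgSt.RepByAlgSpWith (LocP (@Flat ⊓ @LocallyOfFinitePresentation)) (BasedFunctor.comp w f) from
    (repWith_comp_equiv (f := BasedFunctor.comp v f) (toOverCat_isEquivOver V)).1 key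
  refine (repWith_flat_lfp
    (repWith_of_locQ stLocal_flat.pre stLocal_flat.bc stLocal_flat.loc ?_ isLocalOnBase_fppf_locP
      hW.isStack.1 h𝒴 hr (locQ_comp stLocal_flat ?_ hW h𝒳 h𝒴 (locQ_of_repWith stLocal_flat.pre stLocal_flat.bc h𝒳 ?_) h₁))
    (repWith_of_locQ stLocal_lfp.pre stLocal_lfp.bc stLocal_lfp.loc ?_
      (isLocalOnBase_fppf (Groth.Agent.S10527.result S))
      hW.isStack.1 h𝒴 hr (locQ_comp stLocal_lfp ?_ hW h𝒳 h𝒴 (locQ_of_repWith stLocal_lfp.pre stLocal_lfp.bc h𝒳 ?_) h₂)))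
  · exact fun _ _ _ _ hA hB _ hD _ _ _ _ sq ha => locP_baseChange hA hB hD sq ha
  · exact fun _ _ _ hA hB hC _ _ ha hb => locP_comp hA hB hC ha hb
  · exact repWith_mono_prop (fun _ _ _ _ _ ha => locP_mono (fun _ _ k hk => by have : Smooth k := hk; infer_instance) ha) hw
  · exact fun _ _ _ _ hA hB _ hD _ _ _ _ sq ha => locP_baseChange hA hB hD sq ha
  · exact fun _ _ _ hA hB hC _ _ ha hb => locP_comp hA hB hC ha hb
  · exact repWith_mono_prop (fun _ _ _ _ _ ha => locP_mono (fun _ _ k hk => by have : Smooth k := hk; infer_instance) ha) hw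

theorem exists_fppf_lift (h𝒳 : AlgSt.IsAlgStack Scheme.fppfPrecoverage 𝒳)
    (J : Type u) (𝒳' : J → AlgSt.Cat S) (h𝒳' : ∀ j, AlgSt.IsAlgStack Scheme.fppfPrecoverage (𝒳' j))
    (f : ∀ j, 𝒳' j ⥤ᵇ 𝒳) (hf₁ : ∀ j, AlgSt.LocQ (LocP @Flat) (f j))
    (hf₂ : ∀ j, AlgSt.LocQ (LocP @LocallyOfFinitePresentation) (f j))
    (hf₃ : ∀ p : AlgSt.Points 𝒳, ∃ j, p ∈ Set.range (AlgSt.Points.map (f j)))
    (U : Over S) (x : FibCat.overCat U ⥤ᵇ 𝒳) :
    ∃ (ι : Type u) (V : ι → Over S) (g : ∀ i, V i ⟶ U) (c : ι → J),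
      (Presieve.ofArrows (fun i ↦ (V i).left) fun i ↦ (g i).left) ∈ Scheme.fppfPrecoverage U.left ∧
      ∀ i, ∃ x' : FibCat.overCat (V i) ⥤ᵇ 𝒳' (c i),
        Nonempty (BasedFunctor.comp x' (f (c i)) ≅ BasedFunctor.comp (AlgSt.overMap (g i)) x) := by
  choose V v hvs hv using fun j => exists_flat_lfp_chart (h𝒳' j) h𝒳 (hf₁ j) (hf₂ j)
  choose W k m hks hm hi using fun j => exists_chart_lift_iso (hv j) x
  refine ⟨J, W, m, _root_.id, (Scheme.ofArrows_mem_precoverage_iff _).2 ⟨fun u => ?_, hm⟩, fun j => ?_⟩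
  · obtain ⟨j, a, ha⟩ := hf₃ (AlgSt.Points.ofChart x u)
    obtain ⟨b, rfl⟩ := hvs j a
    rw [← stk_map_comp, ofChart_eq_map] at ha
    obtain ⟨z, hz, -⟩ := exists_point_fp (isFibGrpd_overForget U) (isFibGrpd_overForget (V j)) h𝒳.isStack.1
      (g := x) (f := BasedFunctor.comp (v j) (f j)) _ b ha.symm
    obtain ⟨t, rfl⟩ := ofChart_surjective (hks j) z
    obtain ⟨α⟩ := hi j
    rw [← ofChart_comp, ofChart_congr α,
      ofChart_congr (eqToIso (based_ext rfl) : AlgSt.overMap (m j) ≅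
        BasedFunctor.comp (AlgSt.overMap (m j)) (BasedFunctor.id _)), ofChart_overMap] at hz
    have a1 := congrArg (fun p => toSpPoints _ (AlgSt.Points.map (AlgSt.ofOverCat U) p)) hz
    simp only [toSp_ofChart_ofOverCat] at a1
    exact ⟨j, t, (Points.schemeEquiv U).injective a1⟩
  · obtain ⟨α⟩ := hi j
    exact ⟨BasedFunctor.comp (BasedFunctor.comp (k j) (FibCat.fpSnd x (BasedFunctor.comp (v j) (f j)))) (v j),
      ⟨bWhiskerL (k j) (FibCat.fpIso x (BasedFunctor.comp (v j) (f j))).symm ≪≫ bWhiskerR α x⟩⟩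

end Groth.Agent.AlgStLib
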