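import Groth.Agent.AlgStLib.StkPoints
import Groth.Agent.AlgStLib.RepDiag
import Groth.Agent.AlgStLib.DiagCalc
import Groth.Agent.AlgStLib.ProdStk
import Mathlib

/-!
Monomorphisms on points.
-/

set_option autoImplicit false
set_option backward.isDefEq.respectTransparency false
set_option backward.isDefEq.respectTransparency.types false

universe u

open CategoryTheory CategoryTheory.Limits CategoryTheory.Functor AlgebraicGeometry Opposite AlgSp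

namespace Groth.Agent.AlgStLib

open Groth.Agent Groth.Agent.FibBasics Groth.Agent.AlgSpLib

variable {S : Scheme.{u}} {𝒳 𝒴 : AlgSt.Cat S}

theorem points_injective_of_diag_surjective (h𝒳 : FibCat.IsFibGrpd 𝒳.p) (h𝒴 : FibCat.IsFibGrpd 𝒴.p)
    {f : 𝒳 ⥤ᵇ 𝒴} (h : AlgSt.IsSurjective (FibCat.diag f)) : Function.Injective (AlgSt.Points.map f) := by
  intro a b e
  obtain ⟨c, hc, hc'⟩ := exists_point_fp h𝒳 h𝒳 h𝒴 a b e
  obtain ⟨z, rfl⟩ := h c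
  rw [← stk_map_comp] at hc hc'
  have h1 : AlgSt.Points.map (BasedFunctor.id 𝒳) z = a := hc
  have h2 : AlgSt.Points.map (BasedFunctor.id 𝒳) z = b := hc'
  exact h1.symm.trans h2

theorem points_injective_of_mono (h𝒳 : FibCat.IsFibGrpd 𝒳.p) (h𝒴 : FibCat.IsFibGrpd 𝒴.p)
    {f : 𝒳 ⥤ᵇ 𝒴} (hf : AlgSt.IsMono f) : Function.Injective (AlgSt.Points.map f) :=
  points_injective_of_diag_surjective h𝒳 h𝒴 (isSurjective_of_repWith (fp_isFibGrpd h𝒳 h𝒳 h𝒴)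
    (repWith_diag_of_mono (fun _ _ a _ _ hi => by have := hi; exact surjective_map_of_repWith (repWith_iso a)) hf))

variable {𝒵 : AlgSt.Cat S}

/-- Surjectivity of the diagonal is stable under base change. -/
theorem isSurjective_diag_fpFst (h𝒳 : FibCat.IsFibGrpd 𝒳.p) (h𝒴 : FibCat.IsFibGrpd 𝒴.p)
    (h𝒵 : FibCat.IsFibGrpd 𝒵.p) {f : 𝒳 ⥤ᵇ 𝒴} (g : 𝒵 ⥤ᵇ 𝒴) (h : AlgSt.IsSurjective (FibCat.diag f)) :
    AlgSt.IsSurjective (FibCat.diag (FibCat.fpFst g f)) := by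
  intro c
  obtain ⟨p, rfl⟩ := AlgSt.Points.mk_surjective c
  have hP : FibCat.IsFibGrpd (FibCat.fp g f).p := fp_isFibGrpd h𝒵 h𝒳 h𝒴
  have hQ : FibCat.IsFibGrpd (FibCat.fp (FibCat.fpFst g f) (FibCat.fpFst g f)).p := fp_isFibGrpd hP hP h𝒵
  have := isFibered_of_isFibGrpd _ hQ
  obtain ⟨T, -, ⟨i⟩⟩ := exists_evalAtId_iso (⟨p.obj, p.lies⟩ :
    (FibCat.fp (FibCat.fpFst g f) (FibCat.fpFst g f)).p.Fiber (fptBase p))
  have hs : AlgSt.IsSurjective (FibCat.fpFst T (FibCat.diag (FibCat.fpFst g f))) :=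
    isSurjective_of_iso (eqToIso (based_ext rfl) :
      BasedFunctor.comp (bcDiag f g T) (FibCat.fpFst (BasedFunctor.comp T (bcPair f g)) (FibCat.diag f)) ≅
        FibCat.fpFst T (FibCat.diag (FibCat.fpFst g f)))
      ((isSurjective_comp_equiv_iff (bcDiag_isEquivOver f g T)).2
        (isSurjective_fpFst (isFibGrpd_overForget _) h𝒳 (fp_isFibGrpd h𝒳 h𝒳 h𝒴) _ h))
  obtain ⟨z, hz⟩ := hs (AlgSt.Points.mk ⟨p.K, p.str, one (fptBase p), rfl⟩)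
  refine ⟨AlgSt.Points.map (FibCat.fpSnd T (FibCat.diag (FibCat.fpFst g f))) z, ?_⟩
  rw [← stk_map_comp, ← stk_map_congr (FibCat.fpIso T _), stk_map_comp, hz]
  exact AlgSt.Points.sound ⟨⟨p.K, p.str, T.obj (one (fptBase p)), T.w_obj _⟩, 𝟙 _, i.hom.1, trivial⟩

theorem isUnivInjective_iff (h𝒳 : AlgSt.IsAlgStack Scheme.fppfPrecoverage 𝒳)
    (h𝒴 : AlgSt.IsAlgStack Scheme.fppfPrecoverage 𝒴) (f : 𝒳 ⥤ᵇ 𝒴) :
    AlgSt.IsUnivInjective Scheme.fppfPrecoverage f ↔ AlgSt.IsSurjective (FibCat.diag f) := by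
  constructor
  · intro h c
    refine ⟨AlgSt.Points.map (FibCat.fpFst f f) c, h 𝒳 h𝒳 f ?_⟩
    rw [← stk_map_comp]
    exact stk_map_id _
  · exact fun h 𝒲 hW g => points_injective_of_diag_surjective (fp_isFibGrpd hW.isStack.1 h𝒳.isStack.1 h𝒴.isStack.1)
      hW.isStack.1 (isSurjective_diag_fpFst h𝒳.isStack.1 h𝒴.isStack.1 hW.isStack.1 g h)

theorem isUnivInjective_fpFst {f : 𝒳 ⥤ᵇ 𝒴} (g : 𝒵 ⥤ᵇ 𝒴) (hf : AlgSt.IsUnivInjective Scheme.fppfPrecoverage f) :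
    AlgSt.IsUnivInjective Scheme.fppfPrecoverage (FibCat.fpFst g f) := fun 𝒲 hW k a b e =>
  (stk_map_bijective (fpPaste_isEquivOver f g k)).1 (hf 𝒲 hW (BasedFunctor.comp k g)
    ((stk_map_comp (fpPaste f g k) (FibCat.fpFst (BasedFunctor.comp k g) f) a).symm.trans
      (e.trans (stk_map_comp (fpPaste f g k) (FibCat.fpFst (BasedFunctor.comp k g) f) b))))

theorem isUnivInjective_comp (h𝒴 : AlgSt.IsAlgStack Scheme.fppfPrecoverage 𝒴)
    (h𝒵 : AlgSt.IsAlgStack Scheme.fppfPrecoverage 𝒵) {f : 𝒳 ⥤ᵇ 𝒴} {g : 𝒴 ⥤ᵇ 𝒵}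
    (hf : AlgSt.IsUnivInjective Scheme.fppfPrecoverage f) (hg : AlgSt.IsUnivInjective Scheme.fppfPrecoverage g) :
    AlgSt.IsUnivInjective Scheme.fppfPrecoverage (BasedFunctor.comp f g) := fun 𝒲 hW k a b e => by
  obtain ⟨a', rfl⟩ := (stk_map_bijective (fpAssoc_isEquivOver f g k)).2 a
  obtain ⟨b', rfl⟩ := (stk_map_bijective (fpAssoc_isEquivOver f g k)).2 b
  rw [← stk_map_comp, ← stk_map_comp] at e
  refine congrArg _ (hf _ (isAlgStack_fp h𝒵.isStack.1 h𝒵.diag hW h𝒴 k g) (FibCat.fpSnd k g) (hg 𝒲 hW k ?_))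
  rw [← stk_map_comp, ← stk_map_comp]
  exact e

end Groth.Agent.AlgStLib
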