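import Groth.Agent.AlgStLib.StkPointsMono
import Groth.Agent.AlgStLib.LocQCalc
import Groth.Agent.AlgStLib.LocQDescend
import Groth.Agent.AlgStLib.DiagLft
import Groth.Agent.AlgStLib.StkTop
import Groth.Agent.AlgStLib.LocQStmts
import Groth.Agent.AlgSpLib.RationalPoint
import Mathlib

/-!
Points with values in algebraically closed fields and surjectivity of the diagonal.
-/

set_option autoImplicit false
set_option backward.isDefEq.respectTransparency false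
set_option backward.isDefEq.respectTransparency.types false

universe u

open CategoryTheory CategoryTheory.Limits CategoryTheory.Functor AlgebraicGeometry Opposite AlgSp

namespace Groth.Agent.AlgStLib

open Groth.Agent Groth.Agent.FibBasics Groth.Agent.AlgSpLib

variable {S : Scheme.{u}} {𝒳 𝒴 𝒵 𝒜 : AlgSt.Cat S}

/-- A chart of a fibre product with a scheme. -/
theorem exists_scheme_chart_fp {P : MorphismProperty Scheme.{u}} [EtLocal P] {U : Over S}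
    {c : 𝒜 ⥤ᵇ 𝒳} (hc : AlgSt.RepByAlgSpWith (LocP P) c) (x : FibCat.overCat U ⥤ᵇ 𝒳) :
    ∃ (W : Over S) (k : FibCat.overCat W ⥤ᵇ FibCat.fp x c) (m : W ⟶ U),
      AlgSt.IsSurjective k ∧ P m.left ∧ Nonempty (BasedFunctor.comp k (FibCat.fpFst x c) ≅ AlgSt.overMap m) := by
  obtain ⟨F, e, he, hr⟩ := hc U x
  obtain ⟨W, a, ha, has⟩ := F.property.atlas
  let b₀ := BasedFunctor.comp e (FibCat.fpFst x c)
  let r : F.obj ⟶ (yon S).obj U := AlgSt.spMapOfOver b₀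
  let m : W ⟶ U := (yon S).preimage (a ≫ r)
  have hm : a ≫ r = (yon S).map m ≫ 𝟙 _ := by rw [Category.comp_id, Functor.map_preimage]
  let A₀ := BasedFunctor.comp (AlgSt.ofOverCat W) (AlgSt.ofSpMap a)
  let k := BasedFunctor.comp A₀ e
  refine ⟨W, k, m, isSurjective_comp (isSurjective_comp (stk_map_bijective (ofOverCat_isEquivOver W)).2
      ((isSurjective_ofSpMap_iff a).2 (surjective_map_of_repWith has))) (stk_map_bijective he).2,
    hr a (𝟙 _) m ha (AlgSp.repWith_id _ U) hm, ⟨?_⟩⟩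
  let i₀ : BasedFunctor.comp b₀ (AlgSt.ofOverCat U) ≅ AlgSt.ofSpMap r := ofPshMapIso _ ≪≫ eqToIso (by congr 1)
  exact (eqToIso (based_ext rfl) : BasedFunctor.comp k (FibCat.fpFst x c) ≅
      BasedFunctor.comp (BasedFunctor.comp A₀ (BasedFunctor.comp b₀ (AlgSt.ofOverCat U))) (AlgSt.toOverCat U)) ≪≫
    bWhiskerR (bWhiskerL A₀ i₀) (AlgSt.toOverCat U) ≪≫
    bWhiskerR (bWhiskerL (AlgSt.ofOverCat W) (ofSpMapCompIso a r ≪≫
      eqToIso (congrArg AlgSt.ofSpMap (hm.trans (Category.comp_id _))))) (AlgSt.toOverCat U) ≪≫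
    eqToIso (based_ext rfl)

/-- An object from a section of the first projection. -/
theorem exists_obj_of_section {T : Over S} (h𝒴 : FibCat.IsFibGrpd 𝒴.p) {Y : FibCat.overCat T ⥤ᵇ 𝒴} {h : 𝒳 ⥤ᵇ 𝒴}
    {y : 𝒴.obj} {i : Y.obj (one T) ⟶ y} (hi : 𝒴.p.IsHomLift (𝟙 T) i)
    (G : FibCat.overCat T ⥤ᵇ FibCat.fp Y h)
    (α : BasedFunctor.comp G (FibCat.fpFst Y h) ≅ BasedFunctor.id (FibCat.overCat T)) :
    ∃ (x : 𝒳.obj) (φ : h.obj x ⟶ y), 𝒳.p.obj x = T ∧ 𝒴.p.IsHomLift (𝟙 T) φ := by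
  let ξ := G.obj (one T)
  let γ : ξ.obj.fst ⟶ one T := α.hom.toNatTrans.app (one T)
  have hγ : (FibCat.overCat T).p.IsHomLift (𝟙 T) γ := α.hom.isHomLift' (one T)
  have hfst : (FibCat.overCat T).p.obj ξ.obj.fst = T := G.w_obj (one T)
  have h1 : 𝒴.p.IsHomLift (𝟙 T) ξ.obj.iso.hom := fp_iso_lift ξ hfst
  have h2 : 𝒴.p.IsHomLift (𝟙 T) ξ.obj.iso.inv := IsHomLift.lift_id_inv _ T ξ.obj.iso
  have h3 : 𝒴.p.IsHomLift (𝟙 T) (Y.map γ) := (BasedFunctor.isHomLift_iff Y _ _).2 hγ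
  exact ⟨ξ.obj.snd, ξ.obj.iso.inv ≫ Y.map γ ≫ i, (fp_snd_proj ξ).trans hfst, inferInstance⟩

theorem eq_of_overMap_iso {U V : Over S} {a b : U ⟶ V} (α : AlgSt.overMap a ≅ AlgSt.overMap b) : a = b := by
  let φ : (AlgSt.overMap a).obj (one U) ⟶ (AlgSt.overMap b).obj (one U) := α.hom.toNatTrans.app (one U)
  have hφ : (FibCat.overCat V).p.IsHomLift (𝟙 U) φ := α.hom.isHomLift' (one U)
  have h1 := IsHomLift.fac' (FibCat.overCat V).p (𝟙 U) φ
  have h2 : φ.left ≫ 𝟙 U ≫ b = 𝟙 U ≫ a := Over.w φ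
  have h3 : φ.left = 𝟙 U := by
    refine h1.trans ?_
    exact (Category.id_comp _).trans (Category.id_comp _)
  rw [h3] at h2
  exact ((Category.id_comp a).symm.trans (h2.symm.trans ((Category.id_comp (𝟙 U ≫ b)).trans (Category.id_comp b))))

theorem nonempty_points_overCat (k : Type u) [Field k] (s : Spec (CommRingCat.of k) ⟶ S) :
    Nonempty (AlgSt.Points (FibCat.overCat (Over.mk s))) :=
  ⟨AlgSt.Points.mk ⟨k, s, one (Over.mk s), rfl⟩⟩

/-- Surjective diagonals lift isomorphisms over algebraically closed fields. -/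
theorem exists_map_eq_of_diag_surjective (h𝒳 : AlgSt.IsAlgStack Scheme.fppfPrecoverage 𝒳)
    (h𝒴 : AlgSt.IsAlgStack Scheme.fppfPrecoverage 𝒴) {f : 𝒳 ⥤ᵇ 𝒴} (h : AlgSt.IsSurjective (FibCat.diag f))
    (k : Type u) [Field k] [IsAlgClosed k] (s : Spec (CommRingCat.of k) ⟶ S) {a₁ a₂ : 𝒳.obj}
    (e₁ : 𝒳.p.obj a₁ = Over.mk s) (e₂ : 𝒳.p.obj a₂ = Over.mk s) (β : f.obj a₁ ⟶ f.obj a₂)
    (hβ : 𝒴.p.IsHomLift (𝟙 (Over.mk s)) β) :
    ∃ α : a₁ ⟶ a₂, 𝒳.p.IsHomLift (𝟙 (Over.mk s)) α ∧ f.map α = β := by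
  have hX := h𝒳.isStack.1
  have hY := h𝒴.isStack.1
  have hP : FibCat.IsFibGrpd (FibCat.fp f f).p := fp_isFibGrpd hX hX hY
  have := isFibered_of_isFibGrpd _ hP
  have hβi : IsIso β := isIso_of_isFibGrpd 𝒴.p hY (𝟙 (Over.mk s)) β
  let z : (FibCat.fp f f).obj := ⟨{ fst := a₁, snd := a₂, iso := asIso β }, by
    show 𝒴.p.IsHomLift (𝟙 (𝒳.p.obj a₁)) β
    rw [e₁]; exact hβ⟩
  obtain ⟨T, -, ⟨i⟩⟩ := exists_evalAtId_iso (⟨z, e₁⟩ : (FibCat.fp f f).p.Fiber (Over.mk s))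
  obtain ⟨W, c, m, hc, hm, ⟨μ⟩⟩ := exists_scheme_chart_fp (repWith_lft_diag h𝒳 h𝒴 f) T
  have : LocallyOfFiniteType m.left := hm
  obtain ⟨p₀⟩ := nonempty_points_overCat k s
  obtain ⟨q, -⟩ := isSurjective_fpFst (isFibGrpd_overForget _) hX hP T h p₀
  obtain ⟨t, -⟩ := ofChart_surjective hc q
  have : Nonempty W.left := ⟨t⟩
  have : JacobsonSpace ↥(Over.mk s).left := inferInstanceAs (JacobsonSpace (PrimeSpectrum k))
  have : JacobsonSpace W.left := LocallyOfFiniteType.jacobsonSpace m.left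
  obtain ⟨x, -, hx⟩ := nonempty_inter_closedPoints (Z := (Set.univ : Set W.left)) Set.univ_nonempty
    isOpen_univ.isLocallyClosed
  let σ : Over.mk s ⟶ W := Over.homMk (pointOfClosedPoint m.left x hx) (by
    rw [← Over.w m]
    exact pointOfClosedPoint_comp_assoc _ _ _ _)
  have hσ : σ ≫ m = 𝟙 _ := Over.OverMorphism.ext (pointOfClosedPoint_comp _ _ _)
  let G := BasedFunctor.comp (AlgSt.overMap σ) c
  let α₀ : BasedFunctor.comp G (FibCat.fpFst T (FibCat.diag f)) ≅ BasedFunctor.id _ :=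
    bWhiskerL (AlgSt.overMap σ) μ ≪≫ eqToIso (based_ext ((Over.mapComp_eq σ m).symm.trans (by
      rw [hσ]; exact Over.mapId_eq _)))
  obtain ⟨b, φ, hb, hφ⟩ := exists_obj_of_section hP (y := z) (i := i.hom.1) i.hom.2 G α₀
  have hφi : IsIso φ := isIso_of_isFibGrpd (FibCat.fp f f).p hP (𝟙 (Over.mk s)) φ
  let μ₁ : b ≅ a₁ := (FibCat.fpFst f f).toFunctor.mapIso (asIso φ)
  let μ₂ : b ≅ a₂ := (FibCat.fpSnd f f).toFunctor.mapIso (asIso φ)
  have hw : f.map μ₁.hom ≫ β = 𝟙 _ ≫ f.map μ₂.hom := φ.hom.w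
  have l1 : 𝒳.p.IsHomLift (𝟙 (Over.mk s)) μ₁.hom := fp_lift_fst (𝟙 (Over.mk s)) φ
  have l2 : 𝒳.p.IsHomLift (𝟙 (Over.mk s)) μ₂.hom := fp_lift_snd (𝟙 (Over.mk s)) φ
  have l1' : 𝒳.p.IsHomLift (𝟙 (Over.mk s)) μ₁.inv := IsHomLift.lift_id_inv _ _ μ₁
  refine ⟨μ₁.inv ≫ μ₂.hom, inferInstance, ?_⟩
  rw [f.toFunctor.map_comp, ← Category.id_comp (f.map μ₂.hom), ← hw, ← f.toFunctor.map_comp_assoc,
    μ₁.inv_hom_id, f.toFunctor.map_id, Category.id_comp]

/-- The converse. -/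
theorem diag_surjective_of_exists_map_eq (h𝒳 : FibCat.IsFibGrpd 𝒳.p) (h𝒴 : FibCat.IsFibGrpd 𝒴.p) {f : 𝒳 ⥤ᵇ 𝒴}
    (H : ∀ (k : Type u) [Field k] [IsAlgClosed k] (s : Spec (CommRingCat.of k) ⟶ S) (a₁ a₂ : 𝒳.obj)
        (_ : 𝒳.p.obj a₁ = Over.mk s) (_ : 𝒳.p.obj a₂ = Over.mk s) (β : f.obj a₁ ⟶ f.obj a₂),
        𝒴.p.IsHomLift (𝟙 (Over.mk s)) β →
          ∃ α : a₁ ⟶ a₂, 𝒳.p.IsHomLift (𝟙 (Over.mk s)) α ∧ f.map α = β) :
    AlgSt.IsSurjective (FibCat.diag f) := by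
  intro c
  obtain ⟨p, rfl⟩ := AlgSt.Points.mk_surjective c
  let Ω := AlgebraicClosure p.K
  let a₀ : Spec (CommRingCat.of Ω) ⟶ Spec (CommRingCat.of p.K) :=
    Spec.map (CommRingCat.ofHom (algebraMap p.K Ω))
  let a : Over.mk (a₀ ≫ p.str) ⟶ fptBase p := Over.homMk a₀
  obtain ⟨z, hz, m, hm⟩ := exists_fpt_pullback (fp_isFibGrpd h𝒳 h𝒳 h𝒴) p a
  have hz₁ : 𝒳.p.obj z.obj.fst = Over.mk (a₀ ≫ p.str) := hz
  obtain ⟨α, hα, hfα⟩ := H Ω (a₀ ≫ p.str) z.obj.fst z.obj.snd hz₁ ((fp_snd_proj z).trans hz₁) z.obj.iso.hom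
    (fp_iso_lift z hz₁)
  let n : (FibCat.diag f).obj z.obj.fst ⟶ z := fpHom (𝟙 _) α (by
    show f.map (𝟙 z.obj.fst) ≫ z.obj.iso.hom = 𝟙 _ ≫ f.map α
    rw [f.toFunctor.map_id, hfα])
  refine ⟨AlgSt.Points.mk ⟨Ω, a₀ ≫ p.str, z.obj.fst, hz₁⟩, AlgSt.Points.sound ?_⟩
  exact ⟨⟨Ω, a₀ ≫ p.str, (FibCat.diag f).obj z.obj.fst, hz₁⟩, 𝟙 _, n ≫ m, trivial⟩

/-- Points of the source lift objects over algebraically closed fields. -/
theorem exists_lift_of_diag_surjective (h𝒳 : AlgSt.IsAlgStack Scheme.fppfPrecoverage 𝒳)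
    (h𝒴 : AlgSt.IsAlgStack Scheme.fppfPrecoverage 𝒴) {f : 𝒳 ⥤ᵇ 𝒴} (hΔ : AlgSt.IsSurjective (FibCat.diag f))
    (k : Type u) [Field k] [IsAlgClosed k] (s : Spec (CommRingCat.of k) ⟶ S) (y : 𝒴.obj)
    (hy : 𝒴.p.obj y = Over.mk s)
    (h : AlgSt.Points.mk ⟨k, s, y, hy⟩ ∈ Set.range (AlgSt.Points.map f)) :
    ∃ (x : 𝒳.obj) (φ : f.obj x ⟶ y), 𝒳.p.obj x = Over.mk s ∧ 𝒴.p.IsHomLift (𝟙 (Over.mk s)) φ := by
  have hX := h𝒳.isStack.1
  have hY := h𝒴.isStack.1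
  have := isFibered_of_isFibGrpd _ hY
  obtain ⟨Y, -, ⟨iy⟩⟩ := exists_evalAtId_iso (⟨y, hy⟩ : 𝒴.p.Fiber (Over.mk s))
  let sk : AlgSp.Space S := ⟨_, IsAlgSpace.yon_obj (Over.mk s)⟩
  have hℱ : AlgSt.IsAlgStack Scheme.fppfPrecoverage (FibCat.fp Y f) := by
    exact isAlgStack_of_equiv (fpMapFst_isEquivOver (AlgSt.toOverCat (Over.mk s)) Y f
      (toOverCat_isEquivOver _))
      (isAlgStack_fp hY h𝒴.diag (isAlgStack_ofSch sk) h𝒳 (BasedFunctor.comp (AlgSt.toOverCat _) Y) f)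
  let g := FibCat.fpFst Y f
  have hk := isFibGrpd_overForget (Over.mk s)
  have hΔ' : AlgSt.IsSurjective (FibCat.diag g) := isSurjective_diag_fpFst hX hY hk Y hΔ
  obtain ⟨a, ha⟩ := h
  obtain ⟨z₀, -, -⟩ := exists_point_fp hk hX hY (g := Y) (f := f)
    (AlgSt.Points.mk ⟨k, s, one (Over.mk s), rfl⟩) a (by
      rw [ha]
      exact AlgSt.Points.sound ⟨⟨k, s, Y.obj (one (Over.mk s)), Y.w_obj _⟩, 𝟙 _, iy.hom.1, trivial⟩)
  obtain ⟨U, u, hu, hus⟩ := hℱ.atlas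
  obtain ⟨t₀, -⟩ := ofChart_surjective (isSurjective_of_repWith hℱ.isStack.1 hus) z₀
  obtain ⟨_, ⟨A₀, hA, rfl⟩, htA, -⟩ := U.left.isBasis_affineOpens.exists_subset_of_mem_open
    (Set.mem_univ t₀) isOpen_univ
  let A : U.left.Opens := A₀
  -- work on an affine piece of the atlas
  let U' : Over S := Over.mk (hA.isoSpec.inv ≫ A.ι ≫ U.hom)
  let u' := BasedFunctor.comp (AlgSt.overMap (Over.homMk (hA.isoSpec.inv ≫ A.ι) : U' ⟶ U)) u
  have hu' : AlgSt.RepByAlgSpWith (LocP @Smooth) u' := by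
    have hsm : Smooth (Over.homMk (hA.isoSpec.inv ≫ A.ι) : U' ⟶ U).left :=
      inferInstanceAs (Smooth (hA.isoSpec.inv ≫ A.ι))
    refine repWith_smooth_comp (isFibGrpd_overForget U') (isFibGrpd_overForget U) ?_ hu
    refine repWith_of_iso (eqToIso (based_ext rfl) : BasedFunctor.comp (BasedFunctor.comp (AlgSt.ofOverCat U')
      (AlgSt.ofSpMap ((yon S).map (Over.homMk (hA.isoSpec.inv ≫ A.ι) : U' ⟶ U)))) (AlgSt.toOverCat U) ≅
        AlgSt.overMap _) ?_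
    refine (repWith_equiv_comp (toOverCat_isEquivOver U)).2 ((repWith_comp_equiv (ofOverCat_isEquivOver U')).2
      (repWith_ofSpMap_smooth (A := ⟨_, IsAlgSpace.yon_obj U'⟩) (B := ⟨_, IsAlgSpace.yon_obj U⟩) _ ?_))
    exact locP_of_repWith ((repWith_yon_map_iff @Smooth _).2 hsm) fun _ _ _ k m hk hm => by
      have : Etale k := hk
      have : Smooth m := hm
      infer_instance
  let t : U'.left := hA.isoSpec.hom ⟨t₀, htA⟩
  have : Nontrivial Γ(U.left, A) :=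
    (PrimeSpectrum.nonempty_iff_nontrivial).1 ⟨t⟩
  let K := AlgebraicClosure (U'.left.residueField t)
  let pt : Spec (CommRingCat.of K) ⟶ U'.left :=
    Spec.map (CommRingCat.ofHom (algebraMap (U'.left.residueField t) K)) ≫ U'.left.fromSpecResidueField t
  let V : Over S := Over.mk (pt ≫ U'.hom)
  let v := BasedFunctor.comp (AlgSt.overMap (Over.homMk pt : V ⟶ U')) u'
  -- the two structure maps
  obtain ⟨mU, ⟨iU⟩⟩ := exists_iso_overMap (BasedFunctor.comp u' g)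
  obtain ⟨mK, ⟨iK⟩⟩ := exists_iso_overMap (BasedFunctor.comp v g)
  obtain ⟨W, c, j, hc, hj, ⟨μ⟩⟩ := exists_scheme_chart_fp (P := @Smooth) hu' v
  have : Smooth j.left := hj
  let θ := BasedFunctor.comp (magic v u' g) (FibCat.fpFst (pairMap v u' g) (FibCat.diag g))
  have hθ : AlgSt.IsSurjective θ := isSurjective_comp (stk_map_bijective (magic_isEquivOver v u' g)).2
    (isSurjective_fpFst (fp_isFibGrpd (isFibGrpd_overForget V) (isFibGrpd_overForget U') hk) hℱ.isStack.1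
      (fp_isFibGrpd hℱ.isStack.1 hℱ.isStack.1 hk) _ hΔ')
  -- the product scheme
  let P : Over S := pullback mK mU
  have sP : IsPullback (pullback.fst mK mU) (pullback.snd mK mU) mK mU := IsPullback.of_hasPullback _ _
  have sq : IsPullback ((yon S).map (pullback.fst mK mU)).hom ((yon S).map (pullback.snd mK mU)).hom
      ((yon S).map mK).hom ((yon S).map mU).hom :=
    (yon_isPullback sP).map (sheafToPresheaf (J S) (Type (u + 1)))
  obtain ⟨L, hL, -, ⟨εL⟩⟩ := isEquivOver_symm (sqFun_isEquivOver sq)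
  let oV := AlgSt.ofOverCat V
  let oU := AlgSt.ofOverCat U'
  let o := AlgSt.ofOverCat (Over.mk s)
  let jK : BasedFunctor.comp (BasedFunctor.comp v g) o ≅ BasedFunctor.comp oV (AlgSt.ofSpMap ((yon S).map mK)) :=
    bWhiskerR iK o ≪≫ eqToIso (based_ext rfl)
  let jU : BasedFunctor.comp (BasedFunctor.comp u' g) o ≅ BasedFunctor.comp oU (AlgSt.ofSpMap ((yon S).map mU)) :=
    bWhiskerR iU o ≪≫ eqToIso (based_ext rfl)
  let E := BasedFunctor.comp (fpPost (BasedFunctor.comp v g) (BasedFunctor.comp u' g) o)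
    (BasedFunctor.comp (fpIsoFst jK _) (BasedFunctor.comp (fpIsoSnd _ jU)
      (BasedFunctor.comp (fpMapFst oV (AlgSt.ofSpMap ((yon S).map mK)) _)
        (fpMapSnd (AlgSt.ofSpMap ((yon S).map mK)) oU (AlgSt.ofSpMap ((yon S).map mU))))))
  have hE : FibCat.IsEquivOver E := isEquivOver_comp (fpPost_isEquivOver _ _ (ofOverCat_isEquivOver _))
    (isEquivOver_comp (fpIsoFst_isEquivOver jK _) (isEquivOver_comp (fpIsoSnd_isEquivOver _ jU)
      (isEquivOver_comp (fpMapFst_isEquivOver _ _ _ (ofOverCat_isEquivOver V))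
        (fpMapSnd_isEquivOver _ (ofOverCat_isEquivOver U') _))))
  let Φ := BasedFunctor.comp (BasedFunctor.comp c (BasedFunctor.comp θ E)) L
  obtain ⟨l, ⟨il⟩⟩ := exists_iso_overMap (BasedFunctor.comp Φ (AlgSt.toOverCat P))
  have hΦ : AlgSt.IsSurjective (BasedFunctor.comp Φ (AlgSt.toOverCat P)) :=
    isSurjective_comp (isSurjective_comp (isSurjective_comp hc (isSurjective_comp hθ (stk_map_bijective hE).2))
      (stk_map_bijective hL).2) (stk_map_bijective (toOverCat_isEquivOver P)).2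
  have : Surjective l.left := ⟨fun p => by
    obtain ⟨w, hw⟩ := ofChart_surjective (isSurjective_of_iso il hΦ) (AlgSt.Points.ofChart (BasedFunctor.id _) p)
    rw [ofChart_congr (eqToIso (based_ext rfl) : AlgSt.overMap l ≅
      BasedFunctor.comp (AlgSt.overMap l) (BasedFunctor.id _)), ofChart_overMap] at hw
    have a1 := congrArg (fun q => toSpPoints _ (AlgSt.Points.map (AlgSt.ofOverCat P) q)) hw
    simp only [toSp_ofChart_ofOverCat] at a1
    exact ⟨w, (Points.schemeEquiv P).injective a1⟩⟩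
  have hl : l ≫ pullback.fst mK mU = j := by
    let Fst := FibCat.fpFst (AlgSt.ofSpMap ((yon S).map mK)) (AlgSt.ofSpMap ((yon S).map mU))
    let p₁ := AlgSt.ofSpMap ((yon S).map (pullback.fst mK mU))
    let i₁ : BasedFunctor.comp Φ p₁ ≅ BasedFunctor.comp (BasedFunctor.comp c (FibCat.fpFst v u')) oV :=
      eqToIso (based_ext rfl) ≪≫ bWhiskerR (bWhiskerL (BasedFunctor.comp c (BasedFunctor.comp θ E)) εL) Fst ≪≫
        eqToIso (based_ext rfl)
    refine eq_of_overMap_iso ?_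
    exact (eqToIso (based_ext (Over.mapComp_eq l (pullback.fst mK mU))) :
        AlgSt.overMap (l ≫ pullback.fst mK mU) ≅
          BasedFunctor.comp (AlgSt.overMap l) (AlgSt.overMap (pullback.fst mK mU))) ≪≫
      bWhiskerR il.symm _ ≪≫ eqToIso (based_ext rfl) ≪≫ bWhiskerR i₁ (AlgSt.toOverCat V) ≪≫
      eqToIso (based_ext rfl) ≪≫ μ
  -- to schemes over `k`
  let β : CommRingCat.of k ⟶ CommRingCat.of K := Spec.preimage mK.left
  let α : CommRingCat.of k ⟶ Γ(U.left, A) := Spec.preimage mU.left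
  let e : P.left ≅ pullback (Spec.map α) (Spec.map β) :=
    (left_isPullback sP).flip.isoPullback ≪≫ pullback.congrHom (Spec.map_preimage _).symm (Spec.map_preimage _).symm
  have he : e.hom ≫ pullback.snd (Spec.map α) (Spec.map β) = (pullback.fst mK mU).left := by
    simp only [e, Iso.trans_hom, Category.assoc, pullback.congrHom_hom]
    refine (congrArg ((left_isPullback sP).flip.isoPullback.hom ≫ ·) ((pullback.lift_snd _ _ _).trans
      (Category.comp_id _))).trans ?_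
    exact (left_isPullback sP).flip.isoPullback_hom_snd
  let l' := l.left ≫ e.hom
  have : LocallyOfFiniteType (l' ≫ pullback.snd (Spec.map α) (Spec.map β)) := by
    rw [Category.assoc, he, ← Over.comp_left, hl]
    exact (inferInstanceAs (LocallyOfFiniteType j.left))
  obtain ⟨σ₀, hσ₀⟩ := exists_section_of_surjective α β l'
  rw [Spec.map_preimage] at hσ₀
  let σ : Over.mk s ⟶ U' := Over.homMk σ₀ (by
    rw [← Over.w mU]
    exact (Category.assoc _ _ _).symm.trans ((congrArg (· ≫ (Over.mk s).hom) hσ₀).trans (Category.id_comp _)))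
  have hσ : σ ≫ mU = 𝟙 _ := Over.OverMorphism.ext hσ₀
  let G := BasedFunctor.comp (AlgSt.overMap σ) u'
  let αG : BasedFunctor.comp G g ≅ BasedFunctor.id _ :=
    bWhiskerL (AlgSt.overMap σ) iU ≪≫ eqToIso (based_ext ((Over.mapComp_eq σ mU).symm.trans (by
      rw [hσ]; exact Over.mapId_eq _)))
  exact exists_obj_of_section hY (i := iy.hom.1) iy.hom.2 G αG

end Groth.Agent.AlgStLib
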