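import Groth.Agent.AlgStLib.SpectralQuot
import Groth.Agent.AlgStLib.QcRules
import Groth.Agent.AlgStLib.LocQStmts
import Groth.Agent.AlgStLib.StkOps
import Mathlib

/-!
Spectral spaces of points of stacks with quasi-compact diagonal.
-/

set_option autoImplicit false
set_option backward.isDefEq.respectTransparency false
set_option backward.isDefEq.respectTransparency.types false

universe u

open CategoryTheory CategoryTheory.Limits CategoryTheory.Functor AlgebraicGeometry Opposite AlgSp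

namespace Groth.Agent.AlgStLib

open Groth.Agent Groth.Agent.FibBasics Groth.Agent.AlgSpLib

theorem spectralSpace_of_isAffine (X : Scheme.{u}) [IsAffine X] : SpectralSpace X :=
  { }

variable {S : Scheme.{u}} {𝒳 : AlgSt.Cat S}

theorem ofChart_overMap_id {W U : Over S} (j : W ⟶ U) (t : ↥W.left) :
    AlgSt.Points.ofChart (AlgSt.overMap j) t = AlgSt.Points.ofChart (BasedFunctor.id _) (j.left t) := by
  rw [ofChart_congr (eqToIso (based_ext rfl) :
    AlgSt.overMap j ≅ BasedFunctor.comp (AlgSt.overMap j) (BasedFunctor.id _)), ofChart_overMap]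

theorem ofChart_id_injective {U : Over S} {s t : ↥U.left}
    (h : AlgSt.Points.ofChart (BasedFunctor.id (FibCat.overCat U)) s = AlgSt.Points.ofChart (BasedFunctor.id _) t) :
    s = t := by
  have a1 := congrArg (fun p => toSpPoints _ (AlgSt.Points.map (AlgSt.ofOverCat U) p)) h
  simp only [toSp_ofChart_ofOverCat] at a1
  exact (Points.schemeEquiv U).injective a1

/-- The self fibre product of an affine chart is quasi-compact. -/
theorem isQuasiCompact_fp_chart [QuasiSeparatedSpace S] (h𝒳 : AlgSt.IsAlgStack Scheme.fppfPrecoverage 𝒳)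
    (hΔ : AlgSt.RepByAlgSpWith AlgSp.IsQuasiCompactMor (FibCat.diag (FibCat.toSelf 𝒳)))
    {V : Over S} [IsAffine V.left] (v : FibCat.overCat V ⥤ᵇ 𝒳) : AlgSt.IsQuasiCompact (FibCat.fp v v) := by
  have hV : AlgSt.IsAlgStack Scheme.fppfPrecoverage (FibCat.overCat V) :=
    isAlgStack_of_equiv (toOverCat_isEquivOver V) (isAlgStack_ofSch ⟨_, IsAlgSpace.yon_obj V⟩)
  have hqV : AlgSt.IsQuasiCompact (FibCat.overCat V) :=
    isQuasiCompact_of_equiv (toOverCat_isEquivOver V) (isQuasiCompact_ofSch_compact V)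
  have hP := isAlgStack_prod h𝒳 h𝒳
  have hD := (isQuasiCompactMor_iff h𝒳.isStack.1 hP (rep1_of_with hΔ)).1 hΔ
  have hA : AlgSt.IsAlgStack Scheme.fppfPrecoverage
      (FibCat.fp (BasedFunctor.comp v (FibCat.toSelf 𝒳)) (BasedFunctor.comp v (FibCat.toSelf 𝒳))) := by
    rw [comp_toSelf]
    exact isAlgStack_prod hV hV
  have hAq : AlgSt.IsQuasiCompact
      (FibCat.fp (BasedFunctor.comp v (FibCat.toSelf 𝒳)) (BasedFunctor.comp v (FibCat.toSelf 𝒳))) := by
    rw [comp_toSelf]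
    exact isQuasiCompact_prod hV hV hqV hqV
  obtain ⟨L, hL, -⟩ := isEquivOver_symm (magic_isEquivOver v v (FibCat.toSelf 𝒳))
  exact isQuasiCompact_of_equiv hL (hD _ hA hAq _)

/-- The image of an affine chart is an open spectral subspace. -/
theorem spectralSpace_range_chart [QuasiSeparatedSpace S] (h𝒳 : AlgSt.IsAlgStack Scheme.fppfPrecoverage 𝒳)
    (hΔ : AlgSt.RepByAlgSpWith AlgSp.IsQuasiCompactMor (FibCat.diag (FibCat.toSelf 𝒳)))
    {V : Over S} [IsAffine V.left] {v : FibCat.overCat V ⥤ᵇ 𝒳} (hv : AlgSt.RepByAlgSpWith (LocP @Smooth) v) :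
    IsOpen (Set.range (AlgSt.Points.ofChart v)) ∧ SpectralSpace (Set.range (AlgSt.Points.ofChart v)) := by
  have ho : IsOpenMap (AlgSt.Points.ofChart v) :=
    isOpenMap_ofChart h𝒳.isStack.1 (repWith_flat_lfp_of_smooth hv)
  obtain ⟨W, c, hW, -, hcs⟩ := isQuasiCompact_fp_chart h𝒳 hΔ v
  have : IsAffine W.left := hW
  have hV := isFibGrpd_overForget V
  have hc := ofChart_surjective (isSurjective_of_repWith (fp_isFibGrpd hV hV h𝒳.isStack.1) hcs)
  obtain ⟨j, ⟨α⟩⟩ := exists_iso_overMap (BasedFunctor.comp c (FibCat.fpFst v v))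
  obtain ⟨q, ⟨β⟩⟩ := exists_iso_overMap (BasedFunctor.comp c (FibCat.fpSnd v v))
  have h1 : ∀ t, AlgSt.Points.map (FibCat.fpFst v v) (AlgSt.Points.ofChart c t) =
      AlgSt.Points.ofChart (BasedFunctor.id _) (j.left t) := fun t => by
    rw [← ofChart_comp, ofChart_congr α, ofChart_overMap_id]
  have h2 : ∀ t, AlgSt.Points.map (FibCat.fpSnd v v) (AlgSt.Points.ofChart c t) =
      AlgSt.Points.ofChart (BasedFunctor.id _) (q.left t) := fun t => by
    rw [← ofChart_comp, ofChart_congr β, ofChart_overMap_id]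
  have := spectralSpace_of_isAffine V.left
  have := spectralSpace_of_isAffine W.left
  have hd : SpectralQuot.QuotData (j.left : ↥W.left → ↥V.left) (q.left : ↥W.left → ↥V.left)
      (Set.rangeFactorization (AlgSt.Points.ofChart v)) :=
    { hp := j.left.isSpectralMap
      hq := q.left.isSpectralMap
      cont := (continuous_ofChart h𝒳 v).subtype_mk _
      surj := Set.rangeFactorization_surjective
      isOpen := fun O hO => by
        refine isOpen_induced_iff.2 ⟨AlgSt.Points.ofChart v '' O, ho O hO, ?_⟩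
        ext x
        constructor
        · rintro ⟨a, ha, hax⟩
          exact ⟨a, ha, Subtype.ext hax⟩
        · rintro ⟨a, ha, rfl⟩
          exact ⟨a, ha, rfl⟩
      rel := fun a b => by
        refine ⟨fun e => ?_, ?_⟩
        · obtain ⟨z, hz1, hz2⟩ := exists_point_fp hV hV h𝒳.isStack.1 (g := v) (f := v)
            (AlgSt.Points.ofChart (BasedFunctor.id _) a) (AlgSt.Points.ofChart (BasedFunctor.id _) b)
            (congrArg Subtype.val e)
          obtain ⟨t, rfl⟩ := hc z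
          exact ⟨t, ofChart_id_injective ((h1 t).symm.trans hz1), ofChart_id_injective ((h2 t).symm.trans hz2)⟩
        · rintro ⟨t, rfl, rfl⟩
          exact Subtype.ext (ofChart_fp_eq c t (h1 t) (h2 t)) }
  exact ⟨ho.isOpen_range, hd.spectral⟩

theorem spectralSpace_points [QuasiSeparatedSpace S] (h𝒳 : AlgSt.IsAlgStack Scheme.fppfPrecoverage 𝒳)
    (hqc : AlgSt.IsQuasiCompact 𝒳)
    (hΔ : AlgSt.RepByAlgSpWith AlgSp.IsQuasiCompactMor (FibCat.diag (FibCat.toSelf 𝒳))) :
    SpectralSpace (AlgSt.Points 𝒳) := by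
  have := (isQuasiCompact_iff_compactSpace h𝒳).1 hqc
  obtain ⟨V, v, hV, hv, hvs⟩ := hqc
  have : IsAffine V.left := hV
  obtain ⟨-, h⟩ := spectralSpace_range_chart h𝒳 hΔ hv
  have e : Set.range (AlgSt.Points.ofChart v) = Set.univ :=
    (ofChart_surjective (isSurjective_of_repWith h𝒳.isStack.1 hvs)).range_eq
  rw [e] at h
  exact (Homeomorph.Set.univ _).symm.isOpenEmbedding.spectralSpace

theorem exists_spectral_nhd [QuasiSeparatedSpace S] (h𝒳 : AlgSt.IsAlgStack Scheme.fppfPrecoverage 𝒳)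
    (hΔ : AlgSt.RepByAlgSpWith AlgSp.IsQuasiCompactMor (FibCat.diag (FibCat.toSelf 𝒳))) (x : AlgSt.Points 𝒳) :
    ∃ U : Set (AlgSt.Points 𝒳), IsOpen U ∧ x ∈ U ∧ SpectralSpace ↥U := by
  obtain ⟨W, w, hw, hws⟩ := h𝒳.atlas
  obtain ⟨t₀, rfl⟩ := ofChart_surjective (isSurjective_of_repWith h𝒳.isStack.1 hws) x
  obtain ⟨_, ⟨A₀, hA, rfl⟩, htA, -⟩ := W.left.isBasis_affineOpens.exists_subset_of_mem_open
    (Set.mem_univ t₀) isOpen_univ
  let A : W.left.Opens := A₀
  let U' : Over S := Over.mk (A.ι ≫ W.hom)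
  let m : U' ⟶ W := Over.homMk A.ι
  have : IsAffine U'.left := hA
  have : Smooth m.left := inferInstanceAs (Smooth A.ι)
  obtain ⟨h1, h2⟩ := spectralSpace_range_chart h𝒳 hΔ
    (repWith_smooth_comp (isFibGrpd_overForget U') (isFibGrpd_overForget W) (repWith_overMap_smooth m) hw)
  refine ⟨_, h1, ⟨(⟨t₀, htA⟩ : A), ?_⟩, h2⟩
  rw [ofChart_overMap]
  rfl

theorem sober_points [QuasiSeparatedSpace S] (h𝒳 : AlgSt.IsAlgStack Scheme.fppfPrecoverage 𝒳)
    (hΔ : AlgSt.RepByAlgSpWith AlgSp.IsQuasiCompactMor (FibCat.diag (FibCat.toSelf 𝒳))) :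
    (∀ x : AlgSt.Points 𝒳, ∃ U : Set (AlgSt.Points 𝒳), IsOpen U ∧ x ∈ U ∧ SpectralSpace ↥U) ∧
      QuasiSober (AlgSt.Points 𝒳) ∧ T0Space (AlgSt.Points 𝒳) := by
  refine ⟨exists_spectral_nhd h𝒳 hΔ, ?_, ⟨fun x y hxy => ?_⟩⟩
  · choose U hU hx hs using exists_spectral_nhd h𝒳 hΔ
    have h3 : ∀ s : Set.range U, QuasiSober (s : Set (AlgSt.Points 𝒳)) := by
      rintro ⟨_, x, rfl⟩
      exact (hs x).toQuasiSober
    exact quasiSober_of_open_cover (Set.range U) (fun s => by obtain ⟨_, x, rfl⟩ := s; exact hU x)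
      (Set.eq_univ_of_forall fun x => ⟨U x, ⟨x, rfl⟩, hx x⟩)
  · obtain ⟨U, hU, hx, hs⟩ := exists_spectral_nhd h𝒳 hΔ x
    have hy : y ∈ U := (hxy.mem_open_iff hU).1 hx
    have : Inseparable (⟨x, hx⟩ : U) ⟨y, hy⟩ := Topology.IsInducing.subtypeVal.inseparable_iff.1 hxy
    exact congrArg Subtype.val this.eq

end Groth.Agent.AlgStLib
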