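import Groth.Agent.AlgStLib.StkRational
import Groth.Agent.AlgStLib.Descend
import Groth.Agent.AlgStLib.QcRules
import Mathlib

/-!
Descent of universal injectivity along surjective morphisms.
-/

set_option autoImplicit false
set_option backward.isDefEq.respectTransparency false
set_option backward.isDefEq.respectTransparency.types false

universe u

open CategoryTheory CategoryTheory.Limits CategoryTheory.Functor AlgebraicGeometry Opposite AlgSp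

namespace Groth.Agent.AlgStLib

open Groth.Agent Groth.Agent.FibBasics Groth.Agent.AlgSpLib

variable {S : Scheme.{u}} {𝒳 𝒴 𝒵 : AlgSt.Cat S}

theorem bcPair_diag_iso (f : 𝒳 ⥤ᵇ 𝒴) (g : 𝒵 ⥤ᵇ 𝒴) :
    Nonempty (BasedFunctor.comp (FibCat.diag (FibCat.fpFst g f)) (bcPair f g) ≅
      BasedFunctor.comp (FibCat.fpSnd g f) (FibCat.diag f)) := by
  let k := BasedFunctor.comp (FibCat.diag (FibCat.fpFst g f)) (bcPair f g)
  refine ⟨BasedNatIso.mkNatIso (NatIso.ofComponents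
    (fun w => ObjectProperty.isoMk _ (CategoricalPullback.mkIso (Iso.refl w.obj.snd) (Iso.refl w.obj.snd) ?_))
    (fun {p q} φ => fp_hom_ext ((Category.comp_id _).trans (Category.id_comp _).symm)
      ((Category.comp_id _).trans (Category.id_comp _).symm)))
    (fun w => fp_lift_of_fst _ _ (IsHomLift.id (k.w_obj w)))⟩
  show f.map (𝟙 _) ≫ 𝟙 (f.obj w.obj.snd) = (w.obj.iso.inv ≫ g.map (𝟙 w.obj.fst) ≫ w.obj.iso.hom) ≫ f.map (𝟙 _)
  rw [f.toFunctor.map_id, g.toFunctor.map_id]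
  simp

/-- Surjectivity of the diagonal descends along surjective morphisms. -/
theorem diag_surjective_descend (h𝒳 : FibCat.IsFibGrpd 𝒳.p) (h𝒴 : FibCat.IsFibGrpd 𝒴.p)
    (h𝒵 : FibCat.IsFibGrpd 𝒵.p) {f : 𝒳 ⥤ᵇ 𝒴} {g : 𝒵 ⥤ᵇ 𝒴} (hg : AlgSt.IsSurjective g)
    (h : AlgSt.IsSurjective (FibCat.diag (FibCat.fpFst g f))) : AlgSt.IsSurjective (FibCat.diag f) := by
  obtain ⟨α⟩ := bcPair_diag_iso f g
  have hb : AlgSt.IsSurjective (bcPair f g) :=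
    isSurjective_of_iso (eqToIso (based_ext rfl) : BasedFunctor.comp (bcTarget f g)
        (FibCat.fpFst (BasedFunctor.comp (FibCat.fpFst f f) f) g) ≅ bcPair f g)
      (isSurjective_comp (stk_map_bijective (bcTarget_isEquivOver f g)).2
        (isSurjective_fpFst (fp_isFibGrpd h𝒳 h𝒳 h𝒴) h𝒵 h𝒴 _ hg))
  exact isSurjective_of_comp (isSurjective_of_iso α (isSurjective_comp h hb))

theorem isUnivInjective_of_affine (h𝒳 : AlgSt.IsAlgStack Scheme.fppfPrecoverage 𝒳)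
    (h𝒴 : AlgSt.IsAlgStack Scheme.fppfPrecoverage 𝒴) (f : 𝒳 ⥤ᵇ 𝒴)
    (h : ∀ (Z : Over S) [IsAffine Z.left] (z : FibCat.overCat Z ⥤ᵇ 𝒴),
      AlgSt.IsUnivInjective Scheme.fppfPrecoverage (FibCat.fpFst z f)) :
    AlgSt.IsUnivInjective Scheme.fppfPrecoverage f := by
  have hX := h𝒳.isStack.1
  have hY := h𝒴.isStack.1
  have := isFibered_of_isFibGrpd _ hY
  refine (isUnivInjective_iff h𝒳 h𝒴 f).2 (diag_surjective_of_exists_map_eq hX hY ?_)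
  intro k _ _ s a₁ a₂ e₁ e₂ β hβ
  let T : Over S := Over.mk s
  obtain ⟨Y, -, ⟨iy⟩⟩ := exists_evalAtId_iso (⟨f.obj a₂, (f.w_obj a₂).trans e₂⟩ : 𝒴.p.Fiber T)
  have : IsAffine T.left := inferInstanceAs (IsAffine (Spec (CommRingCat.of k)))
  have hT : AlgSt.IsAlgStack Scheme.fppfPrecoverage (FibCat.overCat T) :=
    isAlgStack_of_equiv (toOverCat_isEquivOver T) (isAlgStack_ofSch ⟨_, IsAlgSpace.yon_obj T⟩)
  have hF := isAlgStack_fp hY h𝒴.diag hT h𝒳 Y f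
  have hΔ := (isUnivInjective_iff hF hT (FibCat.fpFst Y f)).1 (h T Y)
  have hβi : IsIso β := isIso_of_isFibGrpd 𝒴.p hY (𝟙 T) β
  have hy : 𝒴.p.IsHomLift (𝟙 T) iy.hom.1 := iy.hom.2
  have hyi : IsIso iy.hom.1 := isIso_of_isFibGrpd 𝒴.p hY (𝟙 T) iy.hom.1
  have hβ' : 𝒴.p.IsHomLift (𝟙 T) (asIso β).inv := @IsHomLift.lift_id_inv _ _ _ _ 𝒴.p _ _ _ _ hβ
  let b₂ : (FibCat.fp Y f).obj := ⟨{ fst := one T, snd := a₂, iso := asIso iy.hom.1 }, hy⟩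
  let b₁ : (FibCat.fp Y f).obj := ⟨{ fst := one T, snd := a₁, iso := asIso iy.hom.1 ≪≫ (asIso β).symm },
    @IsHomLift.comp_of_lift_id _ _ _ _ _ _ _ _ _ _ _ hy hβ'⟩
  obtain ⟨α, hα, he⟩ := exists_map_eq_of_diag_surjective hF hT hΔ k s (a₁ := b₁) (a₂ := b₂) rfl rfl (𝟙 (one T))
    (IsHomLift.id rfl)
  refine ⟨α.hom.snd, fp_lift_snd (𝟙 T) α, ?_⟩
  have hw := α.hom.w
  have he' : α.hom.fst = 𝟙 (one T) := he
  rw [he'] at hw
  have hw' : 𝟙 _ ≫ iy.hom.1 = (iy.hom.1 ≫ inv β) ≫ f.map α.hom.snd := (Y.toFunctor.map_id _) ▸ hw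
  rw [Category.id_comp, Category.assoc] at hw'
  have h1 : inv β ≫ f.map α.hom.snd = 𝟙 _ := (cancel_epi iy.hom.1).1 (hw'.symm.trans (Category.comp_id _).symm)
  rw [IsIso.inv_comp_eq, Category.comp_id] at h1
  exact h1

theorem isUnivInjective_descend (h𝒳 : AlgSt.IsAlgStack Scheme.fppfPrecoverage 𝒳)
    (h𝒴 : AlgSt.IsAlgStack Scheme.fppfPrecoverage 𝒴) (h𝒵 : AlgSt.IsAlgStack Scheme.fppfPrecoverage 𝒵)
    {f : 𝒳 ⥤ᵇ 𝒴} {g : 𝒵 ⥤ᵇ 𝒴} (hg : AlgSt.IsSurjective g)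
    (h : AlgSt.IsUnivInjective Scheme.fppfPrecoverage (FibCat.fpFst g f)) :
    AlgSt.IsUnivInjective Scheme.fppfPrecoverage f :=
  (isUnivInjective_iff h𝒳 h𝒴 f).2 (diag_surjective_descend h𝒳.isStack.1 h𝒴.isStack.1 h𝒵.isStack.1 hg
    ((isUnivInjective_iff (isAlgStack_fp h𝒴.isStack.1 h𝒴.diag h𝒵 h𝒳 g f) h𝒵 _).1 h))

theorem isQuasiCompactMor_descend_space (h𝒳 : AlgSt.IsAlgStack Scheme.fppfPrecoverage 𝒳)
    (h𝒴 : AlgSt.IsAlgStack Scheme.fppfPrecoverage 𝒴) {f : 𝒳 ⥤ᵇ 𝒴} {W : AlgSp.Space S}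
    {w : AlgSt.ofSp W.obj ⥤ᵇ 𝒴} (h₁ : AlgSt.RepByAlgSpWith (LocP @Flat) w)
    (h₂ : AlgSt.RepByAlgSpWith (LocP @LocallyOfFinitePresentation) w)
    (h₃ : AlgSt.RepByAlgSpWith IsSurjectiveMor w)
    (h : AlgSt.IsQuasiCompactMor Scheme.fppfPrecoverage (FibCat.fpFst w f)) :
    AlgSt.IsQuasiCompactMor Scheme.fppfPrecoverage f :=
  isQuasiCompactMor_descend h𝒳 h𝒴 (isAlgStack_ofSch W) (locQ_of_repWith stLocal_flat.pre stLocal_flat.bc h𝒴 h₁)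
    (locQ_of_repWith stLocal_lfp.pre stLocal_lfp.bc h𝒴 h₂)
    (isSurjective_of_repWith h𝒴.isStack.1 h₃) h

end Groth.Agent.AlgStLib
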