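import Groth.Agent.AlgStLib.StkTop
import Groth.Agent.AlgStLib.StkOps
import Groth.Agent.AlgStLib.QcRules
import Groth.Agent.AlgSpLib.FibreProduct
import Mathlib

/-!
Topological properties of representable morphisms, read on spaces of points of stacks.
-/

set_option autoImplicit false
set_option backward.isDefEq.respectTransparency false
set_option backward.isDefEq.respectTransparency.types false

universe u

open CategoryTheory CategoryTheory.Limits CategoryTheory.Functor AlgebraicGeometry Opposite AlgSp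

namespace Groth.Agent.AlgStLib

open Groth.Agent Groth.Agent.FibBasics Groth.Agent.AlgSpLib

variable {S : Scheme.{u}} {𝒳 𝒴 𝒵 : AlgSt.Cat S}

theorem toSpPoints_continuous (A : AlgSp.Space S) : Continuous (toSpPoints A.obj) := by
  refine continuous_def.2 fun O hO => AlgSt.Points.isOpen_iff.2 fun W x _ => ?_
  let x' := BasedFunctor.comp (AlgSt.toOverCat W) x
  let g : (yon S).obj W ⟶ A.obj := spMapOf x'
  let α : x ≅ BasedFunctor.comp (AlgSt.ofOverCat W) (AlgSt.ofSpMap g) :=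
    (eqToIso (based_ext rfl) : x ≅ BasedFunctor.comp (AlgSt.ofOverCat W) x') ≪≫
      bWhiskerL (AlgSt.ofOverCat W) (ofPshMapIso x')
  have e : AlgSt.Points.ofChart x ⁻¹' (toSpPoints A.obj ⁻¹' O) = Points.ofPt g ⁻¹' O := by
    ext t
    show toSpPoints A.obj (AlgSt.Points.ofChart x t) ∈ O ↔ Points.ofPt g t ∈ O
    rw [ofChart_congr α, toSp_ofChart]
  rw [e]
  exact hO.preimage (Points.continuous_ofPt g)

theorem toSpPoints_isOpenMap (A : AlgSp.Space S) : IsOpenMap (toSpPoints A.obj) := by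
  intro O hO
  refine Points.isOpen_iff.2 fun T g => ?_
  let x := BasedFunctor.comp (AlgSt.ofOverCat T) (AlgSt.ofSpMap g)
  have e : Points.ofPt g ⁻¹' (toSpPoints A.obj '' O) = AlgSt.Points.ofChart x ⁻¹' O := by
    ext t
    show Points.ofPt g t ∈ toSpPoints A.obj '' O ↔ AlgSt.Points.ofChart x t ∈ O
    rw [← toSp_ofChart g t]
    exact (toSpPoints_bijective A.obj).1.mem_set_image
  rw [e]
  exact hO.preimage (continuous_ofChart (isAlgStack_ofSch A) x)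

theorem toSpPoints_isHomeomorph (A : AlgSp.Space S) : IsHomeomorph (toSpPoints A.obj) :=
  ⟨toSpPoints_continuous A, toSpPoints_isOpenMap A, toSpPoints_bijective A.obj⟩

/-- Equivalences are homeomorphisms on points. -/
theorem points_map_isHomeomorph (h𝒳 : AlgSt.IsAlgStack Scheme.fppfPrecoverage 𝒳)
    (h𝒴 : AlgSt.IsAlgStack Scheme.fppfPrecoverage 𝒴) {e : 𝒳 ⥤ᵇ 𝒴} (he : FibCat.IsEquivOver e) :
    IsHomeomorph (AlgSt.Points.map e) := by
  obtain ⟨L, -, -, ⟨ε⟩⟩ := isEquivOver_symm he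
  refine ⟨continuous_points_map h𝒴 e, fun O hO => ?_, stk_map_bijective he⟩
  have h : AlgSt.Points.map e '' O = AlgSt.Points.map L ⁻¹' O := by
    ext b
    have hb : AlgSt.Points.map e (AlgSt.Points.map L b) = b := by
      rw [← stk_map_comp, stk_map_congr ε, stk_map_id]
    constructor
    · rintro ⟨a, ha, rfl⟩
      show AlgSt.Points.map L _ ∈ O
      rwa [(stk_map_bijective he).1 hb]
    · exact fun h => ⟨_, h, hb⟩
  rw [h]
  exact hO.preimage (continuous_points_map h𝒳 L)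

section Topology

variable {A B C D : Type*} [TopologicalSpace A] [TopologicalSpace B] [TopologicalSpace C] [TopologicalSpace D]

/-- A commutative square of continuous surjective open maps over a map. -/
structure OpenCover₂ (r : A → B) (φ : C → D) (π : A → C) (ρ : B → D) : Prop where
  comm : ∀ a, φ (π a) = ρ (r a)
  cart : ∀ c b, φ c = ρ b → ∃ a, π a = c ∧ r a = b
  contπ : Continuous π
  surjπ : Function.Surjective π
  openπ : IsOpenMap π
  contρ : Continuous ρ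
  surjρ : Function.Surjective ρ
  openρ : IsOpenMap ρ
  cont : Continuous φ

variable {r : A → B} {φ : C → D} {π : A → C} {ρ : B → D}

theorem OpenCover₂.isOpenMap (h : OpenCover₂ r φ π ρ) (hr : IsOpenMap r) : IsOpenMap φ :=
  fun O hO => by
    rw [← Set.image_preimage_eq O h.surjπ, ← Set.image_comp, show φ ∘ π = ρ ∘ r from funext h.comm, Set.image_comp]
    exact h.openρ _ (hr _ (hO.preimage h.contπ))

theorem OpenCover₂.isClosedMap (h : OpenCover₂ r φ π ρ) (hr : IsClosedMap r) : IsClosedMap φ := fun K hK => by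
  rw [← (h.openρ.isQuotientMap h.contρ h.surjρ).isClosed_preimage]
  have e : ρ ⁻¹' (φ '' K) = r '' (π ⁻¹' K) := by
    ext b
    constructor
    · rintro ⟨c, hc, hcb⟩
      obtain ⟨a, rfl, rfl⟩ := h.cart c b hcb
      exact ⟨a, hc, rfl⟩
    · rintro ⟨a, ha, rfl⟩
      exact ⟨π a, ha, h.comm a⟩
  rw [e]
  exact hr _ (hK.preimage h.contπ)

theorem OpenCover₂.injective (h : OpenCover₂ r φ π ρ) (hr : Function.Injective r) : Function.Injective φ :=
  fun c c' e => by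
    obtain ⟨b, hb⟩ := h.surjρ (φ c)
    obtain ⟨a, rfl, ha⟩ := h.cart c b hb.symm
    obtain ⟨a', rfl, ha'⟩ := h.cart c' b (e.symm.trans hb.symm)
    rw [hr (ha.trans ha'.symm)]

theorem OpenCover₂.isQuotientMap (h : OpenCover₂ r φ π ρ) (hr : Topology.IsQuotientMap r) :
    Topology.IsQuotientMap φ :=
  Topology.IsQuotientMap.of_comp h.contπ h.cont (by
    rw [show φ ∘ π = ρ ∘ r from funext h.comm]
    exact (h.openρ.isQuotientMap h.contρ h.surjρ).comp hr)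

theorem OpenCover₂.isHomeomorph (h : OpenCover₂ r φ π ρ) (hr : IsHomeomorph r) : IsHomeomorph φ :=
  ⟨h.cont, h.isOpenMap hr.isOpenMap, h.injective hr.bijective.1, fun d => by
    obtain ⟨b, rfl⟩ := h.surjρ d
    obtain ⟨a, rfl⟩ := hr.bijective.2 b
    exact ⟨π a, h.comm a⟩⟩

end Topology

/-- Base change of a representing space to a space over the test scheme. -/
theorem exists_rep_baseChange {f : 𝒳 ⥤ᵇ 𝒴} {U : Over S} {y : FibCat.overCat U ⥤ᵇ 𝒴} {F : AlgSp.Space S}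
    {e : AlgSt.ofSp F.obj ⥤ᵇ FibCat.fp y f} (he : FibCat.IsEquivOver e) {Z Z' : Sp S}
    {k : Z ⟶ (yon S).obj U} {a : Z' ⟶ F.obj} {b : Z' ⟶ Z}
    (sq : IsPullback a b (AlgSt.spMapOfOver (BasedFunctor.comp e (FibCat.fpFst y f))) k) :
    ∃ (g : AlgSt.ofSp Z ⥤ᵇ 𝒴) (E : AlgSt.ofSp Z' ⥤ᵇ FibCat.fp g f), FibCat.IsEquivOver E ∧
      Nonempty (BasedFunctor.comp E (FibCat.fpFst g f) ≅ AlgSt.ofSpMap b) := by
  let b₀ := BasedFunctor.comp e (FibCat.fpFst y f)
  let r : F.obj ⟶ (yon S).obj U := AlgSt.spMapOfOver b₀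
  let j : AlgSt.ofSp Z ⥤ᵇ FibCat.overCat U := BasedFunctor.comp (AlgSt.ofSpMap k) (AlgSt.toOverCat U)
  have sW : IsPullback b.hom a.hom k.hom r.hom := sq.flip.map (sheafToPresheaf (J S) (Type (u + 1)))
  let i : AlgSt.ofSpMap r ≅ BasedFunctor.comp b₀ (AlgSt.ofOverCat U) := (ofPshMapIso _ ≪≫ eqToIso (by
    congr 1)).symm
  obtain ⟨M, hM, -, ⟨εM⟩⟩ := isEquivOver_symm (fpPost_isEquivOver j b₀ (ofOverCat_isEquivOver U))
  refine ⟨BasedFunctor.comp j y, BasedFunctor.comp (sqFun sW.w) (BasedFunctor.comp (fpIsoSnd _ i)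
    (BasedFunctor.comp M (BasedFunctor.comp (fpMapSnd j e (FibCat.fpFst y f)) (fpPaste f y j)))),
    isEquivOver_comp (sqFun_isEquivOver sW) (isEquivOver_comp (fpIsoSnd_isEquivOver _ i)
      (isEquivOver_comp hM (isEquivOver_comp (fpMapSnd_isEquivOver _ he _) (fpPaste_isEquivOver f y j)))), ⟨?_⟩⟩
  exact bWhiskerR (bWhiskerL (BasedFunctor.comp (sqFun sW.w) (fpIsoSnd _ i)) εM)
    (FibCat.fpFst (BasedFunctor.comp j (AlgSt.ofOverCat U)) (BasedFunctor.comp b₀ (AlgSt.ofOverCat U)))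

/-- The base change map on points along a space over the test scheme. -/
theorem exists_conj_baseChange (h𝒳 : AlgSt.IsAlgStack Scheme.fppfPrecoverage 𝒳)
    (h𝒴 : AlgSt.IsAlgStack Scheme.fppfPrecoverage 𝒴) {f : 𝒳 ⥤ᵇ 𝒴} {U : Over S} {y : FibCat.overCat U ⥤ᵇ 𝒴}
    {F : AlgSp.Space S} {e : AlgSt.ofSp F.obj ⥤ᵇ FibCat.fp y f} (he : FibCat.IsEquivOver e) {Z Z' : Sp S}
    (hZ : IsAlgSpace Z) {k : Z ⟶ (yon S).obj U} {a : Z' ⟶ F.obj} {b : Z' ⟶ Z}
    (sq : IsPullback a b (AlgSt.spMapOfOver (BasedFunctor.comp e (FibCat.fpFst y f))) k) :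
    ∃ (𝒲 : AlgSt.Cat S) (g : 𝒲 ⥤ᵇ 𝒴) (p : AlgSp.Points Z' → AlgSt.Points (FibCat.fp g f))
      (q : AlgSt.Points 𝒲 → AlgSp.Points Z),
      AlgSt.IsAlgStack Scheme.fppfPrecoverage 𝒲 ∧ IsHomeomorph p ∧ IsHomeomorph q ∧
        Points.map b = q ∘ AlgSt.Points.map (FibCat.fpFst g f) ∘ p := by
  have hZ' : IsAlgSpace Z' := isAlgSpace_of_isPullback sq F.property hZ (IsAlgSpace.yon_obj U)
  obtain ⟨g, E, hE, ⟨α⟩⟩ := exists_rep_baseChange he sq
  have hW := isAlgStack_ofSch ⟨Z, hZ⟩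
  have hE' := points_map_isHomeomorph (isAlgStack_ofSch ⟨Z', hZ'⟩)
    (isAlgStack_fp h𝒴.isStack.1 h𝒴.diag hW h𝒳 g f) hE
  have hT := toSpPoints_isHomeomorph (⟨Z', hZ'⟩ : AlgSp.Space S)
  refine ⟨_, g, AlgSt.Points.map E ∘ (IsHomeomorph.homeomorph _ hT).symm, toSpPoints Z, hW,
    hE'.comp (IsHomeomorph.homeomorph _ hT).symm.isHomeomorph, toSpPoints_isHomeomorph ⟨Z, hZ⟩, funext fun z => ?_⟩
  obtain ⟨w, rfl⟩ := (toSpPoints_bijective Z').2 z
  show _ = toSpPoints Z (AlgSt.Points.map (FibCat.fpFst g f)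
    (AlgSt.Points.map E ((IsHomeomorph.homeomorph _ hT).symm ((IsHomeomorph.homeomorph _ hT) w))))
  rw [Homeomorph.symm_apply_apply, ← stk_map_comp, stk_map_congr α, toSpPoints_map]

/-- A chart of the base change to a stack. -/
theorem exists_cover_baseChange (h𝒳 : AlgSt.IsAlgStack Scheme.fppfPrecoverage 𝒳)
    (h𝒴 : AlgSt.IsAlgStack Scheme.fppfPrecoverage 𝒴) {P : MorphismProperty (Sp S)} {f : 𝒳 ⥤ᵇ 𝒴}
    (hf : AlgSt.RepByAlgSpWith P f) {𝒲 : AlgSt.Cat S} (hW : AlgSt.IsAlgStack Scheme.fppfPrecoverage 𝒲)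
    (g : 𝒲 ⥤ᵇ 𝒴) :
    ∃ (V : Over S) (F : AlgSp.Space S) (r : F.obj ⟶ (yon S).obj V)
      (π : Points F.obj → AlgSt.Points (FibCat.fp g f)) (ρ : Points ((yon S).obj V) → AlgSt.Points 𝒲),
      P r ∧ OpenCover₂ (Points.map r) (AlgSt.Points.map (FibCat.fpFst g f)) π ρ := by
  obtain ⟨V, v, hv, hvs⟩ := hW.atlas
  obtain ⟨F, e, he, hr⟩ := repWith_fpFst g hf V v
  let b₀ := BasedFunctor.comp e (FibCat.fpFst v (FibCat.fpFst g f))
  let r : F.obj ⟶ (yon S).obj V := AlgSt.spMapOfOver b₀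
  let ir : BasedFunctor.comp b₀ (AlgSt.ofOverCat V) ≅ AlgSt.ofSpMap r := ofPshMapIso _ ≪≫ eqToIso (by congr 1)
  have hF := isAlgStack_fp h𝒴.isStack.1 h𝒴.diag hW h𝒳 g f
  let π₀ := BasedFunctor.comp e (FibCat.fpSnd v (FibCat.fpFst g f))
  let ρ₀ := BasedFunctor.comp (AlgSt.toOverCat V) v
  have hπ : ∀ Q : MorphismProperty (Sp S), AlgSt.RepByAlgSpWith Q v → AlgSt.RepByAlgSpWith Q π₀ := fun Q h =>
    (repWith_comp_equiv he).2 (repWith_fpSnd _ h)
  have hρ : ∀ Q : MorphismProperty (Sp S), AlgSt.RepByAlgSpWith Q v → AlgSt.RepByAlgSpWith Q ρ₀ := fun Q h =>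
    (repWith_comp_equiv (toOverCat_isEquivOver V)).2 h
  have hTF := toSpPoints_isHomeomorph F
  have hTV := toSpPoints_isHomeomorph (⟨_, IsAlgSpace.yon_obj V⟩ : AlgSp.Space S)
  have key : ∀ w : AlgSt.Points (AlgSt.ofSp F.obj), toSpPoints _ (AlgSt.Points.map (AlgSt.ofOverCat V)
      (AlgSt.Points.map b₀ w)) = Points.map r (toSpPoints F.obj w) := fun w => by
    rw [← stk_map_comp, stk_map_congr ir, toSpPoints_map]
  refine ⟨V, F, r, AlgSt.Points.map π₀ ∘ (IsHomeomorph.homeomorph _ hTF).symm, AlgSt.Points.map ρ₀ ∘ (IsHomeomorph.homeomorph _ hTV).symm, hr,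
    { comm := ?_
      cart := ?_
      contπ := (continuous_points_map hF π₀).comp (IsHomeomorph.homeomorph _ hTF).symm.continuous
      surjπ := Function.Surjective.comp (isSurjective_of_repWith hF.isStack.1 (hπ _ hvs)) (IsHomeomorph.homeomorph _ hTF).symm.surjective
      openπ := (isOpenMap_map_of_space hF (repWith_flat_lfp_of_smooth (hπ _ hv))).comp (IsHomeomorph.homeomorph _ hTF).symm.isOpenMap
      contρ := (continuous_points_map hW ρ₀).comp (IsHomeomorph.homeomorph _ hTV).symm.continuous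
      surjρ := Function.Surjective.comp (isSurjective_of_repWith hW.isStack.1 (hρ _ hvs)) (IsHomeomorph.homeomorph _ hTV).symm.surjective
      openρ := (isOpenMap_map_of_space hW (A := ⟨_, IsAlgSpace.yon_obj V⟩)
        (repWith_flat_lfp_of_smooth (hρ _ hv))).comp (IsHomeomorph.homeomorph _ hTV).symm.isOpenMap
      cont := continuous_points_map hW _ }⟩
  · intro x
    obtain ⟨w, rfl⟩ := (toSpPoints_bijective F.obj).2 x
    show AlgSt.Points.map (FibCat.fpFst g f) (AlgSt.Points.map π₀ ((IsHomeomorph.homeomorph _ hTF).symm ((IsHomeomorph.homeomorph _ hTF) w))) = _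
    rw [Homeomorph.symm_apply_apply]
    show _ = AlgSt.Points.map ρ₀ ((IsHomeomorph.homeomorph _ hTV).symm (Points.map r (toSpPoints F.obj w)))
    rw [← key w]
    show _ = AlgSt.Points.map ρ₀ ((IsHomeomorph.homeomorph _ hTV).symm ((IsHomeomorph.homeomorph _ hTV) _))
    rw [Homeomorph.symm_apply_apply, ← stk_map_comp, ← stk_map_comp, ← stk_map_comp]
    exact stk_map_congr ((eqToIso (based_ext rfl) : BasedFunctor.comp π₀ (FibCat.fpFst g f) ≅
        BasedFunctor.comp e (BasedFunctor.comp (FibCat.fpSnd v (FibCat.fpFst g f)) (FibCat.fpFst g f))) ≪≫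
      bWhiskerL e (FibCat.fpIso v (FibCat.fpFst g f)).symm ≪≫ eqToIso (based_ext rfl)) w
  · intro c b hcb
    obtain ⟨b', rfl⟩ := (toSpPoints_bijective _).2 b
    obtain ⟨b'', rfl⟩ := (stk_map_bijective (ofOverCat_isEquivOver V)).2 b'
    change AlgSt.Points.map (FibCat.fpFst g f) c =
      AlgSt.Points.map ρ₀ ((IsHomeomorph.homeomorph _ hTV).symm ((IsHomeomorph.homeomorph _ hTV) (AlgSt.Points.map (AlgSt.ofOverCat V) b''))) at hcb
    rw [Homeomorph.symm_apply_apply, ← stk_map_comp] at hcb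
    obtain ⟨z, hz1, hz2⟩ := exists_point_fp (isFibGrpd_overForget V) hF.isStack.1 hW.isStack.1
      (g := v) (f := FibCat.fpFst g f) b'' c ((stk_map_congr (eqToIso (based_ext rfl) :
        v ≅ BasedFunctor.comp (AlgSt.ofOverCat V) ρ₀) b'').trans hcb.symm)
    obtain ⟨w, rfl⟩ := (stk_map_bijective he).2 z
    refine ⟨toSpPoints F.obj w, ?_, ?_⟩
    · show AlgSt.Points.map π₀ ((IsHomeomorph.homeomorph _ hTF).symm ((IsHomeomorph.homeomorph _ hTF) w)) = c
      rw [Homeomorph.symm_apply_apply]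
      exact (stk_map_comp _ _ w).trans hz2
    · rw [← key w, stk_map_comp e, hz1]

variable (h𝒳 : AlgSt.IsAlgStack Scheme.fppfPrecoverage 𝒳) (h𝒴 : AlgSt.IsAlgStack Scheme.fppfPrecoverage 𝒴)
  {f : 𝒳 ⥤ᵇ 𝒴} (hf : AlgSt.RepByAlgSp1 f)

include h𝒳 h𝒴 hf

theorem repWith_univOpen_iff :
    AlgSt.RepByAlgSpWith IsUnivOpenMor f ↔ AlgSt.IsUnivOpen Scheme.fppfPrecoverage f := by
  refine ⟨fun h 𝒲 hW g => ?_, fun h U y => ?_⟩
  · obtain ⟨V, F, r, π, ρ, hr, hc⟩ := exists_cover_baseChange h𝒳 h𝒴 h hW g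
    exact hc.isOpenMap (hr (IsAlgSpace.yon_obj V) (𝟙 _) (𝟙 _) r (IsPullback.id_horiz r))
  · obtain ⟨F, e, he⟩ := hf U y
    refine ⟨F, e, he, fun Z Z' hZ k a b sq => ?_⟩
    obtain ⟨𝒲, g, p, q, hW, hp, hq, hpq⟩ := exists_conj_baseChange h𝒳 h𝒴 he hZ sq
    show IsOpenMap (Points.map b)
    rw [hpq]
    exact hq.isOpenMap.comp ((h 𝒲 hW g).comp hp.isOpenMap)

theorem repWith_univClosed_iff :
    AlgSt.RepByAlgSpWith IsUnivClosedMor f ↔ AlgSt.IsUnivClosed Scheme.fppfPrecoverage f := by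
  refine ⟨fun h 𝒲 hW g => ?_, fun h U y => ?_⟩
  · obtain ⟨V, F, r, π, ρ, hr, hc⟩ := exists_cover_baseChange h𝒳 h𝒴 h hW g
    exact hc.isClosedMap (hr (IsAlgSpace.yon_obj V) (𝟙 _) (𝟙 _) r (IsPullback.id_horiz r))
  · obtain ⟨F, e, he⟩ := hf U y
    refine ⟨F, e, he, fun Z Z' hZ k a b sq => ?_⟩
    obtain ⟨𝒲, g, p, q, hW, hp, hq, hpq⟩ := exists_conj_baseChange h𝒳 h𝒴 he hZ sq
    show IsClosedMap (Points.map b)
    rw [hpq]
    exact hq.isClosedMap.comp ((h 𝒲 hW g).comp hp.isClosedMap)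

theorem repWith_univInjective_iff :
    AlgSt.RepByAlgSpWith IsUnivInjectiveMor f ↔ AlgSt.IsUnivInjective Scheme.fppfPrecoverage f := by
  refine ⟨fun h 𝒲 hW g => ?_, fun h U y => ?_⟩
  · obtain ⟨V, F, r, π, ρ, hr, hc⟩ := exists_cover_baseChange h𝒳 h𝒴 h hW g
    exact hc.injective (hr (IsAlgSpace.yon_obj V) (𝟙 _) (𝟙 _) r (IsPullback.id_horiz r))
  · obtain ⟨F, e, he⟩ := hf U y
    refine ⟨F, e, he, fun Z Z' hZ k a b sq => ?_⟩
    obtain ⟨𝒲, g, p, q, hW, hp, hq, hpq⟩ := exists_conj_baseChange h𝒳 h𝒴 he hZ sq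
    show Function.Injective (Points.map b)
    rw [hpq]
    exact hq.bijective.1.comp ((h 𝒲 hW g).comp hp.bijective.1)

theorem repWith_univSubmersive_iff :
    AlgSt.RepByAlgSpWith IsUnivSubmersiveMor f ↔
      ∀ (𝒵 : AlgSt.Cat S), AlgSt.IsAlgStack Scheme.fppfPrecoverage 𝒵 → ∀ (g : 𝒵 ⥤ᵇ 𝒴),
        Topology.IsQuotientMap (AlgSt.Points.map (FibCat.fpFst g f)) := by
  refine ⟨fun h 𝒲 hW g => ?_, fun h U y => ?_⟩
  · obtain ⟨V, F, r, π, ρ, hr, hc⟩ := exists_cover_baseChange h𝒳 h𝒴 h hW g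
    exact hc.isQuotientMap (hr (IsAlgSpace.yon_obj V) (𝟙 _) (𝟙 _) r (IsPullback.id_horiz r))
  · obtain ⟨F, e, he⟩ := hf U y
    refine ⟨F, e, he, fun Z Z' hZ k a b sq => ?_⟩
    obtain ⟨𝒲, g, p, q, hW, hp, hq, hpq⟩ := exists_conj_baseChange h𝒳 h𝒴 he hZ sq
    show Topology.IsQuotientMap (Points.map b)
    rw [hpq]
    exact hq.isQuotientMap.comp ((h 𝒲 hW g).comp hp.isQuotientMap)

theorem repWith_univHomeo_iff :
    AlgSt.RepByAlgSpWith IsUnivHomeoMor f ↔ AlgSt.IsUnivHomeo Scheme.fppfPrecoverage f := by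
  refine ⟨fun h 𝒲 hW g => ?_, fun h U y => ?_⟩
  · obtain ⟨V, F, r, π, ρ, hr, hc⟩ := exists_cover_baseChange h𝒳 h𝒴 h hW g
    exact hc.isHomeomorph (hr (IsAlgSpace.yon_obj V) (𝟙 _) (𝟙 _) r (IsPullback.id_horiz r))
  · obtain ⟨F, e, he⟩ := hf U y
    refine ⟨F, e, he, fun Z Z' hZ k a b sq => ?_⟩
    obtain ⟨𝒲, g, p, q, hW, hp, hq, hpq⟩ := exists_conj_baseChange h𝒳 h𝒴 he hZ sq
    show IsHomeomorph (Points.map b)
    rw [hpq]
    exact hq.comp ((h 𝒲 hW g).comp hp)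

end Groth.Agent.AlgStLib
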